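import Mathlib

/-!
# Frobenius' divisibility theorem (helper40)

`frobenius_dvd` : if `n ∣ |G|` then `n ∣ #{x : G | x ^ n = 1}`.

Proof after Isaacs–Robinson: the prime power case by induction on `|G|`, splitting `G`
according to the `p'`-part of its elements and using the class equation, then the general case
by splitting `x = x_p x_{p'}` again.

Auxiliary results of independent use:
* `totient_dvd_card_orderOf_eq` : `φ(d)` divides the number of elements of order `d`.
* `class_sum_dvd` : summing a class function over a normal subset.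
* `card_sol_coprime_mul` : solutions of `x^(r*m) = 1` for coprime `r`, `m`.
* `nsol_prime_pow_dvd` : `gcd(p^b, |G|) ∣ #{x | x^(p^b) = 1}`.
-/

namespace Cfsg.Agent.Lib.Helper40

open Finset

universe u

/-- In a finite group the number of elements of order `d` is a multiple of `φ(d)`. -/
theorem totient_dvd_card_orderOf_eq {G : Type*} [Group G] [Finite G] (d : ℕ) :
    d.totient ∣ Nat.card {x : G // orderOf x = d} := by
  classical
  have := Fintype.ofFinite G
  have : Fintype (Subgroup G) := Fintype.ofFinite _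
  rw [Nat.card_eq_fintype_card, Fintype.card_subtype]
  rw [Finset.card_eq_sum_card_fiberwise (f := fun x : G => Subgroup.zpowers x) (t := Finset.univ)
    (fun _ _ => Finset.mem_coe.mpr (Finset.mem_univ _))]
  apply Finset.dvd_sum
  intro Q _
  by_cases hQ : ∃ x0 : G, orderOf x0 = d ∧ Subgroup.zpowers x0 = Q
  · obtain ⟨x0, hx0, rfl⟩ := hQ
    have hcard : Fintype.card ↥(Subgroup.zpowers x0) = d := by
      rw [← Nat.card_eq_fintype_card, Nat.card_zpowers, hx0]
    have h1 := IsCyclic.card_orderOf_eq_totient (α := ↥(Subgroup.zpowers x0)) (d := d)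
      (by rw [hcard])
    rw [← h1, ← Finset.card_map ⟨Subtype.val, Subtype.val_injective⟩]
    apply dvd_of_eq
    congr 1
    ext x
    simp only [Finset.mem_map, Finset.mem_filter, Finset.mem_univ, true_and,
      Function.Embedding.coeFn_mk]
    constructor
    · rintro ⟨a, ha, rfl⟩
      have ho : orderOf (a : G) = d := by rw [Subgroup.orderOf_coe]; exact ha
      refine ⟨ho, ?_⟩
      apply Subgroup.eq_of_le_of_card_ge
      · rw [Subgroup.zpowers_le]; exact a.2
      · rw [Nat.card_zpowers, Nat.card_zpowers, ho, hx0]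
    · rintro ⟨ho, hz⟩
      have hx : x ∈ Subgroup.zpowers x0 := by
        rw [← hz]; exact Subgroup.mem_zpowers x
      refine ⟨⟨x, hx⟩, ?_, rfl⟩
      rw [← Subgroup.orderOf_coe]
      exact ho
  · rw [Finset.card_eq_zero.mpr]
    · exact dvd_zero _
    · rw [Finset.filter_eq_empty_iff]
      intro x hx hxQ
      simp only [Finset.mem_filter, Finset.mem_univ, true_and] at hx
      exact hQ ⟨x, hx, hxQ⟩

/-- size of the class times order of the centraliser -/
theorem card_carrier_mul_card_centralizer {G : Type*} [Group G] [Finite G] (z : G) :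
    Nat.card (ConjClasses.mk z).carrier * Nat.card (Subgroup.centralizer ({z} : Set G)) =
      Nat.card G := by
  classical
  have := Fintype.ofFinite G
  rw [Subgroup.nat_card_centralizer_nat_card_stabilizer, Nat.card_eq_fintype_card,
    Nat.card_eq_fintype_card, Nat.card_eq_fintype_card, ConjClasses.card_carrier]
  apply Nat.div_mul_cancel
  rw [← Nat.card_eq_fintype_card, ← Nat.card_eq_fintype_card]
  exact Subgroup.card_subgroup_dvd_card _

/-- Summing a class function over a normal subset: a common divisor of all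
`|class of z| * g z` divides the sum. -/
theorem class_sum_dvd {G : Type*} [Group G] [Fintype G] (S : Finset G)
    (hS : ∀ z h : G, z ∈ S → h * z * h⁻¹ ∈ S) (g : G → ℕ)
    (hg : ∀ z h : G, g (h * z * h⁻¹) = g z) (D : ℕ)
    (hD : ∀ z ∈ S, D ∣ Nat.card (ConjClasses.mk z).carrier * g z) :
    D ∣ ∑ z ∈ S, g z := by
  classical
  rw [← Finset.sum_fiberwise S (ConjClasses.mk (α := G)) g]
  apply Finset.dvd_sum
  intro c _
  obtain ⟨z0, rfl⟩ := ConjClasses.exists_rep c
  by_cases hz0 : z0 ∈ S
  · have h1 : ∀ z ∈ S.filter (fun z => ConjClasses.mk z = ConjClasses.mk z0), g z = g z0 := by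
      intro z hz
      simp only [Finset.mem_filter] at hz
      obtain ⟨h, hh⟩ := isConj_iff.mp (ConjClasses.mk_eq_mk_iff_isConj.mp hz.2)
      rw [← hh, hg]
    rw [Finset.sum_congr rfl h1, Finset.sum_const, smul_eq_mul]
    have h2 : (S.filter (fun z => ConjClasses.mk z = ConjClasses.mk z0)).card =
        Nat.card (ConjClasses.mk z0).carrier := by
      rw [Nat.card_eq_fintype_card, ← Set.toFinset_card]
      congr 1
      ext z
      simp only [Finset.mem_filter, Set.mem_toFinset, ConjClasses.mem_carrier_iff_mk_eq]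
      constructor
      · exact fun h => h.2
      · intro h
        refine ⟨?_, h⟩
        obtain ⟨k, hk⟩ := isConj_iff.mp (ConjClasses.mk_eq_mk_iff_isConj.mp h.symm)
        rw [← hk]
        exact hS z0 k hz0
    rw [h2]
    exact hD z0 hz0
  · rw [Finset.sum_eq_zero]
    · exact dvd_zero _
    · intro z hz
      simp only [Finset.mem_filter] at hz
      exfalso
      obtain ⟨k, hk⟩ := isConj_iff.mp (ConjClasses.mk_eq_mk_iff_isConj.mp hz.2)
      apply hz0
      rw [← hk]
      exact hS z k hz.1

theorem zpow_eq_one_of_dvd {G : Type*} [Group G] (x : G) (n : ℤ) (hx : x ^ n = 1) (e : ℤ)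
    (h : n ∣ e) : x ^ e = 1 := by
  obtain ⟨k, rfl⟩ := h
  rw [zpow_mul, hx, one_zpow]

/-- Splitting the solutions of `x^(r*m) = 1` for coprime `r`, `m`. -/
theorem card_sol_coprime_mul {G : Type*} [Group G] [Fintype G] [DecidableEq G] (r m : ℕ)
    (h : Nat.Coprime r m) :
    (univ.filter (fun x : G => x ^ (r * m) = 1)).card =
      ∑ z ∈ univ.filter (fun z : G => z ^ m = 1),
        (univ.filter (fun y : G => y * z = z * y ∧ y ^ r = 1)).card := by
  obtain ⟨a, b, hab⟩ : ∃ a b : ℤ, (r : ℤ) * a + (m : ℤ) * b = 1 := by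
    refine ⟨Int.gcdA r m, Int.gcdB r m, ?_⟩
    rw [← Int.gcd_eq_gcd_ab]
    have : Int.gcd (r : ℤ) (m : ℤ) = 1 := by
      rw [Int.gcd_natCast_natCast]; exact h
    rw [this]; rfl
  have key : ∀ w : G, w ^ ((r : ℤ) * a) * w ^ ((m : ℤ) * b) = w := by
    intro w
    rw [← zpow_add, hab, zpow_one]
  rw [Finset.card_eq_sum_card_fiberwise (f := fun x : G => x ^ ((r : ℤ) * a))
    (t := univ.filter (fun z : G => z ^ m = 1))]
  · refine Finset.sum_congr rfl fun z hz => ?_
    simp only [Finset.mem_filter, Finset.mem_univ, true_and] at hz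
    have hz' : z ^ (m : ℤ) = 1 := by rw [zpow_natCast]; exact hz
    have hzb : z ^ ((m : ℤ) * b) = 1 := zpow_eq_one_of_dvd z m hz' _ ⟨b, rfl⟩
    have hza : z ^ ((r : ℤ) * a) = z := by
      have := key z
      rwa [hzb, mul_one] at this
    apply Finset.card_nbij' (fun x => x ^ ((m : ℤ) * b)) (fun y => y * z)
    · intro x hx
      simp only [Finset.mem_coe, Finset.mem_filter, Finset.mem_univ, true_and] at hx ⊢
      have hx' : x ^ ((r : ℤ) * (m : ℤ)) = 1 := by
        rw [← Nat.cast_mul, zpow_natCast]; exact hx.1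
      refine ⟨?_, ?_⟩
      · rw [← hx.2]
        exact (Commute.zpow_zpow_self x _ _).eq
      · rw [← zpow_natCast, ← zpow_mul]
        exact zpow_eq_one_of_dvd x _ hx' _ ⟨b, by ring⟩
    · intro y hy
      simp only [Finset.mem_coe, Finset.mem_filter, Finset.mem_univ, true_and] at hy ⊢
      have hy' : y ^ (r : ℤ) = 1 := by rw [zpow_natCast]; exact hy.2
      have hc : Commute y z := hy.1
      refine ⟨?_, ?_⟩
      · rw [hc.mul_pow, pow_mul, hy.2, one_pow, mul_comm r m, pow_mul, hz, one_pow, one_mul]
      · rw [hc.mul_zpow, hza, zpow_eq_one_of_dvd y r hy' _ ⟨a, rfl⟩, one_mul]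
    · intro x hx
      simp only [Finset.mem_coe, Finset.mem_filter, Finset.mem_univ, true_and] at hx
      change x ^ ((m : ℤ) * b) * z = x
      rw [← hx.2]
      have hc : Commute (x ^ ((m : ℤ) * b)) (x ^ ((r : ℤ) * a)) := Commute.zpow_zpow_self x _ _
      rw [hc.eq]
      exact key x
    · intro y hy
      simp only [Finset.mem_coe, Finset.mem_filter, Finset.mem_univ, true_and] at hy
      have hy' : y ^ (r : ℤ) = 1 := by rw [zpow_natCast]; exact hy.2
      have hc : Commute y z := hy.1
      change (y * z) ^ ((m : ℤ) * b) = y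
      rw [hc.mul_zpow, hzb, mul_one]
      have := key y
      rwa [zpow_eq_one_of_dvd y r hy' _ ⟨a, rfl⟩, one_mul] at this
  · intro x hx
    simp only [Finset.mem_coe, Finset.mem_filter, Finset.mem_univ, true_and] at hx ⊢
    have hx' : x ^ ((r : ℤ) * (m : ℤ)) = 1 := by
      rw [← Nat.cast_mul, zpow_natCast]; exact hx
    rw [← zpow_natCast, ← zpow_mul]
    exact zpow_eq_one_of_dvd x _ hx' _ ⟨a, by ring⟩

/-- The number of solutions of `x ^ n = 1` in `G`. -/
noncomputable def nsol (G : Type*) [Group G] (n : ℕ) : ℕ := Nat.card {x : G // x ^ n = 1}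

theorem nsol_eq_card_filter {G : Type*} [Group G] [Fintype G] [DecidableEq G] (n : ℕ) :
    nsol G n = (univ.filter (fun x : G => x ^ n = 1)).card := by
  unfold nsol
  rw [Nat.card_eq_fintype_card, Fintype.card_subtype]

theorem nsol_gcd {G : Type*} [Group G] [Finite G] (n : ℕ) :
    nsol G (Nat.gcd n (Nat.card G)) = nsol G n := by
  unfold nsol
  apply Nat.card_congr
  apply Equiv.subtypeEquivRight
  intro x
  rw [pow_gcd_eq_one]
  exact ⟨fun h => h.1, fun h => ⟨h, pow_card_eq_one'⟩⟩

theorem nsol_pos {G : Type*} [Group G] [Finite G] (n : ℕ) : 0 < nsol G n := by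
  unfold nsol
  have : Nonempty {x : G // x ^ n = 1} := ⟨⟨1, one_pow n⟩⟩
  exact Nat.card_pos

/-- solutions in the centraliser -/
theorem nsol_centralizer {G : Type*} [Group G] [Fintype G] [DecidableEq G] (z : G) (r : ℕ) :
    (univ.filter (fun y : G => y * z = z * y ∧ y ^ r = 1)).card =
      nsol ↥(Subgroup.centralizer ({z} : Set G)) r := by
  unfold nsol
  rw [← Fintype.card_subtype, ← Nat.card_eq_fintype_card]
  apply Nat.card_congr
  refine
    { toFun := fun y => ⟨⟨y.1, Subgroup.mem_centralizer_singleton_iff.mpr y.2.1⟩,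
        Subtype.ext y.2.2⟩
      invFun := fun y => ⟨y.1.1, Subgroup.mem_centralizer_singleton_iff.mp y.1.2,
        congrArg Subtype.val y.2⟩
      left_inv := fun _ => rfl
      right_inv := fun _ => rfl }

/-- the counting function `z ↦ #{y ∈ C(z) | y^r = 1}` is a class function -/
theorem card_comm_conj {G : Type*} [Group G] [Fintype G] [DecidableEq G] (r : ℕ) (z h : G) :
    (univ.filter (fun y : G => y * (h * z * h⁻¹) = (h * z * h⁻¹) * y ∧ y ^ r = 1)).card =
      (univ.filter (fun y : G => y * z = z * y ∧ y ^ r = 1)).card := by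
  apply Finset.card_nbij' (fun y => h⁻¹ * y * h) (fun y => h * y * h⁻¹)
  · intro y hy
    simp only [Finset.mem_coe, Finset.mem_filter, Finset.mem_univ, true_and] at hy ⊢
    refine ⟨?_, ?_⟩
    · have h1 : h⁻¹ * (y * (h * z * h⁻¹)) * h = h⁻¹ * ((h * z * h⁻¹) * y) * h := by rw [hy.1]
      calc h⁻¹ * y * h * z = h⁻¹ * (y * (h * z * h⁻¹)) * h := by group
        _ = h⁻¹ * ((h * z * h⁻¹) * y) * h := h1
        _ = z * (h⁻¹ * y * h) := by group
    · have := conj_pow (i := r) (a := h⁻¹) (b := y)
      rw [inv_inv] at this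
      rw [this, hy.2]
      group
  · intro y hy
    simp only [Finset.mem_coe, Finset.mem_filter, Finset.mem_univ, true_and] at hy ⊢
    refine ⟨?_, ?_⟩
    · calc h * y * h⁻¹ * (h * z * h⁻¹) = h * (y * z) * h⁻¹ := by group
        _ = h * (z * y) * h⁻¹ := by rw [hy.1]
        _ = h * z * h⁻¹ * (h * y * h⁻¹) := by group
    · rw [conj_pow, hy.2]
      group
  · intro y _
    change h * (h⁻¹ * y * h) * h⁻¹ = y
    group
  · intro y _
    change h⁻¹ * (h * y * h⁻¹) * h = y
    group

theorem dvd_mul_gcd_of_dvd_mul {D A B : ℕ} (h : D ∣ A * B) : D ∣ A * Nat.gcd D B := by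
  rw [← Nat.gcd_mul_left]
  exact Nat.dvd_gcd (Dvd.intro_left A rfl) h

/-- the prime-to-`p` central torsion has order prime to `p` -/
theorem coprime_card_central_torsion {G : Type*} [Group G] [Fintype G] [DecidableEq G]
    (p m : ℕ) (hp : p.Prime) (hpm : Nat.Coprime p m) :
    Nat.Coprime p
      (univ.filter (fun z : G => z ^ m = 1 ∧ z ∈ Subgroup.center G)).card := by
  let T : Subgroup G :=
    { carrier := {z | z ^ m = 1 ∧ z ∈ Subgroup.center G}
      mul_mem' := by
        intro x y hx hy
        refine ⟨?_, Subgroup.mul_mem _ hx.2 hy.2⟩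
        have hc : Commute x y := (Subgroup.mem_center_iff.mp hy.2) x
        rw [hc.mul_pow, hx.1, hy.1, one_mul]
      one_mem' := ⟨one_pow m, Subgroup.one_mem _⟩
      inv_mem' := by
        intro x hx
        exact ⟨by rw [inv_pow, hx.1, inv_one], Subgroup.inv_mem _ hx.2⟩ }
  have hT : Nat.card T = (univ.filter (fun z : G => z ^ m = 1 ∧ z ∈ Subgroup.center G)).card := by
    rw [← Fintype.card_subtype, ← Nat.card_eq_fintype_card]
    rfl
  rw [← hT]
  rw [Nat.Prime.coprime_iff_not_dvd hp]
  intro hdvd
  have : Fact p.Prime := ⟨hp⟩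
  obtain ⟨t, ht⟩ := exists_prime_orderOf_dvd_card' (G := T) p hdvd
  have h1 : (t : G) ^ m = 1 := t.2.1
  have h2 : orderOf (t : G) = p := by rw [Subgroup.orderOf_coe]; exact ht
  have h3 : p ∣ m := by
    rw [← h2]; exact orderOf_dvd_of_pow_eq_one h1
  have := Nat.eq_one_of_dvd_coprimes hpm (dvd_refl p) h3
  exact hp.one_lt.ne' this

/-- `x^(p^(b+1)) = 1` iff `x^(p^b) = 1` or `x` has order `p^(b+1)`. -/
theorem nsol_prime_pow_succ {G : Type*} [Group G] [Finite G] (p b : ℕ) (hp : p.Prime) :
    nsol G (p ^ (b + 1)) = nsol G (p ^ b) + Nat.card {x : G // orderOf x = p ^ (b + 1)} := by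
  classical
  have := Fintype.ofFinite G
  unfold nsol
  rw [Nat.card_eq_fintype_card, Nat.card_eq_fintype_card, Nat.card_eq_fintype_card,
    Fintype.card_subtype, Fintype.card_subtype, Fintype.card_subtype,
    ← Finset.card_union_of_disjoint]
  · congr 1
    ext x
    simp only [Finset.mem_filter, Finset.mem_univ, true_and, Finset.mem_union]
    rw [← orderOf_dvd_iff_pow_eq_one, ← orderOf_dvd_iff_pow_eq_one, Nat.dvd_prime_pow hp,
      Nat.dvd_prime_pow hp]
    constructor
    · rintro ⟨k, hk, hx⟩
      rcases Nat.lt_or_ge k (b + 1) with h | h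
      · exact Or.inl ⟨k, by omega, hx⟩
      · have : k = b + 1 := by omega
        exact Or.inr (by rw [hx, this])
    · rintro (⟨k, hk, hx⟩ | hx)
      · exact ⟨k, by omega, hx⟩
      · exact ⟨b + 1, le_rfl, hx⟩
  · rw [Finset.disjoint_filter]
    intro x _ hx hx'
    rw [← orderOf_dvd_iff_pow_eq_one, hx'] at hx
    have := (Nat.pow_dvd_pow_iff_le_right hp.one_lt).mp hx
    omega

/-- **Frobenius' theorem for prime powers**: `gcd(p^b, |G|)` divides the number of solutions of
`x^(p^b) = 1`. -/
theorem nsol_prime_pow_dvd (p : ℕ) (hp : p.Prime) :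
    ∀ (N : ℕ) (G : Type u) [Group G] [Finite G], Nat.card G = N →
      ∀ b : ℕ, Nat.gcd (p ^ b) (Nat.card G) ∣ nsol G (p ^ b) := by
  intro N
  induction N using Nat.strong_induction_on with
  | _ N ih =>
  intro G _ _ hN
  classical
  have := Fintype.ofFinite G
  have hG0 : Nat.card G ≠ 0 := Nat.card_pos.ne'
  set a := (Nat.card G).factorization p with ha
  set m := Nat.card G / p ^ a with hm
  have hrm : p ^ a * m = Nat.card G := Nat.ordProj_mul_ordCompl_eq_self _ _
  have hpm : Nat.Coprime p m := Nat.coprime_ordCompl hp hG0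
  have hcop : Nat.Coprime (p ^ a) m := Nat.Coprime.pow_left a hpm
  -- Part A
  have partA : p ^ a ∣ nsol G (p ^ a) := by
    have h1 := card_sol_coprime_mul (G := G) (p ^ a) m hcop
    have h2 : (univ.filter (fun x : G => x ^ (p ^ a * m) = 1)).card = Nat.card G := by
      rw [Finset.filter_true_of_mem, Finset.card_univ, Nat.card_eq_fintype_card]
      intro x _
      rw [hrm]; exact pow_card_eq_one'
    rw [h2, ← Finset.sum_filter_add_sum_filter_not _ (fun z : G => z ∈ Subgroup.center G)] at h1
    -- central part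
    have hc : ∑ z ∈ (univ.filter (fun z : G => z ^ m = 1)).filter (fun z => z ∈ Subgroup.center G),
        (univ.filter (fun y : G => y * z = z * y ∧ y ^ (p ^ a) = 1)).card =
        (univ.filter (fun z : G => z ^ m = 1 ∧ z ∈ Subgroup.center G)).card * nsol G (p ^ a) := by
      rw [Finset.filter_filter, Finset.card_eq_sum_ones, Finset.sum_mul]
      refine Finset.sum_congr rfl fun z hz => ?_
      simp only [Finset.mem_filter, Finset.mem_univ, true_and] at hz
      rw [one_mul, nsol_eq_card_filter]
      congr 1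
      ext y
      simp only [Finset.mem_filter, Finset.mem_univ, true_and, and_iff_right_iff_imp]
      intro _
      exact (Subgroup.mem_center_iff.mp hz.2) y
    -- non-central part
    have hnc : p ^ a ∣ ∑ z ∈ (univ.filter (fun z : G => z ^ m = 1)).filter
        (fun z => ¬ z ∈ Subgroup.center G),
        (univ.filter (fun y : G => y * z = z * y ∧ y ^ (p ^ a) = 1)).card := by
      apply class_sum_dvd
      · intro z h hz
        simp only [Finset.mem_filter, Finset.mem_univ, true_and] at hz ⊢
        refine ⟨by rw [conj_pow, hz.1]; group, ?_⟩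
        intro hcen
        apply hz.2
        have := (inferInstance : (Subgroup.center G).Normal).conj_mem _ hcen h⁻¹
        rw [inv_inv] at this
        convert this using 1
        group
      · intro z h
        exact card_comm_conj _ z h
      · intro z hz
        simp only [Finset.mem_filter, Finset.mem_univ, true_and] at hz
        rw [nsol_centralizer]
        have hK : Nat.card ↥(Subgroup.centralizer ({z} : Set G)) < N := by
          rw [← hN]
          apply lt_of_le_of_ne (Subgroup.card_le_card_group _)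
          intro heq
          have := (Subgroup.card_eq_iff_eq_top _).mp heq
          rw [Subgroup.centralizer_eq_top_iff_subset] at this
          exact hz.2 (this (Set.mem_singleton z))
        have h3 := ih _ hK ↥(Subgroup.centralizer ({z} : Set G)) rfl a
        have h4 : p ^ a ∣ Nat.card (ConjClasses.mk z).carrier *
            Nat.card ↥(Subgroup.centralizer ({z} : Set G)) := by
          rw [card_carrier_mul_card_centralizer]
          exact Nat.ordProj_dvd _ _
        exact (dvd_mul_gcd_of_dvd_mul h4).trans (Nat.mul_dvd_mul_left _ h3)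
    rw [hc] at h1
    have h5 : p ^ a ∣ (univ.filter (fun z : G => z ^ m = 1 ∧ z ∈ Subgroup.center G)).card *
        nsol G (p ^ a) := by
      have h6 : p ^ a ∣ Nat.card G := Nat.ordProj_dvd _ _
      rw [h1] at h6
      exact (Nat.dvd_add_left hnc).mp h6
    have hk := coprime_card_central_torsion (G := G) p m hp hpm
    exact (Nat.Coprime.pow_left a hk).dvd_of_dvd_mul_left h5
  -- Part B
  have partB : ∀ t : ℕ, t ≤ a → p ^ (a - t) ∣ nsol G (p ^ (a - t)) := by
    intro t
    induction t with
    | zero => intro _; simpa using partA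
    | succ t iht =>
      intro hta
      have h1 := iht (by omega)
      have h2 : a - t = (a - (t + 1)) + 1 := by omega
      rw [h2, nsol_prime_pow_succ p _ hp] at h1
      have h3 : p ^ (a - (t + 1)) ∣ Nat.card {x : G // orderOf x = p ^ (a - (t + 1) + 1)} := by
        refine dvd_trans ?_ (totient_dvd_card_orderOf_eq _)
        rw [Nat.totient_prime_pow hp (Nat.succ_pos _), Nat.succ_sub_one]
        exact Dvd.intro _ rfl
      have h4 : p ^ (a - (t + 1)) ∣ nsol G (p ^ (a - (t + 1))) +
          Nat.card {x : G // orderOf x = p ^ (a - (t + 1) + 1)} :=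
        dvd_trans (pow_dvd_pow p (Nat.le_succ _)) h1
      exact (Nat.dvd_add_left h3).mp h4
  intro b
  obtain ⟨c, hcb, hc⟩ := (Nat.dvd_prime_pow hp).mp (Nat.gcd_dvd_left (p ^ b) (Nat.card G))
  have hca : c ≤ a := by
    rw [ha, ← Nat.Prime.pow_dvd_iff_le_factorization hp hG0, ← hc]
    exact Nat.gcd_dvd_right _ _
  rw [← nsol_gcd, hc]
  have := partB (a - c) (by omega)
  rwa [show a - (a - c) = c by omega] at this

/-- **Frobenius' theorem**: if `n` divides the order of the finite group `G`, then `n` divides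
the number of solutions of `x ^ n = 1` in `G`. -/
theorem frobenius_dvd {G : Type u} [Group G] [Finite G] (n : ℕ) (hn : n ∣ Nat.card G) :
    n ∣ Nat.card {x : G // x ^ n = 1} := by
  classical
  have := Fintype.ofFinite G
  have hG0 : Nat.card G ≠ 0 := Nat.card_pos.ne'
  have hn0 : n ≠ 0 := by
    rintro rfl
    exact hG0 (Nat.eq_zero_of_zero_dvd hn)
  change n ∣ nsol G n
  rw [← Nat.factorization_prime_le_iff_dvd hn0 (nsol_pos n).ne']
  intro p hp
  rw [← Nat.Prime.pow_dvd_iff_le_factorization hp (nsol_pos n).ne']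
  set c := n.factorization p with hc
  set m := n / p ^ c with hm
  have hrm : p ^ c * m = n := Nat.ordProj_mul_ordCompl_eq_self _ _
  have hpm : Nat.Coprime p m := Nat.coprime_ordCompl hp hn0
  have hcop : Nat.Coprime (p ^ c) m := Nat.Coprime.pow_left c hpm
  have h1 : nsol G n = ∑ z ∈ univ.filter (fun z : G => z ^ m = 1),
      (univ.filter (fun y : G => y * z = z * y ∧ y ^ (p ^ c) = 1)).card := by
    rw [nsol_eq_card_filter]
    have h0 := card_sol_coprime_mul (G := G) (p ^ c) m hcop
    rwa [hrm] at h0
  rw [h1]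
  apply class_sum_dvd
  · intro z h hz
    simp only [Finset.mem_filter, Finset.mem_univ, true_and] at hz ⊢
    rw [conj_pow, hz]; group
  · intro z h
    exact card_comm_conj _ z h
  · intro z _
    rw [nsol_centralizer]
    have h3 := nsol_prime_pow_dvd p hp _ ↥(Subgroup.centralizer ({z} : Set G)) rfl c
    have h4 : p ^ c ∣ Nat.card (ConjClasses.mk z).carrier *
        Nat.card ↥(Subgroup.centralizer ({z} : Set G)) := by
      rw [card_carrier_mul_card_centralizer]
      exact dvd_trans (Nat.ordProj_dvd _ _) hn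
    exact (dvd_mul_gcd_of_dvd_mul h4).trans (Nat.mul_dvd_mul_left _ h3)

end Cfsg.Agent.Lib.Helper40
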