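import Mathlib

/-!
# The `S₃` fixed-point count (module AS of S4305, helper40)

`card_fix_AS`: let `⟨F, H⟩ ≅ S₃` act on a finite abelian group `M` of order prime to `6`
(`F³ = 1`, `H² = 1`, `H F H = F²`) with no nonzero common fixed point.  Then
`|C_M(H)|² · |C_M(F)| = |M|`.
-/

set_option autoImplicit false

namespace Cfsg.Agent.Lib.Helper40

theorem card_eq_card_range_mul_card_ker {A B : Type*} [AddCommGroup A] [AddCommGroup B]
    (φ : A →+ B) : Nat.card A = Nat.card φ.range * Nat.card φ.ker := by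
  rw [AddSubgroup.card_eq_card_quotient_mul_card_addSubgroup φ.ker]
  congr 1
  exact Nat.card_congr (QuotientAddGroup.quotientKerEquivRange φ).toEquiv

theorem card_fix_AS {M : Type*} [AddCommGroup M] [Finite M] (hM : (Nat.card M).Coprime 6)
    (F H : M →+ M) (hF3 : ∀ v, F (F (F v)) = v) (hH2 : ∀ v, H (H v) = v)
    (hHF : ∀ v, H (F (H v)) = F (F v)) (hfix : ∀ v, F v = v → H v = v → v = 0) :
    Nat.card {v : M // H v = v} ^ 2 * Nat.card {v : M // F v = v} = Nat.card M := by
  classical
  have hc2 : (Nat.card M).Coprime 2 := Nat.Coprime.coprime_dvd_right (by norm_num : 2 ∣ 6) hM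
  have hc3 : (Nat.card M).Coprime 3 := Nat.Coprime.coprime_dvd_right (by norm_num : 3 ∣ 6) hM
  have tors : ∀ (n : ℕ), (Nat.card M).Coprime n → ∀ v : M, n • v = 0 → v = 0 := by
    intro n hn v hv
    have h1 : addOrderOf v ∣ n := addOrderOf_dvd_of_nsmul_eq_zero hv
    have h2 : addOrderOf v ∣ Nat.card M := addOrderOf_dvd_natCard v
    have h3 : addOrderOf v ∣ 1 := by
      rw [← Nat.Coprime.gcd_eq_one hn]
      exact Nat.dvd_gcd h2 h1
    exact AddMonoid.addOrderOf_eq_one_iff.mp (Nat.dvd_one.mp h3)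
  have inj : ∀ n : ℕ, (Nat.card M).Coprime n → ∀ a b : M, n • a = n • b → a = b := by
    intro n hn a b hab
    have : n • (a - b) = 0 := by rw [smul_sub]; exact sub_eq_zero.mpr hab
    exact sub_eq_zero.mp (tors n hn _ this)
  have surj : ∀ n : ℕ, (Nat.card M).Coprime n → ∀ v : M, ∃ w : M, n • w = v := by
    intro n hn
    have hinj : Function.Injective (fun w : M => n • w) := fun a b hab => inj n hn a b hab
    exact Finite.injective_iff_surjective.mp hinj
  -- relations
  have c1 : ∀ v, H (F v) = F (F (H v)) := by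
    intro v
    have := hHF (H v)
    rw [hH2] at this
    exact this
  have c2 : ∀ v, H (F (F v)) = F (H v) := by
    intro v
    have := congrArg H (hHF v)
    rw [hH2] at this
    exact this.symm
  -- the norm map
  obtain ⟨Nh, hNh⟩ : ∃ Nh : M →+ M, ∀ v, Nh v = v + F v + F (F v) :=
    ⟨AddMonoidHom.id M + F + F.comp F, fun v => rfl⟩
  have c3 : ∀ v, Nh (H v) = H (Nh v) := by
    intro v
    rw [hNh, hNh, map_add, map_add, c1, c2]
    abel
  have c4 : ∀ v, Nh (F v) = Nh v := by
    intro v
    rw [hNh, hNh, hF3]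
    abel
  have c5 : ∀ v, F (Nh v) = Nh v := by
    intro v
    rw [hNh, map_add, map_add, hF3]
    abel
  -- the map `D = F - F²`
  obtain ⟨D, hD⟩ : ∃ D : M →+ M, ∀ v, D v = F v - F (F v) :=
    ⟨F - F.comp F, fun v => rfl⟩
  have c6 : ∀ v, D (D v) = Nh v - 3 • v := by
    intro v
    rw [hD, hD, hNh]
    simp only [map_sub, hF3]
    rw [show (3 : ℕ) • v = v + v + v by rw [succ_nsmul, succ_nsmul, one_nsmul]]
    abel
  have c7 : ∀ v, Nh (D v) = 0 := by
    intro v
    rw [hD, map_sub, c4, c4, c4, sub_self]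
  have c8 : ∀ v, H (D v) = -D (H v) := by
    intro v
    rw [hD, hD, map_sub, c1, c2]
    abel
  -- `H`-fixed vectors are in the kernel of the norm
  have hHU : ∀ v, H v = v → Nh v = 0 := by
    intro v hv
    apply hfix _ (c5 v)
    rw [← c3, hv]
  -- `D` is injective on the kernel of the norm
  have hDinj : ∀ v, Nh v = 0 → D v = 0 → v = 0 := by
    intro v hv hDv
    have h1 := c6 v
    rw [hDv, map_zero, hv, zero_sub] at h1
    exact tors 3 hc3 v (neg_eq_zero.mp h1.symm)
  -- first count
  have cnt1 : Nat.card M = Nat.card {v : M // F v = v} * Nat.card Nh.ker := by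
    rw [card_eq_card_range_mul_card_ker Nh]
    congr 1
    apply Nat.card_congr
    apply Equiv.subtypeEquivRight
    intro v
    constructor
    · rintro ⟨w, rfl⟩
      exact c5 w
    · intro hv
      obtain ⟨w, hw⟩ := surj 3 hc3 v
      have hFw : F w = w := by
        apply inj 3 hc3
        rw [← map_nsmul, hw, hv]
      refine ⟨w, ?_⟩
      rw [hNh, hFw, hFw, ← hw, succ_nsmul, succ_nsmul, one_nsmul]
  -- second count
  obtain ⟨G1, hG1⟩ : ∃ G1 : Nh.ker →+ M, ∀ u : Nh.ker, G1 u = (u : M) + H (u : M) :=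
    ⟨(AddMonoidHom.id M + H).comp Nh.ker.subtype, fun u => rfl⟩
  have cnt2 : Nat.card Nh.ker = Nat.card {v : M // H v = v} * Nat.card G1.ker := by
    rw [card_eq_card_range_mul_card_ker G1]
    congr 1
    apply Nat.card_congr
    apply Equiv.subtypeEquivRight
    intro v
    constructor
    · rintro ⟨u, rfl⟩
      rw [hG1, map_add, hH2, add_comm]
    · intro hv
      obtain ⟨w, hw⟩ := surj 2 hc2 v
      have hHw : H w = w := by
        apply inj 2 hc2
        rw [← map_nsmul, hw, hv]
      refine ⟨⟨w, AddMonoidHom.mem_ker.mpr (hHU w hHw)⟩, ?_⟩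
      rw [hG1]
      change w + H w = v
      rw [hHw, ← hw, succ_nsmul, one_nsmul]
  -- third count
  have cnt3 : Nat.card G1.ker = Nat.card {v : M // H v = v} := by
    apply le_antisymm
    · -- `ker G1 → C_M(H)` via `D`
      have hmem : ∀ u : G1.ker, H (D ((u : Nh.ker) : M)) = D ((u : Nh.ker) : M) := by
        intro u
        have h1 : ((u : Nh.ker) : M) + H ((u : Nh.ker) : M) = 0 := by
          rw [← hG1]
          exact AddMonoidHom.mem_ker.mp u.2
        have h2 : H ((u : Nh.ker) : M) = -((u : Nh.ker) : M) := by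
          rw [eq_neg_iff_add_eq_zero, add_comm]
          exact h1
        rw [c8, h2, map_neg, neg_neg]
      apply Nat.card_le_card_of_injective
        (fun u : G1.ker => (⟨D ((u : Nh.ker) : M), hmem u⟩ : {v : M // H v = v}))
      intro a b hab
      have h1 : D ((a : Nh.ker) : M) = D ((b : Nh.ker) : M) := congrArg Subtype.val hab
      have h2 : D (((a : Nh.ker) : M) - ((b : Nh.ker) : M)) = 0 := by
        rw [map_sub, h1, sub_self]
      have h3 : Nh (((a : Nh.ker) : M) - ((b : Nh.ker) : M)) = 0 := by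
        rw [map_sub, AddMonoidHom.mem_ker.mp (a : Nh.ker).2, AddMonoidHom.mem_ker.mp (b : Nh.ker).2,
          sub_self]
      have h4 := sub_eq_zero.mp (hDinj _ h3 h2)
      exact Subtype.ext (Subtype.ext h4)
    · -- `C_M(H) → ker G1` via `D`
      have hmemU : ∀ v : M, D v ∈ Nh.ker := fun v => AddMonoidHom.mem_ker.mpr (c7 v)
      have hmem : ∀ v : {v : M // H v = v}, (⟨D v.1, hmemU v.1⟩ : Nh.ker) ∈ G1.ker := by
        intro v
        rw [AddMonoidHom.mem_ker, hG1]
        change D v.1 + H (D v.1) = 0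
        rw [c8, v.2, add_neg_cancel]
      apply Nat.card_le_card_of_injective
        (fun v : {v : M // H v = v} => (⟨⟨D v.1, hmemU v.1⟩, hmem v⟩ : G1.ker))
      intro a b hab
      have h1 : D a.1 = D b.1 := congrArg (fun u : G1.ker => ((u : Nh.ker) : M)) hab
      have h2 : D (a.1 - b.1) = 0 := by rw [map_sub, h1, sub_self]
      have h3 : Nh (a.1 - b.1) = 0 := by
        rw [map_sub, hHU a.1 a.2, hHU b.1 b.2, sub_self]
      exact Subtype.ext (sub_eq_zero.mp (hDinj _ h3 h2))
  rw [cnt1, cnt2, cnt3]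
  ring

end Cfsg.Agent.Lib.Helper40
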