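import Mathlib
import Cfsg.Prelude.Def_GeometricClasses
import Cfsg.Agent.Lib.Helper99.AschDefs
import Cfsg.Agent.Lib.Helper5.AschODefs
import Cfsg.Agent.Lib.Helper5.AschODefsTr

/-!
# Project ASCHO, module [SLOT33] (helper40)

A perfect "slot group" `Qi` (every `B x B⁻¹` is `reindex (slotMatrix i a_x)` with `a_x ∈ GL_d(F)`
preserving a symmetric invertible `J`) is trivial as soon as the perfect subgroups of the similarity
groups of nondegenerate symmetric forms on `F^d` are trivial.  General `d`, any field: `slot_eq_bot_of`.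
The sheet statement `slot_eq_bot_of_three_three` (d = 3, |F| = 3) is given in `_of` form with the
statement of ASCHO-[SOLV33] as a hypothesis.
-/

set_option autoImplicit false

namespace Cfsg.Agent.Lib.Helper40.AschOSlot33

open Cfsg Cfsg.Geo Cfsg.Agent.Lib.Helper99.Asch
open scoped MatrixGroups Matrix Kronecker

variable {F : Type*} [Field F] {k d : ℕ}

theorem slotMatrix_inj (j : Fin k) :
    Function.Injective (slotMatrix (F := F) (d := d) j) := by
  intro a a' h
  ext s t
  have h1 := congrFun (congrFun h (fun _ => s)) (Function.update (fun _ => s) j t)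
  unfold slotMatrix at h1
  have hc : ∀ l, l ≠ j → (fun _ : Fin k => s) l = Function.update (fun _ : Fin k => s) j t l := by
    intro l hl
    rw [Function.update_of_ne hl]
  rw [if_pos hc, if_pos hc, Function.update_self] at h1
  exact h1

theorem slotMatrix_one' (i : Fin k) : slotMatrix i (1 : Matrix (Fin d) (Fin d) F) = 1 := by
  ext x y
  simp only [slotMatrix, Matrix.one_apply]
  by_cases hxy : x = y
  · subst hxy; simp
  · rw [if_neg hxy]
    by_cases hc : ∀ j, j ≠ i → x j = y j
    · rw [if_pos hc]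
      have : x i ≠ y i := by
        intro h; apply hxy; funext j
        by_cases hj : j = i
        · subst hj; exact h
        · exact hc j hj
      rw [if_neg this]
    · rw [if_neg hc]

theorem slotMatrix_mul' (i : Fin k) (a b : Matrix (Fin d) (Fin d) F) :
    slotMatrix i (a * b) = slotMatrix i a * slotMatrix i b := by
  ext x z
  rw [Matrix.mul_apply]
  unfold slotMatrix
  by_cases hxz : ∀ j, j ≠ i → x j = z j
  · rw [if_pos hxz, Matrix.mul_apply]
    -- the sum over `y` reduces to the `y = update x i t`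
    rw [← Finset.sum_subset (Finset.subset_univ
      (Finset.univ.image (fun t : Fin d => Function.update x i t)))]
    · rw [Finset.sum_image]
      · refine Finset.sum_congr rfl fun t _ => ?_
        have h1 : ∀ j, j ≠ i → x j = Function.update x i t j := by
          intro j hj; rw [Function.update_of_ne hj]
        have h2 : ∀ j, j ≠ i → Function.update x i t j = z j := by
          intro j hj; rw [Function.update_of_ne hj]; exact hxz j hj
        rw [if_pos h1, if_pos h2, Function.update_self]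
      · intro t _ t' _ h
        have := congrFun h i
        simpa using this
    · intro y _ hy
      have hne : ¬ ∀ j, j ≠ i → x j = y j := by
        intro h
        apply hy
        rw [Finset.mem_image]
        refine ⟨y i, Finset.mem_univ _, ?_⟩
        funext j
        by_cases hj : j = i
        · subst hj; simp
        · rw [Function.update_of_ne hj]; exact h j hj
      rw [if_neg hne, zero_mul]
  · rw [if_neg hxz]
    symm
    refine Finset.sum_eq_zero fun y _ => ?_
    by_cases h1 : ∀ j, j ≠ i → x j = y j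
    · by_cases h2 : ∀ j, j ≠ i → y j = z j
      · exact absurd (fun j hj => (h1 j hj).trans (h2 j hj)) hxz
      · rw [if_neg h2, mul_zero]
    · rw [if_neg h1, zero_mul]

/-- the form `u v ↦ u ⬝ᵥ J *ᵥ v` of a symmetric invertible matrix is a nondegenerate symmetric form -/
theorem isSymmetricForm_dot {κ : Type} [Fintype κ] [DecidableEq κ] (J : Matrix κ κ F)
    (hJs : Jᵀ = J) (hJu : IsUnit J.det) :
    IsSymmetricForm (fun u v : κ → F => u ⬝ᵥ J *ᵥ v) where
  bilinear :=
    { add_left := fun x y v => by simp only [add_dotProduct]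
      smul_left := fun c x v => by simp only [smul_dotProduct, smul_eq_mul]
      add_right := fun v x y => by simp only [Matrix.mulVec_add, dotProduct_add]
      smul_right := fun c v x => by
        simp only [Matrix.mulVec_smul, dotProduct_smul, smul_eq_mul] }
  symm u v := by
    show u ⬝ᵥ J *ᵥ v = v ⬝ᵥ J *ᵥ u
    rw [Matrix.dotProduct_mulVec, ← Matrix.mulVec_transpose, hJs, dotProduct_comm]
  nondegenerate := by
    have hdet : J.det ≠ 0 := hJu.ne_zero
    intro v hv
    constructor
    · have hw : J *ᵥ v ≠ 0 := fun h => hv (Matrix.eq_zero_of_mulVec_eq_zero hdet h)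
      obtain ⟨i, hi⟩ : ∃ i, (J *ᵥ v) i ≠ 0 := by
        by_contra hcon
        push Not at hcon
        exact hw (funext hcon)
      refine ⟨Pi.single i 1, ?_⟩
      show Pi.single i 1 ⬝ᵥ J *ᵥ v ≠ 0
      simpa using hi
    · have hw : v ᵥ* J ≠ 0 := fun h => hv (Matrix.eq_zero_of_vecMul_eq_zero hdet h)
      obtain ⟨i, hi⟩ : ∃ i, (v ᵥ* J) i ≠ 0 := by
        by_contra hcon
        push Not at hcon
        exact hw (funext hcon)
      refine ⟨Pi.single i 1, ?_⟩
      show v ⬝ᵥ J *ᵥ Pi.single i 1 ≠ 0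
      rw [Matrix.dotProduct_mulVec]
      simpa using hi

/-- General form of ASCHO-[SLOT33]: any `d`, any field. -/
theorem slot_eq_bot_of {n : ℕ}
    (hsolv : ∀ (A : Subgroup (GL (Fin d) F)) (f : (Fin d → F) → (Fin d → F) → F),
      IsSymmetricForm f → A ≤ similarityGroup f → ⁅A, A⁆ = A → A = ⊥)
    (i : Fin k) (Qi : Subgroup (GL (Fin n) F)) (hperf : ⁅Qi, Qi⁆ = Qi)
    (idx : Fin n ≃ (Fin k → Fin d)) (B : GL (Fin n) F)
    (hslot : ∀ x ∈ Qi, ∃ a : GL (Fin d) F,
        ((B * x * B⁻¹ : GL (Fin n) F) : Matrix (Fin n) (Fin n) F) =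
          Matrix.reindex idx.symm idx.symm (slotMatrix i (a : Matrix (Fin d) (Fin d) F)))
    (J : Matrix (Fin d) (Fin d) F) (hJs : Jᵀ = J) (hJu : IsUnit J.det)
    (hJinv : ∀ x ∈ Qi, ∀ a : GL (Fin d) F,
        ((B * x * B⁻¹ : GL (Fin n) F) : Matrix (Fin n) (Fin n) F) =
          Matrix.reindex idx.symm idx.symm (slotMatrix i (a : Matrix (Fin d) (Fin d) F)) →
        (a : Matrix (Fin d) (Fin d) F)ᵀ * J * (a : Matrix (Fin d) (Fin d) F) = J) :
    Qi = ⊥ := by
  classical
  -- injectivity of `a ↦ reindex (slotMatrix i a)` on `GL`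
  have hinj : ∀ a b : GL (Fin d) F,
      Matrix.reindex idx.symm idx.symm (slotMatrix i (a : Matrix (Fin d) (Fin d) F)) =
        Matrix.reindex idx.symm idx.symm (slotMatrix i (b : Matrix (Fin d) (Fin d) F)) → a = b := by
    intro a b h
    exact Units.ext (slotMatrix_inj i ((Matrix.reindex idx.symm idx.symm).injective h))
  -- the choice function
  let ψ0 : Qi → GL (Fin d) F := fun x => Classical.choose (hslot x.1 x.2)
  have hψ0 : ∀ x : Qi, ((B * x.1 * B⁻¹ : GL (Fin n) F) : Matrix (Fin n) (Fin n) F) =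
      Matrix.reindex idx.symm idx.symm (slotMatrix i ((ψ0 x : GL (Fin d) F) : Matrix (Fin d) (Fin d) F)) :=
    fun x => Classical.choose_spec (hslot x.1 x.2)
  have hone : ψ0 1 = 1 := by
    apply hinj
    rw [← hψ0 1]
    simp only [OneMemClass.coe_one, mul_one, mul_inv_cancel, Units.val_one, slotMatrix_one',
      Matrix.reindex_apply, Matrix.submatrix_one_equiv]
  have hmul : ∀ x y : Qi, ψ0 (x * y) = ψ0 x * ψ0 y := by
    intro x y
    apply hinj
    have hx := hψ0 x
    have hy := hψ0 y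
    have hxy := hψ0 (x * y)
    rw [← hxy]
    have e : (B * ((x * y : Qi) : GL (Fin n) F) * B⁻¹) = (B * x.1 * B⁻¹) * (B * y.1 * B⁻¹) := by
      rw [Subgroup.coe_mul]; group
    rw [e, Units.val_mul, hx, hy, Units.val_mul (ψ0 x) (ψ0 y), slotMatrix_mul', Matrix.reindex_apply,
      Matrix.reindex_apply, Matrix.reindex_apply, Matrix.submatrix_mul_equiv]
  let ψ : Qi →* GL (Fin d) F := { toFun := ψ0, map_one' := hone, map_mul' := hmul }
  -- the image is perfect
  have htop : ⁅(⊤ : Subgroup Qi), (⊤ : Subgroup Qi)⁆ = (⊤ : Subgroup Qi) := by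
    apply Subgroup.map_injective Qi.subtype_injective
    rw [Subgroup.map_commutator, ← MonoidHom.range_eq_map, Subgroup.range_subtype, hperf]
  have hAperf : ⁅ψ.range, ψ.range⁆ = ψ.range := by
    rw [MonoidHom.range_eq_map, ← Subgroup.map_commutator, htop]
  -- the image lies in the similarity group of `J`
  have hAsim : ψ.range ≤ similarityGroup (fun u v : Fin d → F => u ⬝ᵥ J *ᵥ v) := by
    rintro g ⟨x, rfl⟩
    refine ⟨1, fun u v => ?_⟩
    have h := hJinv x.1 x.2 (ψ x) (hψ0 x)
    show ((ψ x : GL (Fin d) F) : Matrix (Fin d) (Fin d) F) *ᵥ u ⬝ᵥ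
        J *ᵥ (((ψ x : GL (Fin d) F) : Matrix (Fin d) (Fin d) F) *ᵥ v) = ((1 : Fˣ) : F) * (u ⬝ᵥ J *ᵥ v)
    rw [Units.val_one, one_mul, Matrix.mulVec_mulVec, ← Matrix.vecMul_transpose,
      ← Matrix.dotProduct_mulVec, Matrix.mulVec_mulVec, ← Matrix.mul_assoc, h]
  have hbot := hsolv ψ.range _ (isSymmetricForm_dot J hJs hJu) hAsim hAperf
  -- conclusion
  rw [eq_bot_iff]
  intro x hx
  rw [Subgroup.mem_bot]
  have h1 : ψ ⟨x, hx⟩ = 1 := by
    have : ψ ⟨x, hx⟩ ∈ ψ.range := ⟨_, rfl⟩
    rw [hbot] at this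
    exact Subgroup.mem_bot.mp this
  have h2 := hψ0 ⟨x, hx⟩
  have h3 : ψ0 ⟨x, hx⟩ = 1 := h1
  rw [h3, Units.val_one, slotMatrix_one', Matrix.reindex_apply, Matrix.submatrix_one_equiv] at h2
  have h4 : B * x * B⁻¹ = 1 := Units.ext h2
  have h5 : x = B⁻¹ * (B * x * B⁻¹) * B := by group
  rw [h5, h4]; group

end Cfsg.Agent.Lib.Helper40.AschOSlot33

namespace Cfsg.Agent.Lib.Helper5.AschO

open Cfsg Cfsg.Geo Cfsg.Agent.Lib.Helper99.Asch
open scoped MatrixGroups Matrix Kronecker

variable {n : ℕ} {F : Type*} [Field F]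

/-- ASCHO-[SLOT33] in `_of` form: `hsolv` is the statement of ASCHO-[SOLV33]
(`eq_bot_of_perfect_three_three hF`). -/
theorem slot_eq_bot_of_three_three_of
    (hsolv : ∀ (A : Subgroup (GL (Fin 3) F)) (f : (Fin 3 → F) → (Fin 3 → F) → F),
      IsSymmetricForm f → A ≤ similarityGroup f → ⁅A, A⁆ = A → A = ⊥)
    {k : ℕ} (i : Fin k)
    (Qi : Subgroup (GL (Fin n) F)) (hperf : ⁅Qi, Qi⁆ = Qi)
    (idx : Fin n ≃ (Fin k → Fin 3)) (B : GL (Fin n) F)
    (hslot : ∀ x ∈ Qi, ∃ a : GL (Fin 3) F,
        ((B * x * B⁻¹ : GL (Fin n) F) : Matrix (Fin n) (Fin n) F) =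
          Matrix.reindex idx.symm idx.symm (slotMatrix i (a : Matrix (Fin 3) (Fin 3) F)))
    (J : Matrix (Fin 3) (Fin 3) F) (hJs : Jᵀ = J) (hJu : IsUnit J.det)
    (hJinv : ∀ x ∈ Qi, ∀ a : GL (Fin 3) F,
        ((B * x * B⁻¹ : GL (Fin n) F) : Matrix (Fin n) (Fin n) F) =
          Matrix.reindex idx.symm idx.symm (slotMatrix i (a : Matrix (Fin 3) (Fin 3) F)) →
        (a : Matrix (Fin 3) (Fin 3) F)ᵀ * J * (a : Matrix (Fin 3) (Fin 3) F) = J) :
    Qi = ⊥ :=
  Cfsg.Agent.Lib.Helper40.AschOSlot33.slot_eq_bot_of hsolv i Qi hperf idx B hslot J hJs hJu hJinv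

end Cfsg.Agent.Lib.Helper5.AschO
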