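import Cfsg.Agent.Lib.Helper92.BPGAlg

/-!
# PROJECT BP (coordinator helper92), module BP-[L2-CONJ]: conjugation and fixed points in `R[G]`
-/

set_option autoImplicit false

namespace Cfsg.Agent.Lib.Helper40.BP

open Cfsg.Agent.Lib.Helper92.BP

variable {R : Type*} [CommRing R] {G : Type*} [Group G]

theorem coeff_conj (g x : G) (a : MonoidAlgebra R G) :
    (conj R g a).coeff x = a.coeff (g⁻¹ * x * g) := by
  unfold conj
  rw [MonoidAlgebra.of_apply, MonoidAlgebra.of_apply, MonoidAlgebra.coeff_mul_single_apply,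
    MonoidAlgebra.coeff_single_mul_apply, inv_inv, mul_one, one_mul, mul_assoc]

theorem of_inv_mul_of (g : G) : MonoidAlgebra.of R G g⁻¹ * MonoidAlgebra.of R G g = 1 := by
  rw [← map_mul, inv_mul_cancel, map_one]

theorem of_mul_of_inv (g : G) : MonoidAlgebra.of R G g * MonoidAlgebra.of R G g⁻¹ = 1 := by
  rw [← map_mul, mul_inv_cancel, map_one]

theorem conj_mul (g : G) (a b : MonoidAlgebra R G) :
    conj R g (a * b) = conj R g a * conj R g b := by
  unfold conj
  calc MonoidAlgebra.of R G g * (a * b) * MonoidAlgebra.of R G g⁻¹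
      = MonoidAlgebra.of R G g * a * 1 * b * MonoidAlgebra.of R G g⁻¹ := by
        rw [mul_one]; simp only [mul_assoc]
    _ = MonoidAlgebra.of R G g * a * (MonoidAlgebra.of R G g⁻¹ * MonoidAlgebra.of R G g) * b
          * MonoidAlgebra.of R G g⁻¹ := by rw [of_inv_mul_of]
    _ = _ := by simp only [mul_assoc]

theorem conj_one (g : G) : conj R g (1 : MonoidAlgebra R G) = 1 := by
  unfold conj
  rw [mul_one, of_mul_of_inv]

theorem conj_add (g : G) (a b : MonoidAlgebra R G) :
    conj R g (a + b) = conj R g a + conj R g b := by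
  unfold conj
  rw [mul_add, add_mul]

theorem conj_smul (g : G) (r : R) (a : MonoidAlgebra R G) :
    conj R g (r • a) = r • conj R g a := by
  unfold conj
  rw [mul_smul_comm, smul_mul_assoc]

theorem conj_conj (g h : G) (a : MonoidAlgebra R G) :
    conj R g (conj R h a) = conj R (g * h) a := by
  unfold conj
  rw [mul_inv_rev, map_mul, map_mul]
  simp only [mul_assoc]

theorem conj_one_left (a : MonoidAlgebra R G) : conj R (1 : G) a = a := by
  unfold conj
  rw [inv_one, map_one, one_mul, mul_one]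

theorem conj_of (g x : G) :
    conj R g (MonoidAlgebra.of R G x) = MonoidAlgebra.of R G (g * x * g⁻¹) := by
  unfold conj
  rw [map_mul, map_mul]

theorem conj_zero (g : G) : conj R g (0 : MonoidAlgebra R G) = 0 := by
  unfold conj
  rw [mul_zero, zero_mul]

theorem conj_sum {ι : Type*} (g : G) (s : Finset ι) (f : ι → MonoidAlgebra R G) :
    conj R g (∑ i ∈ s, f i) = ∑ i ∈ s, conj R g (f i) := by
  unfold conj
  rw [Finset.mul_sum, Finset.sum_mul]

/-- `conj g a = a` iff `g` commutes with `a`. -/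
theorem conj_eq_self_iff (g : G) (a : MonoidAlgebra R G) :
    conj R g a = a ↔ MonoidAlgebra.of R G g * a = a * MonoidAlgebra.of R G g := by
  unfold conj
  constructor
  · intro h
    calc MonoidAlgebra.of R G g * a
        = MonoidAlgebra.of R G g * a * (MonoidAlgebra.of R G g⁻¹ * MonoidAlgebra.of R G g) := by
          rw [of_inv_mul_of, mul_one]
      _ = (MonoidAlgebra.of R G g * a * MonoidAlgebra.of R G g⁻¹) * MonoidAlgebra.of R G g := by
          simp only [mul_assoc]
      _ = a * MonoidAlgebra.of R G g := by rw [h]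
  · intro h
    rw [h, mul_assoc, of_mul_of_inv, mul_one]

theorem mem_fixedAlg_iff (Q : Subgroup G) (a : MonoidAlgebra R G) :
    a ∈ fixedAlg R Q ↔ ∀ q ∈ Q, conj R q a = a := by
  unfold fixedAlg
  rw [Subalgebra.mem_centralizer_iff]
  constructor
  · intro h q hq
    rw [conj_eq_self_iff]
    exact h _ ⟨q, hq, rfl⟩
  · rintro h _ ⟨q, hq, rfl⟩
    exact (conj_eq_self_iff q a).mp (h q hq)

theorem mem_fixedAlg_iff_coeff (Q : Subgroup G) (a : MonoidAlgebra R G) :
    a ∈ fixedAlg R Q ↔ ∀ q ∈ Q, ∀ x : G, a.coeff (q * x * q⁻¹) = a.coeff x := by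
  rw [mem_fixedAlg_iff]
  constructor
  · intro h q hq x
    have h1 := h q⁻¹ (Q.inv_mem hq)
    have h2 := congrArg (fun b => b.coeff x) h1
    simp only [coeff_conj, inv_inv] at h2
    exact h2
  · intro h q hq
    apply MonoidAlgebra.ext
    apply Finsupp.ext
    intro x
    rw [coeff_conj]
    have := h q⁻¹ (Q.inv_mem hq) x
    rw [inv_inv] at this
    exact this

theorem fixedAlg_anti {S Q : Subgroup G} (h : S ≤ Q) : fixedAlg R Q ≤ fixedAlg R S := by
  intro a ha
  rw [mem_fixedAlg_iff] at ha ⊢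
  exact fun q hq => ha q (h hq)

theorem conj_mem_fixedAlg (g : G) (Q : Subgroup G) {a : MonoidAlgebra R G}
    (ha : a ∈ fixedAlg R Q) :
    conj R g a ∈ fixedAlg R (Q.map (MulAut.conj g).toMonoidHom) := by
  rw [mem_fixedAlg_iff] at ha ⊢
  rintro _ ⟨q, hq, rfl⟩
  have e : (MulAut.conj g).toMonoidHom q = g * q * g⁻¹ := by simp [MulAut.conj_apply]
  rw [e, conj_conj]
  have e2 : g * q * g⁻¹ * g = g * q := by group
  rw [e2, ← conj_conj, ha q hq]

theorem of_mem_fixedAlg (Q : Subgroup G) {z : G} (hz : z ∈ Subgroup.centralizer (Q : Set G)) :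
    MonoidAlgebra.of R G z ∈ fixedAlg R Q := by
  rw [mem_fixedAlg_iff]
  intro q hq
  rw [conj_of]
  have h := (Subgroup.mem_centralizer_iff.mp hz) q hq
  rw [h, mul_assoc, mul_inv_cancel, mul_one]

end Cfsg.Agent.Lib.Helper40.BP
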