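import Cfsg.Agent.Lib.Helper92.BPGAlg

/-!
# PROJECT BP (coordinator helper92), module BP-[L2-BR1]: coefficients and linearity of the Brauer map
-/

set_option autoImplicit false

namespace Cfsg.Agent.Lib.Helper40.BP

open Cfsg.Agent.Lib.Helper92.BP

variable {R : Type*} [CommRing R] [IsLocalRing R] {G : Type*} [Group G]

theorem coeff_br (Q : Subgroup G) (a : MonoidAlgebra R G)
    (z : Subgroup.centralizer (Q : Set G)) :
    (br R Q a).coeff z = IsLocalRing.residue R (a.coeff (z : G)) := by
  unfold br
  rw [MonoidAlgebra.coeff_ofCoeff, Finsupp.comapDomain_apply, Finsupp.mapRange_apply]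

theorem br_ext (Q : Subgroup G)
    {x y : MonoidAlgebra (IsLocalRing.ResidueField R) (Subgroup.centralizer (Q : Set G))}
    (h : ∀ z, x.coeff z = y.coeff z) : x = y :=
  MonoidAlgebra.ext (Finsupp.ext h)

theorem br_add (Q : Subgroup G) (a b : MonoidAlgebra R G) :
    br R Q (a + b) = br R Q a + br R Q b := by
  apply br_ext
  intro z
  rw [MonoidAlgebra.coeff_add, Finsupp.add_apply, coeff_br, coeff_br, coeff_br, MonoidAlgebra.coeff_add,
    Finsupp.add_apply, map_add]

theorem br_zero (Q : Subgroup G) : br R Q (0 : MonoidAlgebra R G) = 0 := by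
  apply br_ext
  intro z
  rw [coeff_br, MonoidAlgebra.coeff_zero, Finsupp.zero_apply, map_zero]
  rfl

theorem br_sum {ι : Type*} (Q : Subgroup G) (s : Finset ι) (f : ι → MonoidAlgebra R G) :
    br R Q (∑ i ∈ s, f i) = ∑ i ∈ s, br R Q (f i) := by
  classical
  induction s using Finset.induction_on with
  | empty => simp [br_zero]
  | insert i s hi ih => rw [Finset.sum_insert hi, Finset.sum_insert hi, br_add, ih]

theorem br_smul (Q : Subgroup G) (r : R) (a : MonoidAlgebra R G) :
    br R Q (r • a) = IsLocalRing.residue R r • br R Q a := by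
  apply br_ext
  intro z
  rw [coeff_br, MonoidAlgebra.coeff_smul, Finsupp.smul_apply, MonoidAlgebra.coeff_smul, Finsupp.smul_apply,
    coeff_br, smul_eq_mul, smul_eq_mul, map_mul]

theorem br_of (Q : Subgroup G) (z : Subgroup.centralizer (Q : Set G)) :
    br R Q (MonoidAlgebra.of R G (z : G)) = MonoidAlgebra.of _ _ z := by
  classical
  apply br_ext
  intro w
  rw [coeff_br, MonoidAlgebra.of_apply, MonoidAlgebra.of_apply, MonoidAlgebra.coeff_single, MonoidAlgebra.coeff_single,
    Finsupp.single_apply, Finsupp.single_apply]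
  by_cases h : z = w
  · rw [if_pos h, if_pos (congrArg Subtype.val h), map_one]
  · rw [if_neg h, if_neg (fun h' => h (Subtype.ext h')), map_zero]

theorem br_one (Q : Subgroup G) : br R Q (1 : MonoidAlgebra R G) = 1 := by
  have h := br_of (R := R) Q (1 : Subgroup.centralizer (Q : Set G))
  rw [Subgroup.coe_one, map_one, map_one] at h
  exact h

theorem br_eq_zero_iff (Q : Subgroup G) (a : MonoidAlgebra R G) :
    br R Q a = 0 ↔ ∀ z ∈ Subgroup.centralizer (Q : Set G),
      a.coeff z ∈ IsLocalRing.maximalIdeal R := by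
  constructor
  · intro h z hz
    have h1 := coeff_br Q a ⟨z, hz⟩
    rw [h, MonoidAlgebra.coeff_zero, Finsupp.zero_apply] at h1
    exact (IsLocalRing.residue_eq_zero_iff _).mp h1.symm
  · intro h
    apply br_ext
    intro z
    rw [coeff_br, MonoidAlgebra.coeff_zero, Finsupp.zero_apply]
    exact (IsLocalRing.residue_eq_zero_iff _).mpr (h z z.2)

/-- multiplication by an element of `R[C_G(Q)]` on either side commutes with `Br_Q` -/
theorem br_of_mul (Q : Subgroup G) (z : Subgroup.centralizer (Q : Set G))
    (a : MonoidAlgebra R G) :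
    br R Q (MonoidAlgebra.of R G (z : G) * a) = MonoidAlgebra.of _ _ z * br R Q a := by
  apply br_ext
  intro w
  rw [coeff_br, MonoidAlgebra.of_apply, MonoidAlgebra.of_apply, MonoidAlgebra.coeff_single_mul_apply,
    MonoidAlgebra.coeff_single_mul_apply, coeff_br, one_mul, one_mul]
  rfl

theorem br_mul_of (Q : Subgroup G) (z : Subgroup.centralizer (Q : Set G))
    (a : MonoidAlgebra R G) :
    br R Q (a * MonoidAlgebra.of R G (z : G)) = br R Q a * MonoidAlgebra.of _ _ z := by
  apply br_ext
  intro w
  rw [coeff_br, MonoidAlgebra.of_apply, MonoidAlgebra.of_apply, MonoidAlgebra.coeff_mul_single_apply,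
    MonoidAlgebra.coeff_mul_single_apply, coeff_br, mul_one, mul_one]
  rfl

end Cfsg.Agent.Lib.Helper40.BP
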