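import Cfsg.Agent.Lib.Helper40.BPClaimRelTr
import Cfsg.Agent.Lib.Helper33.BPThetaConj

/-!
# PROJECT BP (coordinator helper92), module BP-[L4-C2]: `claimFor_relTr`, exact SKEL4 statement
-/

set_option autoImplicit false

namespace Cfsg.Agent.Lib.Helper40.BP

open Cfsg Cfsg.Agent.Lib.Helper16 Cfsg.Agent.Lib.Helper92.BP

section L4
variable {G : Type*} [Group G] [Finite G] {p : ℕ} [Fact p.Prime] {M : Ideal AlgInt}
  [hMp : M.IsPrime]

/-- BP-[L4-C2] : CLAIM passes to relative traces with orthogonal conjugates (index `p`) -/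
theorem claimFor_relTr (hM : IsPModular p M) {μ : LocSys G} (hμ : IsLocalSystem p M μ)
    {χ : G → ℂ} (hχ : IsCharacter G χ) {S Q : Subgroup G} (hQ : IsPGroup p Q) (hSQ : S ≤ Q)
    (hn : (S.subgroupOf Q).Normal) (hidx : S.relIndex Q = p)
    {c' : MonoidAlgebra (localSubring M) G} (hc' : c' ∈ fixedAlg (localSubring M) S)
    (hi : IsIdempotentElem c')
    (horth : ∀ t ∈ Q, t ∉ S → c' * conj (localSubring M) t c' = 0)
    (H : ClaimFor M μ χ S c') : ClaimFor M μ χ Q (relTr (localSubring M) S Q c') :=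
  claimFor_relTr_of hM (Cfsg.Agent.Lib.Helper33.BP.thetaQ_add μ χ)
    (Cfsg.Agent.Lib.Helper33.BP.thetaQ_zero μ χ)
    (fun _ hQ' g _ hu a => Cfsg.Agent.Lib.Helper33.BP.thetaQ_conj hM hμ
      (Cfsg.Agent.Lib.Helper80.isClassFunction_of_isCharacter hχ) hQ' g hu a)
    hQ hSQ hn hidx hc' hi horth H

end L4

end Cfsg.Agent.Lib.Helper40.BP
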