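import Cfsg.Agent.Lib.Helper92.BPGAlg
import Cfsg.Agent.Lib.Helper40.BPConj

/-!
# PROJECT BP (coordinator helper92), module BP-[L2-TR1]: the relative trace `Tr_S^Q`
-/

set_option autoImplicit false

namespace Cfsg.Agent.Lib.Helper40.BP

open Cfsg.Agent.Lib.Helper92.BP

variable {R : Type*} [CommRing R] {G : Type*} [Group G]

/-- The relative trace as a sum over the finite type of cosets. -/
theorem relTr_eq_sum [Finite G] (S Q : Subgroup G) [Fintype (Q ⧸ S.subgroupOf Q)] (a : MonoidAlgebra R G) :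
    relTr R S Q a = ∑ t : Q ⧸ S.subgroupOf Q, conj R ((Quotient.out t : Q) : G) a := by
  unfold relTr
  rw [finsum_eq_sum_of_fintype]

/-- Conjugation of an `S`-fixed element only depends on the left coset modulo `S`. -/
theorem conj_eq_of_inv_mul_mem {S : Subgroup G} {a : MonoidAlgebra R G} (ha : a ∈ fixedAlg R S) (x y : G)
    (h : x⁻¹ * y ∈ S) : conj R x a = conj R y a := by
  have e : y = x * (x⁻¹ * y) := by group
  rw [e, ← conj_conj, (mem_fixedAlg_iff S a).mp ha _ h]

theorem conj_out_mk {S Q : Subgroup G} {a : MonoidAlgebra R G} (ha : a ∈ fixedAlg R S) (x : Q) :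
    conj R ((Quotient.out (QuotientGroup.mk x : Q ⧸ S.subgroupOf Q) : Q) : G) a = conj R (x : G) a := by
  apply conj_eq_of_inv_mul_mem ha
  have h : (QuotientGroup.mk (Quotient.out (QuotientGroup.mk x : Q ⧸ S.subgroupOf Q)) : Q ⧸ S.subgroupOf Q)
      = QuotientGroup.mk x := QuotientGroup.out_eq' _
  have h2 := QuotientGroup.eq.mp h
  rw [Subgroup.mem_subgroupOf] at h2
  simpa using h2

theorem relTr_add [Finite G] (S Q : Subgroup G) (a b : MonoidAlgebra R G) :
    relTr R S Q (a + b) = relTr R S Q a + relTr R S Q b := by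
  classical
  have : Fintype (Q ⧸ S.subgroupOf Q) := Fintype.ofFinite _
  rw [relTr_eq_sum, relTr_eq_sum, relTr_eq_sum, ← Finset.sum_add_distrib]
  exact Finset.sum_congr rfl fun t _ => conj_add _ _ _

theorem relTr_smul [Finite G] (S Q : Subgroup G) (r : R) (a : MonoidAlgebra R G) :
    relTr R S Q (r • a) = r • relTr R S Q a := by
  classical
  have : Fintype (Q ⧸ S.subgroupOf Q) := Fintype.ofFinite _
  rw [relTr_eq_sum, relTr_eq_sum, Finset.smul_sum]
  exact Finset.sum_congr rfl fun t _ => conj_smul _ _ _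

set_option linter.unusedVariables false in
theorem relTr_mem_fixedAlg [Finite G] {S Q : Subgroup G} (hSQ : S ≤ Q)
    {a : MonoidAlgebra R G} (ha : a ∈ fixedAlg R S) : relTr R S Q a ∈ fixedAlg R Q := by
  classical
  have : Fintype (Q ⧸ S.subgroupOf Q) := Fintype.ofFinite _
  rw [mem_fixedAlg_iff]
  intro q hq
  rw [relTr_eq_sum, conj_sum]
  have h1 : ∀ t : Q ⧸ S.subgroupOf Q, conj R q (conj R ((Quotient.out t : Q) : G) a)
      = conj R ((Quotient.out ((⟨q, hq⟩ : Q) • t) : Q) : G) a := by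
    intro t
    rw [conj_conj]
    have e : (⟨q, hq⟩ : Q) • t = (QuotientGroup.mk ((⟨q, hq⟩ : Q) * Quotient.out t) : Q ⧸ S.subgroupOf Q) := by
      conv_lhs => rw [← QuotientGroup.out_eq' t]
      rfl
    rw [e, conj_out_mk ha]
    rfl
  rw [Finset.sum_congr rfl fun t _ => h1 t]
  exact Equiv.sum_comp (MulAction.toPerm (⟨q, hq⟩ : Q))
    (fun t : Q ⧸ S.subgroupOf Q => conj R ((Quotient.out t : Q) : G) a)

theorem mul_relTr [Finite G] (S Q : Subgroup G) {c : MonoidAlgebra R G}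
    (hc : c ∈ fixedAlg R Q) (a : MonoidAlgebra R G) :
    c * relTr R S Q a = relTr R S Q (c * a) := by
  classical
  have : Fintype (Q ⧸ S.subgroupOf Q) := Fintype.ofFinite _
  rw [relTr_eq_sum, relTr_eq_sum, Finset.mul_sum]
  refine Finset.sum_congr rfl fun t _ => ?_
  rw [conj_mul, (mem_fixedAlg_iff Q c).mp hc _ (Quotient.out t : Q).2]

theorem relTr_mul [Finite G] (S Q : Subgroup G) {c : MonoidAlgebra R G}
    (hc : c ∈ fixedAlg R Q) (a : MonoidAlgebra R G) :
    relTr R S Q a * c = relTr R S Q (a * c) := by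
  classical
  have : Fintype (Q ⧸ S.subgroupOf Q) := Fintype.ofFinite _
  rw [relTr_eq_sum, relTr_eq_sum, Finset.sum_mul]
  refine Finset.sum_congr rfl fun t _ => ?_
  rw [conj_mul, (mem_fixedAlg_iff Q c).mp hc _ (Quotient.out t : Q).2]

set_option linter.unusedVariables false in
/-- The relative trace may be computed with any left transversal. -/
theorem relTr_eq_sum_of_reps [Finite G] {S Q : Subgroup G} (hSQ : S ≤ Q)
    {a : MonoidAlgebra R G} (ha : a ∈ fixedAlg R S) (T : Finset G) (hTQ : ∀ t ∈ T, t ∈ Q)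
    (hT : ∀ q ∈ Q, ∃! t, t ∈ T ∧ t⁻¹ * q ∈ S) :
    relTr R S Q a = ∑ t ∈ T, conj R t a := by
  classical
  have : Fintype (Q ⧸ S.subgroupOf Q) := Fintype.ofFinite _
  rw [relTr_eq_sum]
  symm
  refine Finset.sum_bij (fun t ht => (QuotientGroup.mk (⟨t, hTQ t ht⟩ : Q) : Q ⧸ S.subgroupOf Q))
    (fun _ _ => Finset.mem_univ _) ?_ ?_ ?_
  · intro t ht t' ht' h
    have h2 := QuotientGroup.eq.mp h
    rw [Subgroup.mem_subgroupOf] at h2
    have h3 : t⁻¹ * t' ∈ S := by simpa using h2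
    obtain ⟨u, -, hu⟩ := hT t' (hTQ t' ht')
    have e1 := hu t ⟨ht, h3⟩
    have e2 := hu t' ⟨ht', by rw [inv_mul_cancel]; exact S.one_mem⟩
    rw [e1, e2]
  · intro c _
    obtain ⟨t, ⟨ht, hts⟩, -⟩ := hT ((Quotient.out c : Q) : G) (Quotient.out c : Q).2
    refine ⟨t, ht, ?_⟩
    rw [← QuotientGroup.out_eq' c]
    apply QuotientGroup.eq.mpr
    rw [Subgroup.mem_subgroupOf]
    simpa using hts
  · intro t ht
    exact (conj_out_mk ha (⟨t, hTQ t ht⟩ : Q)).symm

end Cfsg.Agent.Lib.Helper40.BP
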