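/-
helper40 library: Sylow r-subgroups of GL_n(q) for primes r > n, r ∤ q (torus construction),
with arithmetic lemmas on r-adic valuations of q^j - 1 and of cyclotomic values.
-/
import Mathlib

set_option autoImplicit false

namespace Cfsg.Agent.Lib.Helper40

section arith1
open Finset

variable {r : ℕ} [hr : Fact r.Prime] {q : ℕ}

/-- r ∣ q^j - 1 iff d ∣ j -/
theorem dvd_pow_sub_one_iff (hq : 1 ≤ q) (j : ℕ) :
    r ∣ q ^ j - 1 ↔ orderOf (q : ZMod r) ∣ j := by
  rw [orderOf_dvd_iff_pow_eq_one, ← ZMod.natCast_eq_zero_iff, Nat.cast_sub (Nat.one_le_pow _ _ hq)]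
  simp [sub_eq_zero]

/-- geometric sum identity in ℕ -/
theorem geom_aux (x k : ℕ) (hx : 1 ≤ x) : (x - 1) * (∑ i ∈ range k, x ^ i) = x ^ k - 1 := by
  induction k with
  | zero => simp
  | succ k ih =>
    rw [sum_range_succ, mul_add, ih]
    have h1 : 1 ≤ x ^ k := Nat.one_le_pow _ _ hx
    have h2 : (x - 1) * x ^ k = x ^ (k + 1) - x ^ k := by
      rw [Nat.sub_mul, one_mul, pow_succ, mul_comm]
    have h3 : x ^ k ≤ x ^ (k + 1) := Nat.pow_le_pow_right hx (Nat.le_succ k)
    omega

theorem val_pow_mul (hq : 2 ≤ q) (d k : ℕ) (hd : 1 ≤ d) (hdvd : r ∣ q ^ d - 1) (hk : 1 ≤ k) (hkr : k < r) :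
    padicValNat r (q ^ (d * k) - 1) = padicValNat r (q ^ d - 1) := by
  have hx : 1 ≤ q ^ d := Nat.one_le_pow _ _ (by omega)
  have hx2 : 2 ≤ q ^ d := le_trans hq (Nat.le_self_pow (by omega) q)
  rw [pow_mul, ← geom_aux (q ^ d) k hx]
  have hS : ¬ r ∣ ∑ i ∈ range k, (q ^ d) ^ i := by
    rw [← ZMod.natCast_eq_zero_iff]
    have h1 : ((q ^ d : ℕ) : ZMod r) = 1 := by
      have := (ZMod.natCast_eq_zero_iff (q ^ d - 1) r).2 hdvd
      rw [Nat.cast_sub hx, sub_eq_zero] at this
      simpa using this
    push_cast at h1 ⊢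
    simp only [h1, one_pow, sum_const, card_range, nsmul_eq_mul, mul_one]
    rw [ZMod.natCast_eq_zero_iff]
    intro h
    have := Nat.le_of_dvd (by omega) h
    omega
  have hS0 : (∑ i ∈ range k, (q ^ d) ^ i) ≠ 0 := fun h => hS (h ▸ dvd_zero r)
  rw [padicValNat.mul (by omega) hS0, padicValNat.eq_zero_of_not_dvd hS, add_zero]


end arith1

section arith2
open Finset

variable {r : ℕ} [hr : Fact r.Prime] {q : ℕ}

theorem val_GL_card (hq : 2 ≤ q) (hrq : ¬ r ∣ q) (n : ℕ) (hnr : n < r) :
    (∏ i : Fin n, (q ^ n - q ^ (i : ℕ))).factorization r =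
      (n / orderOf (q : ZMod r)) * padicValNat r (q ^ orderOf (q : ZMod r) - 1) := by
  set d := orderOf (q : ZMod r) with hd
  have hq1 : 1 ≤ q := by omega
  have hrp : r.Prime := hr.out
  have hd1 : 1 ≤ d := by
    have hunit : IsUnit (q : ZMod r) := by
      rw [ZMod.isUnit_iff_coprime]
      exact ((Nat.Prime.coprime_iff_not_dvd hrp).2 hrq).symm
    have : IsOfFinOrder (q : ZMod r) := by
      obtain ⟨u, hu⟩ := hunit
      rw [← hu, Units.isOfFinOrder_val]
      exact isOfFinOrder_of_finite u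
    exact this.orderOf_pos
  rw [Fin.prod_univ_eq_prod_range (fun i => q ^ n - q ^ i) n]
  have hne : ∀ i ∈ range n, q ^ n - q ^ i ≠ 0 := by
    intro i hi
    rw [mem_range] at hi
    have : q ^ i < q ^ n := Nat.pow_lt_pow_right (by omega) hi
    omega
  rw [Nat.factorization_prod_apply hne]
  have hterm : ∀ i ∈ range n, (q ^ n - q ^ i).factorization r =
      if d ∣ n - i then padicValNat r (q ^ d - 1) else 0 := by
    intro i hi
    rw [mem_range] at hi
    have h1 : q ^ n - q ^ i = q ^ i * (q ^ (n - i) - 1) := by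
      rw [Nat.mul_sub, mul_one, ← pow_add, Nat.add_sub_cancel' hi.le]
    have h2 : q ^ (n - i) - 1 ≠ 0 := by
      have : 1 < q ^ (n - i) := Nat.one_lt_pow (by omega) (by omega)
      omega
    rw [h1, Nat.factorization_mul (by positivity) h2, Finsupp.add_apply,
      Nat.factorization_eq_zero_of_not_dvd (fun h => hrq (hrp.dvd_of_dvd_pow h)), zero_add,
      Nat.factorization_def _ hrp]
    split_ifs with hdvd
    · obtain ⟨k, hk⟩ := hdvd
      rw [hk]
      have hk1 : 1 ≤ k := by
        rcases Nat.eq_zero_or_pos k with h | h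
        · rw [h, mul_zero] at hk; omega
        · exact h
      have hkr : k < r := by
        have : k ≤ d * k := Nat.le_mul_of_pos_left k hd1
        omega
      exact val_pow_mul hq d k hd1 ((dvd_pow_sub_one_iff hq1 d).2 dvd_rfl) hk1 hkr
    · exact padicValNat.eq_zero_of_not_dvd (fun h => hdvd ((dvd_pow_sub_one_iff hq1 _).1 h))
  rw [sum_congr rfl hterm, sum_ite, sum_const_zero, add_zero, sum_const, smul_eq_mul]
  congr 1
  rw [← Nat.card_multiples n d]
  -- reflect i ↦ n - 1 - i
  apply card_bij (fun i _ => n - 1 - i)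
  · intro i hi
    rw [mem_filter, mem_range] at hi ⊢
    refine ⟨by omega, ?_⟩
    have : n - 1 - i + 1 = n - i := by omega
    rw [this]; exact hi.2
  · intro i hi j hj h
    rw [mem_filter, mem_range] at hi hj
    omega
  · intro j hj
    rw [mem_filter, mem_range] at hj
    refine ⟨n - 1 - j, ?_, by omega⟩
    rw [mem_filter, mem_range]
    refine ⟨by omega, ?_⟩
    have : n - (n - 1 - j) = j + 1 := by omega
    rw [this]; exact hj.2


end arith2

section arith3
open Finset Polynomial

variable {r : ℕ} [hr : Fact r.Prime] {q : ℕ}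

theorem val_cyclotomic (hq : 2 ≤ q) (d : ℕ) (hd : d = orderOf (q : ZMod r)) (hd1 : 1 ≤ d) :
    padicValNat r ((cyclotomic d ℤ).eval (q : ℤ)).natAbs = padicValNat r (q ^ d - 1) := by
  have hq1 : 1 ≤ q := by omega
  have hrp : r.Prime := hr.out
  have hprod : ∏ e ∈ Nat.divisors d, ((cyclotomic e ℤ).eval (q : ℤ)).natAbs = q ^ d - 1 := by
    have h1 := congrArg (Polynomial.eval (q : ℤ)) (prod_cyclotomic_eq_X_pow_sub_one hd1 ℤ)
    rw [eval_prod] at h1
    simp only [eval_sub, eval_pow, eval_X, eval_one] at h1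
    have h2 := congrArg Int.natAbsHom h1
    rw [map_prod] at h2
    simp only [Int.natAbsHom_apply] at h2
    rw [h2]
    have : ((q : ℤ) ^ d - 1) = ((q ^ d - 1 : ℕ) : ℤ) := by
      rw [Nat.cast_sub (Nat.one_le_pow _ _ hq1)]; simp
    rw [this, Int.natAbs_natCast]
  have hne : q ^ d - 1 ≠ 0 := by
    have : 1 < q ^ d := Nat.one_lt_pow (by omega) (by omega)
    omega
  have hne' : ∀ e ∈ Nat.divisors d, ((cyclotomic e ℤ).eval (q : ℤ)).natAbs ≠ 0 := by
    intro e he h0
    apply hne
    rw [← hprod]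
    exact Finset.prod_eq_zero he h0
  have h3 : (q ^ d - 1).factorization r = ∑ e ∈ Nat.divisors d,
      (((cyclotomic e ℤ).eval (q : ℤ)).natAbs).factorization r := by
    rw [← hprod, Nat.factorization_prod_apply hne']
  rw [← Nat.factorization_def _ hrp, ← Nat.factorization_def _ hrp, h3]
  symm
  apply Finset.sum_eq_single_of_mem d (Nat.mem_divisors_self d (by omega))
  intro e he hed
  apply Nat.factorization_eq_zero_of_not_dvd
  intro hdvd
  -- r ∣ Φ_e(q) ∣ q^e - 1, so d ∣ e
  have h4 : (cyclotomic e ℤ).eval (q : ℤ) ∣ (q : ℤ) ^ e - 1 := by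
    have := Polynomial.eval_dvd (x := (q : ℤ)) (cyclotomic.dvd_X_pow_sub_one e ℤ)
    simpa using this
  have h5 : (r : ℤ) ∣ (q : ℤ) ^ e - 1 := by
    exact dvd_trans (Int.natCast_dvd.2 hdvd) h4
  have h6 : r ∣ q ^ e - 1 := by
    have : ((q : ℤ) ^ e - 1) = ((q ^ e - 1 : ℕ) : ℤ) := by
      rw [Nat.cast_sub (Nat.one_le_pow _ _ hq1)]; simp
    rw [this] at h5
    exact Int.natCast_dvd_natCast.1 h5
  have h7 := (dvd_pow_sub_one_iff hq1 e).1 h6
  rw [← hd] at h7
  have h8 : e ∣ d := Nat.dvd_of_mem_divisors he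
  exact hed (Nat.dvd_antisymm h8 h7)


end arith3

open Module

section gen
variable {G : Type*} [Group G] [Finite G] {r : ℕ} [Fact r.Prime]

theorem sylow_iso_of_embedding (A : Type*) [Group A] (χ : A →* G) (hχ : Function.Injective χ)
    (hcard : Nat.card A = r ^ (Nat.card G).factorization r) (P : Sylow r G) : Nonempty (↥(P : Subgroup G) ≃* A) := by
  have e : A ≃* χ.range := MonoidHom.ofInjective hχ
  have hQ : Nat.card χ.range = r ^ (Nat.card G).factorization r := by
    rw [← Nat.card_congr e.toEquiv, hcard]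
  let Q : Sylow r G := Sylow.ofCard χ.range hQ
  exact ⟨(Sylow.equiv P Q).trans e.symm⟩

theorem cyclic_embed (C : Type*) [Group C] [IsCyclic C] [Finite C] (m : ℕ) (hm : m ∣ Nat.card C) :
    ∃ f : Multiplicative (ZMod m) →* C, Function.Injective f := by
  obtain ⟨g, hg⟩ := IsCyclic.exists_generator (α := C)
  have hord : orderOf g = Nat.card C := orderOf_eq_card_of_forall_mem_zpowers hg
  obtain ⟨k, hk⟩ := hm
  have hpos : 0 < Nat.card C := Nat.card_pos
  have hk0 : k ≠ 0 := by
    rintro rfl; rw [mul_zero] at hk; omega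
  have hm0 : m ≠ 0 := by
    rintro rfl; rw [zero_mul] at hk; omega
  have hord' : orderOf (g ^ k) = m := by
    rw [orderOf_pow_of_dvd hk0 (by rw [hord, hk]; exact dvd_mul_left k m), hord, hk,
      Nat.mul_div_cancel _ (Nat.pos_of_ne_zero hk0)]
  have hcardH : Nat.card (Subgroup.zpowers (g ^ k)) = m := by rw [Nat.card_zpowers, hord']
  obtain ⟨e⟩ : Nonempty (Multiplicative (ZMod m) ≃* Subgroup.zpowers (g ^ k)) := by
    rw [← hcardH]
    exact ⟨zmodCyclicMulEquiv (Subgroup.isCyclic_zpowers _)⟩
  refine ⟨(Subgroup.zpowers (g ^ k)).subtype.comp e.toMonoidHom, ?_⟩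
  exact (Subgroup.subtype_injective _).comp e.injective

end gen

section torus
variable {F : Type*} [Field F] {E : Type*} [Field E] [Algebra F E]

/-- action of the torus on the space -/
noncomputable def torusEnd (a b : ℕ) (c : Fin a → E) :
    Module.End F ((Fin a → E) × (Fin b → F)) :=
  LinearMap.prodMap (LinearMap.mulLeft F c) LinearMap.id

theorem torusEnd_one (a b : ℕ) : torusEnd (F := F) (E := E) a b 1 = 1 := by
  unfold torusEnd
  rw [LinearMap.mulLeft_one]
  exact LinearMap.prodMap_one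

theorem torusEnd_mul (a b : ℕ) (c c' : Fin a → E) :
    torusEnd (F := F) a b (c * c') = torusEnd a b c * torusEnd a b c' := by
  unfold torusEnd
  rw [LinearMap.mulLeft_mul]
  apply LinearMap.ext
  rintro ⟨x, y⟩
  rfl

/-- the torus hom -/
noncomputable def torusHom (a b : ℕ) : (Fin a → E) →* Module.End F ((Fin a → E) × (Fin b → F)) where
  toFun := torusEnd a b
  map_one' := torusEnd_one a b
  map_mul' := torusEnd_mul a b

theorem torusHom_injective (a b : ℕ) : Function.Injective (torusHom (F := F) (E := E) a b) := by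
  intro c c' h
  have := congrArg (fun f : Module.End F ((Fin a → E) × (Fin b → F)) => (f (1, 0)).1) h
  simpa [torusHom, torusEnd] using this

end torus

open Module

open scoped MatrixGroups

theorem finrank_torus {F : Type*} [Field F] {E : Type*} [Field E] [Algebra F E] [Module.Finite F E]
    (a b d : ℕ) (hd : finrank F E = d) : finrank F ((Fin a → E) × (Fin b → F)) = a * d + b := by
  rw [Module.finrank_prod, Module.finrank_pi_fintype, Module.finrank_fin_fun]
  simp [hd]

/-- the torus embedding into GL -/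
noncomputable def torusGL {F : Type*} [Field F] {E : Type*} [Field E] [Algebra F E] [Module.Finite F E]
    (a b n : ℕ) (hn : finrank F ((Fin a → E) × (Fin b → F)) = n) : (Fin a → Eˣ) →* GL (Fin n) F :=
  ((Units.mapEquiv (LinearMap.toMatrixAlgEquiv (Module.finBasisOfFinrankEq F _ hn)).toMulEquiv).toMonoidHom.comp
    (Units.map (torusHom (F := F) (E := E) a b))).comp (MulEquiv.piUnits (M := fun _ : Fin a => E)).symm.toMonoidHom

theorem torusGL_injective {F : Type*} [Field F] {E : Type*} [Field E] [Algebra F E] [Module.Finite F E]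
    (a b n : ℕ) (hn : finrank F ((Fin a → E) × (Fin b → F)) = n) :
    Function.Injective (torusGL (F := F) (E := E) a b n hn) := by
  unfold torusGL
  rw [MonoidHom.coe_comp, MonoidHom.coe_comp]
  refine Function.Injective.comp (Function.Injective.comp ?_ ?_) ?_
  · exact MulEquiv.injective _
  · exact Units.map_injective (torusHom_injective a b)
  · exact MulEquiv.injective _

theorem GL_sylow {F : Type*} [Field F] [Fintype F] {q : ℕ} (hq : Fintype.card F = q) (n : ℕ)
    (r : ℕ) [Fact r.Prime] (hrn : n < r) (hrq : ¬ r ∣ q) (P : Sylow r (GL (Fin n) F)) :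
    Nonempty (↥(P : Subgroup (GL (Fin n) F)) ≃*
      (Fin (n / orderOf (q : ZMod r)) →
        Multiplicative (ZMod (r ^ padicValNat r (q ^ orderOf (q : ZMod r) - 1))))) := by
  obtain ⟨p, hp⟩ := CharP.exists F
  have : Fact p.Prime := ⟨CharP.char_is_prime F p⟩
  have hq2 : 2 ≤ q := by rw [← hq]; exact Fintype.one_lt_card
  set d := orderOf (q : ZMod r) with hd
  have hrp : r.Prime := Fact.out
  have hd1 : 1 ≤ d := by
    have hunit : IsUnit (q : ZMod r) := by
      rw [ZMod.isUnit_iff_coprime]
      exact ((Nat.Prime.coprime_iff_not_dvd hrp).2 hrq).symm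
    have : IsOfFinOrder (q : ZMod r) := by
      obtain ⟨u, hu⟩ := hunit
      rw [← hu, Units.isOfFinOrder_val]
      exact isOfFinOrder_of_finite u
    exact this.orderOf_pos
  have : NeZero d := ⟨by omega⟩
  let E := FiniteField.Extension F p d
  set a := n / d with ha
  set b := n % d with hb
  have hab : a * d + b = n := Nat.div_add_mod' n d
  have hfr : finrank F E = d := FiniteField.finrank_extension F p d
  have hV : finrank F ((Fin a → E) × (Fin b → F)) = n := by
    rw [finrank_torus a b d hfr, hab]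
  set e := padicValNat r (q ^ d - 1) with he
  have hcardE : Nat.card Eˣ = q ^ d - 1 := by
    rw [Nat.card_units, FiniteField.natCard_extension, Nat.card_eq_fintype_card, hq]
  have hdvd : r ^ e ∣ Nat.card Eˣ := by
    rw [hcardE]; exact pow_padicValNat_dvd
  obtain ⟨f, hf⟩ := cyclic_embed Eˣ (r ^ e) hdvd
  let χ : (Fin a → Multiplicative (ZMod (r ^ e))) →* GL (Fin n) F :=
    (torusGL (F := F) (E := E) a b n hV).comp (MonoidHom.pi fun i => f.comp (Pi.evalMonoidHom _ i))
  have hχ : Function.Injective χ := by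
    refine (torusGL_injective a b n hV).comp ?_
    intro x y hxy
    funext i
    apply hf
    exact congrFun hxy i
  apply sylow_iso_of_embedding _ χ hχ
  have hne : NeZero (r ^ e) := ⟨pow_ne_zero _ hrp.ne_zero⟩
  rw [Nat.card_fun, Nat.card_eq_fintype_card (α := Fin a), Fintype.card_fin,
    Nat.card_congr (Multiplicative.toAdd (α := ZMod (r ^ e))), Nat.card_zmod,
    Matrix.card_GL_field, hq, val_GL_card hq2 hrq n hrn, ← pow_mul, mul_comm]


end Cfsg.Agent.Lib.Helper40
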