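/-
helper40 library: Sylow r-subgroups of SL_n(q) for primes r > n, r ∤ q; |GL_n(q)| = |SL_n(q)| (q-1).
-/
import Mathlib
import Cfsg.Agent.Lib.Helper40.SylowTorus

set_option autoImplicit false

namespace Cfsg.Agent.Lib.Helper40
open scoped MatrixGroups
open Matrix


theorem det_surjective {F : Type*} [Field F] (k : ℕ) :
    Function.Surjective (Matrix.GeneralLinearGroup.det (n := Fin (k + 1)) (R := F)) := by
  intro u
  have hdet : (Matrix.diagonal (Function.update (fun _ : Fin (k + 1) => (1 : F)) 0 (u : F))).det = u := by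
    rw [Matrix.det_diagonal, Finset.prod_update_of_mem (Finset.mem_univ _)]
    simp
  refine ⟨Matrix.GeneralLinearGroup.mkOfDetNeZero _ (by rw [hdet]; exact u.ne_zero), ?_⟩
  apply Units.ext
  exact hdet

theorem range_toGL {F : Type*} [Field F] (n : ℕ) :
    (Matrix.SpecialLinearGroup.toGL (n := Fin n) (R := F)).range =
      (Matrix.GeneralLinearGroup.det (n := Fin n) (R := F)).ker := by
  ext g
  rw [MonoidHom.mem_range, MonoidHom.mem_ker]
  constructor
  · rintro ⟨s, rfl⟩
    apply Units.ext
    exact s.2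
  · intro h
    have h1 : (g : Matrix (Fin n) (Fin n) F).det = 1 := by
      have := congrArg Units.val h
      simpa using this
    exact ⟨⟨g, h1⟩, by ext; rfl⟩

theorem card_GL_eq_card_SL_mul {F : Type*} [Field F] [Fintype F] (k : ℕ) :
    Nat.card (GL (Fin (k + 1)) F) = Nat.card (SL(k + 1, F)) * (Fintype.card F - 1) := by
  have h1 := Subgroup.card_mul_index (Matrix.GeneralLinearGroup.det (n := Fin (k + 1)) (R := F)).ker
  rw [Subgroup.index_ker, MonoidHom.range_eq_top.2 (det_surjective k)] at h1
  rw [← h1, ← range_toGL, Subgroup.card_top, Nat.card_units, Nat.card_eq_fintype_card (α := F)]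
  congr 1
  exact (Nat.card_congr (MonoidHom.ofInjective Matrix.SpecialLinearGroup.toGL_injective).toEquiv).symm



/-- lifting an embedding into GL with determinant one to SL -/
theorem lift_to_SL {F : Type*} [Field F] (n : ℕ) (A : Type*) [Group A] (ι : A →* GL (Fin n) F)
    (hι : Function.Injective ι) (hdet : ∀ x, Matrix.GeneralLinearGroup.det (ι x) = 1) :
    ∃ χ : A →* SL(n, F), Function.Injective χ := by
  have hmem : ∀ x, ι x ∈ (Matrix.SpecialLinearGroup.toGL (n := Fin n) (R := F)).range := by
    intro x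
    have h1 : ((ι x : GL (Fin n) F) : Matrix (Fin n) (Fin n) F).det = 1 := by
      have := congrArg Units.val (hdet x)
      simpa using this
    exact ⟨⟨ι x, h1⟩, by ext; rfl⟩
  refine ⟨(MonoidHom.ofInjective Matrix.SpecialLinearGroup.toGL_injective).symm.toMonoidHom.comp
    (ι.codRestrict _ hmem), ?_⟩
  rw [MonoidHom.coe_comp]
  refine Function.Injective.comp (MulEquiv.injective _) ?_
  intro x y hxy
  apply hι
  have := congrArg Subtype.val hxy
  simpa using this

/-- the diagonal embedding of (F^×)^n into GL_n -/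
noncomputable def diagGL {F : Type*} [Field F] (n : ℕ) : (Fin n → Fˣ) →* GL (Fin n) F :=
  (Units.map (Matrix.diagonalRingHom (Fin n) F).toMonoidHom).comp
    (MulEquiv.piUnits (M := fun _ : Fin n => F)).symm.toMonoidHom

theorem diagGL_val {F : Type*} [Field F] (n : ℕ) (u : Fin n → Fˣ) :
    ((diagGL n u : GL (Fin n) F) : Matrix (Fin n) (Fin n) F) = Matrix.diagonal (fun i => (u i : F)) := by
  rfl

theorem diagGL_injective {F : Type*} [Field F] (n : ℕ) : Function.Injective (diagGL (F := F) n) := by
  intro u v h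
  have h1 := congrArg (fun g : GL (Fin n) F => (g : Matrix (Fin n) (Fin n) F)) h
  simp only [diagGL_val] at h1
  have h2 := Matrix.diagonal_injective h1
  funext i
  apply Units.ext
  exact congrFun h2 i

theorem diagGL_det {F : Type*} [Field F] (n : ℕ) (u : Fin n → Fˣ) :
    Matrix.GeneralLinearGroup.det (diagGL n u) = ∏ i, u i := by
  apply Units.ext
  change ((diagGL n u : GL (Fin n) F) : Matrix (Fin n) (Fin n) F).det = _
  rw [diagGL_val, Matrix.det_diagonal]
  simp

/-- extend a k-tuple by the inverse of its product -/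
def extInv {C : Type*} [CommGroup C] (k : ℕ) : (Fin k → C) →* (Fin (k + 1) → C) where
  toFun u := fun i => if h : i.val < k then u ⟨i.val, h⟩ else (∏ j, u j)⁻¹
  map_one' := by
    funext i
    simp
  map_mul' u v := by
    funext i
    simp only [Pi.mul_apply]
    split_ifs
    · rfl
    · rw [Finset.prod_mul_distrib, mul_inv]

theorem extInv_prod {C : Type*} [CommGroup C] (k : ℕ) (u : Fin k → C) : ∏ i, extInv k u i = 1 := by
  rw [Fin.prod_univ_castSucc]
  simp [extInv]

theorem extInv_injective {C : Type*} [CommGroup C] (k : ℕ) : Function.Injective (extInv (C := C) k) := by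
  intro u v h
  funext j
  have := congrFun h (Fin.castSucc j)
  simpa [extInv] using this


theorem order_pos {r : ℕ} [Fact r.Prime] {q : ℕ} (hrq : ¬ r ∣ q) : 1 ≤ orderOf (q : ZMod r) := by
  have hrp : r.Prime := Fact.out
  have hunit : IsUnit (q : ZMod r) := by
    rw [ZMod.isUnit_iff_coprime]
    exact ((Nat.Prime.coprime_iff_not_dvd hrp).2 hrq).symm
  have : IsOfFinOrder (q : ZMod r) := by
    obtain ⟨u, hu⟩ := hunit
    rw [← hu, Units.isOfFinOrder_val]
    exact isOfFinOrder_of_finite u
  exact this.orderOf_pos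

theorem card_filter_Icc_two (n d : ℕ) (hd : 2 ≤ d) :
    ((Finset.Icc 2 n).filter (fun i => d ∣ i)).card = n / d := by
  rw [← Nat.Ioc_filter_dvd_card_eq_div n d]
  congr 1
  ext i
  simp only [Finset.mem_filter, Finset.mem_Icc, Finset.mem_Ioc]
  constructor
  · rintro ⟨⟨h1, h2⟩, h3⟩
    exact ⟨⟨by omega, h2⟩, h3⟩
  · rintro ⟨⟨h1, h2⟩, h3⟩
    refine ⟨⟨?_, h2⟩, h3⟩
    by_contra hlt
    have : i = 1 := by omega
    subst this
    have := Nat.le_of_dvd (by norm_num) h3
    omega

theorem card_filter_Icc_one (n : ℕ) :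
    ((Finset.Icc 2 n).filter (fun i => 1 ∣ i)).card = n - 1 := by
  simp

theorem SL_sylow {F : Type*} [Field F] [Fintype F] {q : ℕ} (hq : Fintype.card F = q) (n : ℕ)
    (r : ℕ) [Fact r.Prime] (hrn : n < r) (hrq : ¬ r ∣ q) (P : Sylow r (Matrix.SpecialLinearGroup (Fin n) F)) :
    Nonempty (↥(P : Subgroup (Matrix.SpecialLinearGroup (Fin n) F)) ≃*
      (Fin ((Finset.Icc 2 n).filter (fun i => orderOf (q : ZMod r) ∣ i)).card →
        Multiplicative (ZMod (r ^ padicValNat r (q ^ orderOf (q : ZMod r) - 1))))) := by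
  have hrp : r.Prime := Fact.out
  have hq2 : 2 ≤ q := by rw [← hq]; exact Fintype.one_lt_card
  have hd1 := order_pos (r := r) hrq
  set d := orderOf (q : ZMod r) with hd
  set e := padicValNat r (q ^ d - 1) with he
  rcases Nat.eq_zero_or_pos n with hn0 | hnpos
  · -- trivial group
    subst hn0
    have hc : ((Finset.Icc 2 0).filter (fun i => d ∣ i)).card = 0 := by simp
    rw [hc]
    have : Subsingleton (Matrix.SpecialLinearGroup (Fin 0) F) := ⟨fun a b => Subtype.ext (Subsingleton.elim _ _)⟩
    have : Unique ↥(P : Subgroup (Matrix.SpecialLinearGroup (Fin 0) F)) := ⟨⟨1⟩, fun a => Subsingleton.elim _ _⟩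
    exact ⟨MulEquiv.ofUnique⟩
  obtain ⟨k, rfl⟩ : ∃ k, n = k + 1 := ⟨n - 1, by omega⟩
  -- orders
  have hGL : (Nat.card (GL (Fin (k + 1)) F)).factorization r = ((k + 1) / d) * e := by
    rw [Matrix.card_GL_field, hq, val_GL_card hq2 hrq (k + 1) hrn]
  have hq1ne : q - 1 ≠ 0 := by omega
  have hSLne : Nat.card (Matrix.SpecialLinearGroup (Fin (k + 1)) F) ≠ 0 := Nat.card_pos.ne'
  have hsplit : (Nat.card (GL (Fin (k + 1)) F)).factorization r =
      (Nat.card (Matrix.SpecialLinearGroup (Fin (k + 1)) F)).factorization r + (q - 1).factorization r := by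
    rw [card_GL_eq_card_SL_mul, hq, Nat.factorization_mul hSLne hq1ne, Finsupp.add_apply]
  have hne : NeZero (r ^ e) := ⟨pow_ne_zero _ hrp.ne_zero⟩
  have hcardA : ∀ a : ℕ, Nat.card (Fin a → Multiplicative (ZMod (r ^ e))) = r ^ (a * e) := by
    intro a
    rw [Nat.card_fun, Nat.card_eq_fintype_card (α := Fin a), Fintype.card_fin,
      Nat.card_congr (Multiplicative.toAdd (α := ZMod (r ^ e))), Nat.card_zmod, ← pow_mul, mul_comm]
  rcases Nat.lt_or_ge d 2 with hdlt | hdge
  · -- d = 1
    have hd1' : d = 1 := by omega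
    have he' : e = padicValNat r (q - 1) := by rw [he, hd1', pow_one]
    have hcnt : ((Finset.Icc 2 (k + 1)).filter (fun i => d ∣ i)).card = k := by
      rw [hd1', card_filter_Icc_one]; simp
    rw [hcnt]
    have hv : (Nat.card (Matrix.SpecialLinearGroup (Fin (k + 1)) F)).factorization r = k * e := by
      have h1 : (q - 1).factorization r = e := by rw [Nat.factorization_def _ hrp, he']
      rw [hGL, h1, hd1', Nat.div_one, add_mul, one_mul] at hsplit
      omega
    -- embedding
    have hdvd : r ^ e ∣ Nat.card Fˣ := by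
      rw [Nat.card_units, Nat.card_eq_fintype_card, hq, he']; exact pow_padicValNat_dvd
    obtain ⟨f, hf⟩ := cyclic_embed Fˣ (r ^ e) hdvd
    let ι : (Fin k → Multiplicative (ZMod (r ^ e))) →* GL (Fin (k + 1)) F :=
      ((diagGL (F := F) (k + 1)).comp (extInv (C := Fˣ) k)).comp
        (MonoidHom.pi fun i => f.comp (Pi.evalMonoidHom _ i))
    have hι : Function.Injective ι := by
      refine ((diagGL_injective (k + 1)).comp (extInv_injective k)).comp ?_
      intro x y hxy
      funext i
      apply hf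
      exact congrFun hxy i
    have hdet : ∀ x, Matrix.GeneralLinearGroup.det (ι x) = 1 := by
      intro x
      change Matrix.GeneralLinearGroup.det (diagGL (k + 1) (extInv k _)) = 1
      rw [diagGL_det, extInv_prod]
    obtain ⟨χ, hχ⟩ := lift_to_SL (k + 1) _ ι hι hdet
    apply sylow_iso_of_embedding _ χ hχ
    rw [hcardA, hv]
  · -- d ≥ 2
    have hcnt : ((Finset.Icc 2 (k + 1)).filter (fun i => d ∣ i)).card = (k + 1) / d :=
      card_filter_Icc_two _ _ hdge
    rw [hcnt]
    have hndvd : ¬ r ∣ q - 1 := by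
      intro h
      have h1 : r ∣ q ^ 1 - 1 := by simpa using h
      have := (dvd_pow_sub_one_iff (r := r) (by omega : 1 ≤ q) 1).1 h1
      rw [← hd] at this
      have := Nat.le_of_dvd (by norm_num) this
      omega
    have hv : (Nat.card (Matrix.SpecialLinearGroup (Fin (k + 1)) F)).factorization r = ((k + 1) / d) * e := by
      rw [hGL, Nat.factorization_eq_zero_of_not_dvd hndvd, add_zero] at hsplit
      exact hsplit.symm
    -- embedding from a Sylow subgroup of GL
    obtain ⟨PGL⟩ : Nonempty (Sylow r (GL (Fin (k + 1)) F)) := inferInstance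
    obtain ⟨eqv⟩ := GL_sylow hq (k + 1) r hrn hrq PGL
    rw [← hd, ← he] at eqv
    let ι : (Fin ((k + 1) / d) → Multiplicative (ZMod (r ^ e))) →* GL (Fin (k + 1)) F :=
      (PGL : Subgroup (GL (Fin (k + 1)) F)).subtype.comp eqv.symm.toMonoidHom
    have hι : Function.Injective ι := (Subgroup.subtype_injective _).comp eqv.symm.injective
    have hdet : ∀ x, Matrix.GeneralLinearGroup.det (ι x) = 1 := by
      intro x
      have h1 : (Matrix.GeneralLinearGroup.det (ι x)) ^ (r ^ (((k + 1) / d) * e)) = 1 := by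
        rw [← map_pow, ← map_pow, ← hcardA]
        rw [pow_card_eq_one', map_one, map_one]
      have h2 : (Matrix.GeneralLinearGroup.det (ι x)) ^ (q - 1) = 1 := by
        have : Nat.card Fˣ = q - 1 := by rw [Nat.card_units, Nat.card_eq_fintype_card, hq]
        rw [← this]; exact pow_card_eq_one'
      have hcop : Nat.Coprime (r ^ (((k + 1) / d) * e)) (q - 1) :=
        Nat.Coprime.pow_left _ ((Nat.Prime.coprime_iff_not_dvd hrp).2 hndvd)
      have h3 := orderOf_dvd_of_pow_eq_one h1
      have h4 := orderOf_dvd_of_pow_eq_one h2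
      have h5 := Nat.eq_one_of_dvd_coprimes hcop h3 h4
      exact orderOf_eq_one_iff.1 h5
    obtain ⟨χ, hχ⟩ := lift_to_SL (k + 1) _ ι hι hdet
    apply sylow_iso_of_embedding _ χ hχ
    rw [hcardA, hv]

end Cfsg.Agent.Lib.Helper40
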