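import Mathlib
import Cfsg.Agent.S2364
import Cfsg.Agent.Lib.Helper40.SylowTorus
import Cfsg.Agent.Lib.Helper40.SylowSL

/-!
# Element orders in `PSL_n(q)` (helper40)

* `exists_dims_of_commuting_pair(_matrix)`: two commuting semisimple elements of distinct prime orders.
* `mk_pow_eq_one_iff`, `orderOf_mk_eq_of_coprime`: powers and orders in `PSL`.
* `exists_orderOf_GL`, `exists_orderOf_GL_mul`, `exists_SL_of_GL_coprime`: torus elements.
* `exists_dvd_pow_sub_one_of_dvd_card_PSL`: primes dividing the order of `PSL_n(q)`.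
-/

set_option autoImplicit false
set_option linter.unusedSectionVars false

namespace Cfsg.Agent.Lib.Helper40

open Module Cfsg.Agent.S2364

section lin
variable {F : Type*} [Field F] [Fintype F] {W : Type*} [AddCommGroup W] [Module F W]
  [FiniteDimensional F W]

/-- coprime action: fixed points and commutator space are disjoint -/
theorem disjoint_ker_range (r : ℕ) (hrF : (r : F) ≠ 0) (S : Module.End F W) (hS : S ^ r = 1) :
    Disjoint (LinearMap.ker (S - 1)) (LinearMap.range (S - 1)) := by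
  rw [Submodule.disjoint_def]
  intro v hvP hvR
  have hT : (∑ i ∈ Finset.range r, S ^ i) * (S - 1) = 0 := by
    rw [geom_sum_mul, hS, sub_self]
  obtain ⟨w, rfl⟩ := hvR
  have h1 : (∑ i ∈ Finset.range r, S ^ i) ((S - 1) w) = 0 := by
    rw [← Module.End.mul_apply, hT, LinearMap.zero_apply]
  have hSv : S ((S - 1) w) = (S - 1) w := by
    rw [LinearMap.mem_ker, LinearMap.sub_apply, Module.End.one_apply, sub_eq_zero] at hvP
    exact hvP
  have h2 : ∀ i : ℕ, (S ^ i) ((S - 1) w) = (S - 1) w := by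
    intro i
    induction i with
    | zero => rfl
    | succ i ih => rw [pow_succ, Module.End.mul_apply, hSv, ih]
  rw [LinearMap.sum_apply, Finset.sum_congr rfl (fun i _ => h2 i), Finset.sum_const,
    Finset.card_range, ← Nat.cast_smul_eq_nsmul F] at h1
  rcases smul_eq_zero.mp h1 with h | h
  · exact absurd h hrF
  · exact h

/-- fixed-point-free counting on an invariant subspace of the commutator space -/
theorem pow_finrank_modEq_one_of_le_range (r : ℕ) [Fact r.Prime] (hrF : (r : F) ≠ 0)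
    (S : Module.End F W) (hS : S ^ r = 1) (U : Submodule F W) (hU : ∀ v ∈ U, S v ∈ U)
    (hUR : U ≤ LinearMap.range (S - 1)) :
    Fintype.card F ^ Module.finrank F U ≡ 1 [MOD r] := by
  apply pow_finrank_modEq_one r (S.restrict hU)
  · rw [Module.End.pow_restrict r hU]
    apply LinearMap.ext
    intro v
    apply Subtype.ext
    rw [LinearMap.restrict_apply]
    simp only [hS, Module.End.one_apply]
  · intro v hv
    have h1 : S v.1 = v.1 := congrArg Subtype.val hv
    have h2 : v.1 ∈ LinearMap.ker (S - 1) := by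
      rw [LinearMap.mem_ker, LinearMap.sub_apply, Module.End.one_apply, h1, sub_self]
    apply Subtype.ext
    exact Submodule.disjoint_def.mp (disjoint_ker_range r hrF S hS) v.1 h2 (hUR v.2)

/-- two commuting semisimple elements of distinct prime orders -/
theorem exists_dims_of_commuting_pair (r s : ℕ) [Fact r.Prime] [Fact s.Prime]
    (hrF : (r : F) ≠ 0) (hsF : (s : F) ≠ 0)
    (S₁ S₂ : Module.End F W) (h₁ : S₁ ^ r = 1) (h₂ : S₂ ^ s = 1) (h₁1 : S₁ ≠ 1) (h₂1 : S₂ ≠ 1)
    (hc : Commute S₁ S₂) :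
    (∃ d, d ≠ 0 ∧ d ≤ Module.finrank F W ∧ Fintype.card F ^ d ≡ 1 [MOD r] ∧
      Fintype.card F ^ d ≡ 1 [MOD s]) ∨
    (∃ d₁ d₂, d₁ ≠ 0 ∧ d₂ ≠ 0 ∧ d₁ + d₂ ≤ Module.finrank F W ∧
      Fintype.card F ^ d₁ ≡ 1 [MOD r] ∧ Fintype.card F ^ d₂ ≡ 1 [MOD s]) := by
  set R₁ := LinearMap.range (S₁ - 1) with hR₁
  set R₂ := LinearMap.range (S₂ - 1) with hR₂
  have hc12 : Commute S₁ (S₂ - 1) := hc.sub_right (Commute.one_right _)
  have hc21 : Commute S₂ (S₁ - 1) := hc.symm.sub_right (Commute.one_right _)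
  have hc11 : Commute S₁ (S₁ - 1) := (Commute.refl S₁).sub_right (Commute.one_right _)
  have hc22 : Commute S₂ (S₂ - 1) := (Commute.refl S₂).sub_right (Commute.one_right _)
  have inv : ∀ (A B : Module.End F W), Commute A B → ∀ v ∈ LinearMap.range B,
      A v ∈ LinearMap.range B := by
    intro A B hAB v hv
    obtain ⟨w, rfl⟩ := hv
    refine ⟨A w, ?_⟩
    rw [← Module.End.mul_apply, ← Module.End.mul_apply, hAB.eq]
  have hR₁0 : Module.finrank F R₁ ≠ 0 := by
    intro h
    have h1 : R₁ = ⊥ := Submodule.finrank_eq_zero.mp h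
    apply h₁1
    have h2 : S₁ - 1 = 0 := LinearMap.range_eq_bot.mp h1
    exact sub_eq_zero.mp h2
  have hR₂0 : Module.finrank F R₂ ≠ 0 := by
    intro h
    have h1 : R₂ = ⊥ := Submodule.finrank_eq_zero.mp h
    apply h₂1
    have h2 : S₂ - 1 = 0 := LinearMap.range_eq_bot.mp h1
    exact sub_eq_zero.mp h2
  by_cases hW : R₁ ⊓ R₂ = ⊥
  · right
    refine ⟨Module.finrank F R₁, Module.finrank F R₂, hR₁0, hR₂0, ?_, ?_, ?_⟩
    · exact Submodule.finrank_add_finrank_le_of_disjoint (disjoint_iff.mpr hW)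
    · exact pow_finrank_modEq_one_of_le_range r hrF S₁ h₁ R₁ (inv _ _ hc11) le_rfl
    · exact pow_finrank_modEq_one_of_le_range s hsF S₂ h₂ R₂ (inv _ _ hc22) le_rfl
  · left
    refine ⟨Module.finrank F ↥(R₁ ⊓ R₂), ?_, Submodule.finrank_le _, ?_, ?_⟩
    · intro h
      exact hW (Submodule.finrank_eq_zero.mp h)
    · apply pow_finrank_modEq_one_of_le_range r hrF S₁ h₁ (R₁ ⊓ R₂) ?_ inf_le_left
      intro v hv
      exact ⟨inv _ _ hc11 v hv.1, inv _ _ hc12 v hv.2⟩
    · apply pow_finrank_modEq_one_of_le_range s hsF S₂ h₂ (R₁ ⊓ R₂) ?_ inf_le_right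
      intro v hv
      exact ⟨inv _ _ hc21 v hv.1, inv _ _ hc22 v hv.2⟩

end lin

section mat
open scoped MatrixGroups
open Matrix
variable {F : Type*} [Field F] [Fintype F]

/-- matrix form -/
theorem exists_dims_of_commuting_pair_matrix (r s : ℕ) [Fact r.Prime] [Fact s.Prime]
    (hrF : (r : F) ≠ 0) (hsF : (s : F) ≠ 0) {n : ℕ}
    (S₁ S₂ : Matrix (Fin n) (Fin n) F) (h₁ : S₁ ^ r = 1) (h₂ : S₂ ^ s = 1) (h₁1 : S₁ ≠ 1)
    (h₂1 : S₂ ≠ 1) (hc : S₁ * S₂ = S₂ * S₁) :
    (∃ d, d ≠ 0 ∧ d ≤ n ∧ Fintype.card F ^ d ≡ 1 [MOD r] ∧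
      Fintype.card F ^ d ≡ 1 [MOD s]) ∨
    (∃ d₁ d₂, d₁ ≠ 0 ∧ d₂ ≠ 0 ∧ d₁ + d₂ ≤ n ∧
      Fintype.card F ^ d₁ ≡ 1 [MOD r] ∧ Fintype.card F ^ d₂ ≡ 1 [MOD s]) := by
  have key := exists_dims_of_commuting_pair (W := Fin n → F) r s hrF hsF
    (Matrix.toLinAlgEquiv' S₁) (Matrix.toLinAlgEquiv' S₂)
    (by rw [← map_pow, h₁, map_one]) (by rw [← map_pow, h₂, map_one])
    (fun h => h₁1 (by
      apply (Matrix.toLinAlgEquiv' (R := F) (n := Fin n)).injective
      rw [h, map_one]))
    (fun h => h₂1 (by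
      apply (Matrix.toLinAlgEquiv' (R := F) (n := Fin n)).injective
      rw [h, map_one]))
    (by
      change _ * _ = _ * _
      rw [← map_mul, ← map_mul, hc])
  rw [Module.finrank_fin_fun] at key
  exact key

/-- powers in `PSL` -/
theorem mk_pow_eq_one_iff {n : ℕ} (X : Matrix.SpecialLinearGroup (Fin n) F) (i : ℕ) :
    (QuotientGroup.mk X : Matrix.ProjectiveSpecialLinearGroup (Fin n) F) ^ i = 1 ↔
      ∃ c : F, (X : Matrix (Fin n) (Fin n) F) ^ i = c • 1 := by
  rw [← QuotientGroup.mk_pow, QuotientGroup.eq_one_iff, sl_mem_center_iff_smul]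
  rfl

/-- `r`-th roots in a finite field when `r ∤ q - 1` -/
theorem exists_pow_eq_of_not_dvd (r : ℕ) (hr : r.Prime) (hrq : ¬ r ∣ Fintype.card F - 1)
    (β : F) (hβ0 : β ≠ 0) : ∃ β₀ : F, β₀ ^ r = β := by
  have hcop : (Nat.card Fˣ).Coprime r := by
    rw [Nat.card_units, Nat.card_eq_fintype_card, Nat.coprime_comm]
    exact (Nat.Prime.coprime_iff_not_dvd hr).mpr hrq
  obtain ⟨x, hx⟩ := (powCoprime hcop).surjective (Units.mk0 β hβ0)
  refine ⟨(x : F), ?_⟩
  have := congrArg Units.val hx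
  simpa using this

/-- a scalar of order coprime to `q - 1` is one -/
theorem eq_one_of_pow_eq_one_of_coprime (c : F) (m : ℕ) (hm0 : m ≠ 0)
    (hm : m.Coprime (Fintype.card F - 1)) (hc : c ^ m = 1) : c = 1 := by
  have hc0 : c ≠ 0 := by
    intro h0
    rw [h0, zero_pow hm0] at hc
    exact zero_ne_one hc
  have h1 : c ^ (Fintype.card F - 1) = 1 := FiniteField.pow_card_sub_one_eq_one c hc0
  have h2 := pow_gcd_eq_one.mpr ⟨hc, h1⟩
  rw [Nat.Coprime] at hm
  rw [hm, pow_one] at h2
  exact h2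

/-- the order in `PSL` of an element of `SL` of order coprime to `q - 1` -/
theorem orderOf_mk_eq_of_coprime {n : ℕ} (g : Matrix.SpecialLinearGroup (Fin n) F)
    (h : (orderOf g).Coprime (Fintype.card F - 1)) :
    orderOf (QuotientGroup.mk g : Matrix.ProjectiveSpecialLinearGroup (Fin n) F) = orderOf g := by
  rw [orderOf_eq_orderOf_iff]
  intro i
  constructor
  · intro hi
    rw [mk_pow_eq_one_iff] at hi
    obtain ⟨c, hc⟩ := hi
    rcases Nat.eq_zero_or_pos n with hn | hn
    · subst hn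
      exact Subsingleton.elim _ _
    have hcm : c ^ orderOf g = 1 := by
      have h1 : ((g : Matrix (Fin n) (Fin n) F) ^ i) ^ orderOf g = 1 := by
        rw [← pow_mul, mul_comm, pow_mul]
        have : (g : Matrix (Fin n) (Fin n) F) ^ orderOf g = 1 := by
          have := congrArg (fun X : Matrix.SpecialLinearGroup (Fin n) F =>
            (X : Matrix (Fin n) (Fin n) F)) (pow_orderOf_eq_one g)
          exact this
        rw [this, one_pow]
      rw [hc, smul_pow, one_pow] at h1
      have h2 := congrFun (congrFun h1 ⟨0, hn⟩) ⟨0, hn⟩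
      simpa using h2
    have hc1 := eq_one_of_pow_eq_one_of_coprime c _ (orderOf_pos g).ne' h hcm
    rw [hc1, one_smul] at hc
    apply Subtype.ext
    exact hc
  · intro hi
    rw [← QuotientGroup.mk_pow, hi]
    rfl

end mat

section torus2
variable {F : Type*} [Field F] {E₁ : Type*} [Field E₁] [Algebra F E₁] {E₂ : Type*} [Field E₂]
  [Algebra F E₂]

/-- action of a two-factor torus -/
noncomputable def torus2End (b : ℕ) (c : E₁ × E₂) :
    Module.End F (E₁ × E₂ × (Fin b → F)) :=
  LinearMap.prodMap (LinearMap.mulLeft F c.1) (LinearMap.prodMap (LinearMap.mulLeft F c.2)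
    LinearMap.id)

/-- the two-factor torus hom -/
noncomputable def torus2Hom (b : ℕ) : (E₁ × E₂) →* Module.End F (E₁ × E₂ × (Fin b → F)) where
  toFun := torus2End b
  map_one' := by
    apply LinearMap.ext
    rintro ⟨x, y, z⟩
    simp [torus2End]
  map_mul' c c' := by
    apply LinearMap.ext
    rintro ⟨x, y, z⟩
    simp [torus2End]

theorem torus2Hom_injective (b : ℕ) :
    Function.Injective (torus2Hom (F := F) (E₁ := E₁) (E₂ := E₂) b) := by
  intro c c' h
  have h1 := congrArg (fun f : Module.End F (E₁ × E₂ × (Fin b → F)) => (f (1, 1, 0)).1) h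
  have h2 := congrArg (fun f : Module.End F (E₁ × E₂ × (Fin b → F)) => (f (1, 1, 0)).2.1) h
  simp [torus2Hom, torus2End] at h1 h2
  exact Prod.ext h1 h2

open scoped MatrixGroups in
/-- the two-factor torus in `GL` -/
noncomputable def torus2GL [Module.Finite F E₁] [Module.Finite F E₂] (b n : ℕ)
    (hn : Module.finrank F (E₁ × E₂ × (Fin b → F)) = n) : (E₁ × E₂)ˣ →* GL (Fin n) F :=
  (Units.mapEquiv (LinearMap.toMatrixAlgEquiv (Module.finBasisOfFinrankEq F _ hn)).toMulEquiv).toMonoidHom.comp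
    (Units.map (torus2Hom (F := F) (E₁ := E₁) (E₂ := E₂) b))

open scoped MatrixGroups in
theorem torus2GL_injective [Module.Finite F E₁] [Module.Finite F E₂] (b n : ℕ)
    (hn : Module.finrank F (E₁ × E₂ × (Fin b → F)) = n) :
    Function.Injective (torus2GL (F := F) (E₁ := E₁) (E₂ := E₂) b n hn) := by
  unfold torus2GL
  rw [MonoidHom.coe_comp]
  refine Function.Injective.comp ?_ ?_
  · exact MulEquiv.injective _
  · exact Units.map_injective (torus2Hom_injective b)

end torus2

section exist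
open scoped MatrixGroups
open Matrix
variable {F : Type*} [Field F] [Fintype F]

/-- an element of prime order `r` in the units of an extension of degree `k` -/
theorem exists_orderOf_units_extension (p : ℕ) [Fact p.Prime] [CharP F p] (k : ℕ) [NeZero k]
    (m : ℕ) (hm : m ∣ Fintype.card F ^ k - 1) :
    ∃ u : (FiniteField.Extension F p k)ˣ, orderOf u = m := by
  have hcardE : Nat.card (FiniteField.Extension F p k)ˣ = Fintype.card F ^ k - 1 := by
    rw [Nat.card_units, FiniteField.natCard_extension, Nat.card_eq_fintype_card]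
  obtain ⟨g, hg⟩ := IsCyclic.exists_generator (α := (FiniteField.Extension F p k)ˣ)
  have hog : orderOf g = Fintype.card F ^ k - 1 := by
    rw [← hcardE]
    exact orderOf_eq_card_of_forall_mem_zpowers hg
  have hpos : orderOf g ≠ 0 := (orderOf_pos g).ne'
  refine ⟨g ^ (orderOf g / m), ?_⟩
  exact orderOf_pow_orderOf_div hpos (hog ▸ hm)

end exist

section exist2
open scoped MatrixGroups
open Matrix Module
variable {F : Type*} [Field F] [Fintype F]

/-- an element of order `m` in `GL_n(q)` when `m ∣ q ^ l - 1`, `1 ≤ l ≤ n` -/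
theorem exists_orderOf_GL (p : ℕ) [Fact p.Prime] [CharP F p] (n l : ℕ) (hl1 : 1 ≤ l) (hln : l ≤ n)
    (m : ℕ) (hm : m ∣ Fintype.card F ^ l - 1) : ∃ g : GL (Fin n) F, orderOf g = m := by
  have : NeZero l := ⟨by omega⟩
  obtain ⟨u, hu⟩ := exists_orderOf_units_extension (F := F) p l m hm
  have hfr : finrank F (FiniteField.Extension F p l) = l := FiniteField.finrank_extension F p l
  have hV : finrank F ((Fin 1 → FiniteField.Extension F p l) × (Fin (n - l) → F)) = n := by
    rw [finrank_torus 1 (n - l) l hfr]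
    omega
  let ι : (FiniteField.Extension F p l)ˣ →* (Fin 1 → (FiniteField.Extension F p l)ˣ) :=
    { toFun := fun u _ => u
      map_one' := rfl
      map_mul' := fun _ _ => rfl }
  have hι : Function.Injective ι := by
    intro a b hab
    exact congrFun hab 0
  refine ⟨(torusGL (F := F) (E := FiniteField.Extension F p l) 1 (n - l) n
    hV) (ι u), ?_⟩
  rw [orderOf_injective _ (torusGL_injective 1 (n - l) n hV),
    orderOf_injective ι hι, hu]

/-- an element of order `r * s` in `GL_n(q)` from two tori -/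
theorem exists_orderOf_GL_mul (p : ℕ) [Fact p.Prime] [CharP F p] (n k l : ℕ) (hk1 : 1 ≤ k)
    (hl1 : 1 ≤ l) (hkl : k + l ≤ n) (r s : ℕ) (hrs : r.Coprime s)
    (hr : r ∣ Fintype.card F ^ k - 1) (hs : s ∣ Fintype.card F ^ l - 1) :
    ∃ g : GL (Fin n) F, orderOf g = r * s := by
  have : NeZero k := ⟨by omega⟩
  have : NeZero l := ⟨by omega⟩
  obtain ⟨u₁, hu₁⟩ := exists_orderOf_units_extension (F := F) p k r hr
  obtain ⟨u₂, hu₂⟩ := exists_orderOf_units_extension (F := F) p l s hs
  have hfr₁ : finrank F (FiniteField.Extension F p k) = k := FiniteField.finrank_extension F p k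
  have hfr₂ : finrank F (FiniteField.Extension F p l) = l := FiniteField.finrank_extension F p l
  have hV : finrank F (FiniteField.Extension F p k × FiniteField.Extension F p l ×
      (Fin (n - k - l) → F)) = n := by
    rw [Module.finrank_prod, Module.finrank_prod, Module.finrank_fin_fun, hfr₁, hfr₂]
    omega
  refine ⟨torus2GL (F := F) (E₁ := FiniteField.Extension F p k)
    (E₂ := FiniteField.Extension F p l) (n - k - l) n hV (MulEquiv.prodUnits.symm (u₁, u₂)), ?_⟩
  rw [orderOf_injective _ (torus2GL_injective (n - k - l) n hV),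
    MulEquiv.orderOf_eq, Prod.orderOf_mk, hu₁, hu₂]
  exact hrs.lcm_eq_mul

/-- an element of `GL` of order coprime to `q - 1` has determinant one -/
theorem exists_SL_of_GL_coprime {n : ℕ} (g : GL (Fin n) F)
    (hm : (orderOf g).Coprime (Fintype.card F - 1)) :
    ∃ g' : Matrix.SpecialLinearGroup (Fin n) F, orderOf g' = orderOf g := by
  have h1 : (Matrix.GeneralLinearGroup.det g) ^ orderOf g = 1 := by
    rw [← map_pow, pow_orderOf_eq_one, map_one]
  have h2 : ((Matrix.GeneralLinearGroup.det g : Fˣ) : F) ^ orderOf g = 1 := by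
    have := congrArg Units.val h1
    simpa using this
  have h3 := eq_one_of_pow_eq_one_of_coprime _ _ (orderOf_pos g).ne' hm h2
  have h4 : (g : Matrix (Fin n) (Fin n) F).det = 1 := h3
  let g' : Matrix.SpecialLinearGroup (Fin n) F := ⟨(g : Matrix (Fin n) (Fin n) F), h4⟩
  refine ⟨g', ?_⟩
  have h5 : Matrix.SpecialLinearGroup.toGL g' = g := by
    ext
    rfl
  rw [← orderOf_injective Matrix.SpecialLinearGroup.toGL
    Matrix.SpecialLinearGroup.toGL_injective g', h5]

/-- primes dividing the order of `PSL_n(q)` -/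
theorem exists_dvd_pow_sub_one_of_dvd_card_PSL (k : ℕ) (s : ℕ) (hs : s.Prime)
    (hsq : ¬ s ∣ Fintype.card F)
    (h : s ∣ Nat.card (Matrix.ProjectiveSpecialLinearGroup (Fin (k + 1)) F)) :
    ∃ j, 1 ≤ j ∧ j ≤ k + 1 ∧ s ∣ Fintype.card F ^ j - 1 := by
  have h1 : s ∣ Nat.card (Matrix.SpecialLinearGroup (Fin (k + 1)) F) :=
    h.trans (Subgroup.card_quotient_dvd_card _)
  have h2 : s ∣ Nat.card (GL (Fin (k + 1)) F) := by
    rw [card_GL_eq_card_SL_mul]
    exact h1.mul_right _
  rw [Matrix.card_GL_field] at h2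
  obtain ⟨i, _, hi⟩ := (Prime.dvd_finsetProd_iff (Nat.prime_iff.mp hs) _).mp h2
  set q := Fintype.card F with hq
  have hq1 : 1 ≤ q := Fintype.card_pos
  have h4 : q ^ (k + 1) - q ^ (i : ℕ) = q ^ (i : ℕ) * (q ^ (k + 1 - (i : ℕ)) - 1) := by
    rw [Nat.mul_sub, mul_one, ← pow_add]
    congr 2
    have := i.2
    omega
  rw [h4] at hi
  rcases (Nat.Prime.dvd_mul hs).mp hi with h5 | h5
  · exact absurd (hs.dvd_of_dvd_pow h5) hsq
  · exact ⟨k + 1 - (i : ℕ), by have := i.2; omega, by omega, h5⟩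

end exist2

end Cfsg.Agent.Lib.Helper40
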