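import Mathlib
import Cfsg.Agent.Lib.Helper40.PSLOrders

/-!
# Singer cycles in `SL_n(q)` (helper40)

* `exists_algebraMap_eq_of_pow_card_sub_one`: elements of a finite extension killed by `q - 1`
  lie in the base field.
* `irreducible_of_prime_order`: an element of prime order `r` with `ord_r(q) = dim W` is irreducible.
* `exists_smul_of_commute_irreducible`, `pow_eq_one_of_commute_irreducible_of_det`: the
  centralizer of an irreducible element is a field of order `q ^ n` (scalars and norm-one elements).
* `exists_SL_singer`: elements of the Singer torus of `SL_n(q)` with prescribed scalar powers.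
* `two_adic_key`, `two_pow_mul_dvd_of_le`: `2`-adic arithmetic of `q ^ m - 1`.
-/

set_option autoImplicit false
set_option linter.unusedSectionVars false
set_option linter.style.haveILetI false

namespace Cfsg.Agent.Lib.Helper40

open Module

section fieldscalar
variable {F : Type*} [Field F] [Fintype F] {E : Type*} [Field E] [Finite E] [Algebra F E]

/-- elements of a finite extension killed by `q - 1` are in the base field -/
theorem exists_algebraMap_eq_of_pow_card_sub_one (x : E) (hx : x ^ (Fintype.card F - 1) = 1) :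
    ∃ c : F, algebraMap F E c = x := by
  classical
  have : Fintype E := Fintype.ofFinite E
  have hq1 : 0 < Fintype.card F - 1 := Nat.sub_pos_of_lt Fintype.one_lt_card
  have hx0 : x ≠ 0 := by
    intro h0
    rw [h0, zero_pow hq1.ne'] at hx
    exact zero_ne_one hx
  let ψ : Fˣ →* Eˣ := Units.map (algebraMap F E : F →* E)
  have hψ : Function.Injective ψ := Units.map_injective (algebraMap F E).injective
  have hsub : (Finset.univ.image ψ) ⊆ Finset.univ.filter (fun a : Eˣ => a ^ (Fintype.card F - 1) = 1) := by
    intro y hy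
    rw [Finset.mem_image] at hy
    obtain ⟨u, -, rfl⟩ := hy
    rw [Finset.mem_filter]
    refine ⟨Finset.mem_univ _, ?_⟩
    rw [← map_pow]
    have : u ^ (Fintype.card F - 1) = 1 := by
      rw [← Fintype.card_units]
      exact pow_card_eq_one
    rw [this, map_one]
  have hcard : (Finset.univ.filter (fun a : Eˣ => a ^ (Fintype.card F - 1) = 1)).card ≤
      (Finset.univ.image ψ).card := by
    rw [Finset.card_image_of_injective _ hψ, Finset.card_univ, Fintype.card_units]
    exact IsCyclic.card_pow_eq_one_le hq1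
  have heq := Finset.eq_of_subset_of_card_le hsub hcard
  have hmem : Units.mk0 x hx0 ∈ Finset.univ.filter (fun a : Eˣ => a ^ (Fintype.card F - 1) = 1) := by
    rw [Finset.mem_filter]
    refine ⟨Finset.mem_univ _, ?_⟩
    apply Units.ext
    simpa using hx
  rw [← heq, Finset.mem_image] at hmem
  obtain ⟨u, -, hu⟩ := hmem
  refine ⟨(u : F), ?_⟩
  have := congrArg Units.val hu
  simpa [ψ] using this

end fieldscalar

section irr
variable {F : Type*} [Field F] [Fintype F] {W : Type*} [AddCommGroup W] [Module F W]
  [FiniteDimensional F W]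

/-- an element of prime order `r` with `ord_r(q) = dim W` acts irreducibly -/
theorem irreducible_of_prime_order (r : ℕ) [Fact r.Prime] (hrF : (r : F) ≠ 0)
    (hord : orderOf ((Fintype.card F : ℕ) : ZMod r) = finrank F W)
    (S : Module.End F W) (hS : S ^ r = 1) (hS1 : S ≠ 1) (U : Submodule F W)
    (hU : ∀ v ∈ U, S v ∈ U) : U = ⊥ ∨ U = ⊤ := by
  have hq1 : 1 ≤ Fintype.card F := Fintype.card_pos
  -- the range of `S - 1` is everything
  have hRinv : ∀ v ∈ LinearMap.range (S - 1), S v ∈ LinearMap.range (S - 1) := by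
    rintro _ ⟨w, rfl⟩
    refine ⟨S w, ?_⟩
    simp only [LinearMap.sub_apply, Module.End.one_apply, map_sub]
  have hdiv : ∀ U' : Submodule F W, (∀ v ∈ U', S v ∈ U') → U' ≤ LinearMap.range (S - 1) →
      finrank F W ∣ finrank F U' := by
    intro U' hU' hle
    have h1 := pow_finrank_modEq_one_of_le_range r hrF S hS U' hU' hle
    have h2 : r ∣ Fintype.card F ^ finrank F U' - 1 :=
      (Nat.modEq_iff_dvd' (Nat.one_le_pow _ _ hq1)).mp h1.symm
    rw [dvd_pow_sub_one_iff hq1, hord] at h2
    exact h2
  have hR : LinearMap.range (S - 1) = ⊤ := by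
    have h1 := hdiv _ hRinv le_rfl
    have h2 : finrank F (LinearMap.range (S - 1)) ≤ finrank F W := Submodule.finrank_le _
    have h3 : finrank F (LinearMap.range (S - 1)) ≠ 0 := by
      intro h0
      rw [Submodule.finrank_eq_zero] at h0
      apply hS1
      have : S - 1 = 0 := LinearMap.range_eq_bot.mp h0
      exact sub_eq_zero.mp this
    have h4 : finrank F (LinearMap.range (S - 1)) = finrank F W :=
      le_antisymm h2 (Nat.le_of_dvd (Nat.pos_of_ne_zero h3) h1)
    exact Submodule.eq_top_of_finrank_eq h4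
  have h1 := hdiv U hU (by rw [hR]; exact le_top)
  rcases Nat.eq_zero_or_pos (finrank F U) with h0 | hpos
  · left
    exact Submodule.finrank_eq_zero.mp h0
  · right
    have h2 : finrank F U ≤ finrank F W := Submodule.finrank_le _
    exact Submodule.eq_top_of_finrank_eq (le_antisymm h2 (Nat.le_of_dvd hpos h1))

end irr

section arith

theorem odd_geom_sum (q k : ℕ) (hq : Odd q) : Odd (∑ i ∈ Finset.range (2 * k + 1), q ^ i) := by
  induction k with
  | zero => simp
  | succ k ih =>
    have : 2 * (k + 1) + 1 = (2 * k + 1) + 1 + 1 := by ring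
    rw [this, Finset.sum_range_succ, Finset.sum_range_succ, add_assoc]
    refine Odd.add_even ih ?_
    exact Odd.add_odd (hq.pow) (hq.pow)

theorem padicVal_two_sub_add (q : ℕ) (hq : Odd q) (hq3 : 3 ≤ q) :
    1 ≤ padicValNat 2 (q - 1) ∧ 1 ≤ padicValNat 2 (q + 1) ∧
      (padicValNat 2 (q - 1) = 1 ∨ padicValNat 2 (q + 1) = 1) := by
  obtain ⟨k, rfl⟩ := hq
  have h1 : 2 * k + 1 - 1 = 2 * k := by omega
  have h2 : 2 * k + 1 + 1 = 2 * (k + 1) := by ring
  have hk : k ≠ 0 := by omega
  rw [h1, h2, padicValNat.mul (by norm_num) hk, padicValNat.mul (by norm_num) (by omega)]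
  have h22 : padicValNat 2 2 = 1 := by simp
  rw [h22]
  refine ⟨by omega, by omega, ?_⟩
  rcases Nat.even_or_odd k with he | ho
  · right
    have : ¬ 2 ∣ k + 1 := by
      intro h
      have := (Nat.even_add_one.mp (even_iff_two_dvd.mpr h))
      exact this he
    rw [padicValNat.eq_zero_of_not_dvd this]
  · left
    have : ¬ 2 ∣ k := by
      intro h
      exact (Nat.not_even_iff_odd.mpr ho) (even_iff_two_dvd.mpr h)
    rw [padicValNat.eq_zero_of_not_dvd this]

/-- the `2`-adic criterion -/
theorem two_adic_key (q m : ℕ) (hq : Odd q) (hq3 : 3 ≤ q) (hm : 1 ≤ m) :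
    2 * padicValNat 2 (q - 1) ≤ padicValNat 2 (q ^ m - 1) ↔
      padicValNat 2 (q - 1) < padicValNat 2 (2 * m) := by
  obtain ⟨ha, hb, hab⟩ := padicVal_two_sub_add q hq hq3
  have hm0 : m ≠ 0 := by omega
  have h22 : padicValNat 2 2 = 1 := by simp
  have hn : padicValNat 2 (2 * m) = 1 + padicValNat 2 m := by
    rw [padicValNat.mul (by norm_num) hm0, h22]
  rcases Nat.even_or_odd m with he | ho
  · have hq2 : ¬ 2 ∣ q := by
      intro h
      exact (Nat.not_even_iff_odd.mpr hq) (even_iff_two_dvd.mpr h)
    have hform := padicValNat.pow_two_sub_one (x := q) (n := m) (by omega) hq2 hm0 he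
    have hc : 1 ≤ padicValNat 2 m := by
      have : 2 ∣ m := even_iff_two_dvd.mp he
      exact one_le_padicValNat_of_dvd hm0 this
    rw [hn]
    omega
  · obtain ⟨k, rfl⟩ := ho
    have hgeo : (q - 1) * (∑ i ∈ Finset.range (2 * k + 1), q ^ i) = q ^ (2 * k + 1) - 1 :=
      geom_aux q (2 * k + 1) (by omega)
    have hodd := odd_geom_sum q k hq
    have hs0 : (∑ i ∈ Finset.range (2 * k + 1), q ^ i) ≠ 0 := by
      intro h0
      rw [h0] at hodd
      simp at hodd
    have hv : padicValNat 2 (∑ i ∈ Finset.range (2 * k + 1), q ^ i) = 0 := by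
      apply padicValNat.eq_zero_of_not_dvd
      intro h
      exact (Nat.not_even_iff_odd.mpr hodd) (even_iff_two_dvd.mpr h)
    have hm2 : padicValNat 2 (2 * k + 1) = 0 := by
      apply padicValNat.eq_zero_of_not_dvd
      omega
    rw [← hgeo, padicValNat.mul (by omega) hs0, hv, hn, hm2]
    omega

/-- divisibility from the `2`-adic inequality -/
theorem two_pow_mul_dvd_of_le (q m : ℕ) (hq3 : 3 ≤ q) (hm : 1 ≤ m)
    (h : 2 * padicValNat 2 (q - 1) ≤ padicValNat 2 (q ^ m - 1)) :
    2 ^ padicValNat 2 (q - 1) * (q - 1) ∣ q ^ m - 1 := by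
  set a := padicValNat 2 (q - 1) with ha
  have hq10 : q - 1 ≠ 0 := by omega
  obtain ⟨u, hu⟩ : 2 ^ a ∣ q - 1 := pow_padicValNat_dvd
  have hu2 : ¬ 2 ∣ u := by
    rintro ⟨w, rfl⟩
    have : 2 ^ (a + 1) ∣ q - 1 := ⟨w, by rw [hu, pow_succ]; ring⟩
    exact pow_succ_padicValNat_not_dvd hq10 this
  have hqm0 : q ^ m - 1 ≠ 0 := by
    have : 3 ^ 1 ≤ q ^ m := le_trans (Nat.pow_le_pow_left hq3 1) (Nat.pow_le_pow_right (by omega) hm)
    omega
  have h1 : 2 ^ (2 * a) ∣ q ^ m - 1 := (padicValNat_dvd_iff_le hqm0).mpr h
  have h2 : u ∣ q ^ m - 1 := dvd_trans ⟨2 ^ a, by rw [hu]; ring⟩ (Nat.sub_one_dvd_pow_sub_one q m)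
  have hcop : Nat.Coprime (2 ^ (2 * a)) u := by
    apply Nat.Coprime.pow_left
    exact (Nat.Prime.coprime_iff_not_dvd Nat.prime_two).mpr hu2
  have h3 := hcop.mul_dvd_of_dvd_of_dvd h1 h2
  have h4 : 2 ^ a * (q - 1) = 2 ^ (2 * a) * u := by
    rw [hu, two_mul, pow_add]; ring
  rw [h4]
  exact h3

end arith

section singer
variable {F : Type*} [Field F] [Fintype F] {W : Type*} [AddCommGroup W] [Module F W]
  [FiniteDimensional F W]

/-- an endomorphism commuting with an irreducible one, killed by `q - 1`, is a scalar -/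
theorem exists_smul_of_commute_irreducible [Nontrivial W] (S : Module.End F W)
    (hirr : ∀ U : Submodule F W, (∀ v ∈ U, S v ∈ U) → U = ⊥ ∨ U = ⊤)
    (X : Module.End F W) (hXS : Commute S X) (hX : X ^ (Fintype.card F - 1) = 1) :
    ∃ c : F, X = c • (1 : Module.End F W) := by
  have hq1 : 1 ≤ Fintype.card F := Fintype.card_pos
  have hXq : X ^ Fintype.card F = X := by
    have : Fintype.card F = (Fintype.card F - 1) + 1 := by omega
    rw [this, pow_succ, hX, one_mul]
  have hdvd : minpoly F X ∣ (Polynomial.X ^ Fintype.card F - Polynomial.X : Polynomial F) := by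
    apply minpoly.dvd
    simp [hXq]
  have hne : (Polynomial.X ^ Fintype.card F - Polynomial.X : Polynomial F) ≠ 0 :=
    FiniteField.X_pow_card_sub_X_ne_zero F Fintype.one_lt_card
  have hsp0 : (Polynomial.X ^ Fintype.card F - Polynomial.X : Polynomial F).Splits := by
    have := Polynomial.splits_X_pow_nat_card_sub_X (K := F)
    rwa [Nat.card_eq_fintype_card] at this
  have hsplit : (minpoly F X).Splits :=
    Polynomial.Splits.of_dvd hsp0 hne hdvd
  have hint : IsIntegral F X := Algebra.IsIntegral.isIntegral X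
  have hdeg : (minpoly F X).degree ≠ 0 := (minpoly.degree_pos hint).ne'
  obtain ⟨c, hc⟩ := hsplit.exists_eval_eq_zero hdeg
  have heig : X.HasEigenvalue c := Module.End.hasEigenvalue_of_isRoot hc
  refine ⟨c, ?_⟩
  have hinv : ∀ v ∈ Module.End.eigenspace X c, S v ∈ Module.End.eigenspace X c := by
    intro v hv
    rw [Module.End.mem_eigenspace_iff] at hv ⊢
    have h1 : X (S v) = S (X v) := by
      have := congrArg (fun f : Module.End F W => f v) hXS.eq
      simpa using this.symm
    rw [h1, hv, map_smul]
  rcases hirr _ hinv with h | h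
  · exact absurd h heig
  · apply LinearMap.ext
    intro v
    have hv : v ∈ Module.End.eigenspace X c := by rw [h]; trivial
    rw [Module.End.mem_eigenspace_iff] at hv
    rw [hv]
    simp

end singer

section singer2
variable {F : Type*} [Field F] [Fintype F] {W : Type*} [AddCommGroup W] [Module F W]
  [FiniteDimensional F W]

/-- an endomorphism of determinant one commuting with an irreducible one is killed by
`(q ^ n - 1) / (q - 1)` -/
theorem pow_eq_one_of_commute_irreducible_of_det [Nontrivial W] (S : Module.End F W)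
    (hirr : ∀ U : Submodule F W, (∀ v ∈ U, S v ∈ U) → U = ⊥ ∨ U = ⊤)
    (X : Module.End F W) (hXS : Commute S X) (hdet : LinearMap.det X = 1) :
    X ^ ((Fintype.card F ^ finrank F W - 1) / (Fintype.card F - 1)) = 1 := by
  classical
  have : Finite (Module.End F W) := Module.finite_of_finite F
  let E : Subalgebra F (Module.End F W) := Subalgebra.centralizer F {S}
  have hmemE : ∀ z : Module.End F W, z ∈ E ↔ S * z = z * S := by
    intro z
    simp [E, Subalgebra.mem_centralizer_iff]
  have hker : ∀ z : Module.End F W, z ∈ E → z ≠ 0 → LinearMap.ker z = ⊥ := by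
    intro z hz hz0
    have hinv : ∀ v ∈ LinearMap.ker z, S v ∈ LinearMap.ker z := by
      intro v hv
      rw [LinearMap.mem_ker] at hv ⊢
      have h1 : z (S v) = S (z v) := by
        have := congrArg (fun f : Module.End F W => f v) ((hmemE z).mp hz)
        simpa using this.symm
      rw [h1, hv, map_zero]
    rcases hirr _ hinv with h | h
    · exact h
    · exact absurd (LinearMap.ker_eq_top.mp h) hz0
  have : Nontrivial E := by
    refine ⟨⟨0, 1, ?_⟩⟩
    intro h
    have h1 : (0 : Module.End F W) = 1 := congrArg Subtype.val h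
    obtain ⟨v, hv⟩ := exists_ne (0 : W)
    apply hv
    have := congrArg (fun f : Module.End F W => f v) h1
    simpa using this.symm
  have : NoZeroDivisors E := by
    refine ⟨?_⟩
    intro a b hab
    by_cases ha : a = 0
    · left; exact ha
    · right
      have ha' : (a : Module.End F W) ≠ 0 := fun h => ha (Subtype.ext h)
      have hk := hker a a.2 ha'
      apply Subtype.ext
      apply LinearMap.ext
      intro v
      have h1 : (a : Module.End F W) ((b : Module.End F W) v) = 0 := by
        have := congrArg (fun f : E => (f : Module.End F W) v) hab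
        simpa using this
      have h2 : (b : Module.End F W) v ∈ LinearMap.ker (a : Module.End F W) := h1
      rw [hk] at h2
      simpa using h2
  have : IsDomain E := NoZeroDivisors.to_isDomain E
  letI : Field E := (Finite.isDomain_to_isField E).toField
  -- the module is one-dimensional over `E`
  obtain ⟨v, hv⟩ := exists_ne (0 : W)
  let φ : E →ₗ[F] W :=
    { toFun := fun e => (e : Module.End F W) v
      map_add' := fun a b => by simp
      map_smul' := fun c a => by simp }
  have hφinj : Function.Injective φ := by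
    rw [← LinearMap.ker_eq_bot, LinearMap.ker_eq_bot']
    intro a ha
    by_contra ha0
    have ha' : (a : Module.End F W) ≠ 0 := fun h => ha0 (Subtype.ext h)
    have hk := hker a a.2 ha'
    have : v ∈ LinearMap.ker (a : Module.End F W) := ha
    rw [hk] at this
    exact hv (by simpa using this)
  have hSE : S ∈ E := (hmemE S).mpr rfl
  have hφsurj : Function.Surjective φ := by
    rw [← LinearMap.range_eq_top]
    have hinv : ∀ w ∈ LinearMap.range φ, S w ∈ LinearMap.range φ := by
      rintro _ ⟨a, rfl⟩
      refine ⟨⟨S, hSE⟩ * a, ?_⟩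
      rfl
    rcases hirr _ hinv with h | h
    · exfalso
      have : v ∈ LinearMap.range φ := ⟨1, by simp [φ]⟩
      rw [h] at this
      exact hv (by simpa using this)
    · exact h
  let e : E ≃ₗ[F] W := LinearEquiv.ofBijective φ ⟨hφinj, hφsurj⟩
  have hXE : X ∈ E := (hmemE X).mpr hXS.eq
  let x : E := ⟨X, hXE⟩
  have hconj : X = (e : E →ₗ[F] W) ∘ₗ (LinearMap.mul F E x) ∘ₗ (e.symm : W →ₗ[F] E) := by
    apply LinearMap.ext
    intro w
    obtain ⟨y, rfl⟩ := e.surjective w
    simp only [LinearMap.coe_comp, LinearEquiv.coe_coe, Function.comp_apply,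
      LinearEquiv.symm_apply_apply, LinearMap.mul_apply_apply]
    rfl
  have hnorm : Algebra.norm F x = 1 := by
    rw [Algebra.norm_apply, ← hdet]
    conv_rhs => rw [hconj]
    rw [LinearMap.det_conj]
    rfl
  have hcardE : Nat.card E = Fintype.card F ^ finrank F W := by
    have : Finite W := Module.finite_of_finite F
    have : Fintype W := Fintype.ofFinite W
    rw [Nat.card_congr e.toEquiv, Nat.card_eq_fintype_card, Module.card_eq_pow_finrank (K := F)]
  have hpow := FiniteField.algebraMap_norm_eq_pow (K := F) (K' := E) (x := x)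
  rw [hnorm, map_one, hcardE, Nat.card_eq_fintype_card] at hpow
  have := congrArg (fun f : E => (f : Module.End F W)) hpow
  simpa using this.symm

end singer2

section exist
variable {F : Type*} [Field F] [Fintype F]

/-- a Singer-type element of `SL_n(q)`: the powers that are scalar are controlled by `o` -/
theorem exists_SL_singer (p : ℕ) [Fact p.Prime] [CharP F p] (n : ℕ) (hn : 1 ≤ n) (o t : ℕ)
    (hot : Fintype.card F ^ n - 1 = o * t * (Fintype.card F - 1)) :
    ∃ X : Matrix.SpecialLinearGroup (Fin n) F,
      ∀ i : ℕ, (∃ c : F, (X : Matrix (Fin n) (Fin n) F) ^ i = c • 1) ↔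
        o ∣ i * (Fintype.card F - 1) := by
  classical
  have : NeZero n := ⟨by omega⟩
  have hq2 : 2 ≤ Fintype.card F := Fintype.one_lt_card
  have hq1 : 0 < Fintype.card F - 1 := by omega
  have hodvd : o ∣ Fintype.card F ^ n - 1 := ⟨t * (Fintype.card F - 1), by rw [hot]; ring⟩
  obtain ⟨ζ, hζ⟩ := exists_orderOf_units_extension (F := F) p n o hodvd
  let E := FiniteField.Extension F p n
  have hfr : finrank F E = n := FiniteField.finrank_extension F p n
  let b : Basis (Fin n) F E := Module.finBasisOfFinrankEq F E hfr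
  let L : E →ₐ[F] Matrix (Fin n) (Fin n) F := Algebra.leftMulMatrix b
  have hLinj : Function.Injective L := Algebra.leftMulMatrix_injective b
  have hcardE : Nat.card E = Fintype.card F ^ n := by
    rw [FiniteField.natCard_extension F p n, Nat.card_eq_fintype_card]
  have hM : (Nat.card E - 1) / (Nat.card F - 1) = o * t := by
    rw [hcardE, Nat.card_eq_fintype_card, hot]
    exact Nat.mul_div_cancel _ hq1
  have hnorm : Algebra.norm F (ζ : E) = 1 := by
    apply (algebraMap F E).injective
    rw [FiniteField.algebraMap_norm_eq_pow, hM, map_one, pow_mul]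
    have : (ζ : E) ^ o = 1 := by
      rw [← hζ, ← Units.val_pow_eq_pow_val, pow_orderOf_eq_one, Units.val_one]
    rw [this, one_pow]
  have hdet : (L (ζ : E)).det = 1 := by
    rw [← hnorm]
    exact (Algebra.norm_eq_matrix_det b (ζ : E)).symm
  refine ⟨⟨L (ζ : E), hdet⟩, ?_⟩
  intro i
  change (∃ c : F, (L (ζ : E)) ^ i = c • 1) ↔ _
  have hsc : ∀ c : F, (c • 1 : Matrix (Fin n) (Fin n) F) = L (algebraMap F E c) := by
    intro c
    rw [AlgHom.commutes, Algebra.algebraMap_eq_smul_one]
  have hiff : o ∣ i * (Fintype.card F - 1) ↔ ((ζ : E) ^ i) ^ (Fintype.card F - 1) = 1 := by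
    rw [← hζ, orderOf_dvd_iff_pow_eq_one, ← pow_mul, ← Units.val_pow_eq_pow_val]
    constructor
    · intro h
      rw [h, Units.val_one]
    · intro h
      exact Units.ext h
  rw [hiff, ← map_pow]
  constructor
  · rintro ⟨c, hc⟩
    rw [hsc c] at hc
    have hc' := hLinj hc
    rw [hc', ← map_pow]
    have hc0 : c ≠ 0 := by
      intro h0
      rw [h0, map_zero] at hc'
      have : (ζ ^ i : Eˣ).val = 0 := by rw [Units.val_pow_eq_pow_val]; exact hc'
      exact (ζ ^ i).ne_zero this
    rw [FiniteField.pow_card_sub_one_eq_one c hc0, map_one]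
  · intro h
    obtain ⟨c, hc⟩ := exists_algebraMap_eq_of_pow_card_sub_one (F := F) ((ζ : E) ^ i) h
    exact ⟨c, by rw [hsc c, hc]⟩

end exist

end Cfsg.Agent.Lib.Helper40
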