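import Mathlib
import Cfsg.Prelude.Def_Classical

/-!
# Basic facts on the unitary groups `Cfsg.SU n F q` (helper40)

* `mem_SU_iff`, `transpose_mul_map_of_mem_SU`, `mem_SU_of_transpose_mul_map`: the unitary condition
  `Xᵀ * X^(q) = 1` in matrix form.
* `exists_orderOf_eq_of_dvd_card_sub_one`: elements of prescribed order in a finite field.
-/

set_option autoImplicit false
set_option linter.unusedSectionVars false
set_option linter.style.haveILetI false

namespace Cfsg.Agent.Lib.Helper40

open Matrix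

section su
variable {F : Type*} [Field F] {n : ℕ}

theorem slToMat_apply (X : Matrix.SpecialLinearGroup (Fin n) F) :
    Cfsg.slToMat n F X = (X : Matrix (Fin n) (Fin n) F) := rfl

theorem mem_SU_iff (q : ℕ) (X : Matrix.SpecialLinearGroup (Fin n) F) :
    X ∈ Cfsg.SU n F q ↔ ∀ u v : Fin n → F,
      Cfsg.hermForm n F q ((X : Matrix (Fin n) (Fin n) F) *ᵥ u) ((X : Matrix (Fin n) (Fin n) F) *ᵥ v) =
        Cfsg.hermForm n F q u v := Iff.rfl

/-- the unitary condition in matrix form (necessity) -/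
theorem transpose_mul_map_of_mem_SU (q : ℕ) (hq : q ≠ 0) (X : Matrix.SpecialLinearGroup (Fin n) F)
    (hX : X ∈ Cfsg.SU n F q) :
    (X : Matrix (Fin n) (Fin n) F)ᵀ * (X : Matrix (Fin n) (Fin n) F).map (· ^ q) = 1 := by
  classical
  rw [mem_SU_iff] at hX
  ext i j
  have h := hX (Pi.single i 1) (Pi.single j 1)
  simp only [Cfsg.hermForm, Matrix.mulVec_single_one] at h
  rw [Matrix.mul_apply]
  simp only [Matrix.transpose_apply, Matrix.map_apply]
  rw [Matrix.one_apply]
  convert h using 1
  · simp [Matrix.col_apply]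
  · by_cases hij : i = j
    · subst hij
      simp [Pi.single_apply, hq]
    · rw [if_neg hij]
      symm
      apply Finset.sum_eq_zero
      intro k _
      by_cases hk : k = i
      · subst hk
        have : (Pi.single j (1 : F) : Fin n → F) k = 0 := by
          rw [Pi.single_apply, if_neg hij]
        rw [this, zero_pow hq, mul_zero]
      · have : (Pi.single i (1 : F) : Fin n → F) k = 0 := by
          rw [Pi.single_apply, if_neg hk]
        rw [this, zero_mul]

theorem hermForm_eq_dotProduct (q : ℕ) (u v : Fin n → F) :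
    Cfsg.hermForm n F q u v = u ⬝ᵥ (fun i => v i ^ q) := rfl

/-- the unitary condition in matrix form (sufficiency) -/
theorem hermForm_mulVec_of_transpose_mul_map (p : ℕ) [Fact p.Prime] [CharP F p] (k : ℕ)
    (X : Matrix (Fin n) (Fin n) F)
    (hX : Xᵀ * X.map (· ^ (p ^ k)) = 1) (u v : Fin n → F) :
    Cfsg.hermForm n F (p ^ k) (X *ᵥ u) (X *ᵥ v) = Cfsg.hermForm n F (p ^ k) u v := by
  rw [hermForm_eq_dotProduct, hermForm_eq_dotProduct]
  have h1 : (fun i => (X *ᵥ v) i ^ (p ^ k)) = X.map (· ^ (p ^ k)) *ᵥ (fun i => v i ^ (p ^ k)) := by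
    funext i
    have := RingHom.map_mulVec (iterateFrobenius F p k) X v i
    simp only [iterateFrobenius_def] at this
    rw [this]
    have h2 : (⇑(iterateFrobenius F p k) : F → F) = fun x => x ^ p ^ k := by
      funext x
      rw [iterateFrobenius_def]
    rw [h2]
    rfl
  rw [h1, Matrix.dotProduct_mulVec, Matrix.vecMul_mulVec, ← Matrix.dotProduct_mulVec, hX,
    Matrix.one_mulVec]

theorem mem_SU_of_transpose_mul_map (p : ℕ) [Fact p.Prime] [CharP F p] (k : ℕ)
    (X : Matrix.SpecialLinearGroup (Fin n) F)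
    (hX : (X : Matrix (Fin n) (Fin n) F)ᵀ * (X : Matrix (Fin n) (Fin n) F).map (· ^ (p ^ k)) = 1) :
    X ∈ Cfsg.SU n F (p ^ k) := by
  rw [mem_SU_iff]
  exact hermForm_mulVec_of_transpose_mul_map p k _ hX

end su

section field
variable {F : Type*} [Field F] [Fintype F]

/-- elements of prescribed multiplicative order in a finite field -/
theorem exists_orderOf_eq_of_dvd_card_sub_one (m : ℕ) (hm : m ∣ Fintype.card F - 1) :
    ∃ a : F, a ≠ 0 ∧ ∀ i : ℕ, a ^ i = 1 ↔ m ∣ i := by
  obtain ⟨g, hg⟩ := IsCyclic.exists_generator (α := Fˣ)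
  have hog : orderOf g = Fintype.card F - 1 := by
    rw [orderOf_eq_card_of_forall_mem_zpowers hg, Nat.card_units, Nat.card_eq_fintype_card]
  have hq1 : Fintype.card F - 1 ≠ 0 := by
    have : 1 < Fintype.card F := Fintype.one_lt_card
    omega
  have ho : orderOf (g ^ ((Fintype.card F - 1) / m)) = m := by
    rw [← hog]
    exact orderOf_pow_orderOf_div (hog ▸ hq1) (hog ▸ hm)
  set a : Fˣ := g ^ ((Fintype.card F - 1) / m) with ha
  refine ⟨(a : F), Units.ne_zero _, ?_⟩
  intro i
  rw [← ho, orderOf_dvd_iff_pow_eq_one, ← Units.val_pow_eq_pow_val, Units.ext_iff, Units.val_one]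

/-- from `|F| = q ^ 2` in characteristic `p`, `q` is a power of `p` -/
theorem exists_eq_prime_pow_of_card_eq_sq (p : ℕ) [Fact p.Prime] [CharP F p] (q : ℕ)
    (hF : Fintype.card F = q ^ 2) : ∃ k : ℕ, 1 ≤ k ∧ q = p ^ k := by
  obtain ⟨n, hp, hn⟩ := FiniteField.card F p
  have h1 : q ∣ p ^ (n : ℕ) := by
    rw [← hn, hF]
    exact dvd_pow_self q (by norm_num)
  obtain ⟨k, _, hk⟩ := (Nat.dvd_prime_pow hp).mp h1
  refine ⟨k, ?_, hk⟩
  rcases Nat.eq_zero_or_pos k with h0 | h0
  · exfalso
    rw [h0, pow_zero] at hk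
    rw [hk, one_pow] at hF
    have : 1 < Fintype.card F := Fintype.one_lt_card
    omega
  · exact h0

end field

end Cfsg.Agent.Lib.Helper40
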