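import Mathlib
import Cfsg.Agent.Lib.Helper40.UnitaryBasic
import Cfsg.Agent.Lib.Helper40.Singer
import Cfsg.Agent.S2476

/-!
# Characteristic polynomials of unitary `3 × 3` matrices over `F_{q²}` (helper40)

* `aeval_inv_pow_charpoly_of_unitary`: eigenvalues of a unitary matrix are closed under
  `α ↦ α⁻¹ ^ q`.
* `root_pow_of_unitary_irred3`, `false_of_unitary_irred2`: the irreducible factor cases.
* `unitary_poly_main`: the characteristic polynomial divides `X ^ N - c` for `N` one of
  `(q² - q + 1)/d`, `q + 1`, `p (q + 1)/d`, `(q² - 1)/d`.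
-/

set_option autoImplicit false
set_option linter.unusedSectionVars false
set_option linter.style.haveILetI false

namespace Cfsg.Agent.Lib.Helper40

open Matrix Polynomial Cfsg.Agent.S2476

universe u

section claimS
variable {F : Type*} [Field F] {K : Type*} [Field K] [Algebra F K]

/-- evaluating after Frobenius -/
theorem aeval_pow_frob (p : ℕ) [Fact p.Prime] [CharP F p] (k : ℕ) (g : F[X]) (β : K) :
    (aeval β g) ^ (p ^ k) = aeval (β ^ (p ^ k)) (g.map (iterateFrobenius F p k)) := by
  haveI : CharP K p := charP_of_injective_algebraMap (algebraMap F K).injective p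
  have key : ((iterateFrobenius K p k).comp (aeval β : F[X] →ₐ[F] K).toRingHom) =
      ((aeval (β ^ (p ^ k)) : F[X] →ₐ[F] K).toRingHom).comp
        (mapRingHom (iterateFrobenius F p k)) := by
    apply Polynomial.ringHom_ext
    · intro a
      simp [iterateFrobenius_def]
    · simp [iterateFrobenius_def]
  have := congrArg (fun φ : F[X] →+* K => φ g) key
  simpa [iterateFrobenius_def] using this

/-- the inverse-conjugate of an eigenvalue of a unitary matrix is an eigenvalue -/
theorem aeval_inv_pow_charpoly_of_unitary [Fintype F] (p : ℕ) [Fact p.Prime] [CharP F p] (k : ℕ)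
    (hF : Fintype.card F = (p ^ k) ^ 2) {n : ℕ} (X : Matrix (Fin n) (Fin n) F)
    (hX : Xᵀ * X.map (· ^ (p ^ k)) = 1) (α : K) (hα : aeval α X.charpoly = 0) :
    aeval ((α⁻¹) ^ (p ^ k)) X.charpoly = 0 := by
  set σ := iterateFrobenius F p k with hσ
  have hσfun : (fun x : F => x ^ (p ^ k)) = ⇑σ := by
    funext x
    rw [hσ, iterateFrobenius_def]
  -- `X` is invertible with inverse the conjugate transpose
  have h1 : (X.map σ)ᵀ * X = 1 := by
    have := congrArg Matrix.transpose hX
    rw [Matrix.transpose_mul, Matrix.transpose_transpose, Matrix.transpose_one, hσfun] at this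
    exact this
  have hinv : X⁻¹ = (X.map σ)ᵀ := Matrix.inv_eq_left_inv h1
  have hunit : IsUnit X := by
    rw [Matrix.isUnit_iff_isUnit_det]
    have h2 := congrArg Matrix.det h1
    rw [Matrix.det_mul, Matrix.det_one] at h2
    exact IsUnit.of_mul_eq_one _ (by rw [mul_comm]; exact h2)
  have hdet0 : X.det ≠ 0 := ((Matrix.isUnit_iff_isUnit_det X).mp hunit).ne_zero
  -- charpoly of the inverse
  have h3 : X.charpoly.map σ = (-1) ^ Fintype.card (Fin n) * C (Ring.inverse X.det) *
      X.charpoly.reverse := by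
    rw [← Matrix.charpoly_map, ← Matrix.charpoly_transpose, ← hinv, Matrix.charpoly_inv X hunit,
      Matrix.reverse_charpoly]
  -- `α ≠ 0`
  have hα0 : α ≠ 0 := by
    rintro rfl
    rw [← Polynomial.coeff_zero_eq_aeval_zero'] at hα
    have h4 := Matrix.det_eq_sign_charpoly_coeff X
    have h4' : X.charpoly.coeff 0 = 0 := by
      apply (algebraMap F K).injective
      rw [hα, map_zero]
    rw [h4', mul_zero] at h4
    exact hdet0 h4
  -- evaluate the reverse at `α⁻¹`
  have h5 : aeval α⁻¹ X.charpoly.reverse = 0 := by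
    haveI : Invertible α := invertibleOfNonzero hα0
    have := (Polynomial.eval₂_reverse_eq_zero_iff (algebraMap F K) α X.charpoly).mpr hα
    rw [invOf_eq_inv] at this
    exact this
  have h6 : aeval α⁻¹ (X.charpoly.map σ) = 0 := by
    rw [h3, map_mul, h5, mul_zero]
  have h7 := aeval_pow_frob p k (X.charpoly.map σ) (α⁻¹ : K)
  rw [h6, zero_pow (pow_pos (Fact.out : p.Prime).pos k).ne', Polynomial.map_map] at h7
  have h8 : σ.comp σ = RingHom.id F := by
    apply RingHom.ext
    intro a
    rw [RingHom.comp_apply, hσ, iterateFrobenius_def, iterateFrobenius_def, ← pow_mul, ← pow_two,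
      ← hF, FiniteField.pow_card]
    rfl
  rw [h8, Polynomial.map_id] at h7
  exact h7.symm

/-- in characteristic `p`, `x ^ (p ^ k) = 1` forces `x = 1` -/
theorem eq_one_of_pow_prime_pow_eq_one (p : ℕ) [Fact p.Prime] [CharP K p] (k : ℕ) (x : K)
    (h : x ^ (p ^ k) = 1) : x = 1 := by
  have h1 : (x - 1) ^ (p ^ k) = 0 := by
    rw [sub_pow_char_pow, h, one_pow, sub_self]
  exact sub_eq_zero.mp (pow_eq_zero_iff (pow_pos (Fact.out : p.Prime).pos k).ne' |>.mp h1)

end claimS

section roots
variable {F : Type*} [Field F] [Fintype F] {K : Type*} [Field K] [Algebra F K]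

/-- Frobenius conjugates of roots are roots -/
theorem aeval_pow_card_eq_zero (f : F[X]) (β : K) (h : aeval β f = 0) :
    aeval (β ^ Fintype.card F) f = 0 := by
  obtain ⟨p, hp⟩ := CharP.exists F
  obtain ⟨n, hpp, hn⟩ := FiniteField.card F p
  haveI : Fact p.Prime := ⟨hpp⟩
  have h1 := aeval_pow_frob p n f β
  rw [h, zero_pow (pow_pos hpp.pos n).ne'] at h1
  have h2 : iterateFrobenius F p n = RingHom.id F := by
    apply RingHom.ext
    intro a
    rw [iterateFrobenius_def, ← hn, FiniteField.pow_card]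
    rfl
  rw [h2, Polynomial.map_id, ← hn] at h1
  exact h1.symm

/-- a root of a polynomial of degree `m` with `m` known distinct roots is one of them -/
theorem mem_of_roots_card (f : F[X]) (hf : f ≠ 0) (s : Finset K) (hs : ∀ r ∈ s, aeval r f = 0)
    (hcard : f.natDegree ≤ s.card) (β : K) (hβ : aeval β f = 0) : β ∈ s := by
  classical
  set P := f.map (algebraMap F K) with hP
  have hP0 : P ≠ 0 := (Polynomial.map_ne_zero_iff (algebraMap F K).injective).mpr hf
  have hroot : ∀ r : K, aeval r f = 0 → r ∈ P.roots.toFinset := by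
    intro r hr
    rw [Multiset.mem_toFinset, Polynomial.mem_roots hP0, Polynomial.IsRoot, hP,
      Polynomial.eval_map_algebraMap]
    exact hr
  by_contra hβs
  have h1 : insert β s ⊆ P.roots.toFinset := by
    intro r hr
    rcases Finset.mem_insert.mp hr with rfl | hr
    · exact hroot _ hβ
    · exact hroot r (hs r hr)
  have h2 := Finset.card_le_card h1
  rw [Finset.card_insert_of_notMem hβs] at h2
  have h3 : P.roots.toFinset.card ≤ f.natDegree := by
    calc P.roots.toFinset.card ≤ Multiset.card P.roots := Multiset.toFinset_card_le _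
      _ ≤ P.natDegree := Polynomial.card_roots' P
      _ = f.natDegree := Polynomial.natDegree_map _
  omega

end roots

section irr
variable {F : Type*} [Field F] [Fintype F]

/-- a root of an irreducible polynomial of degree at least two is not in the base field -/
theorem root_pow_card_sub_one_ne_one (g : F[X]) (hg : Irreducible g) (hdeg : 2 ≤ g.natDegree) :
    haveI := Fact.mk hg
    (AdjoinRoot.root g) ^ (Fintype.card F - 1) ≠ 1 := by
  haveI := Fact.mk hg
  intro h
  haveI : Module.Finite F (AdjoinRoot g) := PowerBasis.finite (AdjoinRoot.powerBasis hg.ne_zero)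
  haveI : Finite (AdjoinRoot g) := Module.finite_of_finite F
  obtain ⟨c, hc⟩ := exists_algebraMap_eq_of_pow_card_sub_one (F := F) (AdjoinRoot.root g) h
  have h1 : g.IsRoot c := by
    have h2 : aeval (AdjoinRoot.root g) g = 0 := AdjoinRoot.aeval_eq g ▸ AdjoinRoot.mk_self
    rw [← hc, Polynomial.aeval_algebraMap_apply] at h2
    apply (algebraMap F (AdjoinRoot g)).injective
    rw [map_zero, ← h2, Polynomial.coe_aeval_eq_eval]
  have h3 := Polynomial.degree_eq_one_of_irreducible_of_root hg h1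
  rw [Polynomial.degree_eq_natDegree hg.ne_zero] at h3
  have : g.natDegree = 1 := by exact_mod_cast h3
  omega

/-- facts about the root of an irreducible polynomial in `AdjoinRoot` -/
theorem adjoinRoot_facts (g : F[X]) (hg : Irreducible g) (hdeg : 2 ≤ g.natDegree) :
    haveI := Fact.mk hg
    aeval (AdjoinRoot.root g) g = 0 ∧ AdjoinRoot.root g ≠ 0 ∧
      (AdjoinRoot.root g) ^ Fintype.card F ≠ AdjoinRoot.root g ∧
      (AdjoinRoot.root g) ^ (Fintype.card F ^ g.natDegree) = AdjoinRoot.root g := by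
  haveI := Fact.mk hg
  have hα : aeval (AdjoinRoot.root g) g = 0 := AdjoinRoot.aeval_eq g ▸ AdjoinRoot.mk_self
  have hne := root_pow_card_sub_one_ne_one g hg hdeg
  have hq1 : 1 ≤ Fintype.card F := Fintype.card_pos
  have hα0 : AdjoinRoot.root g ≠ 0 := by
    intro h
    apply hne
    have hX : ¬ g ∣ X := by
      intro hd
      have := Polynomial.natDegree_le_of_dvd hd Polynomial.X_ne_zero
      rw [Polynomial.natDegree_X] at this
      omega
    rw [← AdjoinRoot.mk_X, AdjoinRoot.mk_eq_zero] at h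
    exact absurd h hX
  refine ⟨hα, hα0, ?_, ?_⟩
  · intro h
    apply hne
    have h1 : AdjoinRoot.root g ^ (Fintype.card F - 1) * AdjoinRoot.root g = 1 * AdjoinRoot.root g := by
      rw [← pow_succ, Nat.sub_add_cancel hq1, h, one_mul]
    exact mul_right_cancel₀ hα0 h1
  · haveI : Module.Finite F (AdjoinRoot g) := PowerBasis.finite (AdjoinRoot.powerBasis hg.ne_zero)
    haveI : Finite (AdjoinRoot g) := Module.finite_of_finite F
    haveI : Fintype (AdjoinRoot g) := Fintype.ofFinite _
    have h1 : Fintype.card (AdjoinRoot g) = Fintype.card F ^ g.natDegree := by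
      rw [Module.card_eq_pow_finrank (K := F) (V := AdjoinRoot g),
        PowerBasis.finrank (AdjoinRoot.powerBasis hg.ne_zero), AdjoinRoot.powerBasis_dim]
    rw [← h1, FiniteField.pow_card]

/-- irreducible cubic factor of a unitary matrix: the root has order dividing `q² - q + 1` -/
theorem root_pow_of_unitary_irred3 (p : ℕ) [Fact p.Prime] [CharP F p] (k : ℕ)
    (hF : Fintype.card F = (p ^ k) ^ 2) (g : F[X]) (hg : Irreducible g) (hm : g.Monic)
    (hdeg : g.natDegree = 3) (h0 : g.coeff 0 = -1)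
    (hS : haveI := Fact.mk hg; aeval ((AdjoinRoot.root g)⁻¹ ^ (p ^ k)) g = 0) :
    haveI := Fact.mk hg
    (AdjoinRoot.root g) ^ ((p ^ k) ^ 2 - p ^ k + 1) = 1 := by
  haveI := Fact.mk hg
  haveI : CharP (AdjoinRoot g) p := charP_of_injective_algebraMap (algebraMap F (AdjoinRoot g)).injective p
  obtain ⟨hα, hα0, hne, hcard⟩ := adjoinRoot_facts g hg (by omega)
  rw [hdeg] at hcard
  set α := AdjoinRoot.root g with hαdef
  set q := p ^ k with hq
  have hqpos : 0 < q := pow_pos (Fact.out : p.Prime).pos k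
  set Q := Fintype.card F with hQ
  clear_value q
  have hr1 : aeval (α ^ Q) g = 0 := aeval_pow_card_eq_zero g α hα
  have hr2 : aeval ((α ^ Q) ^ Q) g = 0 := aeval_pow_card_eq_zero g _ hr1
  have hd02 : (α ^ Q) ^ Q ≠ α := by
    intro h
    apply hne
    have h1 : ((α ^ Q) ^ Q) ^ Q = α ^ Q := by rw [h]
    have h2 : ((α ^ Q) ^ Q) ^ Q = α ^ Q ^ 3 := by
      rw [← pow_mul, ← pow_mul]
      congr 1
      ring
    rw [h2, hcard] at h1
    exact h1.symm
  have hαQ0 : α ^ Q ≠ 0 := pow_ne_zero _ hα0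
  have hQ1 : 1 ≤ Q := Fintype.card_pos
  have hQpk : Q = p ^ (2 * k) := by
    rw [hF, hq, ← pow_mul, mul_comm]
  have hd12 : (α ^ Q) ^ Q ≠ α ^ Q := by
    intro h
    apply hne
    have h1 : (α ^ (Q - 1)) ^ Q * α ^ Q = 1 * α ^ Q := by
      rw [← mul_pow, ← pow_succ, Nat.sub_add_cancel hQ1, h, one_mul]
    have h2 : (α ^ (Q - 1)) ^ Q = 1 := mul_right_cancel₀ hαQ0 h1
    rw [hQpk] at h2
    have h3 := eq_one_of_pow_prime_pow_eq_one p (2 * k) _ h2
    rw [← hQpk] at h3
    have h4 : α ^ Q = α ^ (Q - 1) * α := by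
      rw [← pow_succ, Nat.sub_add_cancel hQ1]
    rw [h4, h3, one_mul]
  classical
  have hmem := mem_of_roots_card g hg.ne_zero ({α, α ^ Q, (α ^ Q) ^ Q} : Finset (AdjoinRoot g))
    (by
      intro r hr
      simp only [Finset.mem_insert, Finset.mem_singleton] at hr
      rcases hr with rfl | rfl | rfl
      · exact hα
      · exact hr1
      · exact hr2)
    (by
      rw [hdeg, Finset.card_insert_of_notMem, Finset.card_insert_of_notMem, Finset.card_singleton]
      · simp only [Finset.mem_singleton]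
        exact fun h => hd12 h.symm
      · simp only [Finset.mem_insert, Finset.mem_singleton, not_or]
        exact ⟨fun h => hne h.symm, fun h => hd02 h.symm⟩)
    (α⁻¹ ^ q) hS
  have hinv : α⁻¹ ^ q * α ^ q = 1 := by
    rw [← mul_pow, inv_mul_cancel₀ hα0, one_pow]
  have hQm1 : Q - 1 = (q + 1) * (q - 1) := by
    rw [hF]
    exact Cfsg.Agent.S2476.sq_sub_one_eq q hqpos
  have hcontra : α ^ (q + 1) = 1 → False := by
    intro h
    apply hne
    have h4 : α ^ Q = α ^ (Q - 1) * α := by
      rw [← pow_succ, Nat.sub_add_cancel hQ1]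
    rw [h4, hQm1, pow_mul, h, one_pow, one_mul]
  simp only [Finset.mem_insert, Finset.mem_singleton] at hmem
  have key : α ^ (q ^ 3 + 1) = 1 := by
    rcases hmem with h | h | h
    · exfalso
      apply hcontra
      calc α ^ (q + 1) = α * α ^ q := pow_succ' _ _
        _ = α⁻¹ ^ q * α ^ q := by rw [h]
        _ = 1 := hinv
    · exfalso
      apply hcontra
      have h1 : (α ^ (q + 1)) ^ q = 1 := by
        calc (α ^ (q + 1)) ^ q = α ^ (q ^ 2) * α ^ q := by
              rw [← pow_mul, ← pow_add]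
              congr 1
              ring
          _ = α⁻¹ ^ q * α ^ q := by rw [h, hF]
          _ = 1 := hinv
      rw [hq] at h1
      have := eq_one_of_pow_prime_pow_eq_one p k _ h1
      rw [hq]
      exact this
    · have h1 : (α ^ (q ^ 3 + 1)) ^ q = 1 := by
        calc (α ^ (q ^ 3 + 1)) ^ q = (α ^ (q ^ 2)) ^ (q ^ 2) * α ^ q := by
              rw [← pow_mul, ← pow_mul, ← pow_add]
              congr 1
              ring
          _ = α⁻¹ ^ q * α ^ q := by rw [h, hF]
          _ = 1 := hinv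
      rw [hq] at h1
      have := eq_one_of_pow_prime_pow_eq_one p k _ h1
      rw [hq]
      exact this
  have hnorm := Cfsg.Agent.S2476.root_pow_geom g hg hm
  rw [hdeg, h0, Finset.sum_range_succ, Finset.sum_range_succ, Finset.sum_range_one, pow_zero] at hnorm
  have h3 : ((-1 : F) ^ 3 * -1) = 1 := by ring
  rw [h3, map_one] at hnorm
  have hle : q ≤ q ^ 2 := by
    calc q = q ^ 1 := (pow_one q).symm
      _ ≤ q ^ 2 := Nat.pow_le_pow_right hqpos (by norm_num)
  have hexp : (q ^ 2 - q + 1) + (q ^ 3 + 1) * q = 1 + Q ^ 1 + Q ^ 2 := by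
    rw [hF]
    have : q ^ 2 - q + 1 + (q ^ 3 + 1) * q = q ^ 2 + 1 + q ^ 4 := by
      have h5 : (q ^ 3 + 1) * q = q ^ 4 + q := by ring
      rw [h5]
      omega
    rw [this]
    ring
  have hfin : α ^ (q ^ 2 - q + 1) * (α ^ (q ^ 3 + 1)) ^ q = 1 := by
    rw [← pow_mul, ← pow_add, hexp]
    exact hnorm
  rw [key, one_pow, mul_one] at hfin
  exact hfin

/-- a unitary matrix has no irreducible quadratic factor over `F_{q²}` (dimension three) -/
theorem false_of_unitary_irred2 (p : ℕ) [Fact p.Prime] [CharP F p] (k : ℕ)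
    (hF : Fintype.card F = (p ^ k) ^ 2) (g : F[X]) (hg : Irreducible g)
    (hdeg : g.natDegree = 2) (a : F)
    (hS : haveI := Fact.mk hg; aeval ((AdjoinRoot.root g)⁻¹ ^ (p ^ k)) ((X - C a) * g) = 0) :
    False := by
  haveI := Fact.mk hg
  haveI : CharP (AdjoinRoot g) p :=
    charP_of_injective_algebraMap (algebraMap F (AdjoinRoot g)).injective p
  obtain ⟨hα, hα0, hne, hcard⟩ := adjoinRoot_facts g hg (by omega)
  rw [hdeg] at hcard
  set α := AdjoinRoot.root g with hαdef
  set q := p ^ k with hq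
  have hqpos : 0 < q := pow_pos (Fact.out : p.Prime).pos k
  set Q := Fintype.card F with hQ
  clear_value q
  have hQ1 : 1 ≤ Q := Fintype.card_pos
  have hQpk : Q = p ^ (2 * k) := by
    rw [hF, hq, ← pow_mul, mul_comm]
  have hr1 : aeval (α ^ Q) g = 0 := aeval_pow_card_eq_zero g α hα
  have hinv : α⁻¹ ^ q * α ^ q = 1 := by
    rw [← mul_pow, inv_mul_cancel₀ hα0, one_pow]
  have hQm1 : Q - 1 = (q + 1) * (q - 1) := by
    rw [hF]
    exact Cfsg.Agent.S2476.sq_sub_one_eq q hqpos
  have hαQ : α ^ Q = α ^ (Q - 1) * α := by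
    rw [← pow_succ, Nat.sub_add_cancel hQ1]
  have hcontra : α ^ (q + 1) = 1 → False := by
    intro h
    apply hne
    rw [hαQ, hQm1, pow_mul, h, one_pow, one_mul]
  have hcontra2 : α ^ (Q - 1) = 1 → False := by
    intro h
    apply hne
    rw [hαQ, h, one_mul]
  rw [map_mul, map_sub, aeval_X, aeval_C] at hS
  rcases mul_eq_zero.mp hS with h | h
  · -- the conjugate inverse lies in the base field
    have h1 : α⁻¹ ^ q = algebraMap F (AdjoinRoot g) a := sub_eq_zero.mp h
    have h2 : (α⁻¹ ^ q) ^ Q = α⁻¹ ^ q := by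
      rw [h1, ← map_pow, FiniteField.pow_card]
    rw [inv_pow, inv_pow, _root_.inv_inj] at h2
    apply hcontra2
    have h3 : (α ^ (Q - 1)) ^ q * α ^ q = 1 * α ^ q := by
      rw [← mul_pow, ← hαQ, one_mul, ← pow_mul, mul_comm, pow_mul]
      exact h2
    have h4 : (α ^ (Q - 1)) ^ q = 1 := mul_right_cancel₀ (pow_ne_zero _ hα0) h3
    rw [hq] at h4
    exact eq_one_of_pow_prime_pow_eq_one p k _ h4
  · classical
    have hmem := mem_of_roots_card g hg.ne_zero ({α, α ^ Q} : Finset (AdjoinRoot g))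
      (by
        intro r hr
        simp only [Finset.mem_insert, Finset.mem_singleton] at hr
        rcases hr with rfl | rfl
        · exact hα
        · exact hr1)
      (by
        rw [hdeg, Finset.card_insert_of_notMem, Finset.card_singleton]
        simp only [Finset.mem_singleton]
        exact fun h => hne h.symm)
      (α⁻¹ ^ q) h
    simp only [Finset.mem_insert, Finset.mem_singleton] at hmem
    rcases hmem with h | h
    · apply hcontra
      calc α ^ (q + 1) = α * α ^ q := pow_succ' _ _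
        _ = α⁻¹ ^ q * α ^ q := by rw [h]
        _ = 1 := hinv
    · apply hcontra
      have h1 : (α ^ (q + 1)) ^ q = 1 := by
        calc (α ^ (q + 1)) ^ q = α ^ (q ^ 2) * α ^ q := by
              rw [← pow_mul, ← pow_add]
              congr 1
              ring
          _ = α⁻¹ ^ q * α ^ q := by rw [h, hF]
          _ = 1 := hinv
      rw [hq] at h1
      have := eq_one_of_pow_prime_pow_eq_one p k _ h1
      rw [hq]
      exact this

end irr

section split
variable {F : Type*} [Field F] [Fintype F]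

/-- fixed points of the conjugate inverse -/
theorem pow_succ_eq_one_of_inv_pow_eq (q : ℕ) (r : F) (hr : r ≠ 0) (h : r⁻¹ ^ q = r) :
    r ^ (q + 1) = 1 := by
  calc r ^ (q + 1) = r * r ^ q := pow_succ' _ _
    _ = r⁻¹ ^ q * r ^ q := by rw [h]
    _ = 1 := by rw [← mul_pow, inv_mul_cancel₀ hr, one_pow]

/-- all three eigenvalues fixed and distinct -/
theorem split_unitary_fixed (q : ℕ) (a b c : F) (hab : a ≠ b) (hac : a ≠ c) (hbc : b ≠ c)
    (ha : a ^ (q + 1) = 1) (hb : b ^ (q + 1) = 1) (hc : c ^ (q + 1) = 1) :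
    ((X - C a) * (X - C b) * (X - C c) : F[X]) ∣ X ^ (q + 1) - C 1 := by
  have h1 := X_sub_C_dvd_pow a (q + 1)
  have h2 := X_sub_C_dvd_pow b (q + 1)
  have h3 := X_sub_C_dvd_pow c (q + 1)
  rw [ha] at h1
  rw [hb] at h2
  rw [hc] at h3
  have h4 : IsCoprime ((X - C a) * (X - C b) : F[X]) (X - C c) :=
    IsCoprime.mul_left (isCoprime_X_sub_C hac) (isCoprime_X_sub_C hbc)
  exact h4.mul_dvd ((isCoprime_X_sub_C hab).mul_dvd h1 h2) h3

/-- two eigenvalues swapped by the conjugate inverse -/
theorem split_unitary_swap (q d k' : ℕ) (hq2 : 2 ≤ q) (hF : Fintype.card F = q ^ 2)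
    (hd : d * k' = q + 1) (hd2 : d ∣ q - 2)
    (x y z : F) (hxy : x ≠ y) (hxz : x ≠ z) (hyz : y ≠ z) (hxyz : x * y * z = 1)
    (hswap : y * x ^ q = 1) :
    ((X - C x) * (X - C y) * (X - C z) : F[X]) ∣
      X ^ ((q - 1) * k') - C (x ^ ((q - 1) * k')) := by
  have hx0 : x ≠ 0 := by
    rintro rfl
    simp at hxyz
  set N := (q - 1) * k' with hN
  clear_value N
  have hQ : Fintype.card F - 1 = (q + 1) * (q - 1) := by
    rw [hF]
    exact sq_sub_one_eq q (by omega)
  have hx1 : x ^ ((q + 1) * N) = 1 := by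
    have : (q + 1) * N = (Fintype.card F - 1) * k' := by
      rw [hQ, hN]
      ring
    rw [this, pow_mul, FiniteField.pow_card_sub_one_eq_one _ hx0, one_pow]
  have hx2 : x ^ ((q - 2) * N) = 1 := by
    obtain ⟨e, he⟩ := hd2
    have : (q - 2) * N = (Fintype.card F - 1) * e := by
      rw [hQ, hN, he, ← hd]
      ring
    rw [this, pow_mul, FiniteField.pow_card_sub_one_eq_one _ hx0, one_pow]
  have hxN0 : x ^ N ≠ 0 := pow_ne_zero _ hx0
  have hxqN0 : x ^ (q * N) ≠ 0 := pow_ne_zero _ hx0
  have hyN : y ^ N = x ^ N := by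
    have h1 : y ^ N * x ^ (q * N) = 1 := by
      rw [pow_mul, ← mul_pow, hswap, one_pow]
    have h2 : x ^ N * x ^ (q * N) = 1 := by
      rw [← pow_add, ← hx1]
      congr 1
      ring
    exact mul_right_cancel₀ hxqN0 (h1.trans h2.symm)
  have hzN : z ^ N = x ^ N := by
    have h0 : z * x = x ^ q := by
      calc z * x = z * x * (y * x ^ q) := by rw [hswap, mul_one]
        _ = (x * y * z) * x ^ q := by ring
        _ = x ^ q := by rw [hxyz, one_mul]
    have h1 : z ^ N * x ^ N = x ^ (q * N) := by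
      rw [← mul_pow, h0, ← pow_mul]
    have h2 : x ^ (q * N) = x ^ N * x ^ N := by
      have : q * N = (q - 2) * N + (N + N) := by
        have : q = (q - 2) + 2 := by omega
        nth_rewrite 1 [this]
        ring
      rw [this, pow_add, hx2, one_mul, pow_add]
    exact mul_right_cancel₀ hxN0 (h1.trans h2)
  have h1 := X_sub_C_dvd_pow x N
  have h2 := X_sub_C_dvd_pow y N
  have h3 := X_sub_C_dvd_pow z N
  rw [hyN] at h2
  rw [hzN] at h3
  have h4 : IsCoprime ((X - C x) * (X - C y) : F[X]) (X - C z) :=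
    IsCoprime.mul_left (isCoprime_X_sub_C hxz) (isCoprime_X_sub_C hyz)
  exact h4.mul_dvd ((isCoprime_X_sub_C hxy).mul_dvd h1 h2) h3

/-- a repeated eigenvalue fixed by the conjugate inverse -/
theorem split_unitary_repeated (p : ℕ) [Fact p.Prime] [CharP F p] (hp3 : 3 ≤ p) (x y : F)
    (hxy : x * x * y = 1) (d k' : ℕ) (hd : d ∣ 3) (hx : x ^ (d * k') = 1) :
    ((X - C x) * (X - C x) * (X - C y) : F[X]) ∣ X ^ (p * k') - C (x ^ (p * k')) := by
  have hx0 : x ≠ 0 := by
    rintro rfl
    simp at hxy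
  have h1 := X_sub_C_pow_char_dvd p x k'
  rcases eq_or_ne x y with rfl | hne
  · have h2 : ((X - C x) * (X - C x) * (X - C x) : F[X]) = (X - C x) ^ 3 := by ring
    rw [h2]
    exact (pow_dvd_pow _ hp3).trans h1
  · have h2 : ((X - C x) * (X - C x) : F[X]) = (X - C x) ^ 2 := by ring
    rw [h2]
    have h3 : ((X - C x) ^ 2 : F[X]) ∣ X ^ (p * k') - C (x ^ (p * k')) :=
      (pow_dvd_pow _ (by omega)).trans h1
    have h4 := X_sub_C_dvd_pow y (p * k')
    have h5 : y ^ (p * k') = x ^ (p * k') := by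
      obtain ⟨d', hd'⟩ := hd
      have h6 : x ^ (3 * (p * k')) = 1 := by
        have : 3 * (p * k') = (d * k') * (d' * p) := by
          rw [hd']
          ring
        rw [this, pow_mul, hx, one_pow]
      have h7 : x ^ (p * k') * x ^ (p * k') * y ^ (p * k') = 1 := by
        rw [← mul_pow, ← mul_pow, hxy, one_pow]
      have h8 : x ^ (p * k') * x ^ (p * k') * x ^ (p * k') = 1 := by
        rw [← pow_add, ← pow_add, ← h6]
        congr 1
        ring
      have h9 : x ^ (p * k') * x ^ (p * k') ≠ 0 :=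
        mul_ne_zero (pow_ne_zero _ hx0) (pow_ne_zero _ hx0)
      exact mul_left_cancel₀ h9 (h7.trans h8.symm)
    rw [h5] at h4
    exact ((isCoprime_X_sub_C hne).pow_left).mul_dvd h3 h4

/-- a repeated eigenvalue cannot be swapped with the third one -/
theorem false_of_repeated_swap (q : ℕ) (x y : F) (hne : x ≠ y) (hxy : x * x * y = 1)
    (h1 : y * x ^ q = 1) (h2 : x * y ^ q = 1) : False := by
  have hx0 : x ≠ 0 := by
    rintro rfl
    simp at hxy
  have hy0 : y ≠ 0 := by
    rintro rfl
    simp at hxy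
  have h3 : x ^ q = x * x := by
    calc x ^ q = x ^ q * (x * x * y) := by rw [hxy, mul_one]
      _ = x * x * (y * x ^ q) := by ring
      _ = x * x := by rw [h1, mul_one]
  have h4 : x ^ 4 * y ^ q = 1 := by
    have : (x * x * y) ^ q = 1 := by rw [hxy, one_pow]
    rw [mul_pow, mul_pow, h3] at this
    rw [← this]
    ring
  have h5 : x ^ 4 = x := by
    have : x ^ 4 * y ^ q = x * y ^ q := h4.trans h2.symm
    exact mul_right_cancel₀ (pow_ne_zero _ hy0) this
  have h6 : x * x * x = 1 := by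
    have : x * x * x * x = 1 * x := by
      rw [one_mul]
      calc x * x * x * x = x ^ 4 := by ring
        _ = x := h5
    exact mul_right_cancel₀ hx0 this
  apply hne
  have : x * x * y = x * x * x := hxy.trans h6.symm
  exact (mul_left_cancel₀ (mul_ne_zero hx0 hx0) this).symm

theorem tau_tau (q : ℕ) (hF : Fintype.card F = q ^ 2) (r : F) : (r⁻¹ ^ q)⁻¹ ^ q = r := by
  rw [inv_pow, inv_pow, inv_pow, inv_inv, ← pow_mul, ← pow_two, ← hF, FiniteField.pow_card]

theorem tau_mul (q : ℕ) (r y : F) (hr : r ≠ 0) (h : r⁻¹ ^ q = y) : y * r ^ q = 1 := by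
  rw [← h, ← mul_pow, inv_mul_cancel₀ hr, one_pow]

/-- repeated eigenvalue, both patterns -/
theorem repeated_case (p : ℕ) [Fact p.Prime] [CharP F p] (hp3 : 3 ≤ p) (q : ℕ)
    (hF : Fintype.card F = q ^ 2) (d k' : ℕ) (hd3 : d ∣ 3) (hd : d * k' = q + 1)
    (x y : F) (hxy : x * x * y = 1)
    (hτx : x⁻¹ ^ q = x ∨ x⁻¹ ^ q = y) :
    ((X - C x) * (X - C x) * (X - C y) : F[X]) ∣ X ^ (p * k') - C (x ^ (p * k')) := by
  have hx0 : x ≠ 0 := by
    rintro rfl
    simp at hxy
  have hy0 : y ≠ 0 := by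
    rintro rfl
    simp at hxy
  by_cases hne : x = y
  · subst hne
    have h1 : x⁻¹ ^ q = x := by
      rcases hτx with h | h <;> exact h
    apply split_unitary_repeated p hp3 x x hxy d k' hd3
    rw [hd]
    exact pow_succ_eq_one_of_inv_pow_eq q x hx0 h1
  rcases hτx with h | h
  · apply split_unitary_repeated p hp3 x y hxy d k' hd3
    rw [hd]
    exact pow_succ_eq_one_of_inv_pow_eq q x hx0 h
  · exfalso
    have h1 := tau_mul q x y hx0 h
    have h2 : y⁻¹ ^ q = x := by
      rw [← h]
      exact tau_tau q hF x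
    have h3 := tau_mul q y x hy0 h2
    exact false_of_repeated_swap q x y hne hxy h1 h3

/-- distinct eigenvalues -/
theorem distinct_case (q : ℕ) (hq2 : 2 ≤ q) (hF : Fintype.card F = q ^ 2) (d k' : ℕ)
    (hd : d * k' = q + 1) (hd2 : d ∣ q - 2)
    (a b c : F) (hab : a ≠ b) (hac : a ≠ c) (hbc : b ≠ c) (habc : a * b * c = 1)
    (hτ : ∀ r : F, (r = a ∨ r = b ∨ r = c) →
      (r⁻¹ ^ q = a ∨ r⁻¹ ^ q = b ∨ r⁻¹ ^ q = c)) :
    ∃ (N : ℕ) (c0 : F), ((X - C a) * (X - C b) * (X - C c) : F[X]) ∣ X ^ N - C c0 ∧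
      (N = q + 1 ∨ N = (q - 1) * k') := by
  have ha0 : a ≠ 0 := by
    rintro rfl
    simp at habc
  have hb0 : b ≠ 0 := by
    rintro rfl
    simp at habc
  have hc0 : c ≠ 0 := by
    rintro rfl
    simp at habc
  have hinj : ∀ r s : F, r⁻¹ ^ q = s⁻¹ ^ q → r = s := by
    intro r s h
    have := congrArg (fun t : F => t⁻¹ ^ q) h
    simp only [tau_tau q hF] at this
    exact this
  -- the swap situations
  have swapab : a⁻¹ ^ q = b → ∃ (N : ℕ) (c0 : F),
      ((X - C a) * (X - C b) * (X - C c) : F[X]) ∣ X ^ N - C c0 ∧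
      (N = q + 1 ∨ N = (q - 1) * k') := by
    intro h
    exact ⟨_, _, split_unitary_swap q d k' hq2 hF hd hd2 a b c hab hac hbc habc
      (tau_mul q a b ha0 h), Or.inr rfl⟩
  have swapac : a⁻¹ ^ q = c → ∃ (N : ℕ) (c0 : F),
      ((X - C a) * (X - C b) * (X - C c) : F[X]) ∣ X ^ N - C c0 ∧
      (N = q + 1 ∨ N = (q - 1) * k') := by
    intro h
    have h1 := split_unitary_swap q d k' hq2 hF hd hd2 a c b hac hab hbc.symm
      (by rw [← habc]; ring) (tau_mul q a c ha0 h)
    have h2 : ((X - C a) * (X - C b) * (X - C c) : F[X]) = (X - C a) * (X - C c) * (X - C b) := by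
      ring
    exact ⟨_, _, h2 ▸ h1, Or.inr rfl⟩
  have swapbc : b⁻¹ ^ q = c → ∃ (N : ℕ) (c0 : F),
      ((X - C a) * (X - C b) * (X - C c) : F[X]) ∣ X ^ N - C c0 ∧
      (N = q + 1 ∨ N = (q - 1) * k') := by
    intro h
    have h1 := split_unitary_swap q d k' hq2 hF hd hd2 b c a hbc hab.symm hac.symm
      (by rw [← habc]; ring) (tau_mul q b c hb0 h)
    have h2 : ((X - C a) * (X - C b) * (X - C c) : F[X]) = (X - C b) * (X - C c) * (X - C a) := by
      ring
    exact ⟨_, _, h2 ▸ h1, Or.inr rfl⟩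
  rcases hτ a (Or.inl rfl) with ha | ha | ha
  · -- `a` fixed
    rcases hτ b (Or.inr (Or.inl rfl)) with hb | hb | hb
    · exact absurd (hinj b a (hb.trans ha.symm)) hab.symm
    · -- `b` fixed
      rcases hτ c (Or.inr (Or.inr rfl)) with hc | hc | hc
      · exact absurd (hinj c a (hc.trans ha.symm)) hac.symm
      · exact absurd (hinj c b (hc.trans hb.symm)) hbc.symm
      · exact ⟨q + 1, 1, split_unitary_fixed q a b c hab hac hbc
          (pow_succ_eq_one_of_inv_pow_eq q a ha0 ha) (pow_succ_eq_one_of_inv_pow_eq q b hb0 hb)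
          (pow_succ_eq_one_of_inv_pow_eq q c hc0 hc), Or.inl rfl⟩
    · exact swapbc hb
  · exact swapab ha
  · exact swapac ha

end split

section main
variable {F : Type u} [Field F] [Fintype F]

theorem finite_adjoinRoot' (g : F[X]) (hg : Irreducible g) : Finite (AdjoinRoot g) :=
  Cfsg.Agent.S2476.finite_adjoinRoot g hg

/-- the characteristic polynomial of a unitary `3 × 3` matrix divides some `X ^ N - c` -/
theorem unitary_poly_main (p : ℕ) [Fact p.Prime] [CharP F p] (hp3 : 3 ≤ p) (k : ℕ) (hk : 1 ≤ k)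
    (hF : Fintype.card F = (p ^ k) ^ 2) (χ : F[X]) (hm : χ.Monic) (hdeg : χ.natDegree = 3)
    (h0 : χ.coeff 0 = -1)
    (hS : ∀ (K : Type u) [Field K] [Algebra F K] (α : K), aeval α χ = 0 →
      aeval (α⁻¹ ^ (p ^ k)) χ = 0)
    (d k' : ℕ) (hd3 : d ∣ 3) (hd : d * k' = p ^ k + 1) :
    ∃ (N : ℕ) (c : F), χ ∣ X ^ N - C c ∧
      (N = ((p ^ k) ^ 2 - p ^ k + 1) / d ∨ N = p ^ k + 1 ∨ N = p * k' ∨ N = (p ^ k - 1) * k') := by
  have hpp : p.Prime := Fact.out
  set q := p ^ k with hq
  have hq3 : 3 ≤ q := by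
    calc 3 ≤ p := hp3
      _ = p ^ 1 := (pow_one p).symm
      _ ≤ p ^ k := Nat.pow_le_pow_right hpp.pos hk
  clear_value q
  have hdpos : 0 < d := Nat.pos_of_dvd_of_pos hd3 (by norm_num)
  have hdq1 : d ∣ q + 1 := ⟨k', hd.symm⟩
  have hd2 : d ∣ q - 2 := by
    have : q - 2 = (q + 1) - 3 := by omega
    rw [this]
    exact Nat.dvd_sub hdq1 hd3
  have hdN1 : d ∣ q ^ 2 - q + 1 := by
    have : q ^ 2 - q + 1 = (q + 1) * (q - 2) + 3 := by
      obtain ⟨t, rfl⟩ : ∃ t, q = t + 2 := ⟨q - 2, by omega⟩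
      simp only [Nat.add_sub_cancel]
      have : (t + 2) ^ 2 = (t + 2 + 1) * t + 2 + (t + 2) := by ring
      rw [this, Nat.add_sub_cancel]
    rw [this]
    exact dvd_add (hdq1.mul_right _) hd3
  have hQ : Fintype.card F - 1 = (q + 1) * (q - 1) := by
    rw [hF]
    exact sq_sub_one_eq q (by omega)
  by_cases hroot : ∃ a, χ.IsRoot a
  swap
  · -- irreducible cubic
    have hroots : χ.roots = 0 := by
      apply Multiset.eq_zero_of_forall_notMem
      intro a ha
      exact hroot ⟨a, (Polynomial.mem_roots hm.ne_zero).mp ha⟩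
    have hirr : Irreducible χ :=
      (hm.irreducible_iff_roots_eq_zero_of_degree_le_three (by omega) (by omega)).mpr hroots
    haveI := Fact.mk hirr
    haveI := finite_adjoinRoot' χ hirr
    have hα : aeval (AdjoinRoot.root χ) χ = 0 := AdjoinRoot.aeval_eq χ ▸ AdjoinRoot.mk_self
    have h1 := root_pow_of_unitary_irred3 p k (hq ▸ hF) χ hirr hm hdeg h0
      (hq ▸ hS (AdjoinRoot χ) (AdjoinRoot.root χ) hα)
    rw [← hq] at h1
    set N := (q ^ 2 - q + 1) / d with hN
    have hdN : d * N = q ^ 2 - q + 1 := Nat.mul_div_cancel' hdN1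
    have h2 : (AdjoinRoot.root χ ^ N) ^ (Fintype.card F - 1) = 1 := by
      rw [hQ, ← hd, ← pow_mul]
      have : N * (d * k' * (q - 1)) = (d * N) * (k' * (q - 1)) := by ring
      rw [this, hdN, pow_mul, h1, one_pow]
    obtain ⟨c, hc⟩ := exists_algebraMap_eq_of_pow_card_sub_one (F := F) (AdjoinRoot.root χ ^ N) h2
    refine ⟨N, c, ?_, Or.inl rfl⟩
    rw [← AdjoinRoot.mk_eq_zero, map_sub, map_pow, AdjoinRoot.mk_X, AdjoinRoot.mk_C, sub_eq_zero]
    exact hc.symm
  obtain ⟨a, ha⟩ := hroot
  have hχ : (X - C a) * (χ /ₘ (X - C a)) = χ := mul_divByMonic_eq_iff_isRoot.mpr ha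
  set g := χ /ₘ (X - C a) with hg
  have hgm : g.Monic := (monic_X_sub_C a).of_mul_monic_left (by rw [hχ]; exact hm)
  have hgdeg : g.natDegree = 2 := by
    rw [hg, natDegree_divByMonic _ (monic_X_sub_C a), hdeg, natDegree_X_sub_C]
  by_cases hroot2 : ∃ b, g.IsRoot b
  swap
  · -- linear times irreducible quadratic: impossible
    exfalso
    have hroots : g.roots = 0 := by
      apply Multiset.eq_zero_of_forall_notMem
      intro b hb
      exact hroot2 ⟨b, (Polynomial.mem_roots hgm.ne_zero).mp hb⟩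
    have hirr : Irreducible g :=
      (hgm.irreducible_iff_roots_eq_zero_of_degree_le_three (by omega) (by omega)).mpr hroots
    haveI := Fact.mk hirr
    have hμ : aeval (AdjoinRoot.root g) g = 0 := AdjoinRoot.aeval_eq g ▸ AdjoinRoot.mk_self
    have hμχ : aeval (AdjoinRoot.root g) χ = 0 := by
      rw [← hχ, map_mul, hμ, mul_zero]
    have h1 := hS (AdjoinRoot g) (AdjoinRoot.root g) hμχ
    rw [← hχ] at h1
    exact false_of_unitary_irred2 p k (hq ▸ hF) g hirr hgdeg a (hq ▸ h1)
  -- split case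
  obtain ⟨b, hb⟩ := hroot2
  have hg2 : (X - C b) * (g /ₘ (X - C b)) = g := mul_divByMonic_eq_iff_isRoot.mpr hb
  set h := g /ₘ (X - C b) with hh
  have hhm : h.Monic := (monic_X_sub_C b).of_mul_monic_left (by rw [hg2]; exact hgm)
  have hhdeg : h.natDegree = 1 := by
    rw [hh, natDegree_divByMonic _ (monic_X_sub_C b), hgdeg, natDegree_X_sub_C]
  have hh2 := hhm.eq_X_add_C hhdeg
  set c' := -h.coeff 0 with hc'
  have hh3 : h = X - C c' := by
    rw [hh2, hc', map_neg, sub_neg_eq_add]
  have hprod : χ = (X - C a) * (X - C b) * (X - C c') := by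
    rw [← hχ, ← hg2, hh3]
    ring
  have habc : a * b * c' = 1 := by
    have h1 := congrArg (fun f : F[X] => f.coeff 0) hprod
    simp only [mul_coeff_zero, h0, coeff_sub, coeff_X_zero, coeff_C_zero, zero_sub] at h1
    linear_combination h1
  have hτ : ∀ r : F, (r = a ∨ r = b ∨ r = c') →
      (r⁻¹ ^ q = a ∨ r⁻¹ ^ q = b ∨ r⁻¹ ^ q = c') := by
    intro r hr
    have h1 : aeval r χ = 0 := by
      rw [hprod, Polynomial.coe_aeval_eq_eval]
      rcases hr with rfl | rfl | rfl <;> simp
    have h2 := hS F r h1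
    rw [hprod, Polynomial.coe_aeval_eq_eval] at h2
    simp only [eval_mul, eval_sub, eval_X, eval_C, mul_eq_zero, sub_eq_zero] at h2
    rcases h2 with (h2 | h2) | h2
    · exact Or.inl h2
    · exact Or.inr (Or.inl h2)
    · exact Or.inr (Or.inr h2)
  by_cases hab : a = b
  · subst hab
    have h1 := repeated_case p hp3 q hF d k' hd3 hd a c' habc (by
      rcases hτ a (Or.inl rfl) with h | h | h
      · exact Or.inl h
      · exact Or.inl h
      · exact Or.inr h)
    exact ⟨p * k', _, hprod ▸ h1, Or.inr (Or.inr (Or.inl rfl))⟩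
  by_cases hac : a = c'
  · have hprod2 : χ = (X - C a) * (X - C a) * (X - C b) := by
      rw [hprod, ← hac]
      ring
    have habc2 : a * a * b = 1 := by
      rw [← habc, ← hac]
      ring
    have h1 := repeated_case p hp3 q hF d k' hd3 hd a b habc2 (by
      rcases hτ a (Or.inl rfl) with h | h | h
      · exact Or.inl h
      · exact Or.inr h
      · exact Or.inl (h.trans hac.symm))
    exact ⟨p * k', _, hprod2 ▸ h1, Or.inr (Or.inr (Or.inl rfl))⟩
  by_cases hbc : b = c'
  · have hprod2 : χ = (X - C b) * (X - C b) * (X - C a) := by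
      rw [hprod, ← hbc]
      ring
    have habc2 : b * b * a = 1 := by
      rw [← habc, ← hbc]
      ring
    have h1 := repeated_case p hp3 q hF d k' hd3 hd b a habc2 (by
      rcases hτ b (Or.inr (Or.inl rfl)) with h | h | h
      · exact Or.inr h
      · exact Or.inl h
      · exact Or.inl (h.trans hbc.symm))
    exact ⟨p * k', _, hprod2 ▸ h1, Or.inr (Or.inr (Or.inl rfl))⟩
  obtain ⟨N, c0, h1, h2⟩ := distinct_case q (by omega) hF d k' hd hd2 a b c' hab hac hbc habc hτ
  refine ⟨N, c0, hprod ▸ h1, ?_⟩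
  rcases h2 with h2 | h2
  · exact Or.inr (Or.inl h2)
  · exact Or.inr (Or.inr (Or.inr h2))

end main

end Cfsg.Agent.Lib.Helper40
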