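import Mathlib
import Cfsg.Agent.Lib.Helper40.UnitaryCharpoly
import Cfsg.Agent.Lib.Helper40.PSLOrders

/-!
# Eigenvalues of symplectic matrices over finite fields (helper40)

* `aeval_inv_charpoly_of_symplectic`: the roots of the characteristic polynomial of a symplectic
  matrix are closed under inversion.
* `exists_finset_of_closed`: counting a Frobenius/inversion orbit of roots.
* `exists_root_charpoly_of_pow`: an eigenvalue of prescribed order.
* `eq_zero_of_commute_of_card_roots`: a nilpotent matrix commuting with a matrix with simple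
  spectrum vanishes.
-/

set_option autoImplicit false
set_option linter.unusedSectionVars false

namespace Cfsg.Agent.Lib.Helper40

open Matrix Polynomial Module



section symp
variable {F : Type*} [Field F] {K : Type*} [Field K] [Algebra F K]
  {l : Type*} [Fintype l] [DecidableEq l]

/-- the characteristic polynomial of a symplectic matrix is that of its inverse -/
theorem charpoly_inv_of_symplectic (A : Matrix (l ⊕ l) (l ⊕ l) F)
    (hA : A ∈ symplecticGroup l F) : A⁻¹.charpoly = A.charpoly := by
  rw [SymplecticGroup.inv_eq_symplectic_inv A hA]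
  rw [Matrix.charpoly_mul_comm, ← Matrix.mul_assoc, Matrix.mul_neg, Matrix.J_squared, neg_neg,
    Matrix.one_mul, Matrix.charpoly_transpose]

/-- eigenvalues of a symplectic matrix are closed under inversion -/
theorem aeval_inv_charpoly_of_symplectic (A : Matrix (l ⊕ l) (l ⊕ l) F)
    (hA : A ∈ symplecticGroup l F) (α : K) (hα : aeval α A.charpoly = 0) :
    aeval α⁻¹ A.charpoly = 0 := by
  have hdetu : IsUnit A.det := SymplecticGroup.symplectic_det hA
  have hunit : IsUnit A := (Matrix.isUnit_iff_isUnit_det A).mpr hdetu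
  have hdet0 : A.det ≠ 0 := hdetu.ne_zero
  have h3 : A.charpoly = (-1) ^ Fintype.card (l ⊕ l) * C (Ring.inverse A.det) *
      A.charpoly.reverse := by
    conv_lhs => rw [← charpoly_inv_of_symplectic A hA]
    rw [Matrix.charpoly_inv A hunit, Matrix.reverse_charpoly]
  have hα0 : α ≠ 0 := by
    rintro rfl
    rw [← Polynomial.coeff_zero_eq_aeval_zero'] at hα
    have h4 := Matrix.det_eq_sign_charpoly_coeff A
    have h4' : A.charpoly.coeff 0 = 0 := by
      apply (algebraMap F K).injective
      rw [hα, map_zero]
    rw [h4', mul_zero] at h4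
    exact hdet0 h4
  have h5 : aeval α⁻¹ A.charpoly.reverse = 0 := by
    have : Invertible α := invertibleOfNonzero hα0
    have := (Polynomial.eval₂_reverse_eq_zero_iff (algebraMap F K) α A.charpoly).mpr hα
    rw [invOf_eq_inv] at this
    exact this
  rw [h3, map_mul, h5, mul_zero]

end symp



section orbit
variable {G : Type*} [CommGroup G] [DecidableEq G]

/-- the Frobenius orbit of an element of order `o` has `ord_o(q)` elements -/
theorem card_frob_orbit (ν : G) (q o e : ℕ) (ho : orderOf ν = o)
    (hqe : orderOf (q : ZMod o) = e) :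
    ((Finset.range e).image (fun i => ν ^ (q ^ i))).card = e := by
  rw [Finset.card_image_of_injOn, Finset.card_range]
  intro i hi j hj hij
  simp only [Finset.coe_range, Set.mem_Iio] at hi hj
  simp only at hij
  rw [pow_eq_pow_iff_modEq, ho] at hij
  have h1 : ((q : ZMod o)) ^ i = (q : ZMod o) ^ j := by
    have := (ZMod.natCast_eq_natCast_iff _ _ _).mpr hij
    push_cast at this
    exact this
  rw [← hqe] at hi hj
  exact pow_injOn_Iio_orderOf hi hj h1

/-- the inverse Frobenius orbit -/
theorem card_frob_orbit_inv (ν : G) (q o e : ℕ) (ho : orderOf ν = o)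
    (hqe : orderOf (q : ZMod o) = e) :
    ((Finset.range e).image (fun i => (ν ^ (q ^ i))⁻¹)).card = e := by
  have h := card_frob_orbit ν q o e ho hqe
  have h2 : (Finset.range e).image (fun i => (ν ^ (q ^ i))⁻¹) =
      ((Finset.range e).image (fun i => ν ^ (q ^ i))).image (fun x => x⁻¹) := by
    rw [Finset.image_image]
    rfl
  rw [h2, Finset.card_image_of_injective _ inv_injective, h]

/-- the two orbits are disjoint unless some power of `q` is `-1` -/
theorem disjoint_frob_orbit_inv (ν : G) (q o e : ℕ) (ho : orderOf ν = o) (he : 0 < e)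
    (hqe : orderOf (q : ZMod o) = e) (hneg : ∀ i : ℕ, (q : ZMod o) ^ i ≠ -1) :
    Disjoint ((Finset.range e).image (fun i => ν ^ (q ^ i)))
      ((Finset.range e).image (fun i => (ν ^ (q ^ i))⁻¹)) := by
  rw [Finset.disjoint_left]
  intro x hx hx'
  obtain ⟨i, -, rfl⟩ := Finset.mem_image.mp hx
  obtain ⟨j, -, hj⟩ := Finset.mem_image.mp hx'
  have h1 : ν ^ (q ^ i + q ^ j) = 1 := by
    rw [pow_add, ← hj, inv_mul_cancel]
  have h2 : o ∣ q ^ i + q ^ j := by
    rw [← ho]
    exact orderOf_dvd_of_pow_eq_one h1
  have h3 : (q : ZMod o) ^ i + (q : ZMod o) ^ j = 0 := by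
    have := (ZMod.natCast_eq_zero_iff (q ^ i + q ^ j) o).mpr h2
    push_cast at this
    exact this
  obtain ⟨e', rfl⟩ : ∃ e', e = e' + 1 := ⟨e - 1, by omega⟩
  have h4 : (q : ZMod o) ^ (e' + 1) = 1 := by
    rw [← hqe]
    exact pow_orderOf_eq_one _
  apply hneg (i + j * e')
  have h5 : (q : ZMod o) ^ (j + j * e') = 1 := by
    have : j + j * e' = (e' + 1) * j := by ring
    rw [this, pow_mul, h4, one_pow]
  have h6 : (q : ZMod o) ^ i = -(q : ZMod o) ^ j := eq_neg_of_add_eq_zero_left h3
  rw [pow_add, h6, neg_mul, ← pow_add, h5]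

/-- counting the elements of a subset closed under Frobenius and inversion -/
theorem exists_finset_of_closed (S : Set G) (q : ℕ) (hSq : ∀ x ∈ S, x ^ q ∈ S)
    (hSinv : ∀ x ∈ S, x⁻¹ ∈ S) (ν : G) (hν : ν ∈ S) (o e : ℕ) (ho : orderOf ν = o) (he : 0 < e)
    (hqe : orderOf (q : ZMod o) = e) :
    ∃ s : Finset G, (∀ x ∈ s, x ∈ S ∧ orderOf x = o) ∧ e ≤ s.card ∧
      ((∀ i : ℕ, (q : ZMod o) ^ i ≠ -1) → 2 * e ≤ s.card) := by
  have hmem : ∀ i : ℕ, ν ^ (q ^ i) ∈ S := by
    intro i
    induction i with
    | zero => rw [pow_zero, pow_one]; exact hν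
    | succ i ih =>
      rw [pow_succ, pow_mul]
      exact hSq _ ih
  have hunit : IsUnit (q : ZMod o) := by
    apply IsUnit.of_pow_eq_one (n := e) _ he.ne'
    rw [← hqe]
    exact pow_orderOf_eq_one _
  have hcop : q.Coprime o := (ZMod.isUnit_iff_coprime q o).mp hunit
  have hord : ∀ i : ℕ, orderOf (ν ^ (q ^ i)) = o := by
    intro i
    rw [Nat.Coprime.orderOf_pow, ho]
    rw [ho]
    exact (Nat.Coprime.pow_left i hcop).symm
  refine ⟨(Finset.range e).image (fun i => ν ^ (q ^ i)) ∪
    (Finset.range e).image (fun i => (ν ^ (q ^ i))⁻¹), ?_, ?_, ?_⟩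
  · intro x hx
    rcases Finset.mem_union.mp hx with hx | hx
    · obtain ⟨i, -, rfl⟩ := Finset.mem_image.mp hx
      exact ⟨hmem i, hord i⟩
    · obtain ⟨i, -, rfl⟩ := Finset.mem_image.mp hx
      exact ⟨hSinv _ (hmem i), by rw [orderOf_inv, hord i]⟩
  · calc e = ((Finset.range e).image (fun i => ν ^ (q ^ i))).card :=
        (card_frob_orbit ν q o e ho hqe).symm
      _ ≤ _ := Finset.card_le_card Finset.subset_union_left
  · intro hneg
    rw [Finset.card_union_of_disjoint (disjoint_frob_orbit_inv ν q o e ho he hqe hneg),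
      card_frob_orbit ν q o e ho hqe, card_frob_orbit_inv ν q o e ho hqe]
    omega

end orbit




section roots
variable {F : Type*} [Field F] {K : Type*} [Field K] [Algebra F K]
  {ι : Type*} [Fintype ι] [DecidableEq ι]

/-- coprime action: fixed points and commutator space are disjoint (any field) -/
theorem disjoint_ker_range' {W : Type*} [AddCommGroup W] [Module K W] (r : ℕ) (hrF : (r : K) ≠ 0)
    (S : Module.End K W) (hS : S ^ r = 1) :
    Disjoint (LinearMap.ker (S - 1)) (LinearMap.range (S - 1)) := by
  rw [Submodule.disjoint_def]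
  intro v hvP hvR
  have hT : (∑ i ∈ Finset.range r, S ^ i) * (S - 1) = 0 := by
    rw [geom_sum_mul, hS, sub_self]
  obtain ⟨w, rfl⟩ := hvR
  have h1 : (∑ i ∈ Finset.range r, S ^ i) ((S - 1) w) = 0 := by
    rw [← Module.End.mul_apply, hT, LinearMap.zero_apply]
  have hSv : S ((S - 1) w) = (S - 1) w := by
    rw [LinearMap.mem_ker, LinearMap.sub_apply, Module.End.one_apply, sub_eq_zero] at hvP
    exact hvP
  have h2 : ∀ i : ℕ, (S ^ i) ((S - 1) w) = (S - 1) w := by
    intro i
    induction i with
    | zero => rfl
    | succ i ih => rw [pow_succ, Module.End.mul_apply, hSv, ih]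
  rw [LinearMap.sum_apply, Finset.sum_congr rfl (fun i _ => h2 i), Finset.sum_const,
    Finset.card_range, ← Nat.cast_smul_eq_nsmul K] at h1
  rcases smul_eq_zero.mp h1 with h | h
  · exact absurd h hrF
  · exact h

/-- a set of roots of the characteristic polynomial has at most `dim` elements -/
theorem card_le_of_roots_charpoly (A : Matrix ι ι F) (Z : Finset K)
    (hZ : ∀ z ∈ Z, aeval z A.charpoly = 0) : Z.card ≤ Fintype.card ι := by
  classical
  set P := A.charpoly.map (algebraMap F K) with hP
  have hP0 : P ≠ 0 :=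
    (Polynomial.map_ne_zero_iff (algebraMap F K).injective).mpr (Matrix.charpoly_monic A).ne_zero
  have hsub : Z ⊆ P.roots.toFinset := by
    intro z hz
    rw [Multiset.mem_toFinset, Polynomial.mem_roots hP0, Polynomial.IsRoot, hP,
      Polynomial.eval_map_algebraMap]
    exact hZ z hz
  calc Z.card ≤ P.roots.toFinset.card := Finset.card_le_card hsub
    _ ≤ Multiset.card P.roots := Multiset.toFinset_card_le _
    _ ≤ P.natDegree := Polynomial.card_roots' P
    _ = A.charpoly.natDegree := Polynomial.natDegree_map _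
    _ = Fintype.card ι := Matrix.charpoly_natDegree_eq_dim A

/-- roots over an extension as roots of the base-changed matrix -/
theorem isRoot_charpoly_map (A : Matrix ι ι F) (z : K) (hz : aeval z A.charpoly = 0) :
    (A.map (algebraMap F K)).charpoly.IsRoot z := by
  rw [Matrix.charpoly_map, Polynomial.IsRoot, Polynomial.eval_map_algebraMap]
  exact hz

/-- an eigenvalue of a matrix of finite order, outside the roots of unity of smaller order -/
theorem exists_root_charpoly_of_pow [IsAlgClosed K] (A : Matrix ι ι F) (r s : ℕ)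
    (hrK : (r : K) ≠ 0) (h1 : A ^ (s * r) = 1) (h2 : A ^ s ≠ 1) :
    ∃ ν : K, aeval ν A.charpoly = 0 ∧ ν ^ (s * r) = 1 ∧ ν ^ s ≠ 1 := by
  set M : Matrix ι ι K := (algebraMap F K).mapMatrix A with hM
  set f : Module.End K (ι → K) := Matrix.toLinAlgEquiv' M with hf
  have hMpow : M ^ (s * r) = 1 := by rw [hM, ← map_pow, h1, map_one]
  have hMs : M ^ s ≠ 1 := by
    intro h
    apply h2
    have hinj : Function.Injective ((algebraMap F K).mapMatrix (m := ι)) := by
      intro X Y hXY
      exact Matrix.map_injective (algebraMap F K).injective hXY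
    apply hinj
    rw [map_pow, map_one]
    exact h
  have hfpow : f ^ (s * r) = 1 := by rw [hf, ← map_pow, hMpow, map_one]
  set T : Module.End K (ι → K) := f ^ s with hT
  have hTr : T ^ r = 1 := by rw [hT, ← pow_mul, hfpow]
  have hT1 : T ≠ 1 := by
    intro h
    apply hMs
    apply (Matrix.toLinAlgEquiv' (R := K) (n := ι)).injective
    rw [map_pow, map_one]
    exact h
  set W := LinearMap.range (T - 1) with hW
  have hW0 : W ≠ ⊥ := by
    intro h
    apply hT1
    exact sub_eq_zero.mp (LinearMap.range_eq_bot.mp h)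
  have hcomm : Commute f (T - 1) :=
    ((Commute.refl f).pow_right s).sub_right (Commute.one_right f)
  have hfW : ∀ v ∈ W, f v ∈ W := by
    rintro v ⟨w, rfl⟩
    refine ⟨f w, ?_⟩
    rw [← Module.End.mul_apply, ← Module.End.mul_apply, hcomm.eq]
  have : Nontrivial W := (Submodule.nontrivial_iff_ne_bot).mpr hW0
  obtain ⟨c, hc⟩ := Module.End.exists_eigenvalue (f.restrict hfW)
  obtain ⟨w, hw⟩ := hc.exists_hasEigenvector
  have hw0 : (w : ι → K) ≠ 0 := fun h => hw.2 (Subtype.ext h)
  have hfw : f (w : ι → K) = c • (w : ι → K) := by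
    have := hw.apply_eq_smul
    have h3 := congrArg Subtype.val this
    rw [LinearMap.restrict_apply] at h3
    exact h3
  have hpow : ∀ i : ℕ, (f ^ i) (w : ι → K) = c ^ i • (w : ι → K) := by
    intro i
    induction i with
    | zero => simp
    | succ i ih => rw [pow_succ', Module.End.mul_apply, ih, map_smul, hfw, smul_smul, pow_succ]
  refine ⟨c, ?_, ?_, ?_⟩
  · have hev : f.HasEigenvalue c := by
      apply Module.End.hasEigenvalue_of_hasEigenvector (x := (w : ι → K))
      exact ⟨Module.End.mem_eigenspace_iff.mpr hfw, hw0⟩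
    have h3 := (Module.End.hasEigenvalue_iff_isRoot_charpoly f c).mp hev
    have h4 : f.charpoly = M.charpoly := Matrix.charpoly_toLin' M
    rw [h4, hM, RingHom.mapMatrix_apply, Matrix.charpoly_map, Polynomial.IsRoot,
      Polynomial.eval_map_algebraMap] at h3
    exact h3
  · have h3 := hpow (s * r)
    rw [hfpow, Module.End.one_apply] at h3
    have h4 : (c ^ (s * r) - 1) • (w : ι → K) = 0 := by rw [sub_smul, one_smul, ← h3, sub_self]
    rcases smul_eq_zero.mp h4 with h | h
    · exact sub_eq_zero.mp h
    · exact absurd h hw0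
  · intro hcs
    apply hw0
    have h3 : T (w : ι → K) = (w : ι → K) := by rw [hT, hpow s, hcs, one_smul]
    have h4 : (w : ι → K) ∈ LinearMap.ker (T - 1) := by
      rw [LinearMap.mem_ker, LinearMap.sub_apply, h3, Module.End.one_apply, sub_self]
    exact Submodule.disjoint_def.mp (disjoint_ker_range' r hrK T hTr) _ h4 w.2

/-- a nilpotent matrix commuting with a matrix with `dim`-many distinct eigenvalues vanishes -/
theorem eq_zero_of_commute_of_card_roots (M N : Matrix ι ι K) (Z : Finset K)
    (hZ : ∀ z ∈ Z, M.charpoly.IsRoot z) (hcard : Fintype.card ι ≤ Z.card)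
    (hc : M * N = N * M) (hN : IsNilpotent N) : N = 0 := by
  classical
  rcases isEmpty_or_nonempty ↥Z with hZe | hZne
  · have h0 : Z.card = 0 := by
      rw [← Fintype.card_coe]
      exact Fintype.card_eq_zero
    have : IsEmpty ι := Fintype.card_eq_zero_iff.mp (by omega)
    ext i
    exact isEmptyElim i
  set f : Module.End K (ι → K) := Matrix.toLinAlgEquiv' M with hf
  set g : Module.End K (ι → K) := Matrix.toLinAlgEquiv' N with hg
  have hfg : ∀ v, f (g v) = g (f v) := by
    intro v
    rw [← Module.End.mul_apply, ← Module.End.mul_apply, hf, hg, ← map_mul, ← map_mul, hc]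
  have hev : ∀ z : ↥Z, ∃ v : ι → K, f.HasEigenvector z.1 v := by
    intro z
    have h3 : f.charpoly.IsRoot z.1 := by
      have h4 : f.charpoly = M.charpoly := Matrix.charpoly_toLin' M
      rw [h4]
      exact hZ z.1 z.2
    exact ((Module.End.hasEigenvalue_iff_isRoot_charpoly f z.1).mpr h3).exists_hasEigenvector
  choose v hv using hev
  have hli : LinearIndependent K v :=
    Module.End.eigenvectors_linearIndependent' f (fun z : ↥Z => z.1) Subtype.val_injective v hv
  have hcard2 : Fintype.card ↥Z = Module.finrank K (ι → K) := by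
    have h1 := hli.fintype_card_le_finrank
    rw [Module.finrank_fintype_fun_eq_card] at h1 ⊢
    rw [Fintype.card_coe] at h1 ⊢
    omega
  set b := basisOfLinearIndependentOfCardEqFinrank hli hcard2 with hb
  have hbv : ∀ z, b z = v z := by
    intro z
    rw [hb, coe_basisOfLinearIndependentOfCardEqFinrank]
  have hfv : ∀ z : ↥Z, f (v z) = z.1 • v z := fun z => (hv z).apply_eq_smul
  obtain ⟨m, hm⟩ := hN
  have hgm : g ^ m = 0 := by rw [hg, ← map_pow, hm, map_zero]
  have hgz : ∀ z : ↥Z, g (v z) = 0 := by
    intro z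
    set x := g (v z) with hx
    have hfx : f x = z.1 • x := by rw [hx, hfg, hfv, map_smul]
    have hsum : x = ∑ w, b.repr x w • v w := by
      conv_lhs => rw [← b.sum_repr x]
      exact Finset.sum_congr rfl (fun w _ => by rw [hbv])
    have hzero : ∑ w, (b.repr x w * (w.1 - z.1)) • v w = 0 := by
      have h1 : f x = ∑ w, (b.repr x w * w.1) • v w := by
        conv_lhs => rw [hsum, map_sum]
        apply Finset.sum_congr rfl
        intro w _
        rw [map_smul, hfv, smul_smul]
      have h2 : z.1 • x = ∑ w, (b.repr x w * z.1) • v w := by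
        conv_lhs => rw [hsum, Finset.smul_sum]
        apply Finset.sum_congr rfl
        intro w _
        rw [smul_smul, mul_comm]
      have h3 : ∑ w, (b.repr x w * (w.1 - z.1)) • v w =
          ∑ w, (b.repr x w * w.1) • v w - ∑ w, (b.repr x w * z.1) • v w := by
        rw [← Finset.sum_sub_distrib]
        apply Finset.sum_congr rfl
        intro w _
        rw [← sub_smul, mul_sub]
      rw [h3, ← h1, ← h2, hfx, sub_self]
    have hcoef := linearIndependent_iff'.mp hli Finset.univ _ hzero
    have hoff : ∀ w : ↥Z, w ≠ z → b.repr x w = 0 := by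
      intro w hwz
      have h1 := hcoef w (Finset.mem_univ w)
      rcases mul_eq_zero.mp h1 with h | h
      · exact h
      · exfalso
        apply hwz
        exact Subtype.ext (sub_eq_zero.mp h)
    have hxz : x = b.repr x z • v z := by
      conv_lhs => rw [hsum]
      apply Finset.sum_eq_single z
      · intro w _ hwz
        rw [hoff w hwz, zero_smul]
      · intro h
        exact absurd (Finset.mem_univ z) h
    set c := b.repr x z with hcdef
    have hpow : ∀ i : ℕ, (g ^ i) (v z) = c ^ i • v z := by
      intro i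
      induction i with
      | zero => simp
      | succ i ih => rw [pow_succ', Module.End.mul_apply, ih, map_smul, ← hx, hxz, smul_smul, pow_succ]
    have h5 := hpow m
    rw [hgm, LinearMap.zero_apply] at h5
    have hvz0 : v z ≠ 0 := (hv z).2
    rcases smul_eq_zero.mp h5.symm with h | h
    · have hc0 : c = 0 := pow_eq_zero_iff (n := m) (by
        intro hm0
        rw [hm0, pow_zero] at h
        exact one_ne_zero h) |>.mp h
      rw [hxz, hc0, zero_smul]
    · exact absurd h hvz0
  have hg0 : g = 0 := by
    apply b.ext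
    intro z
    rw [hbv, hgz, LinearMap.zero_apply]
  apply (Matrix.toLinAlgEquiv' (R := K) (n := ι)).injective
  rw [← hg, hg0, map_zero]

end roots

end Cfsg.Agent.Lib.Helper40
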