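import Mathlib
import Cfsg.Agent.Lib.Helper40.SpRoots

/-!
# Commuting elements of prime order in `Sp_{2n}(q)`: dimension bounds (helper40)

* `eta_succ_le_of_commuting`: an element of odd prime order `r` commuting with a nontrivial
  unipotent element forces `η(k) + 1 ≤ n`.
* `dims_of_order_mul`: an element of order `r * s`.
-/

set_option autoImplicit false
set_option linter.unusedSectionVars false

namespace Cfsg.Agent.Lib.Helper40

open Matrix Polynomial Module

section arith

/-- if `ord_r(q)` is odd, no power of `q` is `-1` modulo the odd prime `r` -/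
theorem pow_ne_neg_one_of_odd_order (r : ℕ) (hr : r.Prime) (hr2 : r ≠ 2) (q : ℕ)
    (hk : Odd (orderOf (q : ZMod r))) (i : ℕ) : (q : ZMod r) ^ i ≠ -1 := by
  intro h
  have h2 : (q : ZMod r) ^ (2 * i) = 1 := by
    rw [mul_comm, pow_mul, h]
    norm_num
  have h3 : orderOf (q : ZMod r) ∣ 2 * i := orderOf_dvd_of_pow_eq_one h2
  have h4 : orderOf (q : ZMod r) ∣ i :=
    Nat.Coprime.dvd_of_dvd_mul_left (Nat.coprime_two_right.mpr hk) h3
  have h5 : (q : ZMod r) ^ i = 1 := orderOf_dvd_iff_pow_eq_one.mp h4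
  rw [h5] at h
  have h6 : ((2 : ℕ) : ZMod r) = 0 := by
    push_cast
    linear_combination h
  have h7 : r ∣ 2 := (ZMod.natCast_eq_zero_iff 2 r).mp h6
  exact hr2 ((Nat.prime_dvd_prime_iff_eq hr Nat.prime_two).mp h7)

/-- if some power of `q` is `-1` modulo the odd prime `r`, then `ord_r(q)` divides twice the
exponent but not the exponent -/
theorem order_dvd_of_pow_eq_neg_one (r : ℕ) (hr : r.Prime) (hr2 : r ≠ 2) (q : ℕ) (i : ℕ)
    (h : (q : ZMod r) ^ i = -1) :
    orderOf (q : ZMod r) ∣ 2 * i ∧ ¬ orderOf (q : ZMod r) ∣ i := by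
  constructor
  · apply orderOf_dvd_of_pow_eq_one
    rw [mul_comm, pow_mul, h]
    norm_num
  · intro h4
    have h5 : (q : ZMod r) ^ i = 1 := orderOf_dvd_iff_pow_eq_one.mp h4
    rw [h5] at h
    have h6 : ((2 : ℕ) : ZMod r) = 0 := by
      push_cast
      linear_combination h
    have h7 : r ∣ 2 := (ZMod.natCast_eq_zero_iff 2 r).mp h6
    exact hr2 ((Nat.prime_dvd_prime_iff_eq hr Nat.prime_two).mp h7)

/-- the final arithmetic for elements of order `r * s` -/
theorem arith_order_mul (k l ηk ηl n e i : ℕ) (hk0 : 0 < k) (hl0 : 0 < l)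
    (hηk : (Odd k ∧ ηk = k) ∨ (Even k ∧ 2 * ηk = k))
    (hηl : (Odd l ∧ ηl = l) ∨ (Even l ∧ 2 * ηl = l)) (hkl : ηk ≤ ηl)
    (he0 : 0 < e) (hke : k ∣ e) (hle : l ∣ e)
    (h : e ≤ n ∨ (e ≤ 2 * n ∧ (k ∣ 2 * i ∧ ¬ k ∣ i) ∧ (l ∣ 2 * i ∧ ¬ l ∣ i))) :
    ηk + ηl ≤ n ∨ ∃ t : ℕ, Odd t ∧ l = k * t := by
  have hηk_le : ηk ≤ k := by rcases hηk with ⟨_, h⟩ | ⟨_, h⟩ <;> omega
  have hηl_le : ηl ≤ l := by rcases hηl with ⟨_, h⟩ | ⟨_, h⟩ <;> omega
  have hle' : l ≤ e := Nat.le_of_dvd he0 hle
  -- if `k ∤ l` then `2 l ≤ e`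
  have hbig : ¬ k ∣ l → 2 * l ≤ e := by
    intro hnd
    obtain ⟨c, hc⟩ := hle
    have hc1 : c ≠ 1 := by
      rintro rfl
      rw [mul_one] at hc
      exact hnd (hc ▸ hke)
    have hc0 : c ≠ 0 := by
      rintro rfl
      omega
    have : 2 ≤ c := by omega
    calc 2 * l = l * 2 := mul_comm _ _
      _ ≤ l * c := Nat.mul_le_mul_left l this
      _ = e := hc.symm
  rcases h with h | ⟨h2n, ⟨hk2i, hki⟩, ⟨hl2i, hli⟩⟩
  · by_cases hdiv : k ∣ l
    · obtain ⟨t, ht⟩ := hdiv
      rcases Nat.even_or_odd t with hte | hto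
      · left
        obtain ⟨t', ht'⟩ := hte
        have hleven : Even l := ⟨k * t', by rw [ht, ht']; ring⟩
        have h2l : 2 * ηl = l := by
          rcases hηl with ⟨ho, _⟩ | ⟨_, h⟩
          · exact absurd hleven (Nat.not_even_iff_odd.mpr ho)
          · exact h
        have ht'0 : t' ≠ 0 := by
          rintro rfl
          rw [ht', add_zero, mul_zero] at ht
          omega
        have hkl2 : 2 * k ≤ l := by
          rw [ht, ht']
          have : 1 ≤ t' := Nat.one_le_iff_ne_zero.mpr ht'0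
          nlinarith
        omega
      · right
        exact ⟨t, hto, ht⟩
    · left
      have := hbig hdiv
      omega
  · -- both even
    have hkeven : Even k := by
      rcases Nat.even_or_odd k with h | h
      · exact h
      · exact absurd (Nat.Coprime.dvd_of_dvd_mul_left (Nat.coprime_two_right.mpr h) hk2i) hki
    have hleven : Even l := by
      rcases Nat.even_or_odd l with h | h
      · exact h
      · exact absurd (Nat.Coprime.dvd_of_dvd_mul_left (Nat.coprime_two_right.mpr h) hl2i) hli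
    have h2k : 2 * ηk = k := by
      rcases hηk with ⟨ho, _⟩ | ⟨_, h⟩
      · exact absurd hkeven (Nat.not_even_iff_odd.mpr ho)
      · exact h
    have h2l : 2 * ηl = l := by
      rcases hηl with ⟨ho, _⟩ | ⟨_, h⟩
      · exact absurd hleven (Nat.not_even_iff_odd.mpr ho)
      · exact h
    by_cases hdiv : k ∣ l
    · obtain ⟨t, ht⟩ := hdiv
      rcases Nat.even_or_odd t with hte | hto
      · exfalso
        obtain ⟨t', ht'⟩ := hte
        apply hki
        have h3 : 2 * (k * t') ∣ 2 * i := by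
          have : 2 * (k * t') = l := by rw [ht, ht']; ring
          rw [this]
          exact hl2i
        have h4 : k * t' ∣ i := (Nat.mul_dvd_mul_iff_left (by norm_num)).mp h3
        exact (Dvd.intro _ rfl).trans h4
      · right
        exact ⟨t, hto, ht⟩
    · left
      have := hbig hdiv
      omega

end arith

section orbit2
variable {G : Type*} [CommGroup G] [DecidableEq G]

/-- an orbit of `2 η(k)` roots of order `r` -/
theorem exists_finset_two_eta (S : Set G) (q : ℕ) (hSq : ∀ x ∈ S, x ^ q ∈ S)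
    (hSinv : ∀ x ∈ S, x⁻¹ ∈ S) (ν : G) (hν : ν ∈ S) (r : ℕ) (hr : r.Prime) (hr2 : r ≠ 2)
    (ho : orderOf ν = r) (k ηk : ℕ) (hk0 : 0 < k) (hk : orderOf (q : ZMod r) = k)
    (hηk : (Odd k ∧ ηk = k) ∨ (Even k ∧ 2 * ηk = k)) :
    ∃ s : Finset G, (∀ x ∈ s, x ∈ S ∧ orderOf x = r) ∧ 2 * ηk ≤ s.card := by
  obtain ⟨s, hs, h1, h2⟩ := exists_finset_of_closed S q hSq hSinv ν hν r k ho hk0 hk
  refine ⟨s, hs, ?_⟩
  rcases hηk with ⟨hodd, h⟩ | ⟨_, h⟩
  · have := h2 (fun i => pow_ne_neg_one_of_odd_order r hr hr2 q (hk ▸ hodd) i)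
    omega
  · omega

end orbit2

section nonex
variable {F : Type*} [Field F] [Fintype F]

/-- an element of odd prime order `r` commuting with a nontrivial unipotent element of
`Sp_{2n}(q)` forces `η(k) + 1 ≤ n` -/
theorem eta_succ_le_of_commuting (p : ℕ) [Fact p.Prime] [CharP F p] (r : ℕ) (hr : r.Prime)
    (hr2 : r ≠ 2) (hrp : r ≠ p) {n : ℕ} (hn : 1 ≤ n)
    (S U : Matrix (Fin n ⊕ Fin n) (Fin n ⊕ Fin n) F) (hS : S ∈ symplecticGroup (Fin n) F)
    (hSr : S ^ r = 1) (hS1 : S ≠ 1) (hUp : U ^ p = 1) (hU1 : U ≠ 1) (hSU : S * U = U * S)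
    (k ηk : ℕ) (hk : orderOf ((Fintype.card F : ℕ) : ZMod r) = k)
    (hηk : (Odd k ∧ ηk = k) ∨ (Even k ∧ 2 * ηk = k)) : ηk + 1 ≤ n := by
  classical
  have hpp : p.Prime := Fact.out
  have : Fact r.Prime := ⟨hr⟩
  have : CharP (AlgebraicClosure F) p :=
    charP_of_injective_algebraMap (algebraMap F (AlgebraicClosure F)).injective p
  have hrK : (r : AlgebraicClosure F) ≠ 0 := by
    intro h0
    have h1 := (CharP.cast_eq_zero_iff (AlgebraicClosure F) p r).mp h0
    exact hrp ((Nat.prime_dvd_prime_iff_eq hpp hr).mp h1).symm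
  have hrq : ¬ r ∣ Fintype.card F := by
    intro h
    obtain ⟨e, he⟩ := FiniteField.card F p
    rw [he.2] at h
    exact hrp ((Nat.prime_dvd_prime_iff_eq hr hpp).mp (hr.dvd_of_dvd_pow h))
  have hk0 : 0 < k := by
    rw [← hk]
    exact order_pos hrq
  obtain ⟨ν, hνroot, hνr, hν1⟩ := exists_root_charpoly_of_pow (K := AlgebraicClosure F) S r 1 hrK
    (by rw [one_mul]; exact hSr) (by rw [pow_one]; exact hS1)
  rw [one_mul] at hνr
  rw [pow_one] at hν1
  have hν0 : ν ≠ 0 := by
    rintro rfl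
    rw [zero_pow hr.ne_zero] at hνr
    exact zero_ne_one hνr
  have hord : orderOf (Units.mk0 ν hν0) = r := by
    apply orderOf_eq_prime
    · apply Units.ext
      rw [Units.val_pow_eq_pow_val, Units.val_mk0, hνr, Units.val_one]
    · intro h
      apply hν1
      have := congrArg Units.val h
      rw [Units.val_mk0, Units.val_one] at this
      exact this
  obtain ⟨s, hs, hcard⟩ := exists_finset_two_eta
    {x : (AlgebraicClosure F)ˣ | aeval (x : AlgebraicClosure F) S.charpoly = 0} (Fintype.card F)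
    (by
      intro x hx
      show aeval ((x ^ Fintype.card F : (AlgebraicClosure F)ˣ) : AlgebraicClosure F) S.charpoly = 0
      rw [Units.val_pow_eq_pow_val]
      exact aeval_pow_card_eq_zero S.charpoly (x : AlgebraicClosure F) hx)
    (by
      intro x hx
      show aeval ((x⁻¹ : (AlgebraicClosure F)ˣ) : AlgebraicClosure F) S.charpoly = 0
      rw [Units.val_inv_eq_inv_val]
      exact aeval_inv_charpoly_of_symplectic S hS (x : AlgebraicClosure F) hx)
    (Units.mk0 ν hν0) (by
      show aeval ((Units.mk0 ν hν0 : (AlgebraicClosure F)ˣ) : AlgebraicClosure F) S.charpoly = 0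
      rw [Units.val_mk0]
      exact hνroot) r hr hr2 hord k ηk hk0 hk hηk
  set Z : Finset (AlgebraicClosure F) := s.map ⟨Units.val, Units.val_injective⟩ with hZ
  have hZroot : ∀ z ∈ Z, aeval z S.charpoly = 0 := by
    intro z hz
    obtain ⟨x, hx, rfl⟩ := Finset.mem_map.mp hz
    exact (hs x hx).1
  have hZcard : Z.card = s.card := Finset.card_map _
  have h2n := card_le_of_roots_charpoly S Z hZroot
  rw [Fintype.card_sum, Fintype.card_fin] at h2n
  by_contra hlt
  have heq : ηk = n := by omega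
  have hinj : Function.Injective
      ((algebraMap F (AlgebraicClosure F)).mapMatrix (m := Fin n ⊕ Fin n)) := by
    intro X Y hXY
    exact Matrix.map_injective (algebraMap F (AlgebraicClosure F)).injective hXY
  have hN : (algebraMap F (AlgebraicClosure F)).mapMatrix (U - 1) = 0 := by
    apply eq_zero_of_commute_of_card_roots ((algebraMap F (AlgebraicClosure F)).mapMatrix S) _ Z
    · intro z hz
      exact isRoot_charpoly_map S z (hZroot z hz)
    · rw [Fintype.card_sum, Fintype.card_fin]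
      omega
    · rw [← map_mul, ← map_mul]
      congr 1
      rw [mul_sub, sub_mul, mul_one, one_mul, hSU]
    · refine ⟨p, ?_⟩
      rw [← map_pow]
      have : Nonempty (Fin n ⊕ Fin n) := ⟨Sum.inl ⟨0, hn⟩⟩
      rw [sub_pow_char_of_commute p (Commute.one_right U), hUp, one_pow, sub_self, map_zero]
  apply hU1
  have := hinj (hN.trans (map_zero _).symm)
  exact sub_eq_zero.mp this

/-- divisors of a product of two primes -/
theorem order_cases (r s o : ℕ) (hr : r.Prime) (hs : s.Prime) (h1 : o ∣ r * s) (h2 : ¬ o ∣ s) :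
    o = r ∨ o = r * s := by
  have hro : r ∣ o := by
    by_contra hnd
    have hcop : o.Coprime r := ((Nat.Prime.coprime_iff_not_dvd hr).mpr hnd).symm
    exact h2 (hcop.dvd_of_dvd_mul_left h1)
  obtain ⟨o', rfl⟩ := hro
  have h3 : o' ∣ s := (Nat.mul_dvd_mul_iff_left hr.pos).mp h1
  rcases (Nat.dvd_prime hs).mp h3 with h | h
  · left
    rw [h, mul_one]
  · right
    rw [h]

/-- an element of order `r * s` of `Sp_{2n}(q)` forces `η(k) + η(l) ≤ n` or `l / k` odd -/
theorem eta_add_le_or_of_order_mul (p : ℕ) [Fact p.Prime] [CharP F p] (r s : ℕ) (hr : r.Prime)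
    (hs : s.Prime) (hr2 : r ≠ 2) (hs2 : s ≠ 2) (hrp : r ≠ p) (hsp : s ≠ p) (hrs : r ≠ s) {n : ℕ}
    (T : Matrix (Fin n ⊕ Fin n) (Fin n ⊕ Fin n) F) (hT : T ∈ symplecticGroup (Fin n) F)
    (hTrs : T ^ (r * s) = 1) (hTr : T ^ r ≠ 1) (hTs : T ^ s ≠ 1)
    (k l ηk ηl : ℕ) (hk : orderOf ((Fintype.card F : ℕ) : ZMod r) = k)
    (hl : orderOf ((Fintype.card F : ℕ) : ZMod s) = l)
    (hηk : (Odd k ∧ ηk = k) ∨ (Even k ∧ 2 * ηk = k))
    (hηl : (Odd l ∧ ηl = l) ∨ (Even l ∧ 2 * ηl = l)) (hkl : ηk ≤ ηl) :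
    ηk + ηl ≤ n ∨ ∃ t : ℕ, Odd t ∧ l = k * t := by
  classical
  have hpp : p.Prime := Fact.out
  have : Fact r.Prime := ⟨hr⟩
  have : Fact s.Prime := ⟨hs⟩
  have : CharP (AlgebraicClosure F) p :=
    charP_of_injective_algebraMap (algebraMap F (AlgebraicClosure F)).injective p
  have hrK : (r : AlgebraicClosure F) ≠ 0 := by
    intro h0
    have h1 := (CharP.cast_eq_zero_iff (AlgebraicClosure F) p r).mp h0
    exact hrp ((Nat.prime_dvd_prime_iff_eq hpp hr).mp h1).symm
  have hsK : (s : AlgebraicClosure F) ≠ 0 := by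
    intro h0
    have h1 := (CharP.cast_eq_zero_iff (AlgebraicClosure F) p s).mp h0
    exact hsp ((Nat.prime_dvd_prime_iff_eq hpp hs).mp h1).symm
  have hrq : ¬ r ∣ Fintype.card F := by
    intro h
    obtain ⟨e, he⟩ := FiniteField.card F p
    rw [he.2] at h
    exact hrp ((Nat.prime_dvd_prime_iff_eq hr hpp).mp (hr.dvd_of_dvd_pow h))
  have hsq : ¬ s ∣ Fintype.card F := by
    intro h
    obtain ⟨e, he⟩ := FiniteField.card F p
    rw [he.2] at h
    exact hsp ((Nat.prime_dvd_prime_iff_eq hs hpp).mp (hs.dvd_of_dvd_pow h))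
  have hk0 : 0 < k := by
    rw [← hk]
    exact order_pos hrq
  have hl0 : 0 < l := by
    rw [← hl]
    exact order_pos hsq
  obtain ⟨ν, hνroot, hνrs, hνs⟩ := exists_root_charpoly_of_pow (K := AlgebraicClosure F) T r s hrK
    (by rw [mul_comm]; exact hTrs) hTs
  obtain ⟨μ, hμroot, hμrs, hμr⟩ := exists_root_charpoly_of_pow (K := AlgebraicClosure F) T s r hsK
    hTrs hTr
  have hrs0 : r * s ≠ 0 := Nat.mul_ne_zero hr.ne_zero hs.ne_zero
  have hν0 : ν ≠ 0 := by
    rintro rfl
    rw [zero_pow (by rw [mul_comm]; exact hrs0)] at hνrs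
    exact zero_ne_one hνrs
  have hμ0 : μ ≠ 0 := by
    rintro rfl
    rw [zero_pow hrs0] at hμrs
    exact zero_ne_one hμrs
  -- the closed set of roots
  obtain ⟨Sset, hSset⟩ : ∃ Sset : Set (AlgebraicClosure F)ˣ,
      Sset = {x : (AlgebraicClosure F)ˣ | aeval (x : AlgebraicClosure F) T.charpoly = 0} := ⟨_, rfl⟩
  have hSq : ∀ x ∈ Sset, x ^ Fintype.card F ∈ Sset := by
    intro x hx
    rw [hSset] at hx ⊢
    show aeval ((x ^ Fintype.card F : (AlgebraicClosure F)ˣ) : AlgebraicClosure F) T.charpoly = 0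
    rw [Units.val_pow_eq_pow_val]
    exact aeval_pow_card_eq_zero T.charpoly (x : AlgebraicClosure F) hx
  have hSinv : ∀ x ∈ Sset, x⁻¹ ∈ Sset := by
    intro x hx
    rw [hSset] at hx ⊢
    show aeval ((x⁻¹ : (AlgebraicClosure F)ˣ) : AlgebraicClosure F) T.charpoly = 0
    rw [Units.val_inv_eq_inv_val]
    exact aeval_inv_charpoly_of_symplectic T hT (x : AlgebraicClosure F) hx
  have hνS : Units.mk0 ν hν0 ∈ Sset := by
    rw [hSset]
    show aeval ((Units.mk0 ν hν0 : (AlgebraicClosure F)ˣ) : AlgebraicClosure F) T.charpoly = 0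
    rw [Units.val_mk0]
    exact hνroot
  have hμS : Units.mk0 μ hμ0 ∈ Sset := by
    rw [hSset]
    show aeval ((Units.mk0 μ hμ0 : (AlgebraicClosure F)ˣ) : AlgebraicClosure F) T.charpoly = 0
    rw [Units.val_mk0]
    exact hμroot
  have hcardS : ∀ t : Finset (AlgebraicClosure F)ˣ, (∀ x ∈ t, x ∈ Sset) → t.card ≤ 2 * n := by
    intro t ht
    have h1 := card_le_of_roots_charpoly T (t.map ⟨Units.val, Units.val_injective⟩) (by
      intro z hz
      obtain ⟨x, hx, rfl⟩ := Finset.mem_map.mp hz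
      have := ht x hx
      rw [hSset] at this
      exact this)
    rw [Finset.card_map, Fintype.card_sum, Fintype.card_fin] at h1
    omega
  -- orders
  have hordν : orderOf (Units.mk0 ν hν0) = r ∨ orderOf (Units.mk0 ν hν0) = r * s := by
    apply order_cases r s _ hr hs
    · apply orderOf_dvd_of_pow_eq_one
      apply Units.ext
      rw [Units.val_pow_eq_pow_val, Units.val_mk0, mul_comm, hνrs, Units.val_one]
    · intro h
      apply hνs
      have h1 := orderOf_dvd_iff_pow_eq_one.mp h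
      have := congrArg Units.val h1
      rw [Units.val_pow_eq_pow_val, Units.val_mk0, Units.val_one] at this
      exact this
  have hordμ : orderOf (Units.mk0 μ hμ0) = s ∨ orderOf (Units.mk0 μ hμ0) = r * s := by
    have := order_cases s r (orderOf (Units.mk0 μ hμ0)) hs hr (by
      apply orderOf_dvd_of_pow_eq_one
      apply Units.ext
      rw [Units.val_pow_eq_pow_val, Units.val_mk0, mul_comm, hμrs, Units.val_one]) (by
      intro h
      apply hμr
      have h1 := orderOf_dvd_iff_pow_eq_one.mp h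
      have := congrArg Units.val h1
      rw [Units.val_pow_eq_pow_val, Units.val_mk0, Units.val_one] at this
      exact this)
    rw [mul_comm s r] at this
    exact this
  -- the case of an eigenvalue of order `r * s`
  have hcase : ∀ ξ : (AlgebraicClosure F)ˣ, ξ ∈ Sset → orderOf ξ = r * s →
      ηk + ηl ≤ n ∨ ∃ t : ℕ, Odd t ∧ l = k * t := by
    intro ξ hξS hξo
    have : NeZero (r * s) := ⟨hrs0⟩
    have hcop : (Fintype.card F).Coprime (r * s) := by
      apply Nat.Coprime.mul_right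
      · exact ((Nat.Prime.coprime_iff_not_dvd hr).mpr hrq).symm
      · exact ((Nat.Prime.coprime_iff_not_dvd hs).mpr hsq).symm
    obtain ⟨e, he⟩ : ∃ e, orderOf ((Fintype.card F : ℕ) : ZMod (r * s)) = e := ⟨_, rfl⟩
    have he0 : 0 < e := by
      rw [← he, ← ZMod.coe_unitOfCoprime (Fintype.card F) hcop, orderOf_units]
      exact orderOf_pos _
    have hpow1 : ((Fintype.card F : ℕ) : ZMod (r * s)) ^ e = 1 := by
      rw [← he]
      exact pow_orderOf_eq_one _
    have hke : k ∣ e := by
      rw [← hk]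
      apply orderOf_dvd_of_pow_eq_one
      have := congrArg (ZMod.castHom (dvd_mul_right r s) (ZMod r)) hpow1
      rw [map_pow, map_natCast, map_one] at this
      exact this
    have hle : l ∣ e := by
      rw [← hl]
      apply orderOf_dvd_of_pow_eq_one
      have := congrArg (ZMod.castHom (dvd_mul_left s r) (ZMod s)) hpow1
      rw [map_pow, map_natCast, map_one] at this
      exact this
    obtain ⟨t, ht, h1, h2⟩ := exists_finset_of_closed Sset (Fintype.card F) hSq hSinv ξ hξS
      (r * s) e hξo he0 he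
    have htcard := hcardS t (fun x hx => (ht x hx).1)
    by_cases hneg : ∃ i : ℕ, ((Fintype.card F : ℕ) : ZMod (r * s)) ^ i = -1
    · obtain ⟨i, hi⟩ := hneg
      have hir : ((Fintype.card F : ℕ) : ZMod r) ^ i = -1 := by
        have := congrArg (ZMod.castHom (dvd_mul_right r s) (ZMod r)) hi
        rw [map_pow, map_natCast, map_neg, map_one] at this
        exact this
      have his : ((Fintype.card F : ℕ) : ZMod s) ^ i = -1 := by
        have := congrArg (ZMod.castHom (dvd_mul_left s r) (ZMod s)) hi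
        rw [map_pow, map_natCast, map_neg, map_one] at this
        exact this
      have h3 := order_dvd_of_pow_eq_neg_one r hr hr2 _ i hir
      have h4 := order_dvd_of_pow_eq_neg_one s hs hs2 _ i his
      rw [hk] at h3
      rw [hl] at h4
      exact arith_order_mul k l ηk ηl n e i hk0 hl0 hηk hηl hkl he0 hke hle
        (Or.inr ⟨by omega, h3, h4⟩)
    · push Not at hneg
      have h3 := h2 hneg
      exact arith_order_mul k l ηk ηl n e 0 hk0 hl0 hηk hηl hkl he0 hke hle (Or.inl (by omega))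
  rcases hordν with hoν | hoν
  · rcases hordμ with hoμ | hoμ
    · left
      obtain ⟨s₁, hs₁, hc₁⟩ := exists_finset_two_eta Sset (Fintype.card F) hSq hSinv _ hνS r hr hr2
        hoν k ηk hk0 hk hηk
      obtain ⟨s₂, hs₂, hc₂⟩ := exists_finset_two_eta Sset (Fintype.card F) hSq hSinv _ hμS s hs hs2
        hoμ l ηl hl0 hl hηl
      have hdisj : Disjoint s₁ s₂ := by
        rw [Finset.disjoint_left]
        intro x hx₁ hx₂
        exact hrs ((hs₁ x hx₁).2.symm.trans (hs₂ x hx₂).2)
      have h1 := hcardS (s₁ ∪ s₂) (by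
        intro x hx
        rcases Finset.mem_union.mp hx with h | h
        · exact (hs₁ x h).1
        · exact (hs₂ x h).1)
      rw [Finset.card_union_of_disjoint hdisj] at h1
      omega
    · exact hcase _ hμS hoμ
  · exact hcase _ hνS hoν

end nonex

end Cfsg.Agent.Lib.Helper40
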