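import Mathlib

/-!
# Counting monic polynomials with prescribed irreducible factors

`card_monic_factors_in`: the number of monic polynomials of degree `n` all of whose monic
irreducible factors are `l` (of degree one) or lie in a finite set `S` of monic irreducible
polynomials of degree `i` is `(n / i + #S).choose #S`.
-/

namespace Cfsg.Agent.Lib.Helper40

open Polynomial UniqueFactorizationMonoid

section
variable {F : Type*} [Field F] [DecidableEq F]

theorem monic_of_mem_normalizedFactors {f m : F[X]} (hm : m ∈ normalizedFactors f) : m.Monic := by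
  have h1 := normalize_normalized_factor m hm
  rw [← h1]
  exact Polynomial.monic_normalize (irreducible_of_normalized_factor m hm).ne_zero

theorem prod_normalizedFactors_of_monic {f : F[X]} (hf : f.Monic) :
    (normalizedFactors f).prod = f := by
  have h1 := prod_normalizedFactors hf.ne_zero
  refine eq_of_monic_of_associated ?_ hf h1
  have := monic_multiset_prod_of_monic (normalizedFactors f) id
    (fun m hm => monic_of_mem_normalizedFactors hm)
  simpa using this

theorem mem_normalizedFactors_of_monic_irreducible {f m : F[X]} (hf : f ≠ 0) (hm : m.Monic)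
    (hirr : Irreducible m) (hdvd : m ∣ f) : m ∈ normalizedFactors f :=
  (mem_normalizedFactors_iff' hf).mpr ⟨hirr, hm.normalize_eq_self, hdvd⟩

omit [DecidableEq F] in
theorem eq_of_monic_irreducible_dvd {m m' : F[X]} (hm : m.Monic) (hirr : Irreducible m)
    (hm' : m'.Monic) (hirr' : Irreducible m') (hdvd : m ∣ m') : m = m' :=
  eq_of_monic_of_associated hm hm' (hirr.associated_of_dvd hirr' hdvd)

/-- The multiset-level description of monic polynomials with prescribed irreducible factors. -/
noncomputable def monicFactorsEquiv (S : Finset F[X]) (l : F[X]) (i n : ℕ)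
    (hS : ∀ m ∈ S, m.Monic ∧ Irreducible m ∧ m.natDegree = i)
    (hl : l.Monic ∧ Irreducible l ∧ l.natDegree = 1) (hlS : l ∉ S) :
    {f : F[X] // f.Monic ∧ f.natDegree = n ∧
      ∀ m : F[X], m.Monic → Irreducible m → m ∣ f → m = l ∨ m ∈ S} ≃
    {M : Multiset F[X] // (∀ m ∈ M, m ∈ S) ∧ i * Multiset.card M ≤ n} := by
  -- key decomposition of the normalized factors
  have key : ∀ f : F[X], f.Monic → f.natDegree = n →
      (∀ m : F[X], m.Monic → Irreducible m → m ∣ f → m = l ∨ m ∈ S) →
      n = i * Multiset.card ((normalizedFactors f).filter (· ∈ S)) +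
          Multiset.card ((normalizedFactors f).filter (fun m => ¬ m ∈ S)) ∧
        f = l ^ Multiset.card ((normalizedFactors f).filter (fun m => ¬ m ∈ S)) *
          ((normalizedFactors f).filter (· ∈ S)).prod := by
    intro f hf hdeg hfac
    have hN : ∀ m ∈ normalizedFactors f, m = l ∨ m ∈ S := fun m hm =>
      hfac m (monic_of_mem_normalizedFactors hm) (irreducible_of_normalized_factor m hm)
        (dvd_of_mem_normalizedFactors hm)
    have hrest : (normalizedFactors f).filter (fun m => ¬ m ∈ S) =
        Multiset.replicate (Multiset.card ((normalizedFactors f).filter (fun m => ¬ m ∈ S))) l := by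
      rw [Multiset.eq_replicate_card]
      intro b hb
      rw [Multiset.mem_filter] at hb
      rcases hN b hb.1 with h | h
      · exact h
      · exact absurd h hb.2
    have hsplit := Multiset.filter_add_not (· ∈ S) (normalizedFactors f)
    have hprod := prod_normalizedFactors_of_monic hf
    constructor
    · have h1 : f.natDegree = ((normalizedFactors f).map natDegree).sum := by
        conv_lhs => rw [← hprod]
        exact natDegree_multiset_prod_of_monic _ (fun m hm => monic_of_mem_normalizedFactors hm)
      rw [hdeg, ← hsplit, Multiset.map_add, Multiset.sum_add] at h1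
      have h2 : (((normalizedFactors f).filter (· ∈ S)).map natDegree) =
          Multiset.replicate (Multiset.card ((normalizedFactors f).filter (· ∈ S))) i := by
        rw [Multiset.eq_replicate]
        refine ⟨by simp, ?_⟩
        intro b hb
        rw [Multiset.mem_map] at hb
        obtain ⟨m, hm, rfl⟩ := hb
        rw [Multiset.mem_filter] at hm
        exact (hS m hm.2).2.2
      have h3 : (((normalizedFactors f).filter (fun m => ¬ m ∈ S)).map natDegree) =
          Multiset.replicate (Multiset.card ((normalizedFactors f).filter (fun m => ¬ m ∈ S))) 1 := by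
        rw [Multiset.eq_replicate]
        refine ⟨by simp, ?_⟩
        intro b hb
        rw [Multiset.mem_map] at hb
        obtain ⟨m, hm, rfl⟩ := hb
        rw [hrest] at hm
        rw [Multiset.eq_of_mem_replicate hm]
        exact hl.2.2
      rw [h2, h3, Multiset.sum_replicate, Multiset.sum_replicate] at h1
      rw [h1]
      simp [mul_comm]
    · conv_lhs => rw [← hprod, ← hsplit, Multiset.prod_add]
      conv_lhs => rw [hrest, Multiset.prod_replicate]
      rw [mul_comm]
  refine
    { toFun := fun f => ⟨(normalizedFactors f.1).filter (· ∈ S), ?_, ?_⟩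
      invFun := fun M => ⟨l ^ (n - i * Multiset.card M.1) * M.1.prod, ?_, ?_, ?_⟩
      left_inv := ?_
      right_inv := ?_ }
  · intro m hm
    exact (Multiset.mem_filter.mp hm).2
  · have := (key f.1 f.2.1 f.2.2.1 f.2.2.2).1
    omega
  · exact (hl.1.pow _).mul (monic_multiset_prod_of_monic M.1 id (fun m hm => (hS m (M.2.1 m hm)).1))
      |> (by simpa using ·)
  · have hmon : M.1.prod.Monic := by
      have := monic_multiset_prod_of_monic M.1 id (fun m hm => (hS m (M.2.1 m hm)).1)
      simpa using this
    rw [(hl.1.pow _).natDegree_mul hmon, hl.1.natDegree_pow, hl.2.2, mul_one,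
      natDegree_multiset_prod_of_monic _ (fun m hm => (hS m (M.2.1 m hm)).1)]
    have h2 : M.1.map natDegree = Multiset.replicate (Multiset.card M.1) i := by
      rw [Multiset.eq_replicate]
      refine ⟨by simp, ?_⟩
      intro b hb
      rw [Multiset.mem_map] at hb
      obtain ⟨m, hm, rfl⟩ := hb
      exact (hS m (M.2.1 m hm)).2.2
    rw [h2, Multiset.sum_replicate, smul_eq_mul]
    have h5 := M.2.2
    have h6 : Multiset.card M.1 * i = i * Multiset.card M.1 := mul_comm _ _
    omega
  · intro m hm hirr hdvd
    rcases hirr.prime.dvd_or_dvd hdvd with h | h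
    · left
      exact eq_of_monic_irreducible_dvd hm hirr hl.1 hl.2.1 (hirr.prime.dvd_of_dvd_pow h)
    · right
      obtain ⟨m', hm', hd⟩ := Prime.exists_mem_multiset_dvd hirr.prime h
      have := hS m' (M.2.1 m' hm')
      rw [eq_of_monic_irreducible_dvd hm hirr this.1 this.2.1 hd]
      exact M.2.1 m' hm'
  · intro f
    apply Subtype.ext
    obtain ⟨h1, h2⟩ := key f.1 f.2.1 f.2.2.1 f.2.2.2
    show l ^ (n - i * Multiset.card ((normalizedFactors f.1).filter (· ∈ S))) *
      ((normalizedFactors f.1).filter (· ∈ S)).prod = f.1
    conv_rhs => rw [h2]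
    congr 2
    omega
  · intro M
    apply Subtype.ext
    show (normalizedFactors (l ^ (n - i * Multiset.card M.1) * M.1.prod)).filter (· ∈ S) = M.1
    have hmon : M.1.prod.Monic := by
      have := monic_multiset_prod_of_monic M.1 id (fun m hm => (hS m (M.2.1 m hm)).1)
      simpa using this
    rw [normalizedFactors_mul (pow_ne_zero _ hl.1.ne_zero) hmon.ne_zero, normalizedFactors_pow,
      normalizedFactors_irreducible hl.2.1, hl.1.normalize_eq_self,
      normalizedFactors_prod_eq M.1 (fun m hm => (hS m (M.2.1 m hm)).2.1)]
    have h3 : M.1.map normalize = M.1 := by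
      conv_rhs => rw [← Multiset.map_id M.1]
      apply Multiset.map_congr rfl
      intro m hm
      exact (hS m (M.2.1 m hm)).1.normalize_eq_self
    rw [h3, Multiset.filter_add]
    have h4 : ((n - i * Multiset.card M.1) • ({l} : Multiset F[X])).filter (· ∈ S) = 0 := by
      rw [Multiset.filter_eq_nil]
      intro a ha
      rw [Multiset.mem_nsmul] at ha
      rw [Multiset.mem_singleton.mp ha.2]
      exact hlS
    rw [h4, zero_add, Multiset.filter_eq_self]
    exact M.2.1

end

section
open Finset

/-- Counting multisets of bounded size over a finite set. -/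
theorem card_multisets_in {α : Type*} [DecidableEq α] (S : Finset α) (i n : ℕ) (hi : 0 < i) :
    Nat.card {M : Multiset α // (∀ m ∈ M, m ∈ S) ∧ i * Multiset.card M ≤ n} =
      (n / i + S.card).choose S.card := by
  set T : Finset (α →₀ ℕ) := (Finset.range (n / i + 1)).biUnion (fun j => S.finsuppAntidiag j)
    with hT
  have e : {M : Multiset α // (∀ m ∈ M, m ∈ S) ∧ i * Multiset.card M ≤ n} ≃ ↥T := by
    refine Equiv.subtypeEquiv Multiset.toFinsupp.toEquiv ?_
    intro M
    rw [hT, Finset.mem_biUnion]
    simp only [Finset.mem_range, AddEquiv.toEquiv_eq_coe, EquivLike.coe_coe,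
      Finset.mem_finsuppAntidiag', Multiset.toFinsupp_support]
    have hsum : (Multiset.toFinsupp M).sum (fun _ x => x) = Multiset.card M :=
      Multiset.toFinsupp_sum_eq M
    rw [hsum]
    constructor
    · rintro ⟨h1, h2⟩
      refine ⟨Multiset.card M, ?_, rfl, ?_⟩
      · rw [Nat.lt_succ_iff, Nat.le_div_iff_mul_le hi, mul_comm]
        exact h2
      · intro m hm
        exact h1 m (Multiset.mem_toFinset.mp hm)
    · rintro ⟨j, hj, hj', h2⟩
      refine ⟨fun m hm => h2 (Multiset.mem_toFinset.mpr hm), ?_⟩
      rw [Nat.lt_succ_iff, Nat.le_div_iff_mul_le hi, ← hj', mul_comm] at hj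
      exact hj
  rw [Nat.card_congr e, Nat.card_eq_fintype_card, Fintype.card_coe, hT, Finset.card_biUnion]
  · simp only [Finset.card_finsuppAntidiag_nat_eq_multichoose]
    exact Nat.sum_range_multichoose (n / i) S.card
  · intro j _ j' _ hjj'
    rw [Function.onFun, Finset.disjoint_left]
    intro a ha ha'
    rw [Finset.mem_finsuppAntidiag] at ha ha'
    exact hjj' (ha.1.symm.trans ha'.1)

end

section
variable {F : Type*} [Field F]

/-- The number of monic polynomials of degree `n` whose monic irreducible factors are `l` (of
degree one) or in `S` (all of degree `i`). -/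
theorem card_monic_factors_in (S : Finset F[X]) (l : F[X]) (i n : ℕ) (hi : 0 < i)
    (hS : ∀ m ∈ S, m.Monic ∧ Irreducible m ∧ m.natDegree = i)
    (hl : l.Monic ∧ Irreducible l ∧ l.natDegree = 1) (hlS : l ∉ S) :
    Nat.card {f : F[X] // f.Monic ∧ f.natDegree = n ∧
      ∀ m : F[X], m.Monic → Irreducible m → m ∣ f → m = l ∨ m ∈ S} =
      (n / i + S.card).choose S.card := by
  classical
  rw [Nat.card_congr (monicFactorsEquiv S l i n hS hl hlS), card_multisets_in S i n hi]

end

end Cfsg.Agent.Lib.Helper40
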