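import Mathlib

/-!
# Semisimple endomorphisms with the same characteristic polynomial are conjugate

`exists_equiv_of_charpoly_eq`: two semisimple endomorphisms `φ`, `ψ` of finite-dimensional vector
spaces over a field with the same characteristic polynomial are intertwined by a linear equivalence.
-/

namespace Cfsg.Agent.Lib.Helper40

open Polynomial Module

section
variable {F : Type*} [Field F] {V : Type*} [AddCommGroup V] [Module F V]

/-- A linear map intertwining two endomorphisms intertwines all polynomials in them. -/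
theorem aeval_intertwine {W : Type*} [AddCommGroup W] [Module F W] (φ : Module.End F V)
    (ψ : Module.End F W) (e : V →ₗ[F] W) (h : ∀ x, e (φ x) = ψ (e x)) (p : F[X]) (x : V) :
    e (aeval φ p x) = aeval ψ p (e x) := by
  have hpow : ∀ (n : ℕ) (x : V), e ((φ ^ n) x) = (ψ ^ n) (e x) := by
    intro n
    induction n with
    | zero => intro x; simp
    | succ n ih => intro x; rw [pow_succ, pow_succ, Module.End.mul_apply, Module.End.mul_apply, ih, h]
  induction p using Polynomial.induction_on' with
  | add p q hp hq => simp [hp, hq]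
  | monomial n a =>
    rw [aeval_monomial, aeval_monomial]
    simp only [Module.algebraMap_end_eq_smul_id, Module.End.mul_apply, LinearMap.smul_apply,
      LinearMap.id_coe, id_eq, map_smul, hpow]

/-- The `F[X]`-linear map `F[X]/(m) → V`, `p ↦ p(φ) v`, for `v` killed by `m(φ)`. -/
noncomputable def iotaX (φ : Module.End F V) (m : F[X]) (v : V) (h : aeval φ m v = 0) :
    (F[X] ⧸ (Ideal.span {m} : Ideal F[X])) →ₗ[F[X]] AEval' φ :=
  (Ideal.span {m}).liftQ (LinearMap.toSpanSingleton F[X] (AEval' φ) (AEval'.of φ v)) (by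
    rw [Ideal.span, Submodule.span_le]
    intro p hp
    rw [Set.mem_singleton_iff] at hp
    subst hp
    simp only [SetLike.mem_coe, LinearMap.mem_ker, LinearMap.toSpanSingleton_apply]
    rw [← AEval.of_aeval_smul]
    simp [h])

/-- The `F`-linear map `F[X]/(m) → V`, `p ↦ p(φ) v`. -/
noncomputable def iotaF (φ : Module.End F V) (m : F[X]) (v : V) (h : aeval φ m v = 0) :
    AdjoinRoot m →ₗ[F] V :=
  (AEval'.of φ).symm.toLinearMap ∘ₗ (iotaX φ m v h).restrictScalars F

theorem iotaF_mk (φ : Module.End F V) (m : F[X]) (v : V) (h : aeval φ m v = 0) (p : F[X]) :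
    iotaF φ m v h (AdjoinRoot.mk m p) = aeval φ p v := rfl

theorem iotaF_mk_mul (φ : Module.End F V) (m : F[X]) (v : V) (h : aeval φ m v = 0) (p : F[X])
    (x : AdjoinRoot m) :
    iotaF φ m v h (AdjoinRoot.mk m p * x) = aeval φ p (iotaF φ m v h x) := by
  induction x using AdjoinRoot.induction_on with
  | ih q =>
    rw [← map_mul, iotaF_mk, iotaF_mk]
    simp

theorem iotaF_root_mul (φ : Module.End F V) (m : F[X]) (v : V) (h : aeval φ m v = 0)
    (x : AdjoinRoot m) :
    iotaF φ m v h (AdjoinRoot.root m * x) = φ (iotaF φ m v h x) := by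
  rw [AdjoinRoot.root, iotaF_mk_mul]
  simp

theorem iotaF_injective (φ : Module.End F V) (m : F[X]) (hirr : Irreducible m) (v : V)
    (hv : v ≠ 0) (h : aeval φ m v = 0) : Function.Injective (iotaF φ m v h) := by
  have : Fact (Irreducible m) := ⟨hirr⟩
  rw [← LinearMap.ker_eq_bot, LinearMap.ker_eq_bot']
  intro x hx
  by_contra hx0
  obtain ⟨p, hp⟩ := AdjoinRoot.mk_surjective (g := m) x⁻¹
  have h1 : iotaF φ m v h (AdjoinRoot.mk m p * x) = 0 := by
    rw [iotaF_mk_mul, hx, map_zero]
  rw [hp, inv_mul_cancel₀ hx0] at h1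
  have h2 : iotaF φ m v h 1 = v := by
    have := iotaF_mk φ m v h 1
    simpa using this
  exact hv (h2 ▸ h1)

/-- Multiplication by the root on `F[X]/(m)`. -/
noncomputable def mulRoot (m : F[X]) : Module.End F (AdjoinRoot m) :=
  LinearMap.mulLeft F (AdjoinRoot.root m)

theorem mulRoot_apply (m : F[X]) (x : AdjoinRoot m) : mulRoot m x = AdjoinRoot.root m * x := rfl

theorem finite_adjoinRoot (m : F[X]) (hm : m ≠ 0) : Module.Finite F (AdjoinRoot m) :=
  (AdjoinRoot.powerBasis hm).finite

theorem charpoly_mulRoot (m : F[X]) (hm : m.Monic) [Module.Finite F (AdjoinRoot m)] :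
    (mulRoot m).charpoly = m := by
  have h1 := charpoly_leftMulMatrix (AdjoinRoot.powerBasis hm.ne_zero)
  rw [AdjoinRoot.powerBasis_gen, AdjoinRoot.minpoly_root hm.ne_zero, hm.leadingCoeff, inv_one,
    map_one, mul_one] at h1
  refine Eq.trans ?_ h1
  rw [← LinearMap.charpoly_toMatrix (mulRoot m) (AdjoinRoot.powerBasis hm.ne_zero).basis]
  rfl

end

section
universe u v
variable {F : Type*} [Field F]

/-- Splitting off a copy of `F[X]/(m)` from a semisimple endomorphism. -/
theorem exists_split {V : Type u} [AddCommGroup V] [Module F V] [FiniteDimensional F V]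
    (φ : Module.End F V) (hφ : φ.IsSemisimple) (m : F[X]) (hm : m.Monic)
    (hirr : Irreducible m) (v : V) (hv : v ≠ 0) (hmv : aeval φ m v = 0) :
    ∃ (S' : Submodule F V) (hS' : S' ∈ φ.invtSubmodule) (e : (AdjoinRoot m × S') ≃ₗ[F] V),
      (∀ x, e (((mulRoot m).prodMap (φ.restrict hS')) x) = φ (e x)) ∧
      φ.charpoly = m * (φ.restrict hS').charpoly ∧
      Module.finrank F S' < Module.finrank F V := by
  have hfin : Module.Finite F (AdjoinRoot m) := finite_adjoinRoot m hm.ne_zero
  have hfact : Fact (Irreducible m) := ⟨hirr⟩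
  set ι := iotaF φ m v hmv with hι
  have hinj : Function.Injective ι := iotaF_injective φ m hirr v hv hmv
  have hS : LinearMap.range ι ∈ φ.invtSubmodule := by
    rw [Module.End.mem_invtSubmodule]
    rintro _ ⟨x, rfl⟩
    exact ⟨AdjoinRoot.root m * x, iotaF_root_mul φ m v hmv x⟩
  obtain ⟨S', hS', hc⟩ := (Module.End.isSemisimple_iff.mp hφ) _ hS
  let e : (AdjoinRoot m × S') ≃ₗ[F] V :=
    (LinearEquiv.prodCongr (LinearEquiv.ofInjective ι hinj) (LinearEquiv.refl F S')).trans
      (Submodule.prodEquivOfIsCompl _ _ hc)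
  have he : ∀ x, e (((mulRoot m).prodMap (φ.restrict hS')) x) = φ (e x) := by
    rintro ⟨x, s⟩
    have h1 : ∀ (y : AdjoinRoot m) (t : S'), e (y, t) = ι y + (t : V) := by
      intro y t
      show (Submodule.prodEquivOfIsCompl _ _ hc) ((LinearEquiv.ofInjective ι hinj) y, t) = _
      rw [Submodule.coe_prodEquivOfIsCompl']
      rfl
    rw [LinearMap.prodMap_apply, h1, h1, map_add, mulRoot_apply, hι, iotaF_root_mul]
    rfl
  refine ⟨S', hS', e, he, ?_, ?_⟩
  · have h2 : φ = e.conj ((mulRoot m).prodMap (φ.restrict hS')) := by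
      ext x
      rw [LinearEquiv.conj_apply]
      simp only [LinearMap.coe_comp, LinearEquiv.coe_coe, Function.comp_apply]
      rw [he, LinearEquiv.apply_symm_apply]
    conv_lhs => rw [h2]
    rw [LinearEquiv.charpoly_conj, LinearMap.charpoly_prodMap, charpoly_mulRoot m hm]
  · have h3 := LinearEquiv.finrank_eq e
    rw [Module.finrank_prod] at h3
    have h4 : 0 < Module.finrank F (AdjoinRoot m) := Module.finrank_pos
    omega

/-- A nonzero space with an endomorphism has a nonzero vector killed by an irreducible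
polynomial in the endomorphism. -/
theorem exists_irreducible_aeval_eq_zero {V : Type u} [AddCommGroup V] [Module F V]
    [FiniteDimensional F V] [Nontrivial V] (φ : Module.End F V) :
    ∃ (m : F[X]) (v : V), m.Monic ∧ Irreducible m ∧ v ≠ 0 ∧ aeval φ m v = 0 := by
  have hint : IsIntegral F φ := Algebra.IsIntegral.isIntegral φ
  have hμ : ¬ IsUnit (minpoly F φ) := minpoly.not_isUnit F φ
  obtain ⟨m, hm, hirr, h, hμeq⟩ := Polynomial.exists_monic_irreducible_factor (minpoly F φ) hμ
  have hh0 : h ≠ 0 := by
    rintro rfl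
    rw [mul_zero] at hμeq
    exact minpoly.ne_zero hint hμeq
  have hh : aeval φ h ≠ 0 := by
    intro h0
    obtain ⟨c, hc⟩ := minpoly.dvd F φ h0
    rw [hμeq] at hc
    have h5 : h * 1 = h * (m * c) := by
      calc h * 1 = h := mul_one h
        _ = m * h * c := hc
        _ = h * (m * c) := by ring
    have h6 := mul_left_cancel₀ hh0 h5
    exact hirr.not_isUnit (IsUnit.of_mul_eq_one c h6.symm)
  obtain ⟨u, hu⟩ : ∃ u, aeval φ h u ≠ 0 := by
    by_contra hcon
    push Not at hcon
    apply hh
    ext u
    simpa using hcon u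
  refine ⟨m, aeval φ h u, hm, hirr, hu, ?_⟩
  rw [← Module.End.mul_apply, ← map_mul, ← hμeq, minpoly.aeval]
  simp

/-- For a semisimple endomorphism, an irreducible factor of the characteristic polynomial
kills a nonzero vector. -/
theorem exists_ne_zero_aeval_eq_zero_of_dvd_charpoly :
    ∀ (n : ℕ) {V : Type u} [AddCommGroup V] [Module F V] [FiniteDimensional F V]
      (φ : Module.End F V), Module.finrank F V = n → φ.IsSemisimple → ∀ m : F[X], m.Monic →
      Irreducible m → m ∣ φ.charpoly → ∃ v : V, v ≠ 0 ∧ aeval φ m v = 0 := by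
  intro n
  induction n using Nat.strong_induction_on with
  | _ n ih =>
    intro V _ _ _ φ hn hφ m hm hirr hdvd
    have hnt : Nontrivial V := by
      by_contra hcon
      rw [not_nontrivial_iff_subsingleton] at hcon
      have h0 : Module.finrank F V = 0 := Module.finrank_zero_of_subsingleton
      have h1 : φ.charpoly.natDegree = 0 := by rw [LinearMap.charpoly_natDegree, h0]
      have h2 : φ.charpoly = 1 := (Polynomial.Monic.natDegree_eq_zero (LinearMap.charpoly_monic φ)).mp h1
      rw [h2] at hdvd
      exact hirr.not_isUnit (isUnit_of_dvd_one hdvd)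
    obtain ⟨m₁, v₁, hm₁, hirr₁, hv₁, hmv₁⟩ := exists_irreducible_aeval_eq_zero φ
    obtain ⟨S', hS', e, he, hchar, hrank⟩ := exists_split φ hφ m₁ hm₁ hirr₁ v₁ hv₁ hmv₁
    rw [hchar] at hdvd
    rcases hirr.prime.dvd_or_dvd hdvd with h1 | h1
    · have : m = m₁ := eq_of_monic_of_associated hm hm₁ (hirr.associated_of_dvd hirr₁ h1)
      subst this
      exact ⟨v₁, hv₁, hmv₁⟩
    · obtain ⟨w, hw, hmw⟩ := ih (Module.finrank F S') (hn ▸ hrank) (φ.restrict hS') rfl
        (hφ.restrict hS') m hm hirr h1
      refine ⟨(w : V), fun h0 => hw (Subtype.ext h0), ?_⟩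
      have h2 := aeval_intertwine (φ.restrict hS') φ S'.subtype (fun x => rfl) m w
      rw [hmw] at h2
      simpa using h2.symm

/-- Semisimple endomorphisms with the same characteristic polynomial are conjugate
(auxiliary form for the induction). -/
theorem exists_equiv_of_charpoly_eq_aux :
    ∀ (n : ℕ) {V : Type u} {W : Type v} [AddCommGroup V] [Module F V] [FiniteDimensional F V]
      [AddCommGroup W] [Module F W] [FiniteDimensional F W]
      (φ : Module.End F V) (ψ : Module.End F W), Module.finrank F V = n → φ.IsSemisimple →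
      ψ.IsSemisimple → φ.charpoly = ψ.charpoly → ∃ e : V ≃ₗ[F] W, ∀ x, e (φ x) = ψ (e x) := by
  intro n
  induction n using Nat.strong_induction_on with
  | _ n ih =>
    intro V W _ _ _ _ _ _ φ ψ hn hφ hψ hchar
    have hrank : Module.finrank F V = Module.finrank F W := by
      rw [← LinearMap.charpoly_natDegree φ, ← LinearMap.charpoly_natDegree ψ, hchar]
    by_cases hnt : Nontrivial V
    · obtain ⟨m, v, hm, hirr, hv, hmv⟩ := exists_irreducible_aeval_eq_zero φ
      obtain ⟨S', hS', e₁, he₁, hchar₁, hrank₁⟩ := exists_split φ hφ m hm hirr v hv hmv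
      have hdvd : m ∣ ψ.charpoly := by rw [← hchar, hchar₁]; exact dvd_mul_right _ _
      obtain ⟨w, hw, hmw⟩ := exists_ne_zero_aeval_eq_zero_of_dvd_charpoly _ ψ rfl hψ m hm hirr hdvd
      obtain ⟨T', hT', e₂, he₂, hchar₂, hrank₂⟩ := exists_split ψ hψ m hm hirr w hw hmw
      have hchar' : (φ.restrict hS').charpoly = (ψ.restrict hT').charpoly := by
        apply mul_left_cancel₀ hm.ne_zero
        rw [← hchar₁, ← hchar₂, hchar]
      obtain ⟨e', he'⟩ := ih (Module.finrank F S') (hn ▸ hrank₁) (φ.restrict hS')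
        (ψ.restrict hT') rfl (hφ.restrict hS') (hψ.restrict hT') hchar'
      refine ⟨e₁.symm.trans ((LinearEquiv.prodCongr (LinearEquiv.refl F (AdjoinRoot m)) e').trans e₂),
        ?_⟩
      intro x
      obtain ⟨⟨a, s⟩, rfl⟩ := e₁.surjective x
      rw [← he₁]
      simp only [LinearEquiv.trans_apply, LinearEquiv.symm_apply_apply, LinearMap.prodMap_apply,
        LinearEquiv.prodCongr_apply, LinearEquiv.refl_apply]
      rw [he', ← he₂]
      rfl
    · rw [not_nontrivial_iff_subsingleton] at hnt
      have h0 : Module.finrank F V = 0 := Module.finrank_zero_of_subsingleton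
      have hW : Subsingleton W := by
        rw [← Module.finrank_zero_iff (R := F), ← hrank, h0]
      exact ⟨LinearEquiv.ofFinrankEq V W hrank, fun x => Subsingleton.elim _ _⟩

/-- Semisimple endomorphisms of finite-dimensional spaces with the same characteristic
polynomial are intertwined by a linear equivalence. -/
theorem exists_equiv_of_charpoly_eq {V : Type u} {W : Type v} [AddCommGroup V] [Module F V]
    [FiniteDimensional F V] [AddCommGroup W] [Module F W] [FiniteDimensional F W]
    (φ : Module.End F V) (ψ : Module.End F W) (hφ : φ.IsSemisimple) (hψ : ψ.IsSemisimple)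
    (hchar : φ.charpoly = ψ.charpoly) : ∃ e : V ≃ₗ[F] W, ∀ x, e (φ x) = ψ (e x) :=
  exists_equiv_of_charpoly_eq_aux _ φ ψ rfl hφ hψ hchar

end

end Cfsg.Agent.Lib.Helper40
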