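import Mathlib
import Cfsg.Agent.Lib.Helper40.SemisimpleConj

/-!
# Semisimple matrices: conjugacy from the characteristic polynomial

Matrix-level consequences of `exists_equiv_of_charpoly_eq`.
-/

namespace Cfsg.Agent.Lib.Helper40

open Polynomial Module

section
variable {F : Type*} [Field F] {n : Type*} [Fintype n] [DecidableEq n]

/-- A matrix of finite order prime to the characteristic is semisimple. -/
theorem isSemisimple_toLin'_of_pow_eq_one [PerfectField F] (A : Matrix n n F) (k : ℕ)
    (hk : (k : F) ≠ 0) (hA : A ^ k = 1) : Module.End.IsSemisimple (Matrix.toLin' A) := by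
  have hφk : (Matrix.toLin' A) ^ k = 1 := by
    have : Matrix.toLin' A = Matrix.toLinAlgEquiv' A := rfl
    rw [this, ← map_pow, hA, map_one]
  apply Module.End.isSemisimple_of_squarefree_aeval_eq_zero (p := Polynomial.X ^ k - Polynomial.C 1)
  · exact (Polynomial.separable_X_pow_sub_C (1 : F) hk one_ne_zero).squarefree
  · simp [hφk]

/-- Semisimple matrices with the same characteristic polynomial are conjugate under `GL`. -/
theorem exists_gl_conj_of_charpoly_eq (A B : Matrix n n F) (hA : Module.End.IsSemisimple (Matrix.toLin' A))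
    (hB : Module.End.IsSemisimple (Matrix.toLin' B)) (hchar : A.charpoly = B.charpoly) :
    ∃ P : GL n F, (P : Matrix n n F) * A = B * (P : Matrix n n F) := by
  obtain ⟨e, he⟩ := exists_equiv_of_charpoly_eq (Matrix.toLin' A) (Matrix.toLin' B) hA hB
    (by rw [Matrix.charpoly_toLin', Matrix.charpoly_toLin', hchar])
  have h1 : LinearMap.toMatrix' e.toLinearMap * LinearMap.toMatrix' e.symm.toLinearMap = 1 := by
    rw [← LinearMap.toMatrix'_comp]
    simp
  have h2 : LinearMap.toMatrix' e.symm.toLinearMap * LinearMap.toMatrix' e.toLinearMap = 1 := by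
    rw [← LinearMap.toMatrix'_comp]
    simp
  refine ⟨⟨LinearMap.toMatrix' e.toLinearMap, LinearMap.toMatrix' e.symm.toLinearMap, h1, h2⟩, ?_⟩
  show LinearMap.toMatrix' e.toLinearMap * A = B * LinearMap.toMatrix' e.toLinearMap
  have h3 : e.toLinearMap ∘ₗ Matrix.toLin' A = Matrix.toLin' B ∘ₗ e.toLinearMap := by
    apply LinearMap.ext
    intro x
    exact he x
  have h4 := congrArg LinearMap.toMatrix' h3
  rw [LinearMap.toMatrix'_comp, LinearMap.toMatrix'_comp, LinearMap.toMatrix'_toLin',
    LinearMap.toMatrix'_toLin'] at h4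
  exact h4

end

end Cfsg.Agent.Lib.Helper40
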