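import Mathlib
import Cfsg.Agent.Lib.Helper40.SemisimpleConj
import Cfsg.Agent.Lib.Helper40.SemisimpleGL
import Cfsg.Agent.Lib.Helper40.PolyFactorCount

/-!
# Extra lemmas on characteristic polynomials (helper40)

* `charpoly_neg` : the characteristic polynomial of `-A`.
* `dvd_of_irreducible_dvd_charpoly` : irreducible factors of the characteristic polynomial of a
  semisimple matrix divide every polynomial killing the matrix.
-/

namespace Cfsg.Agent.Lib.Helper40

open Polynomial

variable {F : Type*} [Field F]

/-- The characteristic polynomial of `-A`. -/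
theorem charpoly_neg {n : Type*} [Fintype n] [DecidableEq n] (A : Matrix n n F) :
    (-A).charpoly = (-1 : F[X]) ^ Fintype.card n * A.charpoly.comp (-X) := by
  have h1 : A.charpoly.comp (-X) = ((Polynomial.compRingHom (-X : F[X])).mapMatrix
      (Matrix.charmatrix A)).det := by
    rw [← RingHom.map_det]
    rfl
  have h2 : (Polynomial.compRingHom (-X : F[X])).mapMatrix (Matrix.charmatrix A) =
      -Matrix.charmatrix (-A) := by
    apply Matrix.ext
    intro i j
    simp only [RingHom.mapMatrix_apply, Matrix.map_apply, Matrix.charmatrix_apply,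
      Matrix.neg_apply, Polynomial.coe_compRingHom_apply]
    by_cases hij : i = j
    · subst hij
      simp
      ring
    · simp [hij]
  rw [h1, h2, Matrix.det_neg, Matrix.charpoly]
  rw [← mul_assoc, ← mul_pow]
  simp

/-- For a semisimple matrix killed by `f`, every irreducible factor of the characteristic
polynomial divides `f`. -/
theorem dvd_of_irreducible_dvd_charpoly {n : ℕ} (A : Matrix (Fin n) (Fin n) F)
    (hA : Module.End.IsSemisimple (Matrix.toLin' A)) (f : F[X]) (hf : aeval A f = 0)
    (m : F[X]) (hm : m.Monic) (hirr : Irreducible m) (hdvd : m ∣ A.charpoly) : m ∣ f := by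
  by_contra hnd
  have hcop : IsCoprime m f := (Irreducible.coprime_iff_not_dvd hirr).mpr hnd
  obtain ⟨a, b, hab⟩ := hcop
  obtain ⟨v, hv, hmv⟩ := exists_ne_zero_aeval_eq_zero_of_dvd_charpoly
    (Module.finrank F (Fin n → F)) (Matrix.toLin' A) rfl hA m hm hirr
    (by rw [Matrix.charpoly_toLin']; exact hdvd)
  have hfφ : aeval (Matrix.toLin' A) f = 0 := by
    have : Matrix.toLin' A = Matrix.toLinAlgEquiv' A := rfl
    rw [this, aeval_algHom_apply, hf, map_zero]
  apply hv
  have h1 : aeval (Matrix.toLin' A) (a * m + b * f) v = v := by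
    rw [hab]; simp
  rw [← h1, map_add, map_mul, map_mul, hfφ, mul_zero, add_zero, Module.End.mul_apply, hmv,
    map_zero]

end Cfsg.Agent.Lib.Helper40
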