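import Mathlib
import Cfsg.Agent.Lib.Helper43.RegularNilpotent

/-!
# Classification of nilpotent endomorphisms by kernel dimensions (helper40)

* `kd N j` : the dimension of the kernel of `N ^ j`.
* `shiftLin F e` : the shift on `Fin e → F` (one nilpotent Jordan block), `kd_shiftLin`.
* `exists_split_cyclic` : a nilpotent endomorphism splits off a cyclic block of maximal size.
* `exists_equiv_of_kd_eq` : nilpotent endomorphisms with the same kernel dimensions are conjugate.
* `exists_type` : the kernel dimensions are `j ↦ ∑ a ∈ μ, min j a` for a multiset `μ` of block sizes.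
* `exists_nilpotent_of_type`, `exists_matrix_of_type` : every multiset of block sizes is realised.
* `type_unique` : the multiset of (positive) block sizes is determined by the kernel dimensions.
-/

namespace Cfsg.Agent.Lib.Helper40

open Module

universe u

variable {F : Type u} [Field F]

section kd

variable {V W : Type*} [AddCommGroup V] [Module F V] [AddCommGroup W] [Module F W]

/-- The kernel dimension sequence of an endomorphism. -/
noncomputable def kd (N : Module.End F V) (j : ℕ) : ℕ := finrank F (LinearMap.ker (N ^ j))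

theorem pow_intertwine (N : Module.End F V) (N' : Module.End F W) (e : V →ₗ[F] W)
    (h : ∀ x, e (N x) = N' (e x)) (j : ℕ) (x : V) : e ((N ^ j) x) = (N' ^ j) (e x) := by
  induction j generalizing x with
  | zero => simp
  | succ j ih => rw [pow_succ, pow_succ, Module.End.mul_apply, Module.End.mul_apply, ih, h]

theorem kd_conj (N : Module.End F V) (N' : Module.End F W) (e : V ≃ₗ[F] W)
    (h : ∀ x, e (N x) = N' (e x)) (j : ℕ) : kd N j = kd N' j := by
  unfold kd
  have h1 : (LinearMap.ker (N ^ j)).map (e : V →ₗ[F] W) = LinearMap.ker (N' ^ j) := by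
    ext y
    simp only [Submodule.mem_map, LinearMap.mem_ker, LinearEquiv.coe_coe]
    constructor
    · rintro ⟨x, hx, rfl⟩
      have := pow_intertwine N N' e.toLinearMap h j x
      simp only [LinearEquiv.coe_coe] at this
      rw [← this, hx, map_zero]
    · intro hy
      refine ⟨e.symm y, ?_, by simp⟩
      apply e.injective
      have := pow_intertwine N N' e.toLinearMap h j (e.symm y)
      simp only [LinearEquiv.coe_coe, LinearEquiv.apply_symm_apply] at this
      rw [this, hy, map_zero]
  rw [← h1, LinearEquiv.finrank_map_eq]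

/-- The product of two submodules as a product type. -/
def prodSubEquiv (p : Submodule F V) (q : Submodule F W) : ↥(p.prod q) ≃ₗ[F] (p × q) where
  toFun x := (⟨x.1.1, x.2.1⟩, ⟨x.1.2, x.2.2⟩)
  invFun y := ⟨(y.1.1, y.2.1), ⟨y.1.2, y.2.2⟩⟩
  map_add' _ _ := rfl
  map_smul' _ _ := rfl
  left_inv _ := rfl
  right_inv _ := rfl

theorem prodMap_pow' (f : Module.End F V) (g : Module.End F W) (j : ℕ) :
    (f.prodMap g) ^ j = (f ^ j).prodMap (g ^ j) := by
  induction j with
  | zero => simp [Module.End.one_eq_id]
  | succ j ih => rw [pow_succ, ih, pow_succ, pow_succ, LinearMap.prodMap_mul]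

theorem kd_prodMap [FiniteDimensional F V] [FiniteDimensional F W] (f : Module.End F V)
    (g : Module.End F W) (j : ℕ) : kd (f.prodMap g) j = kd f j + kd g j := by
  unfold kd
  rw [prodMap_pow', LinearMap.ker_prodMap, LinearEquiv.finrank_eq (prodSubEquiv _ _),
    Module.finrank_prod]

theorem kd_eq_finrank_iff [FiniteDimensional F V] (N : Module.End F V) (j : ℕ) :
    kd N j = finrank F V ↔ N ^ j = 0 := by
  unfold kd
  constructor
  · intro h
    exact LinearMap.ker_eq_top.mp (Submodule.eq_top_of_finrank_eq h)
  · intro h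
    rw [h, LinearMap.ker_zero, finrank_top]

theorem kd_le_finrank [FiniteDimensional F V] (N : Module.End F V) (j : ℕ) :
    kd N j ≤ finrank F V := Submodule.finrank_le _

end kd

section shift

/-- The shift endomorphism of `Fin e → F` (a single nilpotent Jordan block). -/
def shiftLin (F : Type*) [Field F] (e : ℕ) : Module.End F (Fin e → F) where
  toFun c := fun i => if h : 0 < i.val then c ⟨i.val - 1, by omega⟩ else 0
  map_add' c c' := by
    funext i
    by_cases h : 0 < i.val <;> simp [h]
  map_smul' a c := by
    funext i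
    by_cases h : 0 < i.val <;> simp [h]

theorem shiftLin_apply (e : ℕ) (c : Fin e → F) (i : Fin e) :
    shiftLin F e c i = if h : 0 < i.val then c ⟨i.val - 1, by omega⟩ else 0 := rfl

theorem shiftLin_pow_apply (e : ℕ) (j : ℕ) (c : Fin e → F) (i : Fin e) :
    ((shiftLin F e) ^ j) c i = if h : j ≤ i.val then c ⟨i.val - j, by omega⟩ else 0 := by
  induction j generalizing i with
  | zero => simp
  | succ j ih =>
    rw [pow_succ', Module.End.mul_apply, shiftLin_apply]
    by_cases h : 0 < i.val
    · rw [dif_pos h, ih]
      by_cases h2 : j + 1 ≤ i.val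
      · have h3 : j ≤ i.val - 1 := by omega
        rw [dif_pos h2]
        simp only [h3, dite_true]
        congr 1
        apply Fin.ext
        simp only
        omega
      · have h3 : ¬ j ≤ i.val - 1 := by omega
        rw [dif_neg h2]
        simp only [h3, dite_false]
    · rw [dif_neg h, dif_neg (by omega)]

theorem shiftLin_pow_self (e : ℕ) : (shiftLin F e) ^ e = 0 := by
  apply LinearMap.ext
  intro c
  funext i
  rw [shiftLin_pow_apply, dif_neg (by have := i.2; omega)]
  rfl

theorem finrank_ker_shiftLin_le (e : ℕ) : finrank F (LinearMap.ker (shiftLin F e)) ≤ 1 := by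
  rcases Nat.eq_zero_or_pos e with rfl | he
  · have : finrank F (Fin 0 → F) = 0 := by simp
    have h2 := Submodule.finrank_le (LinearMap.ker (shiftLin F 0))
    omega
  · obtain ⟨last, hlast⟩ : ∃ last : Fin e, last.val = e - 1 := ⟨⟨e - 1, by omega⟩, rfl⟩
    have h1 : LinearMap.ker (shiftLin F e) ≤ Submodule.span F {Pi.single last (1 : F)} := by
      intro c hc
      rw [LinearMap.mem_ker] at hc
      rw [Submodule.mem_span_singleton]
      refine ⟨c last, ?_⟩
      funext i
      by_cases hi : i = last
      · subst hi
        simp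
      · have h2 : i.val + 1 < e := by
          have := i.2
          have : i.val ≠ last.val := fun h => hi (Fin.ext h)
          omega
        have h3 := congrFun hc ⟨i.val + 1, h2⟩
        rw [shiftLin_apply] at h3
        simp only [Nat.succ_pos, dite_true, Nat.add_sub_cancel, Pi.zero_apply] at h3
        simp [hi, h3]
    refine le_trans (Submodule.finrank_mono h1) ?_
    have hv : (Pi.single last (1 : F) : Fin e → F) ≠ 0 := by
      intro h0
      have := congrFun h0 last
      simp at this
    exact (finrank_span_singleton (K := F) hv).le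

theorem kd_shiftLin (e j : ℕ) : kd (shiftLin F e) j = min j e := by
  unfold kd
  rcases le_total j e with h | h
  · rw [min_eq_left h]
    have hfr : finrank F (Fin e → F) = e := Module.finrank_fin_fun F
    exact Cfsg.Agent.Lib.Helper43.finrank_ker_pow_eq (K := F) (V := Fin e → F) (shiftLin F e)
      (finrank_ker_shiftLin_le e) (by rw [hfr]; exact shiftLin_pow_self e) j (by rw [hfr]; exact h)
  · rw [min_eq_right h]
    have : (shiftLin F e) ^ j = 0 := by
      obtain ⟨k, rfl⟩ := Nat.exists_eq_add_of_le h
      rw [pow_add, shiftLin_pow_self, zero_mul]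
    rw [this, LinearMap.ker_zero, finrank_top, Module.finrank_fin_fun]

end shift

section split

variable {V : Type*} [AddCommGroup V] [Module F V]

/-- The map `c ↦ ∑ i, c i • N ^ i v`. -/
noncomputable def cycMap (N : Module.End F V) (v : V) (e : ℕ) : (Fin e → F) →ₗ[F] V :=
  Fintype.linearCombination F (fun i : Fin e => (N ^ i.val) v)

theorem cycMap_apply (N : Module.End F V) (v : V) (e : ℕ) (c : Fin e → F) :
    cycMap N v e c = ∑ i, c i • (N ^ i.val) v := by
  rw [cycMap, Fintype.linearCombination_apply]

theorem cycMap_single (N : Module.End F V) (v : V) (e : ℕ) (k : Fin e) :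
    cycMap N v e (Pi.single k 1) = (N ^ k.val) v := by
  rw [cycMap, Fintype.linearCombination_apply_single, one_smul]

theorem shiftLin_single (e : ℕ) (k : Fin e) :
    shiftLin F e (Pi.single k 1) =
      if h : k.val + 1 < e then Pi.single (⟨k.val + 1, h⟩ : Fin e) (1 : F) else 0 := by
  funext i
  rw [shiftLin_apply]
  by_cases h : k.val + 1 < e
  · rw [dif_pos h]
    by_cases hi : 0 < i.val
    · rw [dif_pos hi]
      by_cases hik : i = ⟨k.val + 1, h⟩
      · subst hik
        simp
      · have h1 : (⟨i.val - 1, by omega⟩ : Fin e) ≠ k := by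
          intro h2
          apply hik
          apply Fin.ext
          have := congrArg Fin.val h2
          simp only at this
          simp only
          omega
        simp [hik, h1]
    · rw [dif_neg hi]
      have hik : i ≠ ⟨k.val + 1, h⟩ := by
        intro h2
        have := congrArg Fin.val h2
        simp only at this
        omega
      simp [hik]
  · rw [dif_neg h]
    by_cases hi : 0 < i.val
    · rw [dif_pos hi]
      have h1 : (⟨i.val - 1, by omega⟩ : Fin e) ≠ k := by
        intro h2
        have := congrArg Fin.val h2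
        simp only at this
        have := i.2
        omega
      simp [h1]
    · rw [dif_neg hi]; rfl

theorem cycMap_shiftLin (N : Module.End F V) (v : V) (e : ℕ) (hv : (N ^ e) v = 0)
    (c : Fin e → F) : cycMap N v e (shiftLin F e c) = N (cycMap N v e c) := by
  have h : (cycMap N v e) ∘ₗ (shiftLin F e) = N ∘ₗ (cycMap N v e) := by
    apply (Pi.basisFun F (Fin e)).ext
    intro k
    rw [Pi.basisFun_apply, LinearMap.comp_apply, LinearMap.comp_apply, shiftLin_single,
      cycMap_single]
    by_cases h : k.val + 1 < e
    · rw [dif_pos h, cycMap_single]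
      simp only [pow_succ', Module.End.mul_apply]
    · rw [dif_neg h, map_zero]
      have hk : k.val + 1 = e := by have := k.2; omega
      rw [← Module.End.mul_apply, ← pow_succ', hk, hv]
  exact congrFun (congrArg DFunLike.coe h) c

variable [FiniteDimensional F V]

theorem exists_split_cyclic (N : Module.End F V) (hN : IsNilpotent N) (hV : 0 < finrank F V) :
    ∃ (e : ℕ) (W : Submodule F V) (hW : ∀ x ∈ W, N x ∈ W) (φ : ((Fin e → F) × W) ≃ₗ[F] V),
      0 < e ∧ N ^ e = 0 ∧ N ^ (e - 1) ≠ 0 ∧
      (∀ x, φ (((shiftLin F e).prodMap (N.restrict hW)) x) = N (φ x)) := by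
  classical
  have hnt : Nontrivial V := Module.finrank_pos_iff.mp hV
  set e := Nat.find hN with he
  have hNe : N ^ e = 0 := Nat.find_spec hN
  have hepos : 0 < e := by
    rcases Nat.eq_zero_or_pos e with h0 | h0
    · exfalso
      rw [h0, pow_zero] at hNe
      obtain ⟨x, hx⟩ := exists_ne (0 : V)
      have := congrFun (congrArg DFunLike.coe hNe) x
      simp at this
      exact hx this
    · exact h0
  have hNe1 : N ^ (e - 1) ≠ 0 := Nat.find_min hN (by omega)
  obtain ⟨v, hv⟩ : ∃ v, (N ^ (e - 1)) v ≠ 0 := by
    by_contra hcon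
    push Not at hcon
    exact hNe1 (LinearMap.ext hcon)
  obtain ⟨f, hf⟩ := Module.Projective.exists_dual_ne_zero F hv
  have hvanish : ∀ k, e ≤ k → ∀ x, (N ^ k) x = 0 := by
    intro k hk x
    obtain ⟨m, rfl⟩ := Nat.exists_eq_add_of_le hk
    rw [pow_add, hNe, zero_mul]; rfl
  -- the test map
  let T : V →ₗ[F] (Fin e → F) := LinearMap.pi fun j => f ∘ₗ (N ^ j.val)
  have hT : ∀ w j, T w j = f ((N ^ j.val) w) := fun w j => rfl
  set ι := cycMap N v e with hι
  have hTι : Function.Injective (T ∘ₗ ι) := by
    rw [← LinearMap.ker_eq_bot, LinearMap.ker_eq_bot']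
    intro c hc
    have hci : ∀ m : ℕ, ∀ i : Fin e, i.val = m → c i = 0 := by
      intro m
      induction m using Nat.strong_induction_on with
      | _ m ih =>
        intro i him
        have h1 := congrFun hc ⟨e - 1 - i.val, by omega⟩
        rw [LinearMap.comp_apply, hT, hι, cycMap_apply, map_sum, map_sum] at h1
        rw [Finset.sum_eq_single i] at h1
        · simp only [Pi.zero_apply] at h1
          rw [map_smul, map_smul, ← Module.End.mul_apply, ← pow_add] at h1
          have h2 : e - 1 - i.val + i.val = e - 1 := by have := i.2; omega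
          rw [h2, smul_eq_mul] at h1
          exact (mul_eq_zero.mp h1).resolve_right hf
        · intro k _ hki
          rcases lt_or_gt_of_ne (fun h => hki (Fin.ext h) : k.val ≠ i.val) with hlt | hgt
          · rw [ih k.val (by omega) k rfl, zero_smul, map_zero, map_zero]
          · rw [map_smul, ← Module.End.mul_apply, ← pow_add,
              hvanish _ (by have := i.2; simp only; omega), smul_zero, map_zero]
        · intro hi
          exact absurd (Finset.mem_univ i) hi
    funext i
    exact hci i.val i rfl
  have hTιs : Function.Surjective (T ∘ₗ ι) := LinearMap.injective_iff_surjective.mp hTι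
  let W : Submodule F V := LinearMap.ker T
  have hW : ∀ x ∈ W, N x ∈ W := by
    intro x hx
    have hx' : T x = 0 := hx
    show T (N x) = 0
    funext j
    rw [hT, ← Module.End.mul_apply, ← pow_succ]
    by_cases hj : j.val + 1 < e
    · have := congrFun hx' ⟨j.val + 1, hj⟩
      rw [hT] at this
      exact this
    · rw [hvanish _ (by omega), map_zero]; rfl
  let ψ : ((Fin e → F) × W) →ₗ[F] V := ι.coprod W.subtype
  have hψ : ∀ c w, ψ (c, w) = ι c + (w : V) := by
    intro c w
    simp [ψ, LinearMap.coprod_apply]
  have hψinj : Function.Injective ψ := by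
    rw [← LinearMap.ker_eq_bot, LinearMap.ker_eq_bot']
    rintro ⟨c, w⟩ h0
    rw [hψ] at h0
    have h1 : T (ι c) = 0 := by
      have := congrArg T h0
      rw [map_add, map_zero] at this
      have hw : T (w : V) = 0 := w.2
      rw [hw, add_zero] at this
      exact this
    have hc : c = 0 := by
      apply hTι
      rw [LinearMap.comp_apply, h1, map_zero]
    subst hc
    rw [map_zero, zero_add] at h0
    have hw : w = 0 := Subtype.ext h0
    rw [hw]; rfl
  have hψsurj : Function.Surjective ψ := by
    intro x
    obtain ⟨c, hc⟩ := hTιs (T x)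
    rw [LinearMap.comp_apply] at hc
    have hw : x - ι c ∈ W := by
      show T (x - ι c) = 0
      rw [map_sub, hc, sub_self]
    refine ⟨(c, ⟨x - ι c, hw⟩), ?_⟩
    rw [hψ]
    simp
  refine ⟨e, W, hW, LinearEquiv.ofBijective ψ ⟨hψinj, hψsurj⟩, hepos, hNe, hNe1, ?_⟩
  rintro ⟨c, w⟩
  show ψ ((LinearMap.prodMap (shiftLin F e) (N.restrict hW)) (c, w)) = N (ψ (c, w))
  rw [LinearMap.prodMap_apply, hψ, hψ, map_add, hι, cycMap_shiftLin N v e (hvanish e le_rfl v)]
  rfl

end split

section classify

theorem isNilpotent_restrict {V : Type*} [AddCommGroup V] [Module F V] (N : Module.End F V)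
    (hN : IsNilpotent N) (W : Submodule F V) (hW : ∀ x ∈ W, N x ∈ W) :
    IsNilpotent (N.restrict hW) := by
  obtain ⟨k, hk⟩ := hN
  refine ⟨k, ?_⟩
  rw [Module.End.pow_restrict]
  apply LinearMap.ext
  intro x
  apply Subtype.ext
  rw [LinearMap.restrict_apply]
  simp [hk]

theorem split_finrank {V : Type*} [AddCommGroup V] [Module F V] [FiniteDimensional F V]
    {e : ℕ} {W : Submodule F V} (φ : ((Fin e → F) × W) ≃ₗ[F] V) :
    e + finrank F W = finrank F V := by
  rw [← φ.finrank_eq, Module.finrank_prod, Module.finrank_fin_fun]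

theorem split_kd {V : Type*} [AddCommGroup V] [Module F V] [FiniteDimensional F V]
    (N : Module.End F V) {e : ℕ} {W : Submodule F V} (hW : ∀ x ∈ W, N x ∈ W)
    (φ : ((Fin e → F) × W) ≃ₗ[F] V)
    (hφ : ∀ x, φ (((shiftLin F e).prodMap (N.restrict hW)) x) = N (φ x)) (j : ℕ) :
    kd N j = min j e + kd (N.restrict hW) j := by
  rw [← kd_conj _ N φ hφ j, kd_prodMap, kd_shiftLin]

theorem finrank_eq_of_kd_eq {V V' : Type*} [AddCommGroup V] [Module F V] [FiniteDimensional F V]
    [AddCommGroup V'] [Module F V'] [FiniteDimensional F V'] (N : Module.End F V)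
    (N' : Module.End F V') (hN : IsNilpotent N) (hN' : IsNilpotent N')
    (h : ∀ j, kd N j = kd N' j) : finrank F V = finrank F V' := by
  obtain ⟨k, hk⟩ := hN
  obtain ⟨k', hk'⟩ := hN'
  have h1 : N ^ (k + k') = 0 := by rw [pow_add, hk, zero_mul]
  have h2 : N' ^ (k + k') = 0 := by rw [pow_add, hk', mul_zero]
  rw [← (kd_eq_finrank_iff N _).mpr h1, ← (kd_eq_finrank_iff N' _).mpr h2, h]

/-- Nilpotent endomorphisms with the same kernel dimension sequence are conjugate. -/
theorem exists_equiv_of_kd_eq : ∀ (n : ℕ) {V V' : Type u} [AddCommGroup V] [Module F V]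
    [FiniteDimensional F V] [AddCommGroup V'] [Module F V'] [FiniteDimensional F V']
    (N : Module.End F V) (N' : Module.End F V'), finrank F V = n → IsNilpotent N → IsNilpotent N' →
    (∀ j, kd N j = kd N' j) → ∃ ψ : V ≃ₗ[F] V', ∀ x, ψ (N x) = N' (ψ x) := by
  intro n
  induction n using Nat.strong_induction_on with
  | _ n ih =>
    intro V V' _ _ _ _ _ _ N N' hn hN hN' hkd
    have hfr : finrank F V = finrank F V' := finrank_eq_of_kd_eq N N' hN hN' hkd
    rcases Nat.eq_zero_or_pos n with h0 | hpos
    · have hs : Subsingleton V' := by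
        rw [← Module.finrank_zero_iff (R := F), ← hfr, hn, h0]
      exact ⟨LinearEquiv.ofFinrankEq V V' hfr, fun x => Subsingleton.elim _ _⟩
    · obtain ⟨e, W, hW, φ, hepos, hNe, hNe1, hφ⟩ := exists_split_cyclic N hN (by omega)
      obtain ⟨e', W', hW', φ', hepos', hNe', hNe1', hφ'⟩ :=
        exists_split_cyclic N' hN' (by omega)
      have hiff : ∀ j, N ^ j = 0 ↔ N' ^ j = 0 := by
        intro j
        rw [← kd_eq_finrank_iff, ← kd_eq_finrank_iff, hkd, hfr]
      have hee : e = e' := by
        apply le_antisymm
        · by_contra hlt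
          push Not at hlt
          apply hNe1
          have h1 : N ^ e' = 0 := (hiff e').mpr hNe'
          obtain ⟨m, hm⟩ := Nat.exists_eq_add_of_le (by omega : e' ≤ e - 1)
          rw [hm, pow_add, h1, zero_mul]
        · by_contra hlt
          push Not at hlt
          apply hNe1'
          have h1 : N' ^ e = 0 := (hiff e).mp hNe
          obtain ⟨m, hm⟩ := Nat.exists_eq_add_of_le (by omega : e ≤ e' - 1)
          rw [hm, pow_add, h1, zero_mul]
      subst hee
      have hkdW : ∀ j, kd (N.restrict hW) j = kd (N'.restrict hW') j := by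
        intro j
        have h1 := split_kd N hW φ hφ j
        have h2 := split_kd N' hW' φ' hφ' j
        have := hkd j
        omega
      have hfW : finrank F W < n := by
        have := split_finrank φ
        omega
      obtain ⟨ψW, hψW⟩ := ih (finrank F W) hfW (N.restrict hW) (N'.restrict hW') rfl
        (isNilpotent_restrict N hN W hW) (isNilpotent_restrict N' hN' W' hW') hkdW
      refine ⟨φ.symm ≪≫ₗ (LinearEquiv.prodCongr (LinearEquiv.refl F (Fin e → F)) ψW) ≪≫ₗ φ', ?_⟩
      intro x
      obtain ⟨y, rfl⟩ := φ.surjective x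
      rw [← hφ]
      simp only [LinearEquiv.trans_apply, LinearEquiv.symm_apply_apply]
      rw [← hφ']
      congr 1
      obtain ⟨c, w⟩ := y
      simp only [LinearMap.prodMap_apply, LinearEquiv.prodCongr_apply, LinearEquiv.refl_apply,
        hψW]

/-- The kernel dimension sequence of a nilpotent endomorphism comes from a multiset of block
sizes. -/
theorem exists_type : ∀ (n : ℕ) {V : Type u} [AddCommGroup V] [Module F V]
    [FiniteDimensional F V] (N : Module.End F V), finrank F V = n → IsNilpotent N →
    ∃ μ : Multiset ℕ, (∀ a ∈ μ, 0 < a) ∧ μ.sum = n ∧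
      ∀ j, kd N j = (μ.map (fun a => min j a)).sum := by
  intro n
  induction n using Nat.strong_induction_on with
  | _ n ih =>
    intro V _ _ _ N hn hN
    rcases Nat.eq_zero_or_pos n with h0 | hpos
    · refine ⟨0, by simp, by simp [h0], ?_⟩
      intro j
      have := kd_le_finrank N j
      simp only [Multiset.map_zero, Multiset.sum_zero]
      omega
    · obtain ⟨e, W, hW, φ, hepos, hNe, hNe1, hφ⟩ := exists_split_cyclic N hN (by omega)
      have hfW : finrank F W < n := by
        have := split_finrank φ
        omega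
      obtain ⟨μ, hμpos, hμsum, hμkd⟩ := ih (finrank F W) hfW (N.restrict hW) rfl
        (isNilpotent_restrict N hN W hW)
      refine ⟨e ::ₘ μ, ?_, ?_, ?_⟩
      · intro a ha
        rcases Multiset.mem_cons.mp ha with rfl | ha
        · exact hepos
        · exact hμpos a ha
      · rw [Multiset.sum_cons, hμsum, ← hn]
        exact split_finrank φ
      · intro j
        rw [split_kd N hW φ hφ j, hμkd j, Multiset.map_cons, Multiset.sum_cons]

theorem isNilpotent_prodMap {V W : Type*} [AddCommGroup V] [Module F V] [AddCommGroup W]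
    [Module F W] (f : Module.End F V) (g : Module.End F W) (hf : IsNilpotent f)
    (hg : IsNilpotent g) : IsNilpotent (f.prodMap g) := by
  obtain ⟨k, hk⟩ := hf
  obtain ⟨k', hk'⟩ := hg
  refine ⟨k + k', ?_⟩
  rw [prodMap_pow']
  have h1 : f ^ (k + k') = 0 := by rw [pow_add, hk, zero_mul]
  have h2 : g ^ (k + k') = 0 := by rw [pow_add, hk', mul_zero]
  rw [h1, h2, LinearMap.prodMap_zero]

/-- Every multiset of block sizes is realised by a nilpotent endomorphism. -/
theorem exists_nilpotent_of_type (μ : Multiset ℕ) :
    ∃ (V : Type u) (_ : AddCommGroup V) (_ : Module F V) (_ : FiniteDimensional F V)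
      (N : Module.End F V), IsNilpotent N ∧ finrank F V = μ.sum ∧
        ∀ j, kd N j = (μ.map (fun a => min j a)).sum := by
  induction μ using Multiset.induction_on with
  | empty =>
    refine ⟨Fin 0 → F, inferInstance, inferInstance, inferInstance, 0, IsNilpotent.zero, ?_, ?_⟩
    · simp
    · intro j
      have := kd_le_finrank (0 : Module.End F (Fin 0 → F)) j
      have h0 : finrank F (Fin 0 → F) = 0 := by simp
      simp only [Multiset.map_zero, Multiset.sum_zero]
      omega
  | cons a μ ih =>
    obtain ⟨V, i1, i2, i3, N, hN, hfr, hkd⟩ := ih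
    refine ⟨(Fin a → F) × V, inferInstance, inferInstance, inferInstance,
      (shiftLin F a).prodMap N, ?_, ?_, ?_⟩
    · exact isNilpotent_prodMap _ _ ⟨a, shiftLin_pow_self a⟩ hN
    · rw [Module.finrank_prod, Module.finrank_fin_fun, hfr, Multiset.sum_cons]
    · intro j
      rw [kd_prodMap, kd_shiftLin, hkd j, Multiset.map_cons, Multiset.sum_cons]

end classify

section combinatorics

theorem sum_min_succ (μ : Multiset ℕ) (j : ℕ) :
    (μ.map (fun a => min (j + 1) a)).sum =
      (μ.map (fun a => min j a)).sum + μ.countP (fun a => j < a) := by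
  induction μ using Multiset.induction_on with
  | empty => simp
  | cons a μ ih =>
    rw [Multiset.map_cons, Multiset.sum_cons, Multiset.map_cons, Multiset.sum_cons,
      Multiset.countP_cons, ih]
    by_cases h : j < a
    · rw [if_pos h]
      have : min (j + 1) a = min j a + 1 := by omega
      omega
    · rw [if_neg h]
      have : min (j + 1) a = min j a := by omega
      omega

theorem countP_lt_eq (μ : Multiset ℕ) (j : ℕ) :
    μ.countP (fun a => j < a) = μ.countP (fun a => j + 1 < a) + μ.count (j + 1) := by
  induction μ using Multiset.induction_on with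
  | empty => simp
  | cons a μ ih =>
    rw [Multiset.countP_cons, Multiset.countP_cons, Multiset.count_cons, ih]
    by_cases h1 : j < a
    · by_cases h2 : j + 1 < a
      · have h3 : ¬ j + 1 = a := by omega
        simp [h1, h2, h3]
        omega
      · have h3 : j + 1 = a := by omega
        subst h3
        simp
        omega
    · have h2 : ¬ j + 1 < a := by omega
      have h3 : ¬ j + 1 = a := by omega
      simp [h1, h2, h3]

/-- The multiset of positive block sizes is determined by the kernel dimensions. -/
theorem type_unique (μ μ' : Multiset ℕ) (hμ : ∀ a ∈ μ, 0 < a) (hμ' : ∀ a ∈ μ', 0 < a)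
    (h : ∀ j, (μ.map (fun a => min j a)).sum = (μ'.map (fun a => min j a)).sum) : μ = μ' := by
  have hc : ∀ j, μ.countP (fun a => j < a) = μ'.countP (fun a => j < a) := by
    intro j
    have h1 := sum_min_succ μ j
    have h2 := sum_min_succ μ' j
    have := h j
    have := h (j + 1)
    omega
  ext a
  rcases Nat.eq_zero_or_pos a with rfl | ha
  · rw [Multiset.count_eq_zero_of_notMem (fun h0 => absurd (hμ 0 h0) (lt_irrefl 0)),
      Multiset.count_eq_zero_of_notMem (fun h0 => absurd (hμ' 0 h0) (lt_irrefl 0))]
  · obtain ⟨j, rfl⟩ : ∃ j, a = j + 1 := ⟨a - 1, by omega⟩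
    have h1 := countP_lt_eq μ j
    have h2 := countP_lt_eq μ' j
    have := hc j
    have := hc (j + 1)
    omega

end combinatorics

section matrix

variable {n : ℕ}

theorem isNilpotent_toLin' (A : Matrix (Fin n) (Fin n) F) (hA : IsNilpotent A) :
    IsNilpotent (Matrix.toLin' A) := by
  obtain ⟨k, hk⟩ := hA
  refine ⟨k, ?_⟩
  rw [← Matrix.toLin'_pow, hk, map_zero]

/-- The linear equivalence defined by an invertible matrix. -/
noncomputable def glEquiv (P : GL (Fin n) F) : (Fin n → F) ≃ₗ[F] (Fin n → F) :=
  LinearEquiv.ofLinearMap (Matrix.toLin' P.val) (Matrix.toLin' (P⁻¹).val)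
    (by rw [← Matrix.toLin'_mul, Units.mul_inv, Matrix.toLin'_one])
    (by rw [← Matrix.toLin'_mul, Units.inv_mul, Matrix.toLin'_one])

theorem glEquiv_apply (P : GL (Fin n) F) (x : Fin n → F) :
    glEquiv P x = Matrix.toLin' P.val x := rfl

theorem kd_eq_of_gl_conj (A B : Matrix (Fin n) (Fin n) F) (P : GL (Fin n) F)
    (h : P.val * A = B * P.val) (j : ℕ) :
    kd (Matrix.toLin' A) j = kd (Matrix.toLin' B) j := by
  apply kd_conj _ _ (glEquiv P)
  intro x
  rw [glEquiv_apply, glEquiv_apply, ← LinearMap.comp_apply, ← LinearMap.comp_apply,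
    ← Matrix.toLin'_mul, ← Matrix.toLin'_mul, h]

theorem exists_gl_conj_of_equiv (A B : Matrix (Fin n) (Fin n) F)
    (e : (Fin n → F) ≃ₗ[F] (Fin n → F))
    (he : ∀ x, e (Matrix.toLin' A x) = Matrix.toLin' B (e x)) :
    ∃ P : GL (Fin n) F, P.val * A = B * P.val := by
  have h1 : LinearMap.toMatrix' e.toLinearMap * LinearMap.toMatrix' e.symm.toLinearMap = 1 := by
    rw [← LinearMap.toMatrix'_comp]
    simp
  have h2 : LinearMap.toMatrix' e.symm.toLinearMap * LinearMap.toMatrix' e.toLinearMap = 1 := by
    rw [← LinearMap.toMatrix'_comp]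
    simp
  refine ⟨⟨LinearMap.toMatrix' e.toLinearMap, LinearMap.toMatrix' e.symm.toLinearMap, h1, h2⟩, ?_⟩
  show LinearMap.toMatrix' e.toLinearMap * A = B * LinearMap.toMatrix' e.toLinearMap
  have h3 : e.toLinearMap ∘ₗ Matrix.toLin' A = Matrix.toLin' B ∘ₗ e.toLinearMap := by
    apply LinearMap.ext
    intro x
    exact he x
  have h4 := congrArg LinearMap.toMatrix' h3
  rw [LinearMap.toMatrix'_comp, LinearMap.toMatrix'_comp, LinearMap.toMatrix'_toLin',
    LinearMap.toMatrix'_toLin'] at h4
  exact h4

/-- Nilpotent matrices with the same kernel dimensions are conjugate under `GL`. -/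
theorem exists_gl_conj_of_kd_eq (A B : Matrix (Fin n) (Fin n) F) (hA : IsNilpotent A)
    (hB : IsNilpotent B) (h : ∀ j, kd (Matrix.toLin' A) j = kd (Matrix.toLin' B) j) :
    ∃ P : GL (Fin n) F, P.val * A = B * P.val := by
  obtain ⟨e, he⟩ := exists_equiv_of_kd_eq (finrank F (Fin n → F)) (Matrix.toLin' A)
    (Matrix.toLin' B) rfl (isNilpotent_toLin' A hA) (isNilpotent_toLin' B hB) h
  exact exists_gl_conj_of_equiv A B e he

theorem exists_type_matrix (A : Matrix (Fin n) (Fin n) F) (hA : IsNilpotent A) :
    ∃ μ : Multiset ℕ, (∀ a ∈ μ, 0 < a) ∧ μ.sum = n ∧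
      ∀ j, kd (Matrix.toLin' A) j = (μ.map (fun a => min j a)).sum :=
  exists_type n (Matrix.toLin' A) (Module.finrank_fin_fun F) (isNilpotent_toLin' A hA)

/-- Every multiset of block sizes with sum `n` is realised by a nilpotent `n × n` matrix. -/
theorem exists_matrix_of_type (μ : Multiset ℕ) (h : μ.sum = n) :
    ∃ A : Matrix (Fin n) (Fin n) F, IsNilpotent A ∧
      ∀ j, kd (Matrix.toLin' A) j = (μ.map (fun a => min j a)).sum := by
  obtain ⟨V, i1, i2, i3, N, hN, hfr, hkd⟩ := exists_nilpotent_of_type (F := F) μ
  let b : Module.Basis (Fin n) F V := Module.finBasisOfFinrankEq F V (hfr.trans h)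
  refine ⟨LinearMap.toMatrix b b N, hN.map (LinearMap.toMatrixAlgEquiv b), ?_⟩
  intro j
  rw [← hkd j]
  symm
  apply kd_conj N _ b.equivFun
  intro x
  rw [Matrix.toLin'_apply]
  funext i
  rw [Module.Basis.equivFun_apply, Module.Basis.equivFun_apply, LinearMap.toMatrix_mulVec_repr]

end matrix

end Cfsg.Agent.Lib.Helper40
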