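import Mathlib
import Cfsg.Agent.Lib.Helper40.SemisimpleGL

/-!
# Existence of semisimple matrices with prescribed characteristic polynomial, and counting

* `exists_semisimple_charpoly`: over a perfect field every monic polynomial is the characteristic
  polynomial of a semisimple endomorphism.
* `coprime_orderOf_of_isSemisimple`: a semisimple element of `GL_n(F)`, `F` finite of
  characteristic `p`, has order prime to `p`.
* counting monic polynomials with prescribed constant coefficient.
-/

namespace Cfsg.Agent.Lib.Helper40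

open Polynomial Module

section
universe u

theorem isSemisimpleModule_prod {R M N : Type*} [Ring R] [AddCommGroup M] [Module R M]
    [AddCommGroup N] [Module R N] [IsSemisimpleModule R M] [IsSemisimpleModule R N] :
    IsSemisimpleModule R (M × N) := by
  rw [← Submodule.topEquiv.isSemisimpleModule_iff_of_bijective
    (LinearEquiv.bijective _), ← LinearMap.sup_range_inl_inr]
  exact .sup (.range _) (.range _)

variable {F : Type u} [Field F]

theorem isSemisimple_prodMap {V W : Type*} [AddCommGroup V] [Module F V] [AddCommGroup W]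
    [Module F W] (φ : Module.End F V) (ψ : Module.End F W) (hφ : φ.IsSemisimple)
    (hψ : ψ.IsSemisimple) : Module.End.IsSemisimple (φ.prodMap ψ) := by
  have h1 : IsSemisimpleModule F[X] (AEval' φ) := hφ
  have h2 : IsSemisimpleModule F[X] (AEval' ψ) := hψ
  have h3 : IsSemisimpleModule F[X] (AEval' φ × AEval' ψ) := isSemisimpleModule_prod
  let e : AEval' (φ.prodMap ψ) ≃ₗ[F[X]] (AEval' φ × AEval' ψ) :=
    LinearEquiv.ofAEval (φ.prodMap ψ) ((AEval'.of φ).prodCongr (AEval'.of ψ)) (by
      rintro ⟨x, y⟩
      show ((AEval'.of φ) (φ x), (AEval'.of ψ) (ψ y)) = (X : F[X]) • ((AEval'.of φ) x, (AEval'.of ψ) y)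
      rw [Prod.smul_mk, AEval'.X_smul_of, AEval'.X_smul_of])
  exact IsSemisimpleModule.congr e

theorem isSemisimple_mulRoot [PerfectField F] (m : F[X]) (hirr : Irreducible m) :
    (mulRoot m).IsSemisimple := by
  apply Module.End.isSemisimple_of_squarefree_aeval_eq_zero (p := m) hirr.squarefree
  have h1 : mulRoot m = Algebra.lmul F (AdjoinRoot m) (AdjoinRoot.root m) := rfl
  rw [h1, aeval_algHom_apply, AdjoinRoot.aeval_eq, AdjoinRoot.mk_self, map_zero]

/-- Over a perfect field every monic polynomial is the characteristic polynomial of a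
semisimple endomorphism. -/
theorem exists_semisimple_charpoly [PerfectField F] :
    ∀ (d : ℕ) (f : F[X]), f.Monic → f.natDegree = d →
      ∃ (V : Type u) (_ : AddCommGroup V) (_ : Module F V) (_ : Module.Finite F V)
        (φ : Module.End F V), φ.IsSemisimple ∧ φ.charpoly = f := by
  intro d
  induction d using Nat.strong_induction_on with
  | _ d ih =>
    intro f hf hd
    rcases Nat.eq_zero_or_pos d with h0 | hpos
    · subst h0
      have hf1 : f = 1 := (Polynomial.Monic.natDegree_eq_zero hf).mp hd
      refine ⟨PUnit.{u+1}, inferInstance, inferInstance, inferInstance, 0,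
        Module.End.isSemisimple_zero, ?_⟩
      rw [hf1]
      apply (Polynomial.Monic.natDegree_eq_zero (LinearMap.charpoly_monic _)).mp
      rw [LinearMap.charpoly_natDegree]
      exact Module.finrank_zero_of_subsingleton
    · have hu : ¬ IsUnit f := Polynomial.not_isUnit_of_natDegree_pos f (hd ▸ hpos)
      obtain ⟨m, hm, hirr, f', rfl⟩ := Polynomial.exists_monic_irreducible_factor f hu
      have hf' : f'.Monic := hm.of_mul_monic_left hf
      have hmpos : 0 < m.natDegree := hirr.natDegree_pos
      have hdeg : (m * f').natDegree = m.natDegree + f'.natDegree := hm.natDegree_mul hf'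
      obtain ⟨V', i1, i2, i3, φ', hφ', hchar'⟩ := ih f'.natDegree (by omega) f' hf' rfl
      have hfin : Module.Finite F (AdjoinRoot m) := finite_adjoinRoot m hm.ne_zero
      refine ⟨AdjoinRoot m × V', inferInstance, inferInstance, inferInstance,
        (mulRoot m).prodMap φ', isSemisimple_prodMap _ _ (isSemisimple_mulRoot m hirr) hφ', ?_⟩
      rw [LinearMap.charpoly_prodMap, charpoly_mulRoot m hm, hchar']

/-- Matrix of a semisimple endomorphism in a basis. -/
theorem exists_matrix_of_end {V : Type*} [AddCommGroup V] [Module F V] [Module.Finite F V]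
    (φ : Module.End F V) (hφ : φ.IsSemisimple) (n : ℕ) (hn : Module.finrank F V = n) :
    ∃ A : Matrix (Fin n) (Fin n) F, Module.End.IsSemisimple (Matrix.toLin' A) ∧
      A.charpoly = φ.charpoly := by
  let b : Basis (Fin n) F V := Module.finBasisOfFinrankEq F V hn
  refine ⟨LinearMap.toMatrix b b φ, ?_, LinearMap.charpoly_toMatrix φ b⟩
  refine (LinearEquiv.isSemisimple_iff φ (Matrix.toLin' (LinearMap.toMatrix b b φ)) b.equivFun ?_).mp hφ
  apply LinearMap.ext
  intro x
  simp only [LinearMap.coe_comp, LinearEquiv.coe_coe, Function.comp_apply, Matrix.toLin'_apply]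
  exact (LinearMap.toMatrix_mulVec_repr b b φ x).symm

/-- Over a perfect field, every monic polynomial of degree `n` is the characteristic polynomial of
a semisimple `n × n` matrix. -/
theorem exists_matrix_semisimple_charpoly [PerfectField F] (n : ℕ) (f : F[X]) (hf : f.Monic)
    (hn : f.natDegree = n) :
    ∃ A : Matrix (Fin n) (Fin n) F, Module.End.IsSemisimple (Matrix.toLin' A) ∧ A.charpoly = f := by
  obtain ⟨V, i1, i2, i3, φ, hφ, hchar⟩ := exists_semisimple_charpoly n f hf hn
  have hrank : Module.finrank F V = n := by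
    rw [← LinearMap.charpoly_natDegree φ, hchar, hn]
  obtain ⟨A, hA, hA'⟩ := exists_matrix_of_end φ hφ n hrank
  exact ⟨A, hA, hA'.trans hchar⟩

end

section
variable {F : Type*} [Field F] [Fintype F]

/-- A semisimple element of `GL_n(F)`, `F` finite of characteristic `p`, has order prime to `p`. -/
theorem coprime_orderOf_of_isSemisimple (p : ℕ) [Fact p.Prime] [CharP F p] {n : Type*} [Fintype n]
    [DecidableEq n] [Nonempty n] (g : GL n F)
    (hg : Module.End.IsSemisimple (Matrix.toLin' (g : Matrix n n F))) : (orderOf g).Coprime p := by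
  have hp : p.Prime := Fact.out
  have hN : orderOf g ≠ 0 := (orderOf_pos g).ne'
  obtain ⟨a, s, hs, hNeq⟩ := Nat.exists_eq_pow_mul_and_not_dvd hN p hp.ne_one
  have hs0 : 0 < s := by
    rcases Nat.eq_zero_or_pos s with h | h
    · exact absurd (h ▸ dvd_zero p) hs
    · exact h
  set A : Matrix n n F := (g : Matrix n n F) with hA
  have hpow : (A ^ s) ^ (p ^ a) = 1 := by
    have h1 : g ^ orderOf g = 1 := pow_orderOf_eq_one g
    rw [hNeq, mul_comm, pow_mul] at h1
    have h2 := congrArg (fun y : GL n F => (y : Matrix n n F)) h1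
    simpa using h2
  have hnil : (A ^ s - 1) ^ (p ^ a) = 0 := by
    rw [sub_pow_char_pow_of_commute p a (Commute.one_right _), hpow, one_pow, sub_self]
  have hss : Module.End.IsSemisimple (Matrix.toLin' (A ^ s - 1)) := by
    have h3 : Matrix.toLin' (A ^ s - 1) = aeval (Matrix.toLin' A) (X ^ s - 1 : F[X]) := by
      have : ∀ M : Matrix n n F, Matrix.toLin' M = Matrix.toLinAlgEquiv' M := fun _ => rfl
      rw [this, this, map_sub, map_pow, map_one]
      simp
    rw [h3]
    exact hg.aeval _
  have hnil' : IsNilpotent (Matrix.toLin' (A ^ s - 1)) := by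
    refine ⟨p ^ a, ?_⟩
    have : ∀ M : Matrix n n F, Matrix.toLin' M = Matrix.toLinAlgEquiv' M := fun _ => rfl
    rw [this, ← map_pow, hnil, map_zero]
  have h0 := Module.End.eq_zero_of_isNilpotent_isSemisimple hnil' hss
  have h4 : A ^ s - 1 = 0 := Matrix.toLin'.injective (by rw [h0, map_zero])
  have h5 : g ^ s = 1 := by
    apply Units.ext
    rw [Units.val_pow_eq_pow_val, Units.val_one]
    exact sub_eq_zero.mp h4
  have h6 : orderOf g ∣ s := orderOf_dvd_of_pow_eq_one h5
  rw [hNeq] at h6
  have h7 : p ^ a = 1 := by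
    have h8 : p ^ a * s ∣ 1 * s := by rwa [one_mul]
    exact Nat.dvd_one.mp (Nat.dvd_of_mul_dvd_mul_right hs0 h8)
  rw [hNeq, h7, one_mul]
  exact ((Nat.Prime.coprime_iff_not_dvd hp).mpr hs).symm

end

section
variable {F : Type*} [Field F] [Fintype F]

/-- The bijection between monic polynomials of degree `n` and coefficient vectors. -/
noncomputable def monicCoeffEquiv (n : ℕ) : {f : F[X] // f.Monic ∧ f.natDegree = n} ≃ (Fin n → F) :=
  (Polynomial.monicEquivDegreeLT n).trans (Polynomial.degreeLTEquiv F n).toEquiv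

omit [Fintype F] in
theorem monicCoeffEquiv_apply (n : ℕ) (f : {f : F[X] // f.Monic ∧ f.natDegree = n}) (i : Fin n) :
    monicCoeffEquiv n f i = f.1.coeff i := by
  show (f.1.eraseLead).coeff i = f.1.coeff i
  rw [Polynomial.eraseLead_coeff_of_ne]
  rw [f.2.2]
  exact i.2.ne

theorem card_fun_ne_zero (k : ℕ) :
    Nat.card {v : Fin (k + 1) → F // v 0 ≠ 0} = (Fintype.card F - 1) * Fintype.card F ^ k := by
  classical
  have e : {v : Fin (k + 1) → F // v 0 ≠ 0} ≃ {a : F // a ≠ 0} × (Fin k → F) :=
    { toFun := fun v => (⟨v.1 0, v.2⟩, fun i => v.1 i.succ)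
      invFun := fun x => ⟨Fin.cons x.1.1 x.2, by simpa using x.1.2⟩
      left_inv := fun v => by
        apply Subtype.ext
        funext i
        refine Fin.cases ?_ ?_ i <;> simp
      right_inv := fun x => by
        rcases x with ⟨⟨a, ha⟩, w⟩
        simp }
  rw [Nat.card_congr e, Nat.card_eq_fintype_card, Fintype.card_prod, Fintype.card_subtype_compl,
    Fintype.card_subtype_eq, Fintype.card_fun, Fintype.card_fin]

omit [Field F] in
theorem card_fun_eq (k : ℕ) (c : F) :
    Nat.card {v : Fin (k + 1) → F // v 0 = c} = Fintype.card F ^ k := by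
  classical
  have e : {v : Fin (k + 1) → F // v 0 = c} ≃ (Fin k → F) :=
    { toFun := fun v => fun i => v.1 i.succ
      invFun := fun w => ⟨Fin.cons c w, by simp⟩
      left_inv := fun v => by
        apply Subtype.ext
        funext i
        refine Fin.cases ?_ ?_ i
        · simp [v.2]
        · simp
      right_inv := fun w => by simp }
  rw [Nat.card_congr e, Nat.card_eq_fintype_card, Fintype.card_fun, Fintype.card_fin]

/-- The number of monic polynomials of degree `k+1` with nonzero constant coefficient. -/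
theorem card_monic_coeff_zero_ne (k : ℕ) :
    Nat.card {f : F[X] // f.Monic ∧ f.natDegree = k + 1 ∧ f.coeff 0 ≠ 0} =
      (Fintype.card F - 1) * Fintype.card F ^ k := by
  rw [← card_fun_ne_zero]
  refine Nat.card_congr ?_
  have e1 : {f : F[X] // f.Monic ∧ f.natDegree = k + 1 ∧ f.coeff 0 ≠ 0} ≃
      {a : {f : F[X] // f.Monic ∧ f.natDegree = k + 1} // a.1.coeff 0 ≠ 0} :=
    { toFun := fun f => ⟨⟨f.1, f.2.1, f.2.2.1⟩, f.2.2.2⟩
      invFun := fun a => ⟨a.1.1, a.1.2.1, a.1.2.2, a.2⟩
      left_inv := fun _ => rfl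
      right_inv := fun _ => rfl }
  refine e1.trans (Equiv.subtypeEquiv (monicCoeffEquiv (k + 1)) ?_)
  intro a
  rw [monicCoeffEquiv_apply]
  rfl

/-- The number of monic polynomials of degree `k+1` with prescribed constant coefficient. -/
theorem card_monic_coeff_zero_eq (k : ℕ) (c : F) :
    Nat.card {f : F[X] // f.Monic ∧ f.natDegree = k + 1 ∧ f.coeff 0 = c} =
      Fintype.card F ^ k := by
  rw [← card_fun_eq k c]
  refine Nat.card_congr ?_
  have e1 : {f : F[X] // f.Monic ∧ f.natDegree = k + 1 ∧ f.coeff 0 = c} ≃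
      {a : {f : F[X] // f.Monic ∧ f.natDegree = k + 1} // a.1.coeff 0 = c} :=
    { toFun := fun f => ⟨⟨f.1, f.2.1, f.2.2.1⟩, f.2.2.2⟩
      invFun := fun a => ⟨a.1.1, a.1.2.1, a.1.2.2, a.2⟩
      left_inv := fun _ => rfl
      right_inv := fun _ => rfl }
  refine e1.trans (Equiv.subtypeEquiv (monicCoeffEquiv (k + 1)) ?_)
  intro a
  rw [monicCoeffEquiv_apply]
  rfl

end

end Cfsg.Agent.Lib.Helper40
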