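import Mathlib
import Cfsg.Agent.Lib.Helper40.SemisimpleCount

/-!
# Semisimple matrices with prescribed characteristic polynomial, killed by prescribed polynomials

`exists_matrix_semisimple_charpoly_kill`: over a perfect field, for every monic `f` of degree `n`
there is a semisimple `n × n` matrix `A` with characteristic polynomial `f` such that `g(A) = 0`
for every polynomial `g` divisible by all monic irreducible factors of `f`.
-/

namespace Cfsg.Agent.Lib.Helper40

open Polynomial Module

section
universe u
variable {F : Type u} [Field F]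

theorem aeval_prodMap {V W : Type*} [AddCommGroup V] [Module F V] [AddCommGroup W] [Module F W]
    (φ : Module.End F V) (ψ : Module.End F W) (g : F[X]) :
    aeval (φ.prodMap ψ) g = (aeval φ g).prodMap (aeval ψ g) := by
  apply LinearMap.ext
  intro x
  apply Prod.ext
  · exact aeval_intertwine (φ.prodMap ψ) φ (LinearMap.fst F V W) (fun _ => rfl) g x
  · exact aeval_intertwine (φ.prodMap ψ) ψ (LinearMap.snd F V W) (fun _ => rfl) g x

theorem aeval_mulRoot_eq_zero (m g : F[X]) (h : m ∣ g) : aeval (mulRoot m) g = 0 := by
  have h1 : mulRoot m = Algebra.lmul F (AdjoinRoot m) (AdjoinRoot.root m) := rfl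
  rw [h1, aeval_algHom_apply, AdjoinRoot.aeval_eq, AdjoinRoot.mk_eq_zero.mpr h, map_zero]

theorem exists_semisimple_charpoly_kill [PerfectField F] :
    ∀ (d : ℕ) (f : F[X]), f.Monic → f.natDegree = d →
      ∃ (V : Type u) (_ : AddCommGroup V) (_ : Module F V) (_ : Module.Finite F V)
        (φ : Module.End F V), φ.IsSemisimple ∧ φ.charpoly = f ∧
          ∀ g : F[X], (∀ m : F[X], m.Monic → Irreducible m → m ∣ f → m ∣ g) → aeval φ g = 0 := by
  intro d
  induction d using Nat.strong_induction_on with
  | _ d ih =>
    intro f hf hd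
    rcases Nat.eq_zero_or_pos d with h0 | hpos
    · subst h0
      have hf1 : f = 1 := (Polynomial.Monic.natDegree_eq_zero hf).mp hd
      refine ⟨PUnit.{u+1}, inferInstance, inferInstance, inferInstance, 0,
        Module.End.isSemisimple_zero, ?_, ?_⟩
      · rw [hf1]
        apply (Polynomial.Monic.natDegree_eq_zero (LinearMap.charpoly_monic _)).mp
        rw [LinearMap.charpoly_natDegree]
        exact Module.finrank_zero_of_subsingleton
      · intro g _
        apply LinearMap.ext
        intro x
        exact Subsingleton.elim _ _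
    · have hu : ¬ IsUnit f := Polynomial.not_isUnit_of_natDegree_pos f (hd ▸ hpos)
      obtain ⟨m, hm, hirr, f', rfl⟩ := Polynomial.exists_monic_irreducible_factor f hu
      have hf' : f'.Monic := hm.of_mul_monic_left hf
      have hmpos : 0 < m.natDegree := hirr.natDegree_pos
      have hdeg : (m * f').natDegree = m.natDegree + f'.natDegree := hm.natDegree_mul hf'
      obtain ⟨V', i1, i2, i3, φ', hφ', hchar', hkill'⟩ := ih f'.natDegree (by omega) f' hf' rfl
      have hfin : Module.Finite F (AdjoinRoot m) := finite_adjoinRoot m hm.ne_zero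
      refine ⟨AdjoinRoot m × V', inferInstance, inferInstance, inferInstance,
        (mulRoot m).prodMap φ', isSemisimple_prodMap _ _ (isSemisimple_mulRoot m hirr) hφ', ?_, ?_⟩
      · rw [LinearMap.charpoly_prodMap, charpoly_mulRoot m hm, hchar']
      · intro g hg
        rw [aeval_prodMap, aeval_mulRoot_eq_zero m g (hg m hm hirr (dvd_mul_right _ _)),
          hkill' g (fun m' hm' hirr' hdvd => hg m' hm' hirr' (dvd_mul_of_dvd_right hdvd _))]
        exact LinearMap.prodMap_zero

theorem exists_matrix_semisimple_charpoly_kill [PerfectField F] (n : ℕ) (f : F[X]) (hf : f.Monic)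
    (hn : f.natDegree = n) :
    ∃ A : Matrix (Fin n) (Fin n) F, Module.End.IsSemisimple (Matrix.toLin' A) ∧ A.charpoly = f ∧
      ∀ g : F[X], (∀ m : F[X], m.Monic → Irreducible m → m ∣ f → m ∣ g) → aeval A g = 0 := by
  obtain ⟨V, i1, i2, i3, φ, hφ, hchar, hkill⟩ := exists_semisimple_charpoly_kill n f hf hn
  have hrank : Module.finrank F V = n := by
    rw [← LinearMap.charpoly_natDegree φ, hchar, hn]
  let b : Basis (Fin n) F V := Module.finBasisOfFinrankEq F V hrank
  refine ⟨LinearMap.toMatrix b b φ, ?_, (LinearMap.charpoly_toMatrix φ b).trans hchar, ?_⟩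
  · refine (LinearEquiv.isSemisimple_iff φ (Matrix.toLin' (LinearMap.toMatrix b b φ)) b.equivFun ?_).mp hφ
    apply LinearMap.ext
    intro x
    simp only [LinearMap.coe_comp, LinearEquiv.coe_coe, Function.comp_apply, Matrix.toLin'_apply]
    exact (LinearMap.toMatrix_mulVec_repr b b φ x).symm
  · intro g hg
    have h1 : LinearMap.toMatrix b b φ = LinearMap.toMatrixAlgEquiv b φ := rfl
    rw [h1, aeval_algHom_apply, hkill g hg, map_zero]

end

end Cfsg.Agent.Lib.Helper40
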