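import Mathlib

/-!
# Matrix models of orthogonal group elements (helper40, for S2474)

`OrthModel F d N`: some nondegenerate symmetric bilinear form in dimension `d` over `F` has an
isometry of order exactly `N`.
-/

set_option autoImplicit false
set_option linter.unusedSectionVars false

namespace Cfsg.Agent.Lib.Helper40

open Matrix

/-- some nondegenerate symmetric form in dimension `d` has an isometry of order `N` -/
def OrthModel (F : Type*) [Field F] (d N : ℕ) : Prop :=
  ∃ B M : Matrix (Fin d) (Fin d) F, Bᵀ = B ∧ B.det ≠ 0 ∧ Mᵀ * B * M = B ∧ orderOf M = N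

section basic
variable {F : Type*} [Field F]

/-- a model on an arbitrary index type gives a model on `Fin d` -/
theorem orthModel_of_fintype {κ : Type*} [Fintype κ] [DecidableEq κ] {d N : ℕ}
    (hκ : Fintype.card κ = d) (B M : Matrix κ κ F) (hBs : Bᵀ = B) (hBdet : B.det ≠ 0)
    (hM : Mᵀ * B * M = B) (hord : orderOf M = N) : OrthModel F d N := by
  classical
  let e : κ ≃ Fin d := Fintype.equivFinOfCardEq hκ
  refine ⟨Matrix.reindex e e B, Matrix.reindex e e M, ?_, ?_, ?_, ?_⟩
  · ext i j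
    simp only [Matrix.reindex_apply, Matrix.submatrix_apply, Matrix.transpose_apply]
    exact congrFun (congrFun hBs (e.symm i)) (e.symm j)
  · rw [Matrix.det_reindex_self]
    exact hBdet
  · have h1 : (Matrix.reindex e e M)ᵀ = Matrix.reindex e e Mᵀ := by
      ext i j
      simp [Matrix.reindex_apply]
    rw [h1, Matrix.reindex_apply, Matrix.reindex_apply, Matrix.reindex_apply,
      Matrix.submatrix_mul_equiv, Matrix.submatrix_mul_equiv, hM]
  · rw [← hord]
    exact orderOf_injective (Matrix.reindexAlgEquiv F F e).toRingEquiv.toMonoidHom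
      (Matrix.reindexAlgEquiv F F e).injective M

theorem orthModel_one (d : ℕ) : OrthModel F d 1 :=
  ⟨1, 1, Matrix.transpose_one, by rw [Matrix.det_one]; exact one_ne_zero, by simp, orderOf_one⟩

/-- orthogonal direct sum of models -/
theorem orthModel_sum {d₁ d₂ N₁ N₂ : ℕ} (h₁ : OrthModel F d₁ N₁) (h₂ : OrthModel F d₂ N₂) :
    OrthModel F (d₁ + d₂) (Nat.lcm N₁ N₂) := by
  obtain ⟨B₁, M₁, hB₁s, hB₁d, hM₁, ho₁⟩ := h₁
  obtain ⟨B₂, M₂, hB₂s, hB₂d, hM₂, ho₂⟩ := h₂
  refine orthModel_of_fintype (κ := Fin d₁ ⊕ Fin d₂) (by simp) (fromBlocks B₁ 0 0 B₂)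
    (fromBlocks M₁ 0 0 M₂) ?_ ?_ ?_ ?_
  · rw [Matrix.fromBlocks_transpose, hB₁s, hB₂s, Matrix.transpose_zero, Matrix.transpose_zero]
  · rw [Matrix.det_fromBlocks_zero₂₁]
    exact mul_ne_zero hB₁d hB₂d
  · rw [Matrix.fromBlocks_transpose, Matrix.transpose_zero, Matrix.transpose_zero,
      Matrix.fromBlocks_multiply, Matrix.fromBlocks_multiply]
    simp [hM₁, hM₂]
  · have hpow : ∀ j : ℕ, (fromBlocks M₁ 0 0 M₂ : Matrix (Fin d₁ ⊕ Fin d₂) (Fin d₁ ⊕ Fin d₂) F) ^ j =
        fromBlocks (M₁ ^ j) 0 0 (M₂ ^ j) := by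
      intro j
      induction j with
      | zero => rw [pow_zero, pow_zero, pow_zero, fromBlocks_one]
      | succ j ih =>
        rw [pow_succ, ih, fromBlocks_multiply, pow_succ, pow_succ]
        simp
    apply Nat.dvd_antisymm
    · apply orderOf_dvd_of_pow_eq_one
      rw [hpow, ← ho₁, ← ho₂, orderOf_dvd_iff_pow_eq_one.mp (Nat.dvd_lcm_left _ _),
        orderOf_dvd_iff_pow_eq_one.mp (Nat.dvd_lcm_right _ _), fromBlocks_one]
    · have h := pow_orderOf_eq_one (fromBlocks M₁ 0 0 M₂ :
        Matrix (Fin d₁ ⊕ Fin d₂) (Fin d₁ ⊕ Fin d₂) F)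
      rw [hpow, ← fromBlocks_one, fromBlocks_inj] at h
      apply Nat.lcm_dvd
      · rw [← ho₁]
        exact orderOf_dvd_of_pow_eq_one h.1
      · rw [← ho₂]
        exact orderOf_dvd_of_pow_eq_one h.2.2.2

/-- padding a model by a trivial summand -/
theorem orthModel_pad {d N : ℕ} (h : OrthModel F d N) (D : ℕ) (hD : d ≤ D) : OrthModel F D N := by
  have h1 := orthModel_sum h (orthModel_one (F := F) (D - d))
  rw [Nat.add_sub_cancel' hD, Nat.lcm_one_right] at h1
  exact h1

/-- the rotation of order four of the form `x² + y²` -/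
theorem orthModel_four (h2 : (2 : F) ≠ 0) : OrthModel F 2 4 := by
  refine ⟨1, !![0, -1; 1, 0], Matrix.transpose_one, by rw [Matrix.det_one]; exact one_ne_zero, ?_, ?_⟩
  · ext i j
    fin_cases i <;> fin_cases j <;> simp [Matrix.mul_apply, Fin.sum_univ_two]
  · have hsq : (!![0, -1; 1, 0] : Matrix (Fin 2) (Fin 2) F) ^ 2 = -1 := by
      ext i j
      fin_cases i <;> fin_cases j <;> simp [pow_two, Matrix.mul_apply, Fin.sum_univ_two]
    have h4 : (!![0, -1; 1, 0] : Matrix (Fin 2) (Fin 2) F) ^ 4 = 1 := by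
      rw [show 4 = 2 * 2 from rfl, pow_mul, hsq]
      simp
    have hne : (!![0, -1; 1, 0] : Matrix (Fin 2) (Fin 2) F) ^ 2 ≠ 1 := by
      rw [hsq]
      intro h
      have := congrFun (congrFun h 0) 0
      simp at this
      apply h2
      linear_combination -this
    have := orderOf_eq_prime_pow (x := (!![0, -1; 1, 0] : Matrix (Fin 2) (Fin 2) F)) (p := 2) (n := 1)
      (by rw [pow_one]; exact hne) (by norm_num; exact h4)
    simpa using this

end basic

end Cfsg.Agent.Lib.Helper40
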