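import Cfsg.Agent.Lib.Helper40.BPConj
import Cfsg.Agent.Lib.Helper40.BPBr1

/-!
# PROJECT BP (coordinator helper92), module BP-[U-BRCONJ]: the Brauer map and conjugation by an
element normalising `Q`
-/

set_option autoImplicit false
set_option linter.unusedSectionVars false

namespace Cfsg.Agent.Lib.Helper40.BP

open Cfsg.Agent.Lib.Helper92.BP

variable {R : Type*} [CommRing R] [IsDomain R] [IsLocalRing R] {G : Type*} [Group G]

/-- BP-[U-BRCONJ] : `Br` and conjugation by an element normalising `Q` -/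
theorem br_conj [Finite G] {Q : Subgroup G} {x : G}
    (_hx : x ∈ Subgroup.normalizer (Q : Set G)) (a : MonoidAlgebra R G)
    (z z' : Subgroup.centralizer (Q : Set G)) (hz : (z' : G) = x * (z : G) * x⁻¹) :
    (br R Q (conj R x a)).coeff z' = (br R Q a).coeff z := by
  rw [coeff_br, coeff_br, coeff_conj, hz]
  congr 2
  group

/-- Coefficient form without the normaliser hypothesis (it is not needed). -/
theorem coeff_br_conj {R : Type*} [CommRing R] [IsLocalRing R] {G : Type*} [Group G]
    (Q : Subgroup G) (x : G) (a : MonoidAlgebra R G)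
    (z z' : Subgroup.centralizer (Q : Set G)) (hz : (z' : G) = x * (z : G) * x⁻¹) :
    (br R Q (conj R x a)).coeff z' = (br R Q a).coeff z := by
  rw [coeff_br, coeff_br, coeff_conj, hz]
  congr 2
  group

/-- conjugation by `x ∈ N_G(Q)` maps `C_G(Q)` to itself -/
theorem conj_mem_centralizer {Q : Subgroup G} {x : G}
    (hx : x ∈ Subgroup.normalizer (Q : Set G)) {z : G}
    (hz : z ∈ Subgroup.centralizer (Q : Set G)) :
    x * z * x⁻¹ ∈ Subgroup.centralizer (Q : Set G) := by
  rw [Subgroup.mem_centralizer_iff] at hz ⊢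
  intro q hq
  have hq' : x⁻¹ * q * x ∈ Q := by
    have := (Subgroup.mem_normalizer_iff''.mp hx (q)).mp hq
    simpa using this
  have h1 := hz (x⁻¹ * q * x) hq'
  have : q * (x * z * x⁻¹) = x * ((x⁻¹ * q * x) * z) * x⁻¹ := by group
  rw [this, h1]
  group

/-- `br (conj x a) = 0 ↔ br a = 0` for `x` normalising `Q` -/
theorem br_conj_eq_zero_iff {R : Type*} [CommRing R] [IsLocalRing R] {G : Type*} [Group G]
    {Q : Subgroup G} {x : G}
    (hx : x ∈ Subgroup.normalizer (Q : Set G)) (a : MonoidAlgebra R G) :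
    br R Q (conj R x a) = 0 ↔ br R Q a = 0 := by
  have hxi : x⁻¹ ∈ Subgroup.normalizer (Q : Set G) := inv_mem hx
  constructor
  · intro h
    apply br_ext
    intro z
    have hz' : x * (z : G) * x⁻¹ ∈ Subgroup.centralizer (Q : Set G) :=
      conj_mem_centralizer hx z.2
    have := coeff_br_conj Q x a z ⟨_, hz'⟩ rfl
    rw [← this, h]
    simp
  · intro h
    apply br_ext
    intro z'
    have hz' : x⁻¹ * (z' : G) * x⁻¹⁻¹ ∈ Subgroup.centralizer (Q : Set G) :=
      conj_mem_centralizer hxi z'.2
    have := coeff_br_conj Q x a ⟨_, hz'⟩ z' (by simp [mul_assoc])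
    rw [this, h]
    simp

end Cfsg.Agent.Lib.Helper40.BP
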