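import Cfsg.Agent.Lib.Helper40.BPIncl
import Cfsg.Agent.Lib.Helper9.BPTr2
import Cfsg.Agent.Lib.Helper23.BPBrMul
import Cfsg.Agent.Lib.Helper3.BPLocal
import Cfsg.Agent.Lib.Helper52.BPD0
import Cfsg.Agent.Lib.Helper80.CharBasic
import Cfsg.Agent.S0148

/-!
# PROJECT BP (coordinator helper92), module BP-[L4-C2]: CLAIM passes to relative traces with
orthogonal conjugates (`claimFor_relTr`), in the form `claimFor_relTr_of` taking the three facts
about `ThetaQ` of module BP-[L4-TH] (`thetaQ_add`, `thetaQ_zero`, `thetaQ_conj`) as hypotheses.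
-/

set_option autoImplicit false
set_option linter.unusedSectionVars false

namespace Cfsg.Agent.Lib.Helper40.BP

open Cfsg Cfsg.Agent.Lib.Helper16 Cfsg.Agent.Lib.Helper92.BP

/-! ### extension by zero and induction of generalized characters between subgroups -/

section Ind
variable {G : Type*} [Group G]

theorem extendByZero_of_mem (H : Subgroup G) (θ : H → ℂ) {g : G} (hg : g ∈ H) :
    extendByZero H θ g = θ ⟨g, hg⟩ := by
  unfold extendByZero
  exact Subtype.val_injective.extend_apply θ 0 ⟨g, hg⟩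

theorem extendByZero_of_notMem (H : Subgroup G) (θ : H → ℂ) {g : G} (hg : g ∉ H) :
    extendByZero H θ g = 0 := by
  unfold extendByZero
  rw [Function.extend_apply']
  · rfl
  · rintro ⟨h, rfl⟩
    exact hg h.2

/-- `Ind_S^Q` of a generalized character of `S ≤ Q`, as a function on `Q`, with its formula. -/
theorem exists_ind_genChar {S Q : Subgroup G} [Fintype Q] (hSQ : S ≤ Q) {ψ' : S → ℂ}
    (hψ' : IsGeneralizedCharacter S ψ') :
    ∃ ψ : Q → ℂ, IsGeneralizedCharacter Q ψ ∧ ∀ u : Q,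
      ψ u = (Nat.card S : ℂ)⁻¹ * ∑ x : Q, extendByZero S ψ' ((x : G)⁻¹ * (u : G) * (x : G)) := by
  obtain ⟨χ₁, χ₂, h₁, h₂, rfl⟩ := hψ'
  set e : S.subgroupOf Q ≃* S := Subgroup.subgroupOfEquivOfLe hSQ with he
  have hθ₁ : IsCharacter (S.subgroupOf Q) (fun h => χ₁ (e.toMonoidHom h)) :=
    Cfsg.Agent.Lib.Helper80.isCharacter_comp e.toMonoidHom h₁
  have hθ₂ : IsCharacter (S.subgroupOf Q) (fun h => χ₂ (e.toMonoidHom h)) :=
    Cfsg.Agent.Lib.Helper80.isCharacter_comp e.toMonoidHom h₂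
  refine ⟨indFun (S.subgroupOf Q) (fun h => χ₁ (e.toMonoidHom h)) -
      indFun (S.subgroupOf Q) (fun h => χ₂ (e.toMonoidHom h)),
    ⟨_, _, Cfsg.Agent.S0148.result _ _ hθ₁, Cfsg.Agent.S0148.result _ _ hθ₂, rfl⟩, ?_⟩
  intro u
  have hcard : Nat.card (S.subgroupOf Q) = Nat.card S := Nat.card_congr e.toEquiv
  rw [Pi.sub_apply]
  unfold indFun
  rw [hcard, ← mul_sub, ← Finset.sum_sub_distrib]
  congr 1
  apply Finset.sum_congr rfl
  intro x _
  by_cases hmem : (x : G)⁻¹ * (u : G) * (x : G) ∈ S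
  · have hmem' : x⁻¹ * u * x ∈ S.subgroupOf Q := by
      rw [Subgroup.mem_subgroupOf]
      exact hmem
    rw [extendByZero_of_mem _ _ hmem', extendByZero_of_mem _ _ hmem', extendByZero_of_mem _ _ hmem]
    rfl
  · have hmem' : x⁻¹ * u * x ∉ S.subgroupOf Q := by
      rw [Subgroup.mem_subgroupOf]
      exact hmem
    rw [extendByZero_of_notMem _ _ hmem', extendByZero_of_notMem _ _ hmem',
      extendByZero_of_notMem _ _ hmem, sub_zero]

theorem mem_centralizer_zpowers_iff (v y : G) :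
    y ∈ Subgroup.centralizer ((Subgroup.zpowers v : Subgroup G) : Set G) ↔ v * y = y * v := by
  rw [Subgroup.mem_centralizer_iff]
  constructor
  · intro h
    exact h v (Subgroup.mem_zpowers v)
  · intro h w hw
    obtain ⟨n, rfl⟩ := Subgroup.mem_zpowers_iff.1 hw
    have hc : Commute v y := h
    exact (hc.zpow_left n).eq

end Ind

/-! ### the Brauer map on conjugates of `c'` -/

section Local
variable {R : Type*} [CommRing R] [IsDomain R] [IsLocalRing R] {G : Type*} [Group G]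

/-- `conj x c' ∈ A^S` for `x ∈ Q` when `S ⊴ Q` -/
theorem conj_mem_fixedAlg_of_normal {S Q : Subgroup G} (hSQ : S ≤ Q)
    (hn : (S.subgroupOf Q).Normal) {c' : MonoidAlgebra R G} (hc' : c' ∈ fixedAlg R S) {x : G}
    (hx : x ∈ Q) : conj R x c' ∈ fixedAlg R S := by
  rw [mem_fixedAlg_iff] at hc' ⊢
  intro s hs
  have h1 : x⁻¹ * s * x ∈ S := by
    have := hn.conj_mem ⟨s, hSQ hs⟩ (Subgroup.mem_subgroupOf.2 hs) (⟨x, hx⟩ : Q)⁻¹
    rw [Subgroup.mem_subgroupOf] at this
    simpa using this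
  rw [conj_conj]
  have : s * x = x * (x⁻¹ * s * x) := by group
  rw [this, ← conj_conj, hc' _ h1]

/-- if `u ∈ Q ∖ S` (`S ⊴ Q` of index `p`) then `Br_u` kills `Tr_S^Q(c')` -/
theorem br_relTr_eq_zero_of_notMem [Finite G] {p : ℕ} [Fact p.Prime]
    [CharP (IsLocalRing.ResidueField R) p] {S Q : Subgroup G} (hSQ : S ≤ Q)
    (hn : (S.subgroupOf Q).Normal) (hidx : S.relIndex Q = p) {c' : MonoidAlgebra R G}
    (hc' : c' ∈ fixedAlg R S) {u : G} (hu : u ∈ Q) (huS : u ∉ S) :
    br R (Subgroup.zpowers u) (relTr R S Q c') = 0 := by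
  rw [Cfsg.Agent.Lib.Helper9.BP.relTr_eq_sum_pow hSQ hn (Fact.out : p.Prime) hidx hu huS hc',
    br_sum]
  have hterm : ∀ i ∈ Finset.range p,
      br R (Subgroup.zpowers u) (conj R (u ^ i) c') = br R (Subgroup.zpowers u) c' := by
    intro i _
    apply br_ext
    intro z
    rw [coeff_br, coeff_br, coeff_conj]
    congr 2
    have hz : u * (z : G) = (z : G) * u := (mem_centralizer_zpowers_iff u z).1 z.2
    have hc : Commute (u ^ i) (z : G) := (show Commute u (z : G) from hz).pow_left i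
    rw [mul_assoc, ← hc.eq, ← mul_assoc, inv_mul_cancel, one_mul]
  rw [Finset.sum_congr rfl hterm, Finset.sum_const, Finset.card_range,
    ← Nat.cast_smul_eq_nsmul (IsLocalRing.ResidueField R), CharP.cast_eq_zero, zero_smul]

end Local

/-! ### counting fibres of `Q → Q ⧸ S` -/

section Fiber
variable {Q : Type*} [Group Q] [Fintype Q]

theorem sum_comp_mk_eq (H : Subgroup Q) [Fintype (Q ⧸ H)] (F : Q ⧸ H → ℂ) :
    ∑ x : Q, F (QuotientGroup.mk x) = (Nat.card H : ℂ) * ∑ τ, F τ := by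
  classical
  rw [← Finset.sum_fiberwise Finset.univ (fun x : Q => (QuotientGroup.mk x : Q ⧸ H))
    (fun x => F (QuotientGroup.mk x)), Finset.mul_sum]
  apply Finset.sum_congr rfl
  intro τ _
  have h0 : ∀ x ∈ Finset.univ.filter (fun x : Q => (QuotientGroup.mk x : Q ⧸ H) = τ),
      F (QuotientGroup.mk x) = F τ := by
    intro x hx
    rw [(Finset.mem_filter.1 hx).2]
  rw [Finset.sum_congr rfl h0, Finset.sum_const, nsmul_eq_mul]
  congr 1
  have h1 := QuotientGroup.card_preimage_mk H ({τ} : Set (Q ⧸ H))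
  have h2 : Nat.card (({τ} : Set (Q ⧸ H))) = 1 := by simp
  rw [h2, mul_one] at h1
  rw [← h1, Nat.card_eq_fintype_card, Fintype.card_subtype]
  simp only [Set.mem_preimage, Set.mem_singleton_iff]

end Fiber

/-! ### BP-[L4-C2], abstract form -/

section Main
variable {R : Type*} [CommRing R] [IsDomain R] [IsLocalRing R] [Algebra R ℂ]
variable {G : Type*} [Group G]

/-- BP-[L4-C2] for an abstract "twisted trace" `Θ` which is additive and conjugation
equivariant. -/
theorem claim_relTr_abs [Finite G] {p : ℕ} [Fact p.Prime] [CharP (IsLocalRing.ResidueField R) p]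
    (hR : MonicSplits R) (Θ : Subgroup G → G → MonoidAlgebra R G → ℂ)
    (hadd : ∀ (Q : Subgroup G) (u : G) (a b : MonoidAlgebra R G),
      Θ Q u (a + b) = Θ Q u a + Θ Q u b)
    (hzero : ∀ (Q : Subgroup G) (u : G), Θ Q u 0 = 0)
    (hconj : ∀ (Q : Subgroup G), IsPGroup p Q → ∀ (g u : G), u ∈ Q → ∀ a : MonoidAlgebra R G,
      Θ (Q.map (MulAut.conj g).toMonoidHom) (g * u * g⁻¹) (conj R g a) = Θ Q u a)
    {S Q : Subgroup G} (hQ : IsPGroup p Q) (hSQ : S ≤ Q) (hn : (S.subgroupOf Q).Normal)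
    (hidx : S.relIndex Q = p) {c' : MonoidAlgebra R G} (hc' : c' ∈ fixedAlg R S)
    (hi : IsIdempotentElem c') (horth : ∀ t ∈ Q, t ∉ S → c' * conj R t c' = 0)
    (H : ∃ ψ' : S → ℂ, IsGeneralizedCharacter S ψ' ∧
      ∀ (u : S) (a : MonoidAlgebra R G),
        a ∈ Set.range (incl R
          (Subgroup.centralizer ((Subgroup.zpowers (u : G) : Subgroup G) : Set G))) →
        IsIdempotentElem a →
        br R (Subgroup.zpowers (u : G)) a = br R (Subgroup.zpowers (u : G)) c' →
        ψ' u = Θ (Subgroup.zpowers (u : G)) (u : G) a) :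
    ∃ ψ : Q → ℂ, IsGeneralizedCharacter Q ψ ∧
      ∀ (u : Q) (a : MonoidAlgebra R G),
        a ∈ Set.range (incl R
          (Subgroup.centralizer ((Subgroup.zpowers (u : G) : Subgroup G) : Set G))) →
        IsIdempotentElem a →
        br R (Subgroup.zpowers (u : G)) a =
          br R (Subgroup.zpowers (u : G)) (relTr R S Q c') →
        ψ u = Θ (Subgroup.zpowers (u : G)) (u : G) a := by
  classical
  obtain ⟨ψ', hψ'g, hψ'⟩ := H
  let _ : Fintype Q := Fintype.ofFinite Q
  obtain ⟨ψ, hψg, hψ⟩ := exists_ind_genChar hSQ hψ'g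
  refine ⟨ψ, hψg, ?_⟩
  intro u a ha hai hbr
  by_cases huS : (u : G) ∈ S
  swap
  · -- `u ∉ S`: both sides vanish
    obtain ⟨a₀, rfl⟩ := ha
    have ha₀ : IsIdempotentElem a₀ := isIdempotentElem_of_incl _ hai
    have h0 : br R (Subgroup.zpowers (u : G)) (incl R _ a₀) = 0 := by
      rw [hbr]
      exact br_relTr_eq_zero_of_notMem hSQ hn hidx hc' u.2 huS
    rw [br_incl] at h0
    have ha0 : a₀ = 0 :=
      Cfsg.Agent.Lib.Helper86.BP.idem_eq_zero_of_red_eq_zero a₀ ha₀ h0
    rw [ha0, map_zero, hzero, hψ u, Finset.sum_eq_zero, mul_zero]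
    intro x _
    apply extendByZero_of_notMem
    intro hmem
    apply huS
    have h1 := hn.conj_mem ⟨(x : G)⁻¹ * (u : G) * (x : G), hSQ hmem⟩
      (Subgroup.mem_subgroupOf.2 hmem) x
    rw [Subgroup.mem_subgroupOf] at h1
    have h2 : (x : G) * ((x : G)⁻¹ * (u : G) * (x : G)) * (x : G)⁻¹ = (u : G) := by group
    simpa [h2] using h1
  · -- `u ∈ S`
    set U : Subgroup G := Subgroup.zpowers (u : G) with hU
    obtain ⟨a₀, rfl⟩ := ha
    have ha₀ : IsIdempotentElem a₀ := isIdempotentElem_of_incl _ hai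
    have hUS : U ≤ S := Subgroup.zpowers_le.2 huS
    have hUp : IsPGroup p U := hQ.to_le (hUS.trans hSQ)
    let _ : Fintype (Q ⧸ S.subgroupOf Q) := Fintype.ofFinite _
    set rep : Q ⧸ S.subgroupOf Q → G := fun τ => ((Quotient.out τ : Q) : G) with hrep
    have hrepQ : ∀ τ, rep τ ∈ Q := fun τ => (Quotient.out τ : Q).2
    have hfix : ∀ x ∈ Q, conj R x c' ∈ fixedAlg R U := fun x hx =>
      fixedAlg_anti hUS (conj_mem_fixedAlg_of_normal hSQ hn hc' hx)
    set y : Q ⧸ S.subgroupOf Q →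
        MonoidAlgebra (IsLocalRing.ResidueField R) (Subgroup.centralizer (U : Set G)) :=
      fun τ => br R U (conj R (rep τ) c') with hy
    have hyi : ∀ τ, IsIdempotentElem (y τ) := by
      intro τ
      show br R U (conj R (rep τ) c') * br R U (conj R (rep τ) c') = br R U (conj R (rep τ) c')
      rw [← Cfsg.Agent.Lib.Helper23.BP.br_mul hUp (hfix _ (hrepQ τ)) (hfix _ (hrepQ τ)),
        ← conj_mul, hi.eq]
    have hyo : ∀ τ τ', τ ≠ τ' → y τ * y τ' = 0 := by
      intro τ τ' hne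
      show br R U (conj R (rep τ) c') * br R U (conj R (rep τ') c') = 0
      rw [← Cfsg.Agent.Lib.Helper23.BP.br_mul hUp (hfix _ (hrepQ τ)) (hfix _ (hrepQ τ'))]
      have h0 : conj R (rep τ) c' * conj R (rep τ') c' = 0 := by
        have h1 : conj R (rep τ') c' = conj R (rep τ) (conj R ((rep τ)⁻¹ * rep τ') c') := by
          rw [conj_conj, mul_inv_cancel_left]
        have hnot : (rep τ)⁻¹ * rep τ' ∉ S := by
          intro hmem
          apply hne
          have h2 : (Quotient.out τ : Q)⁻¹ * Quotient.out τ' ∈ S.subgroupOf Q :=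
            Subgroup.mem_subgroupOf.2 hmem
          have h3 := QuotientGroup.eq.2 h2
          rwa [QuotientGroup.out_eq', QuotientGroup.out_eq'] at h3
        rw [h1, ← conj_mul,
          horth _ (Q.mul_mem (Q.inv_mem (hrepQ τ)) (hrepQ τ')) hnot, conj_zero]
      rw [h0, br_zero]
    have hsum : red R _ a₀ = ∑ τ, y τ := by
      rw [← br_incl, hbr, Cfsg.Agent.Lib.Helper9.BP.relTr_eq_sum, br_sum]
    obtain ⟨α, hα1, -, hα3⟩ := exists_orth_lift hR y hyi hyo Finset.univ a₀ ha₀ hsum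
    have hΘsum : ∀ (s : Finset (Q ⧸ S.subgroupOf Q))
        (f : Q ⧸ S.subgroupOf Q → MonoidAlgebra R G),
        Θ U u (∑ τ ∈ s, f τ) = ∑ τ ∈ s, Θ U u (f τ) := by
      intro s f
      induction s using Finset.induction_on with
      | empty => simp [hzero]
      | insert j s hj ih => rw [Finset.sum_insert hj, Finset.sum_insert hj, hadd, ih]
    have hΘa : Θ U u (incl R _ a₀) = ∑ τ, Θ U u (incl R _ (α τ)) := by
      rw [← hα3, map_sum, hΘsum]
    have hkey : ∀ x : Q, extendByZero S ψ' ((x : G)⁻¹ * (u : G) * (x : G)) =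
        Θ U u (incl R _ (α (QuotientGroup.mk x))) := by
      intro x
      obtain ⟨g, hg⟩ : ∃ g : G, g = (x : G)⁻¹ := ⟨_, rfl⟩
      have hxg : (x : G) = g⁻¹ := by rw [hg, inv_inv]
      set τ : Q ⧸ S.subgroupOf Q := QuotientGroup.mk x with hτ
      have hxeq : (x : G)⁻¹ * (u : G) * (x : G) = g * (u : G) * g⁻¹ := by rw [hg, inv_inv]
      have hmem : g * (u : G) * g⁻¹ ∈ S := by
        have h1 := hn.conj_mem ⟨(u : G), u.2⟩ (Subgroup.mem_subgroupOf.2 huS) x⁻¹
        rw [Subgroup.mem_subgroupOf] at h1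
        rw [hg]
        simpa using h1
      rw [hxeq, extendByZero_of_mem _ _ hmem]
      have hrepx : conj R (rep τ) c' = conj R (x : G) c' := by
        obtain ⟨s, hs⟩ := QuotientGroup.mk_out_eq_mul (S.subgroupOf Q) x
        have h1 : rep τ = (x : G) * ((s : Q) : G) := by
          show ((Quotient.out τ : Q) : G) = _
          rw [hτ, hs]
          rfl
        rw [h1, Cfsg.Agent.Lib.Helper9.BP.conj_mul_of_mem hc' _ (Subgroup.mem_subgroupOf.1 s.2)]
      have hb := hψ' ⟨g * (u : G) * g⁻¹, hmem⟩ (conj R g (incl R _ (α τ))) ?_ ?_ ?_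
      · rw [hb]
        have h1 := hconj U hUp g u (Subgroup.mem_zpowers _) (incl R _ (α τ))
        rw [MonoidHom.map_zpowers] at h1
        exact h1
      · apply conj_mem_range_incl g _ ⟨α τ, rfl⟩
        intro w hw
        rw [mem_centralizer_zpowers_iff] at hw ⊢
        show g * (u : G) * g⁻¹ * w = w * (g * (u : G) * g⁻¹)
        have h1 : g * (u : G) * g⁻¹ * w = g * ((u : G) * (g⁻¹ * w * g)) * g⁻¹ := by group
        rw [h1, hw]
        group
      · show conj R g (incl R _ (α τ)) * conj R g (incl R _ (α τ)) = conj R g (incl R _ (α τ))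
        rw [← conj_mul, ← map_mul, (hα1 τ (Finset.mem_univ _)).1.eq]
      · apply br_ext
        intro z'
        rw [coeff_br, coeff_br, coeff_conj]
        have hzz : g⁻¹ * (z' : G) * g ∈ Subgroup.centralizer (U : Set G) := by
          have hz' := (mem_centralizer_zpowers_iff _ _).1 z'.2
          rw [hU, mem_centralizer_zpowers_iff]
          have h1 : (u : G) * (g⁻¹ * (z' : G) * g) = g⁻¹ * ((g * (u : G) * g⁻¹) * (z' : G)) * g := by
            group
          rw [h1]
          have h2 : g * (u : G) * g⁻¹ * (z' : G) = (z' : G) * (g * (u : G) * g⁻¹) := hz'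
          rw [h2]
          group
        have e1 : (incl R _ (α τ)).coeff (g⁻¹ * (z' : G) * g) = (α τ).coeff ⟨_, hzz⟩ :=
          coeff_incl _ _ ⟨_, hzz⟩
        rw [e1, ← Cfsg.Agent.Lib.Helper86.BP.coeff_red', (hα1 τ (Finset.mem_univ _)).2]
        show (br R U (conj R (rep τ) c')).coeff _ = _
        rw [coeff_br, hrepx, coeff_conj]
        congr 2
        show (x : G)⁻¹ * (g⁻¹ * (z' : G) * g) * (x : G) = (z' : G)
        rw [hxg]
        group
    rw [hψ u, Finset.sum_congr rfl (fun x _ => hkey x), hΘa,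
      sum_comp_mk_eq (S.subgroupOf Q) (fun τ => Θ U u (incl R _ (α τ)))]
    have hcard : Nat.card (S.subgroupOf Q) = Nat.card S :=
      Nat.card_congr (Subgroup.subgroupOfEquivOfLe hSQ).toEquiv
    rw [hcard, ← mul_assoc, inv_mul_cancel₀, one_mul]
    exact_mod_cast (Nat.card_pos (α := S)).ne'

end Main

/-! ### BP-[L4-C2] for `ThetaQ`, with the [L4-TH] facts as hypotheses -/

section Inst
variable {G : Type*} [Group G] [Finite G] {p : ℕ} [Fact p.Prime] {M : Ideal AlgInt}
  [hMp : M.IsPrime]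

/-- BP-[L4-C2] `claimFor_relTr`, taking additivity, `Θ(0) = 0` and conjugation equivariance of
`ThetaQ` (module BP-[L4-TH]: `thetaQ_add`, `thetaQ_zero`, `thetaQ_conj`) as hypotheses. -/
theorem claimFor_relTr_of (hM : IsPModular p M) {μ : LocSys G} {χ : G → ℂ}
    (hadd : ∀ (Q : Subgroup G) (u : G) (a b : MonoidAlgebra (localSubring M) G),
      ThetaQ M μ χ Q u (a + b) = ThetaQ M μ χ Q u a + ThetaQ M μ χ Q u b)
    (hzero : ∀ (Q : Subgroup G) (u : G), ThetaQ M μ χ Q u 0 = 0)
    (hconj : ∀ (Q : Subgroup G), IsPGroup p Q → ∀ (g u : G), u ∈ Q →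
      ∀ a : MonoidAlgebra (localSubring M) G,
        ThetaQ M μ χ (Q.map (MulAut.conj g).toMonoidHom) (g * u * g⁻¹)
          (conj (localSubring M) g a) = ThetaQ M μ χ Q u a)
    {S Q : Subgroup G} (hQ : IsPGroup p Q) (hSQ : S ≤ Q)
    (hn : (S.subgroupOf Q).Normal) (hidx : S.relIndex Q = p)
    {c' : MonoidAlgebra (localSubring M) G} (hc' : c' ∈ fixedAlg (localSubring M) S)
    (hi : IsIdempotentElem c')
    (horth : ∀ t ∈ Q, t ∉ S → c' * conj (localSubring M) t c' = 0)
    (H : ClaimFor M μ χ S c') : ClaimFor M μ χ Q (relTr (localSubring M) S Q c') := by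
  have := Cfsg.Agent.Lib.Helper52.BP.charP_residueField hM
  exact claim_relTr_abs (Cfsg.Agent.Lib.Helper3.BP.monicSplits_localSubring M) (ThetaQ M μ χ)
    hadd hzero hconj hQ hSQ hn hidx hc' hi horth H

end Inst

end Cfsg.Agent.Lib.Helper40.BP
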