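import Cfsg.Agent.Lib.Helper92.BPTheta
import Cfsg.Agent.Lib.Helper86.BPLift
import Cfsg.Agent.Lib.Helper40.BPBrConj

/-!
# PROJECT BP (coordinator helper92): the inclusion `incl R K : R[K] → R[G]`, its range, the Brauer
map on it, and termwise lifting of orthogonal idempotent decompositions (support for BP-[L4-C2])
-/

set_option autoImplicit false
set_option linter.unusedSectionVars false

namespace Cfsg.Agent.Lib.Helper40.BP

open Cfsg.Agent.Lib.Helper92.BP

section Incl
variable {R : Type*} [CommRing R] {G : Type*} [Group G]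

theorem coeff_incl (K : Subgroup G) (a : MonoidAlgebra R K) (z : K) :
    (incl R K a).coeff (z : G) = a.coeff z := by
  unfold incl
  show (MonoidAlgebra.mapDomain K.subtype a).coeff (K.subtype z) = a.coeff z
  rw [MonoidAlgebra.coeff_mapDomain]
  exact Finsupp.mapDomain_apply Subtype.val_injective _ _

theorem coeff_incl_of_notMem (K : Subgroup G) (a : MonoidAlgebra R K) {x : G} (hx : x ∉ K) :
    (incl R K a).coeff x = 0 := by
  unfold incl
  show (MonoidAlgebra.mapDomain K.subtype a).coeff x = 0
  rw [MonoidAlgebra.coeff_mapDomain]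
  apply Finsupp.mapDomain_of_notMem_range
  rintro ⟨z, rfl⟩
  exact hx z.2

theorem incl_injective (K : Subgroup G) : Function.Injective (incl R K) := by
  intro a b h
  apply MonoidAlgebra.ext
  apply Finsupp.ext
  intro z
  rw [← coeff_incl K a z, ← coeff_incl K b z, h]

/-- the range of `incl R K` consists of the elements supported on `K` -/
theorem mem_range_incl_iff (K : Subgroup G) (a : MonoidAlgebra R G) :
    a ∈ Set.range (incl R K) ↔ ∀ x, x ∉ K → a.coeff x = 0 := by
  constructor
  · rintro ⟨a', rfl⟩ x hx
    exact coeff_incl_of_notMem K a' hx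
  · intro h
    refine ⟨MonoidAlgebra.ofCoeff (a.coeff.comapDomain Subtype.val Subtype.val_injective.injOn), ?_⟩
    apply MonoidAlgebra.ext
    apply Finsupp.ext
    intro x
    by_cases hx : x ∈ K
    · have := coeff_incl (R := R) K (MonoidAlgebra.ofCoeff
        (a.coeff.comapDomain Subtype.val Subtype.val_injective.injOn)) ⟨x, hx⟩
      rw [this, MonoidAlgebra.coeff_ofCoeff, Finsupp.comapDomain_apply]
    · rw [coeff_incl_of_notMem K _ hx, h x hx]

theorem isIdempotentElem_of_incl (K : Subgroup G) {a : MonoidAlgebra R K}
    (h : IsIdempotentElem (incl R K a)) : IsIdempotentElem a := by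
  apply incl_injective K
  rw [map_mul]
  exact h

/-- conjugation moves the range of `incl K` into the range of `incl K'` when `g K g⁻¹ ≤ K'` -/
theorem conj_mem_range_incl {K K' : Subgroup G} (g : G) (hK : ∀ x, g⁻¹ * x * g ∈ K → x ∈ K')
    {a : MonoidAlgebra R G} (ha : a ∈ Set.range (incl R K)) :
    conj R g a ∈ Set.range (incl R K') := by
  rw [mem_range_incl_iff] at ha ⊢
  intro x hx
  rw [coeff_conj]
  exact ha _ fun h => hx (hK x h)

end Incl

section BrIncl
variable {R : Type*} [CommRing R] [IsLocalRing R] {G : Type*} [Group G]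

/-- on `R[C_G(Q)]` the Brauer map is reduction of coefficients -/
theorem br_incl (Q : Subgroup G) (a : MonoidAlgebra R (Subgroup.centralizer (Q : Set G))) :
    br R Q (incl R _ a) = red R _ a := by
  apply br_ext
  intro z
  rw [coeff_br, coeff_incl]
  exact (MonoidAlgebra.coeff_mapRingHom _ _ _).symm

end BrIncl

section OrthLift
variable {R : Type*} [CommRing R] [IsDomain R] [IsLocalRing R] [Algebra R ℂ]

/-- termwise lifting of a decomposition of `red a` into pairwise orthogonal idempotents -/
theorem exists_orth_lift {H : Type*} [Group H] [Finite H] (hR : MonicSplits R) {ι : Type*}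
    (y : ι → MonoidAlgebra (IsLocalRing.ResidueField R) H)
    (hyi : ∀ i, IsIdempotentElem (y i)) (hyo : ∀ i j, i ≠ j → y i * y j = 0) (s : Finset ι) :
    ∀ a : MonoidAlgebra R H, IsIdempotentElem a → red R H a = ∑ i ∈ s, y i →
      ∃ α : ι → MonoidAlgebra R H, (∀ i ∈ s, IsIdempotentElem (α i) ∧ red R H (α i) = y i) ∧
        (∀ i ∈ s, ∀ j ∈ s, i ≠ j → α i * α j = 0) ∧ ∑ i ∈ s, α i = a := by
  classical
  induction s using Finset.induction_on with
  | empty =>
    intro a ha hred
    rw [Finset.sum_empty] at hred
    refine ⟨fun _ => 0, by simp, by simp, ?_⟩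
    rw [Finset.sum_empty]
    exact (Cfsg.Agent.Lib.Helper86.BP.idem_eq_zero_of_red_eq_zero a ha hred).symm
  | insert j s hj ih =>
    intro a ha hred
    rw [Finset.sum_insert hj] at hred
    have hjs : ∀ i ∈ s, i ≠ j := fun i hi h => hj (h ▸ hi)
    have hle : IdemLE (y j) (red R H a) := by
      refine ⟨hyi j, ?_, ?_⟩
      · rw [hred, add_mul, (hyi j).eq, Finset.sum_mul,
          Finset.sum_eq_zero fun i hi => hyo i j (hjs i hi), add_zero]
      · rw [hred, mul_add, (hyi j).eq, Finset.mul_sum,
          Finset.sum_eq_zero fun i hi => hyo j i (hjs i hi).symm, add_zero]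
    obtain ⟨aj, ⟨haji, h1, h2⟩, hredj⟩ :=
      Cfsg.Agent.Lib.Helper86.BP.exists_idemLE_red_eq hR a ha (y j) hle
    have hb : IsIdempotentElem (a - aj) := by
      show (a - aj) * (a - aj) = a - aj
      rw [sub_mul, mul_sub, mul_sub, ha.eq, h1, h2, haji.eq]
      abel
    have hredb : red R H (a - aj) = ∑ i ∈ s, y i := by
      rw [map_sub, hred, hredj, add_sub_cancel_left]
    obtain ⟨α, hα1, hα2, hα3⟩ := ih (a - aj) hb hredb
    have hbaj : (a - aj) * aj = 0 := by rw [sub_mul, h1, haji.eq, sub_self]
    have hajb : aj * (a - aj) = 0 := by rw [mul_sub, h2, haji.eq, sub_self]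
    have hαb : ∀ i ∈ s, α i * (a - aj) = α i ∧ (a - aj) * α i = α i := by
      intro i hi
      rw [← hα3]
      constructor
      · rw [Finset.mul_sum, Finset.sum_eq_single i]
        · exact (hα1 i hi).1.eq
        · intro k hk hki
          exact hα2 i hi k hk hki.symm
        · intro h; exact absurd hi h
      · rw [Finset.sum_mul, Finset.sum_eq_single i]
        · exact (hα1 i hi).1.eq
        · intro k hk hki
          exact hα2 k hk i hi hki
        · intro h; exact absurd hi h
    refine ⟨Function.update α j aj, ?_, ?_, ?_⟩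
    · intro i hi
      by_cases hij : i = j
      · rw [hij, Function.update_self]; exact ⟨haji, hredj⟩
      · rw [Function.update_of_ne hij]
        exact hα1 i ((Finset.mem_insert.1 hi).resolve_left hij)
    · intro i hi k hk hik
      by_cases hij : i = j
      · have hkj : k ≠ j := fun h => hik (hij.trans h.symm)
        have hk' : k ∈ s := (Finset.mem_insert.1 hk).resolve_left hkj
        rw [hij, Function.update_self, Function.update_of_ne hkj, ← (hαb k hk').2,
          ← mul_assoc, hajb, zero_mul]
      · have hi' : i ∈ s := (Finset.mem_insert.1 hi).resolve_left hij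
        by_cases hkj : k = j
        · rw [hkj, Function.update_self, Function.update_of_ne hij, ← (hαb i hi').1,
            mul_assoc, hbaj, mul_zero]
        · have hk' : k ∈ s := (Finset.mem_insert.1 hk).resolve_left hkj
          rw [Function.update_of_ne hij, Function.update_of_ne hkj]
          exact hα2 i hi' k hk' hik
    · rw [Finset.sum_insert hj, Function.update_self,
        Finset.sum_congr rfl fun i hi => Function.update_of_ne (hjs i hi) aj α, hα3]
      abel

end OrthLift

end Cfsg.Agent.Lib.Helper40.BP
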