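import Mathlib

/-!
# Counting invertible block-triangular matrices over a finite field (helper40)

* `blockTriEquiv b` : block-triangular matrices for the labelling `b : m → α` are the same as a
  choice of diagonal blocks together with arbitrary entries strictly above the blocks.
* `card_blockTri_units` : the number of invertible block-triangular matrices.
* `card_isUnit_det` : the number of invertible matrices indexed by an arbitrary finite type.
* `gl_eq` : `∏ i < d, (q^d - q^i) = q^(0+1+...+(d-1)) * (q-1)^d * [d]_q!`.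
* `card_lt_pairs`, `lt_pairs_split` : counting pairs `i < j` in a finite linear order, and
  splitting them along a monotone labelling.
-/

namespace Cfsg.Agent.Lib.Helper40

open Matrix Finset

section
variable {m α F : Type*} [Fintype m] [DecidableEq m] [Fintype α] [LinearOrder α]
  [Field F]

/-- Block-triangular matrices are the same as a choice of diagonal blocks together with
arbitrary entries strictly above the diagonal blocks. -/
def blockTriEquiv (b : m → α) :
    {M : Matrix m m F // M.BlockTriangular b} ≃
      ((a : α) → Matrix {i // b i = a} {i // b i = a} F) ×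
        ({p : m × m // b p.1 < b p.2} → F) where
  toFun M := (fun a => M.1.toSquareBlock b a, fun p => M.1 p.1.1 p.1.2)
  invFun X := ⟨Matrix.of fun i j =>
      if h : b j = b i then X.1 (b i) ⟨i, rfl⟩ ⟨j, h⟩
      else if h' : b i < b j then X.2 ⟨(i, j), h'⟩ else 0, by
    intro i j hij
    have h1 : ¬ b j = b i := ne_of_lt hij
    have h2 : ¬ b i < b j := not_lt.mpr hij.le
    simp [h1, h2]⟩
  left_inv := by
    rintro ⟨M, hM⟩
    ext i j
    simp only [Matrix.of_apply, Matrix.toSquareBlock_def]
    split_ifs with h h'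
    · rfl
    · rfl
    · have : b j < b i := lt_of_le_of_ne (not_lt.mp h') h
      exact (hM this).symm
  right_inv := by
    rintro ⟨B, f⟩
    refine Prod.ext ?_ ?_
    · funext a
      ext ⟨i, hi⟩ ⟨j, hj⟩
      subst hi
      simp [Matrix.toSquareBlock_def, hj]
    · funext ⟨⟨i, j⟩, hp⟩
      have h1 : ¬ b j = b i := (ne_of_lt hp).symm
      simp only at hp
      simp [h1, hp]

omit [Fintype m] [DecidableEq m] [Fintype α] in
theorem blockTriEquiv_fst (b : m → α) (M : {M : Matrix m m F // M.BlockTriangular b}) (a : α) :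
    (blockTriEquiv b M).1 a = M.1.toSquareBlock b a := rfl

/-- Counting the invertible block-triangular matrices. -/
theorem card_blockTri_units [Fintype F] (b : m → α) :
    Nat.card {M : Matrix m m F // M.BlockTriangular b ∧ IsUnit M.det} =
      (∏ a : α, Nat.card {B : Matrix {i // b i = a} {i // b i = a} F // IsUnit B.det}) *
        Fintype.card F ^ Nat.card {p : m × m // b p.1 < b p.2} := by
  classical
  have e1 : {M : Matrix m m F // M.BlockTriangular b ∧ IsUnit M.det} ≃
      {M : {M : Matrix m m F // M.BlockTriangular b} // IsUnit M.1.det} :=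
    (Equiv.subtypeSubtypeEquivSubtypeInter _ _).symm
  have e2 : {M : {M : Matrix m m F // M.BlockTriangular b} // IsUnit M.1.det} ≃
      {X : ((a : α) → Matrix {i // b i = a} {i // b i = a} F) ×
        ({p : m × m // b p.1 < b p.2} → F) // ∀ a, IsUnit (X.1 a).det} := by
    refine Equiv.subtypeEquiv (blockTriEquiv b) ?_
    intro M
    rw [M.2.det_fintype]
    simp only [blockTriEquiv_fst]
    rw [IsUnit.prod_univ_iff]
  have e3 := Equiv.prodSubtypeFstEquivSubtypeProd
    (α := (a : α) → Matrix {i // b i = a} {i // b i = a} F)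
    (β := {p : m × m // b p.1 < b p.2} → F) (p := fun f => ∀ a, IsUnit (f a).det)
  have e4 := Equiv.subtypePiEquivPi (α := α)
    (β := fun a => Matrix {i // b i = a} {i // b i = a} F) (p := fun a B => IsUnit B.det)
  rw [Nat.card_congr (e1.trans (e2.trans e3)), Nat.card_prod, Nat.card_congr e4, Nat.card_pi,
    Nat.card_fun, Nat.card_eq_fintype_card (α := F)]

/-- The number of invertible matrices with rows and columns indexed by a finite type. -/
theorem card_isUnit_det [Fintype F] (D : Type*) [Fintype D] [DecidableEq D] :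
    Nat.card {B : Matrix D D F // IsUnit B.det} =
      ∏ i : Fin (Fintype.card D), (Fintype.card F ^ Fintype.card D - Fintype.card F ^ (i : ℕ)) := by
  have e1 : (Matrix D D F)ˣ ≃ {B : Matrix D D F // IsUnit B.det} :=
    (Submonoid.unitsTypeEquivIsUnitSubmonoid).toEquiv.trans
      (Equiv.subtypeEquivRight (fun B => by
        rw [IsUnit.mem_submonoid_iff, Matrix.isUnit_iff_isUnit_det]))
  have e2 : (Matrix D D F)ˣ ≃ (Matrix (Fin (Fintype.card D)) (Fin (Fintype.card D)) F)ˣ :=
    (Units.mapEquiv (Matrix.reindexAlgEquiv F F (Fintype.equivFin D)).toMulEquiv).toEquiv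
  rw [← Nat.card_congr e1, Nat.card_congr e2]
  exact Matrix.card_GL_field (Fintype.card D)

end

/-- `(q - 1) * (1 + q + ... + q^(k-1)) + 1 = q^k` in `ℕ`. -/
theorem pred_mul_geomSum (q : ℕ) (hq : 1 ≤ q) (k : ℕ) :
    (q - 1) * (∑ l ∈ range k, q ^ l) + 1 = q ^ k := by
  obtain ⟨r, rfl⟩ : ∃ r, q = r + 1 := ⟨q - 1, by omega⟩
  simp only [Nat.add_sub_cancel]
  induction k with
  | zero => simp
  | succ k ih =>
    rw [Finset.sum_range_succ, mul_add, pow_succ, ← ih]
    ring

/-- The order formula of `GL_d(q)` rewritten with `q`-factorials. -/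
theorem gl_eq (q : ℕ) (hq : 1 ≤ q) (d : ℕ) :
    ∏ i : Fin d, (q ^ d - q ^ (i : ℕ)) =
      q ^ (∑ i ∈ range d, i) * (q - 1) ^ d *
        ∏ j ∈ range d, ∑ l ∈ range (j + 1), q ^ l := by
  rw [Fin.prod_univ_eq_prod_range (fun i => q ^ d - q ^ i) d]
  have h1 : ∀ i ∈ range d, q ^ d - q ^ i =
      q ^ i * ((q - 1) * ∑ l ∈ range (d - 1 - i + 1), q ^ l) := by
    intro i hi
    have hi' : i < d := Finset.mem_range.mp hi
    have h2 := pred_mul_geomSum q hq (d - 1 - i + 1)
    have h3 : d - 1 - i + 1 = d - i := by omega
    rw [h3] at h2 ⊢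
    have h4 : q ^ d = q ^ i * q ^ (d - i) := by
      rw [← pow_add]; congr 1; omega
    rw [h4, ← h2]
    rw [mul_add, mul_one, Nat.add_sub_cancel]
  rw [Finset.prod_congr rfl h1, Finset.prod_mul_distrib, Finset.prod_mul_distrib,
    Finset.prod_pow_eq_pow_sum, Finset.prod_const, Finset.card_range,
    Finset.prod_range_reflect (fun j => ∑ l ∈ range (j + 1), q ^ l) d]
  ring

theorem card_lt_pairs_fin (d : ℕ) :
    Nat.card {p : Fin d × Fin d // p.1 < p.2} = ∑ i ∈ range d, i := by
  rw [Nat.card_eq_fintype_card, Fintype.card_subtype, Finset.card_filter,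
    Fintype.sum_prod_type_right]
  rw [← Fin.sum_univ_eq_sum_range (fun j => j) d]
  refine Finset.sum_congr rfl fun j _ => ?_
  rw [← Finset.card_filter, Finset.filter_gt_eq_Iio, Fin.card_Iio]

/-- The number of pairs `i < j` in a finite linear order with `d` elements is `0 + 1 + ... + (d-1)`. -/
theorem card_lt_pairs (D : Type*) [Fintype D] [LinearOrder D] :
    Nat.card {p : D × D // p.1 < p.2} = ∑ i ∈ range (Fintype.card D), i := by
  rw [← card_lt_pairs_fin]
  let e : Fin (Fintype.card D) ≃o D := Fintype.orderIsoFinOfCardEq D rfl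
  refine Nat.card_congr ((Equiv.subtypeEquiv (Equiv.prodCongr e.toEquiv e.toEquiv) ?_).symm)
  intro p
  simp

/-- For a monotone labelling `b`, the pairs `i < j` are those inside a fibre of `b` and those
with `b i < b j`. -/
theorem lt_pairs_split {m α : Type*} [Fintype m] [LinearOrder m] [Fintype α] [LinearOrder α]
    (b : m → α) (hb : Monotone b) :
    Nat.card {p : m × m // p.1 < p.2} =
      (∑ a : α, Nat.card {p : {i // b i = a} × {i // b i = a} // p.1 < p.2}) +
        Nat.card {p : m × m // b p.1 < b p.2} := by
  classical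
  rw [Nat.card_eq_fintype_card, Nat.card_eq_fintype_card, Fintype.card_subtype,
    Fintype.card_subtype]
  rw [← Finset.card_filter_add_card_filter_not (s := univ.filter fun p : m × m => p.1 < p.2)
    (fun p : m × m => b p.1 = b p.2)]
  congr 1
  · rw [Finset.card_eq_sum_card_fiberwise (f := fun p : m × m => b p.1) (t := univ)
      (fun _ _ => Finset.mem_univ _)]
    refine Finset.sum_congr rfl fun a _ => ?_
    rw [Nat.card_eq_fintype_card, ← Fintype.card_coe]
    refine Fintype.card_congr ?_
    refine
      { toFun := fun p => ⟨(⟨p.1.1, ?_⟩, ⟨p.1.2, ?_⟩), ?_⟩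
        invFun := fun p => ⟨(p.1.1.1, p.1.2.1), ?_⟩
        left_inv := ?_
        right_inv := ?_ }
    · have := p.2
      simp only [Finset.mem_filter, Finset.mem_univ, true_and] at this
      exact this.2
    · have := p.2
      simp only [Finset.mem_filter, Finset.mem_univ, true_and] at this
      rw [← this.1.2, this.2]
    · have := p.2
      simp only [Finset.mem_filter, Finset.mem_univ, true_and] at this
      exact this.1.1
    · simp only [Finset.mem_filter, Finset.mem_univ, true_and]
      exact ⟨⟨p.2, by rw [p.1.1.2, p.1.2.2]⟩, p.1.1.2⟩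
    · intro p; rfl
    · intro p; rfl
  · congr 1
    ext p
    simp only [Finset.mem_filter, Finset.mem_univ, true_and]
    constructor
    · rintro ⟨h1, h2⟩
      exact lt_of_le_of_ne (hb h1.le) h2
    · intro h
      refine ⟨?_, ne_of_lt h⟩
      by_contra hc
      exact absurd (hb (not_lt.mp hc)) (not_le.mpr h)

end Cfsg.Agent.Lib.Helper40
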