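import Mathlib

/-!
# The Landazuri–Seitz counting argument (helper40)

* `card_le_finrank_of_eigenvectors`: eigenvectors for distinct characters are independent.
* `exists_nontrivial_eigen`: a nontrivial representation of a finite abelian group `Q` (order
  invertible, enough roots of unity) has an eigenvector for a nontrivial character.
* `card_fixed_char_eq`, `exists_comp_eq_of_transitive`: Brauer's permutation lemma.
* `card_sub_one_le_finrank`: the degree bound `|Q| - 1 ≤ dim V`.
-/

namespace Cfsg.Agent.Lib.Helper40

open Module MulAction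



section core
variable {L : Type*} [Field L] {Q : Type*} [CommGroup Q] {V : Type*} [AddCommGroup V] [Module L V]

/-- Eigenvectors of a monoid representation for distinct characters are linearly independent,
so there are at most `finrank` characters with an eigenvector. -/
theorem card_le_finrank_of_eigenvectors [FiniteDimensional L V] (R : Q →* Module.End L V)
    (S : Finset (Q →* Lˣ))
    (hS : ∀ χ ∈ S, ∃ w : V, w ≠ 0 ∧ ∀ x, R x w = ((χ x : Lˣ) : L) • w) :
    S.card ≤ Module.finrank L V := by
  classical
  choose! w hw0 hw using hS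
  have hli : LinearIndependent L (fun χ : S => w χ.1) := by
    rw [linearIndependent_iff']
    intro T c hc χ₀ hχ₀
    -- apply `R x` and a linear functional
    have h1 : ∀ (lam : Module.Dual L V) (x : Q),
        ∑ χ ∈ T, (c χ * lam (w χ.1)) * (((χ.1 x : Lˣ) : L)) = 0 := by
      intro lam x
      have h2 := congrArg (fun v => lam (R x v)) hc
      simp only [map_sum, map_smul, map_zero] at h2
      rw [← h2]
      apply Finset.sum_congr rfl
      intro χ _
      rw [hw χ.1 χ.2 x, map_smul, smul_eq_mul, smul_eq_mul]
      ring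
    have hded := linearIndependent_monoidHom Q L
    have hinj : Function.Injective (fun χ : S => (Units.coeHom L).comp χ.1) := by
      intro χ χ' h
      apply Subtype.ext
      apply MonoidHom.ext
      intro x
      have := congrArg (fun f : Q →* L => f x) h
      exact Units.ext this
    have hded' := hded.comp _ hinj
    rw [linearIndependent_iff'] at hded'
    have h3 : ∀ lam : Module.Dual L V, c χ₀ * lam (w χ₀.1) = 0 := by
      intro lam
      apply hded' T (fun χ => c χ * lam (w χ.1)) ?_ χ₀ hχ₀
      funext x
      rw [Finset.sum_apply]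
      simp only [Function.comp_apply, Pi.smul_apply, smul_eq_mul, Pi.zero_apply]
      exact h1 lam x
    have h4 : c χ₀ • w χ₀.1 = 0 := by
      rw [← Module.forall_dual_apply_eq_zero_iff L]
      intro lam
      rw [map_smul, smul_eq_mul]
      exact h3 lam
    rcases smul_eq_zero.mp h4 with h | h
    · exact h
    · exact absurd h (hw0 χ₀.1 χ₀.2)
  have := hli.fintype_card_le_finrank
  rwa [Fintype.card_coe] at this

end core

section idem
variable {L : Type*} [Field L] {Q : Type*} [CommGroup Q] [Fintype Q] {V : Type*} [AddCommGroup V]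
  [Module L V]

theorem sum_char_apply [HasEnoughRootsOfUnity L (Monoid.exponent Q)] [Fintype (Q →* Lˣ)] (x : Q)
    (hx : x ≠ 1) : ∑ χ : Q →* Lˣ, ((χ x : Lˣ) : L) = 0 := by
  obtain ⟨φ, hφ⟩ := CommGroup.exists_apply_ne_one_of_hasEnoughRootsOfUnity Q L hx
  have h1 : ∑ χ : Q →* Lˣ, ((χ x : Lˣ) : L) = ((φ x : Lˣ) : L) * ∑ χ : Q →* Lˣ, ((χ x : Lˣ) : L) := by
    rw [Finset.mul_sum]
    refine (Fintype.sum_equiv (Equiv.mulLeft φ) _ _ ?_).symm
    intro χ
    simp
  have h2 : (1 - ((φ x : Lˣ) : L)) * ∑ χ : Q →* Lˣ, ((χ x : Lˣ) : L) = 0 := by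
    rw [sub_mul, one_mul, ← h1, sub_self]
  rcases mul_eq_zero.mp h2 with h | h
  · exfalso
    apply hφ
    apply Units.ext
    rw [Units.val_one]
    exact (sub_eq_zero.mp h).symm
  · exact h

/-- the (unnormalized) isotypic projector of a character -/
noncomputable def charProj (R : Q →* Module.End L V) (χ : Q →* Lˣ) : Module.End L V :=
  ∑ x : Q, (((χ x)⁻¹ : Lˣ) : L) • R x

theorem mul_charProj (R : Q →* Module.End L V) (χ : Q →* Lˣ) (y : Q) :
    R y * charProj R χ = ((χ y : Lˣ) : L) • charProj R χ := by
  rw [charProj, Finset.mul_sum, Finset.smul_sum]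
  refine Fintype.sum_equiv (Equiv.mulLeft y) _ _ ?_
  intro x
  rw [Equiv.coe_mulLeft, mul_smul_comm, ← map_mul, smul_smul]
  congr 1
  rw [map_mul, mul_inv, Units.val_mul, ← mul_assoc, ← Units.val_mul, mul_inv_cancel, Units.val_one,
    one_mul]

theorem sum_charProj [HasEnoughRootsOfUnity L (Monoid.exponent Q)] [Fintype (Q →* Lˣ)]
    (R : Q →* Module.End L V) :
    ∑ χ : Q →* Lˣ, charProj R χ = (Fintype.card Q : L) • (1 : Module.End L V) := by
  classical
  simp only [charProj]
  rw [Finset.sum_comm]
  have h1 : ∀ x : Q, ∑ χ : Q →* Lˣ, (((χ x)⁻¹ : Lˣ) : L) • R x =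
      (if x = 1 then (Fintype.card Q : L) else 0) • R x := by
    intro x
    rw [← Finset.sum_smul]
    congr 1
    split_ifs with hx
    · subst hx
      simp only [map_one, inv_one, Units.val_one, Finset.sum_const, Finset.card_univ, nsmul_eq_mul,
        mul_one]
      rw [← Nat.card_eq_fintype_card, CommGroup.card_monoidHom_of_hasEnoughRootsOfUnity Q L,
        Nat.card_eq_fintype_card]
    · have h2 := sum_char_apply (L := L) x⁻¹ (by simpa using hx)
      rw [← h2]
      apply Finset.sum_congr rfl
      intro χ _
      rw [map_inv]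
  rw [Finset.sum_congr rfl (fun x _ => h1 x)]
  simp only [ite_smul, zero_smul, Finset.sum_ite_eq', Finset.mem_univ, if_true, map_one]

/-- Existence of a nontrivial character with an eigenvector, for a nontrivial representation. -/
theorem exists_nontrivial_eigen [HasEnoughRootsOfUnity L (Monoid.exponent Q)]
    (hQ : (Fintype.card Q : L) ≠ 0) (R : Q →* Module.End L V) (x₀ : Q) (hx₀ : R x₀ ≠ 1) :
    ∃ χ : Q →* Lˣ, χ ≠ 1 ∧ ∃ w : V, w ≠ 0 ∧ ∀ x, R x w = ((χ x : Lˣ) : L) • w := by
  classical
  have : Fintype (Q →* Lˣ) := Fintype.ofFinite _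
  by_contra hcon
  push Not at hcon
  -- all nontrivial projectors vanish
  have h0 : ∀ χ : Q →* Lˣ, χ ≠ 1 → charProj R χ = 0 := by
    intro χ hχ
    apply LinearMap.ext
    intro v
    by_contra hv
    obtain ⟨x, hx⟩ := hcon χ hχ (charProj R χ v) hv
    apply hx
    have := congrArg (fun f : Module.End L V => f v) (mul_charProj R χ x)
    simpa using this
  have h1 := sum_charProj (L := L) R
  rw [← Finset.add_sum_erase Finset.univ _ (Finset.mem_univ (1 : Q →* Lˣ)),
    Finset.sum_eq_zero (fun χ hχ => h0 χ (Finset.ne_of_mem_erase hχ)), add_zero] at h1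
  have h2 := mul_charProj R (1 : Q →* Lˣ) x₀
  rw [h1, MonoidHom.one_apply, Units.val_one, one_smul, mul_smul_comm, mul_one] at h2
  apply hx₀
  have h3 := congrArg (fun f : Module.End L V => (Fintype.card Q : L)⁻¹ • f) h2
  simp only [smul_smul, inv_mul_cancel₀ hQ, one_smul] at h3
  exact h3

end idem




section burnside
variable {G : Type*} {Ω : Type*} [Group G] [MulAction G Ω]

/-- Burnside's lemma, `Nat.card` form. -/
theorem burnside_natCard' [Fintype G] [Finite Ω] :
    ∑ g : G, Nat.card (fixedBy Ω g) = Nat.card (orbitRel.Quotient G Ω) * Nat.card G := by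
  classical
  have : Fintype Ω := Fintype.ofFinite Ω
  have := sum_card_fixedBy_eq_card_orbits_mul_card_group G Ω
  simp only [Nat.card_eq_fintype_card]
  convert this

end burnside

section brauer
variable (L : Type*) [Field L] {Q : Type*} [CommGroup Q] [Finite Q]
  [HasEnoughRootsOfUnity L (Monoid.exponent Q)]

/-- Brauer's permutation lemma for one automorphism: as many fixed characters as fixed points. -/
theorem card_fixed_char_eq (a : MulAut Q) :
    Nat.card {χ : Q →* Lˣ // χ.comp a.toMonoidHom = χ} = Nat.card {x : Q // a x = x} := by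
  classical
  let β : Q →* Q :=
    { toFun := fun x => a x * x⁻¹
      map_one' := by simp
      map_mul' := fun x y => by
        rw [map_mul, mul_inv, mul_mul_mul_comm] }
  have hβ : ∀ x, β x = a x * x⁻¹ := fun _ => rfl
  have e1 : {x : Q // a x = x} ≃ β.ker := by
    refine Equiv.subtypeEquivRight ?_
    intro x
    rw [MonoidHom.mem_ker, hβ, mul_inv_eq_one]
  have e2 : {χ : Q →* Lˣ // χ.comp a.toMonoidHom = χ} ≃
      (MonoidHom.domRestrictHom β.range Lˣ).ker := by
    refine Equiv.subtypeEquivRight ?_
    intro χ
    rw [MonoidHom.mem_ker]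
    constructor
    · intro h
      apply MonoidHom.ext
      rintro ⟨y, x, rfl⟩
      have h1 := congrArg (fun f : Q →* Lˣ => f x) h
      simp only [MonoidHom.comp_apply, MulEquiv.coe_toMonoidHom] at h1
      change χ (β x) = 1
      rw [hβ, map_mul, map_inv, h1, mul_inv_cancel]
    · intro h
      apply MonoidHom.ext
      intro x
      have h1 := congrArg (fun f : β.range →* Lˣ => f ⟨β x, x, rfl⟩) h
      change χ (β x) = 1 at h1
      rw [hβ, map_mul, map_inv, mul_inv_eq_one] at h1
      exact h1
  rw [Nat.card_congr e1, Nat.card_congr e2, CommGroup.card_domRestrictHom_ker]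
  have h1 := Subgroup.card_eq_card_quotient_mul_card_subgroup β.range
  have h2 := Subgroup.card_mul_index β.ker
  rw [Subgroup.index_ker] at h2
  have h3 : 0 < Nat.card β.range := Nat.card_pos
  rw [← h2] at h1
  exact (Nat.eq_of_mul_eq_mul_right h3 h1).symm

variable {L}
variable {H : Type*} [Group H] [Fintype H] (α : H →* MulAut Q)

/-- the action on the base group -/
@[reducible] def baseAction : MulAction H Q where
  smul h x := α h x
  one_smul x := by change α 1 x = x; rw [map_one]; rfl
  mul_smul h h' x := by change α (h * h') x = α h (α h' x); rw [map_mul]; rfl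

/-- the action on characters -/
@[reducible] def charAction : MulAction H (Q →* Lˣ) where
  smul h χ := χ.comp (α h⁻¹).toMonoidHom
  one_smul χ := by
    apply MonoidHom.ext
    intro x
    change χ (α 1⁻¹ x) = χ x
    rw [inv_one, map_one]; rfl
  mul_smul h h' χ := by
    apply MonoidHom.ext
    intro x
    change χ (α (h * h')⁻¹ x) = χ (α h'⁻¹ (α h⁻¹ x))
    rw [mul_inv_rev, map_mul]; rfl

/-- Brauer's permutation lemma: if `H` is transitive on the nonidentity elements of `Q`, it is
transitive on the nontrivial characters of `Q`. -/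
theorem exists_comp_eq_of_transitive
    (htrans : ∀ x y : Q, x ≠ 1 → y ≠ 1 → ∃ h, α h x = y) (χ χ' : Q →* Lˣ) (hχ : χ ≠ 1)
    (hχ' : χ' ≠ 1) : ∃ h : H, χ' = χ.comp (α h).toMonoidHom := by
  classical
  let i1 : MulAction H Q := baseAction α
  let i2 : MulAction H (Q →* Lˣ) := charAction (L := L) α
  have hB1 := burnside_natCard' (G := H) (Ω := Q)
  have hB2 := burnside_natCard' (G := H) (Ω := Q →* Lˣ)
  have hfix : ∀ h : H, Nat.card (fixedBy (Q →* Lˣ) h) = Nat.card (fixedBy Q h) := by
    intro h
    have h1 := card_fixed_char_eq L (α h⁻¹)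
    refine Eq.trans (Eq.trans ?_ h1) ?_
    · apply Nat.card_congr
      exact Equiv.refl _
    · apply Nat.card_congr
      refine Equiv.subtypeEquivRight ?_
      intro x
      change α h⁻¹ x = x ↔ α h x = x
      constructor
      · intro h1
        calc α h x = α h (α h⁻¹ x) := by rw [h1]
          _ = x := by rw [map_inv]; simp
      · intro h1
        calc α h⁻¹ x = α h⁻¹ (α h x) := by rw [h1]
          _ = x := by rw [map_inv]; simp
  rw [Finset.sum_congr rfl (fun h _ => hfix h), hB1] at hB2
  have hH : 0 < Nat.card H := Nat.card_pos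
  have hcard : Nat.card (orbitRel.Quotient H (Q →* Lˣ)) = Nat.card (orbitRel.Quotient H Q) :=
    (Nat.eq_of_mul_eq_mul_right hH hB2).symm
  -- at most two orbits on `Q`
  have hle : Nat.card (orbitRel.Quotient H Q) ≤ 2 := by
    by_cases hQ : ∃ x₁ : Q, x₁ ≠ 1
    · obtain ⟨x₁, hx₁⟩ := hQ
      have hsurj : Function.Surjective
          (fun b : Bool => (if b then Quotient.mk'' (1 : Q) else Quotient.mk'' x₁ :
            orbitRel.Quotient H Q)) := by
        intro ω
        induction ω using Quotient.inductionOn' with
        | h x =>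
          by_cases hx : x = 1
          · exact ⟨true, by simp [hx]⟩
          · refine ⟨false, ?_⟩
            simp only [Bool.false_eq_true, if_false]
            obtain ⟨h, hh⟩ := htrans x₁ x hx₁ hx
            apply Quotient.sound'
            change x₁ ∈ orbit H x
            rw [mem_orbit_iff]
            refine ⟨h⁻¹, ?_⟩
            rw [← hh]
            change α h⁻¹ (α h x₁) = x₁
            rw [map_inv]
            simp
      have := Nat.card_le_card_of_surjective _ hsurj
      simpa using this
    · push Not at hQ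
      have : Subsingleton (orbitRel.Quotient H Q) := by
        constructor
        intro ω ω'
        induction ω using Quotient.inductionOn' with
        | h x =>
          induction ω' using Quotient.inductionOn' with
          | h y => rw [hQ x, hQ y]
      have := Finite.card_le_one_iff_subsingleton.mpr this
      omega
  rw [← hcard] at hle
  -- the orbits of `1`, `χ`, `χ'`
  by_contra hcon
  push Not at hcon
  have hfin : Finite (orbitRel.Quotient H (Q →* Lˣ)) := inferInstance
  have : Fintype (orbitRel.Quotient H (Q →* Lˣ)) := Fintype.ofFinite _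
  have h3 : 2 < Nat.card (orbitRel.Quotient H (Q →* Lˣ)) := by
    rw [Nat.card_eq_fintype_card]
    rw [Fintype.two_lt_card_iff]
    refine ⟨Quotient.mk'' (1 : Q →* Lˣ), Quotient.mk'' χ, Quotient.mk'' χ', ?_, ?_, ?_⟩
    · intro h
      have h4 := Quotient.exact' h
      change (1 : Q →* Lˣ) ∈ orbit H χ at h4
      rw [mem_orbit_iff] at h4
      obtain ⟨g, hg⟩ := h4
      apply hχ
      apply MonoidHom.ext
      intro x
      have h5 := congrArg (fun f : Q →* Lˣ => f (α g x)) hg
      change χ (α g⁻¹ (α g x)) = 1 at h5
      rw [map_inv] at h5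
      simpa using h5
    · intro h
      have h4 := Quotient.exact' h
      change (1 : Q →* Lˣ) ∈ orbit H χ' at h4
      rw [mem_orbit_iff] at h4
      obtain ⟨g, hg⟩ := h4
      apply hχ'
      apply MonoidHom.ext
      intro x
      have h5 := congrArg (fun f : Q →* Lˣ => f (α g x)) hg
      change χ' (α g⁻¹ (α g x)) = 1 at h5
      rw [map_inv] at h5
      simpa using h5
    · intro h
      have h4 := Quotient.exact' h
      change χ ∈ orbit H χ' at h4
      rw [mem_orbit_iff] at h4
      obtain ⟨g, hg⟩ := h4
      apply hcon g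
      apply MonoidHom.ext
      intro x
      have h5 := congrArg (fun f : Q →* Lˣ => f (α g x)) hg
      change χ' (α g⁻¹ (α g x)) = χ (α g x) at h5
      rw [map_inv] at h5
      simpa using h5
  omega

end brauer


section main
variable {L : Type*} [Field L] {Q : Type*} [CommGroup Q] [Fintype Q]
  [HasEnoughRootsOfUnity L (Monoid.exponent Q)] {H : Type*} [Group H] [Fintype H] {G : Type*}
  [Group G] {V : Type*} [AddCommGroup V] [Module L V] [FiniteDimensional L V]

/-- The Landazuri–Seitz counting argument: if an abelian subgroup `Q` of `G` is normalized by a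
subgroup `H` acting transitively on `Q \ {1}`, then every representation of `G` over `L`
(with `|Q|` invertible and enough roots of unity) which is nontrivial on `Q` has degree at least
`|Q| - 1`. -/
theorem card_sub_one_le_finrank (R : G →* Module.End L V) (i : Q →* G) (j : H →* G)
    (α : H →* MulAut Q) (hconj : ∀ h x, j h * i x = i (α h x) * j h)
    (htrans : ∀ x y : Q, x ≠ 1 → y ≠ 1 → ∃ h, α h x = y)
    (hQ : (Fintype.card Q : L) ≠ 0) (x₀ : Q) (hx₀ : R (i x₀) ≠ 1) :
    Fintype.card Q - 1 ≤ Module.finrank L V := by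
  classical
  obtain ⟨χ₀, hχ₀, w₀, hw₀, heig⟩ := exists_nontrivial_eigen hQ (R.comp i) x₀ hx₀
  have : Fintype (Q →* Lˣ) := Fintype.ofFinite _
  have hcard : (Finset.univ.erase (1 : Q →* Lˣ)).card = Fintype.card Q - 1 := by
    rw [Finset.card_erase_of_mem (Finset.mem_univ _), Finset.card_univ,
      ← Nat.card_eq_fintype_card, CommGroup.card_monoidHom_of_hasEnoughRootsOfUnity Q L,
      Nat.card_eq_fintype_card]
  rw [← hcard]
  apply card_le_finrank_of_eigenvectors (R.comp i)
  intro χ hχ
  have hχ1 : χ ≠ 1 := Finset.ne_of_mem_erase hχ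
  obtain ⟨h, rfl⟩ := exists_comp_eq_of_transitive α htrans χ₀ χ hχ₀ hχ1
  refine ⟨R (j h⁻¹) w₀, ?_, ?_⟩
  · intro h0
    apply hw₀
    have h1 : R (j h) (R (j h⁻¹) w₀) = w₀ := by
      rw [← Module.End.mul_apply, ← map_mul, ← map_mul, mul_inv_cancel, map_one, map_one]
      rfl
    rw [← h1, h0, map_zero]
  · intro x
    have h1 : i x * j h⁻¹ = j h⁻¹ * i (α h x) := by
      have h2 := hconj h x
      rw [map_inv, eq_inv_mul_iff_mul_eq, ← mul_assoc, h2, mul_assoc, mul_inv_cancel, mul_one]
    have h3 := heig (α h x)
    simp only [MonoidHom.comp_apply] at h3 ⊢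
    rw [← Module.End.mul_apply, ← map_mul, h1, map_mul, Module.End.mul_apply, h3, map_smul]
    rfl

end main

end Cfsg.Agent.Lib.Helper40
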