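import Mathlib
import Cfsg.Agent.Lib.Helper40.CrossCharCore

/-!
# Orbit counting of characters for cross characteristic bounds (helper40)

* `exists_eigen_apply_ne_one`: if `R x₀ ≠ 1`, a character with `χ x₀ ≠ 1` has an eigenvector.
* `eigen_conj`: conjugating an eigenvector by a normalizing element.
* `card_le_mul_finrank_of_fibers`: a family of occurring characters with fibres of size `≤ k`
  has at most `k * dim V` members.
* `endOfGL`: a matrix representation over `K`, read over an extension field `L`.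
-/

namespace Cfsg.Agent.Lib.Helper40

open Module

section idem2
variable {L : Type*} [Field L] {Q : Type*} [CommGroup Q] [Fintype Q] {V : Type*} [AddCommGroup V]
  [Module L V]

/-- If `R x₀ ≠ 1`, some character with `χ x₀ ≠ 1` has an eigenvector. -/
theorem exists_eigen_apply_ne_one [HasEnoughRootsOfUnity L (Monoid.exponent Q)]
    (hQ : (Fintype.card Q : L) ≠ 0) (R : Q →* Module.End L V) (x₀ : Q) (hx₀ : R x₀ ≠ 1) :
    ∃ χ : Q →* Lˣ, χ x₀ ≠ 1 ∧ ∃ w : V, w ≠ 0 ∧ ∀ x, R x w = ((χ x : Lˣ) : L) • w := by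
  classical
  have : Fintype (Q →* Lˣ) := Fintype.ofFinite _
  by_contra hcon
  push Not at hcon
  have h0 : ∀ χ : Q →* Lˣ, R x₀ * charProj R χ = charProj R χ := by
    intro χ
    by_cases hχ : χ x₀ = 1
    · rw [mul_charProj, hχ, Units.val_one, one_smul]
    · have hz : charProj R χ = 0 := by
        apply LinearMap.ext
        intro v
        by_contra hv
        obtain ⟨x, hx⟩ := hcon χ hχ (charProj R χ v) hv
        apply hx
        have := congrArg (fun f : Module.End L V => f v) (mul_charProj R χ x)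
        simpa using this
      rw [hz, mul_zero]
  have h1 := sum_charProj (L := L) R
  have h2 : R x₀ * ∑ χ : Q →* Lˣ, charProj R χ = ∑ χ : Q →* Lˣ, charProj R χ := by
    rw [Finset.mul_sum]
    exact Finset.sum_congr rfl (fun χ _ => h0 χ)
  rw [h1, mul_smul_comm, mul_one] at h2
  apply hx₀
  have h3 := congrArg (fun f : Module.End L V => (Fintype.card Q : L)⁻¹ • f) h2
  simp only [smul_smul, inv_mul_cancel₀ hQ, one_smul] at h3
  exact h3

end idem2

section conj
variable {L : Type*} [Field L] {Q : Type*} [CommGroup Q] {V : Type*} [AddCommGroup V]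
  [Module L V] {G : Type*} [Group G]

/-- If `g * i a = i (γ a) * g` for all `a`, then `g⁻¹` carries eigenvectors for `χ` to
eigenvectors for `χ ∘ γ`. -/
theorem eigen_conj (R : G →* Module.End L V) (i : Q →* G) (γ : Q →* Q) (g : G)
    (hg : ∀ a, g * i a = i (γ a) * g) (χ : Q →* Lˣ) (w : V) (hw0 : w ≠ 0)
    (hw : ∀ x, R (i x) w = ((χ x : Lˣ) : L) • w) :
    R g⁻¹ w ≠ 0 ∧ ∀ x, R (i x) (R g⁻¹ w) = (((χ.comp γ) x : Lˣ) : L) • R g⁻¹ w := by
  constructor
  · intro h0
    apply hw0
    have h1 : R g (R g⁻¹ w) = w := by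
      rw [← Module.End.mul_apply, ← map_mul, mul_inv_cancel, map_one, Module.End.one_apply]
    rw [← h1, h0, map_zero]
  · intro x
    have h1 : i x * g⁻¹ = g⁻¹ * i (γ x) := by
      rw [eq_inv_mul_iff_mul_eq, ← mul_assoc, hg, mul_assoc, mul_inv_cancel, mul_one]
    rw [← Module.End.mul_apply, ← map_mul, h1, map_mul, Module.End.mul_apply, hw, map_smul]
    rfl

end conj

section count
variable {L : Type*} [Field L] {Q : Type*} [CommGroup Q] {V : Type*} [AddCommGroup V]
  [Module L V]

/-- A family of characters, all occurring in `V`, with fibres of size at most `k`, has at most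
`k * dim V` members. -/
theorem card_le_mul_finrank_of_fibers [FiniteDimensional L V] (R : Q →* Module.End L V)
    {ι : Type*} (W : Finset ι) (Φ : ι → (Q →* Lˣ)) (k : ℕ)
    (hΦ : ∀ w ∈ W, ∃ v : V, v ≠ 0 ∧ ∀ x, R x v = (((Φ w) x : Lˣ) : L) • v)
    (hfib : ∀ w₀ ∈ W, ∀ T : Finset ι, (∀ w ∈ T, w ∈ W ∧ Φ w = Φ w₀) → T.card ≤ k) :
    W.card ≤ k * Module.finrank L V := by
  classical
  have h1 : W.card ≤ k * (W.image Φ).card := by
    apply Finset.card_le_mul_card_image
    intro χ hχ
    obtain ⟨w₀, hw₀, rfl⟩ := Finset.mem_image.mp hχ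
    apply hfib w₀ hw₀
    intro w hw
    exact ⟨(Finset.mem_filter.mp hw).1, (Finset.mem_filter.mp hw).2⟩
  have h2 : (W.image Φ).card ≤ Module.finrank L V := by
    apply card_le_finrank_of_eigenvectors R
    intro χ hχ
    obtain ⟨w₀, hw₀, rfl⟩ := Finset.mem_image.mp hχ
    exact hΦ w₀ hw₀
  exact h1.trans (Nat.mul_le_mul_left k h2)

end count

section basechange
variable {G : Type*} [Group G] {K : Type*} [Field K] (L : Type*) [Field L] [Algebra K L] {d : ℕ}

/-- A matrix representation over `K` as a representation on `L^d`. -/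
noncomputable def endOfGL (ρ : G →* Matrix.GeneralLinearGroup (Fin d) K) :
    G →* Module.End L (Fin d → L) where
  toFun g := Matrix.toLin' (((ρ g : Matrix.GeneralLinearGroup (Fin d) K) :
    Matrix (Fin d) (Fin d) K).map (algebraMap K L))
  map_one' := by
    rw [map_one, Units.val_one, Matrix.map_one _ (map_zero _) (map_one _), Matrix.toLin'_one]
    rfl
  map_mul' a b := by
    rw [map_mul, Units.val_mul, Matrix.map_mul, Matrix.toLin'_mul]
    rfl

theorem endOfGL_apply (ρ : G →* Matrix.GeneralLinearGroup (Fin d) K) (g : G) :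
    endOfGL L ρ g = Matrix.toLin' (((ρ g : Matrix.GeneralLinearGroup (Fin d) K) :
      Matrix (Fin d) (Fin d) K).map (algebraMap K L)) := rfl

theorem eq_one_of_endOfGL_eq_one (ρ : G →* Matrix.GeneralLinearGroup (Fin d) K) (g : G)
    (h : endOfGL L ρ g = 1) : ρ g = 1 := by
  have h2 : Matrix.toLin' (((ρ g : Matrix.GeneralLinearGroup (Fin d) K) :
      Matrix (Fin d) (Fin d) K).map (algebraMap K L)) =
      Matrix.toLin' (1 : Matrix (Fin d) (Fin d) L) := by
    rw [Matrix.toLin'_one]
    exact h
  have h3 := Matrix.toLin'.injective h2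
  apply Units.ext
  apply Matrix.ext
  intro a b
  have h4 := congrFun (congrFun h3 a) b
  rw [Matrix.map_apply] at h4
  apply (algebraMap K L).injective
  rw [h4, Units.val_one, Matrix.one_apply, Matrix.one_apply]
  split_ifs <;> simp

end basechange

end Cfsg.Agent.Lib.Helper40
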