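import Mathlib

/-!
# Absorbing an elementary abelian factor into a power of a group: generic part (helper40)

Let `L` be a finite group, `r` a prime, and suppose every `x ∈ L` of order prime to `r` either
commutes with an element of order `r`, or has order dividing `c * P`, where `c`, `P` are coprime
orders of elements of `L`.  Then `L × L × L × (ℤ/r)^m` and `L × L × L` have the same element
orders (`range_orderOf_prod3`); if moreover some element has order divisible by `r` and by `P`,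
already `L × L × (ℤ/r)^m` and `L × L` have the same element orders (`range_orderOf_prod2`).
-/

set_option autoImplicit false
set_option linter.unusedSectionVars false

namespace Cfsg.Agent.Lib.Helper40

section arith

theorem lcm_mul_prime_of_not_dvd (r a M : ℕ) (hr : r.Prime) (h : ¬ r ∣ Nat.lcm a M) :
    Nat.lcm (a * r) M = r * Nat.lcm a M := by
  have ha : ¬ r ∣ a := fun h1 => h (dvd_trans h1 (Nat.dvd_lcm_left a M))
  have h1 : Nat.lcm a r = a * r :=
    Nat.Coprime.lcm_eq_mul ((Nat.Prime.coprime_iff_not_dvd hr).mpr ha).symm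
  have h2 : Nat.lcm r (Nat.lcm a M) = r * Nat.lcm a M :=
    Nat.Coprime.lcm_eq_mul ((Nat.Prime.coprime_iff_not_dvd hr).mpr h)
  rw [← h1, ← h2, Nat.lcm_assoc, Nat.lcm_comm r M, ← Nat.lcm_assoc, Nat.lcm_comm]

end arith

section generic
variable {L : Type*} [Group L] [Finite L]

theorem orderOf_elemAb_dvd (r m : ℕ) [Fact r.Prime] (v : Multiplicative (Fin m → ZMod r)) :
    orderOf v ∣ r := by
  apply orderOf_dvd_of_pow_eq_one
  have h1 : r • (Multiplicative.toAdd v) = 0 := by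
    funext i
    rw [Pi.smul_apply, nsmul_eq_mul, CharP.cast_eq_zero, zero_mul]
    rfl
  have h2 : v ^ r = Multiplicative.ofAdd (r • Multiplicative.toAdd v) := rfl
  rw [h2, h1]
  rfl

/-- an element of `G` of order `r * N` from an element of order divisible by `r` and by `N` -/
theorem exists_orderOf_eq_of_dvd {G : Type*} [Group G] [Finite G] (y : G) (k : ℕ) (_hk : 0 < k)
    (h : k ∣ orderOf y) : ∃ y' : G, orderOf y' = k := by
  obtain ⟨t, ht⟩ := h
  have hpos : 0 < orderOf y := orderOf_pos y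
  have ht0 : t ≠ 0 := by
    rintro rfl
    rw [mul_zero] at ht
    omega
  refine ⟨y ^ t, ?_⟩
  rw [orderOf_pow_of_dvd ht0 ⟨k, by rw [ht, mul_comm]⟩, ht]
  exact Nat.mul_div_cancel _ (Nat.pos_of_ne_zero ht0)

variable (r : ℕ) (hr : r.Prime) (c P : ℕ) (hcop : c.Coprime P)
  (key : ∀ x : L, ¬ r ∣ orderOf x → (∃ z : L, Commute x z ∧ orderOf z = r) ∨ orderOf x ∣ c * P)

include hr hcop key

/-- the absorbing step for one coordinate -/
theorem exists_absorb_or (x : L) (hx : ¬ r ∣ orderOf x) :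
    (∃ y : L, orderOf y = orderOf x * r) ∨ orderOf x ∣ c * P := by
  rcases key x hx with ⟨z, hz, hzr⟩ | h
  · left
    refine ⟨x * z, ?_⟩
    rw [hz.orderOf_mul_eq_mul_orderOf_of_coprime, hzr]
    rw [hzr]
    exact ((Nat.Prime.coprime_iff_not_dvd hr).mpr hx).symm
  · right
    exact h

theorem exists_orderOf_prod3 (yS yP yr : L) (hS : orderOf yS = c) (hP : orderOf yP = P)
    (hyr : orderOf yr = r) (x1 x2 x3 : L)
    (hN : ¬ r ∣ Nat.lcm (orderOf x1) (Nat.lcm (orderOf x2) (orderOf x3))) :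
    ∃ y : L × L × L, orderOf y = r * Nat.lcm (orderOf x1) (Nat.lcm (orderOf x2) (orderOf x3)) := by
  have h1 : ¬ r ∣ orderOf x1 := fun h => hN (dvd_trans h (Nat.dvd_lcm_left _ _))
  have h2 : ¬ r ∣ orderOf x2 := fun h =>
    hN (dvd_trans h (dvd_trans (Nat.dvd_lcm_left _ _) (Nat.dvd_lcm_right _ _)))
  have h3 : ¬ r ∣ orderOf x3 := fun h =>
    hN (dvd_trans h (dvd_trans (Nat.dvd_lcm_right _ _) (Nat.dvd_lcm_right _ _)))
  rcases exists_absorb_or r hr c P hcop key x1 h1 with ⟨y, hy⟩ | d1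
  · refine ⟨(y, x2, x3), ?_⟩
    rw [Prod.orderOf_mk, Prod.orderOf_mk, hy]
    exact lcm_mul_prime_of_not_dvd r _ _ hr hN
  rcases exists_absorb_or r hr c P hcop key x2 h2 with ⟨y, hy⟩ | d2
  · refine ⟨(x1, y, x3), ?_⟩
    rw [Prod.orderOf_mk, Prod.orderOf_mk, hy]
    have e1 : Nat.lcm (orderOf x1) (Nat.lcm (orderOf x2 * r) (orderOf x3)) =
        Nat.lcm (orderOf x2 * r) (Nat.lcm (orderOf x1) (orderOf x3)) := by
      rw [← Nat.lcm_assoc, Nat.lcm_comm (orderOf x1), Nat.lcm_assoc]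
    have e2 : Nat.lcm (orderOf x1) (Nat.lcm (orderOf x2) (orderOf x3)) =
        Nat.lcm (orderOf x2) (Nat.lcm (orderOf x1) (orderOf x3)) := by
      rw [← Nat.lcm_assoc, Nat.lcm_comm (orderOf x1), Nat.lcm_assoc]
    rw [e1, e2]
    rw [e2] at hN
    exact lcm_mul_prime_of_not_dvd r _ _ hr hN
  rcases exists_absorb_or r hr c P hcop key x3 h3 with ⟨y, hy⟩ | d3
  · refine ⟨(x1, x2, y), ?_⟩
    rw [Prod.orderOf_mk, Prod.orderOf_mk, hy]
    have e1 : Nat.lcm (orderOf x1) (Nat.lcm (orderOf x2) (orderOf x3 * r)) =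
        Nat.lcm (orderOf x3 * r) (Nat.lcm (orderOf x1) (orderOf x2)) := by
      rw [← Nat.lcm_assoc, Nat.lcm_comm]
    have e2 : Nat.lcm (orderOf x1) (Nat.lcm (orderOf x2) (orderOf x3)) =
        Nat.lcm (orderOf x3) (Nat.lcm (orderOf x1) (orderOf x2)) := by
      rw [← Nat.lcm_assoc, Nat.lcm_comm]
    rw [e1, e2]
    rw [e2] at hN
    exact lcm_mul_prime_of_not_dvd r _ _ hr hN
  -- all three orders divide `c * P`
  have hNd : Nat.lcm (orderOf x1) (Nat.lcm (orderOf x2) (orderOf x3)) ∣ c * P :=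
    Nat.lcm_dvd d1 (Nat.lcm_dvd d2 d3)
  have hΛ : orderOf ((yS, yP, yr) : L × L × L) = Nat.lcm c (Nat.lcm P r) := by
    rw [Prod.orderOf_mk, Prod.orderOf_mk, hS, hP, hyr]
  have hcP : c * P ∣ Nat.lcm c (Nat.lcm P r) := by
    rw [← Nat.Coprime.lcm_eq_mul hcop, ← Nat.lcm_assoc]
    exact Nat.dvd_lcm_left _ _
  have hrΛ : r ∣ Nat.lcm c (Nat.lcm P r) :=
    dvd_trans (Nat.dvd_lcm_right P r) (Nat.dvd_lcm_right _ _)
  have hdvd : r * Nat.lcm (orderOf x1) (Nat.lcm (orderOf x2) (orderOf x3)) ∣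
      orderOf ((yS, yP, yr) : L × L × L) := by
    rw [hΛ]
    exact Nat.Coprime.mul_dvd_of_dvd_of_dvd ((Nat.Prime.coprime_iff_not_dvd hr).mpr hN) hrΛ
      (dvd_trans hNd hcP)
  apply exists_orderOf_eq_of_dvd _ _ _ hdvd
  apply Nat.mul_pos hr.pos
  apply Nat.lcm_pos (orderOf_pos x1)
  exact Nat.lcm_pos (orderOf_pos x2) (orderOf_pos x3)

theorem exists_orderOf_prod2 (yS y' : L) (hS : orderOf yS = c) (hy'r : r ∣ orderOf y')
    (hy'P : P ∣ orderOf y') (x1 x2 : L)
    (hN : ¬ r ∣ Nat.lcm (orderOf x1) (orderOf x2)) :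
    ∃ y : L × L, orderOf y = r * Nat.lcm (orderOf x1) (orderOf x2) := by
  have h1 : ¬ r ∣ orderOf x1 := fun h => hN (dvd_trans h (Nat.dvd_lcm_left _ _))
  have h2 : ¬ r ∣ orderOf x2 := fun h => hN (dvd_trans h (Nat.dvd_lcm_right _ _))
  rcases exists_absorb_or r hr c P hcop key x1 h1 with ⟨y, hy⟩ | d1
  · refine ⟨(y, x2), ?_⟩
    rw [Prod.orderOf_mk, hy]
    exact lcm_mul_prime_of_not_dvd r _ _ hr hN
  rcases exists_absorb_or r hr c P hcop key x2 h2 with ⟨y, hy⟩ | d2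
  · refine ⟨(x1, y), ?_⟩
    rw [Prod.orderOf_mk, hy, Nat.lcm_comm, Nat.lcm_comm (orderOf x1)]
    rw [Nat.lcm_comm] at hN
    exact lcm_mul_prime_of_not_dvd r _ _ hr hN
  have hNd : Nat.lcm (orderOf x1) (orderOf x2) ∣ c * P := Nat.lcm_dvd d1 d2
  have hΛ : orderOf ((yS, y') : L × L) = Nat.lcm c (orderOf y') := by
    rw [Prod.orderOf_mk, hS]
  have hcP : c * P ∣ Nat.lcm c (orderOf y') := by
    rw [← Nat.Coprime.lcm_eq_mul hcop]
    exact Nat.lcm_dvd (Nat.dvd_lcm_left _ _) (dvd_trans hy'P (Nat.dvd_lcm_right _ _))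
  have hrΛ : r ∣ Nat.lcm c (orderOf y') := dvd_trans hy'r (Nat.dvd_lcm_right _ _)
  have hdvd : r * Nat.lcm (orderOf x1) (orderOf x2) ∣ orderOf ((yS, y') : L × L) := by
    rw [hΛ]
    exact Nat.Coprime.mul_dvd_of_dvd_of_dvd ((Nat.Prime.coprime_iff_not_dvd hr).mpr hN) hrΛ
      (dvd_trans hNd hcP)
  apply exists_orderOf_eq_of_dvd _ _ _ hdvd
  apply Nat.mul_pos hr.pos
  exact Nat.lcm_pos (orderOf_pos x1) (orderOf_pos x2)

theorem range_orderOf_prod3 (m : ℕ) (yS yP yr : L) (hS : orderOf yS = c) (hP : orderOf yP = P)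
    (hyr : orderOf yr = r) :
    Set.range (orderOf : L × L × L × Multiplicative (Fin m → ZMod r) → ℕ) =
      Set.range (orderOf : L × L × L → ℕ) := by
  have : Fact r.Prime := ⟨hr⟩
  apply Set.eq_of_subset_of_subset
  · rintro k ⟨⟨x1, x2, x3, v⟩, rfl⟩
    have hv := orderOf_elemAb_dvd r m v
    have hord : orderOf ((x1, x2, x3, v) : L × L × L × Multiplicative (Fin m → ZMod r)) =
        Nat.lcm (Nat.lcm (orderOf x1) (Nat.lcm (orderOf x2) (orderOf x3))) (orderOf v) := by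
      rw [Prod.orderOf_mk, Prod.orderOf_mk, Prod.orderOf_mk]
      simp only [Nat.lcm_assoc]
    have hord3 : orderOf ((x1, x2, x3) : L × L × L) =
        Nat.lcm (orderOf x1) (Nat.lcm (orderOf x2) (orderOf x3)) := by
      rw [Prod.orderOf_mk, Prod.orderOf_mk]
    rw [hord]
    rcases (Nat.dvd_prime hr).mp hv with h1 | h1
    · rw [h1, Nat.lcm_one_right]
      exact ⟨(x1, x2, x3), hord3⟩
    · rw [h1]
      by_cases hN : r ∣ Nat.lcm (orderOf x1) (Nat.lcm (orderOf x2) (orderOf x3))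
      · rw [Nat.lcm_eq_left hN]
        exact ⟨(x1, x2, x3), hord3⟩
      · rw [Nat.Coprime.lcm_eq_mul ((Nat.Prime.coprime_iff_not_dvd hr).mpr hN).symm, mul_comm]
        exact exists_orderOf_prod3 r hr c P hcop key yS yP yr hS hP hyr x1 x2 x3 hN
  · rintro k ⟨⟨x1, x2, x3⟩, rfl⟩
    refine ⟨(x1, x2, x3, 1), ?_⟩
    rw [Prod.orderOf_mk, Prod.orderOf_mk, Prod.orderOf_mk, Prod.orderOf_mk, Prod.orderOf_mk,
      orderOf_one, Nat.lcm_one_right]

theorem range_orderOf_prod2 (m : ℕ) (yS y' : L) (hS : orderOf yS = c) (hy'r : r ∣ orderOf y')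
    (hy'P : P ∣ orderOf y') :
    Set.range (orderOf : L × L × Multiplicative (Fin m → ZMod r) → ℕ) =
      Set.range (orderOf : L × L → ℕ) := by
  have : Fact r.Prime := ⟨hr⟩
  apply Set.eq_of_subset_of_subset
  · rintro k ⟨⟨x1, x2, v⟩, rfl⟩
    have hv := orderOf_elemAb_dvd r m v
    have hord : orderOf ((x1, x2, v) : L × L × Multiplicative (Fin m → ZMod r)) =
        Nat.lcm (Nat.lcm (orderOf x1) (orderOf x2)) (orderOf v) := by
      rw [Prod.orderOf_mk, Prod.orderOf_mk]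
      simp only [Nat.lcm_assoc]
    have hord2 : orderOf ((x1, x2) : L × L) = Nat.lcm (orderOf x1) (orderOf x2) := by
      rw [Prod.orderOf_mk]
    rw [hord]
    rcases (Nat.dvd_prime hr).mp hv with h1 | h1
    · rw [h1, Nat.lcm_one_right]
      exact ⟨(x1, x2), hord2⟩
    · rw [h1]
      by_cases hN : r ∣ Nat.lcm (orderOf x1) (orderOf x2)
      · rw [Nat.lcm_eq_left hN]
        exact ⟨(x1, x2), hord2⟩
      · rw [Nat.Coprime.lcm_eq_mul ((Nat.Prime.coprime_iff_not_dvd hr).mpr hN).symm, mul_comm]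
        exact exists_orderOf_prod2 r hr c P hcop key yS y' hS hy'r hy'P x1 x2 hN
  · rintro k ⟨⟨x1, x2⟩, rfl⟩
    refine ⟨(x1, x2, 1), ?_⟩
    rw [Prod.orderOf_mk, Prod.orderOf_mk, Prod.orderOf_mk, orderOf_one, Nat.lcm_one_right]

end generic

end Cfsg.Agent.Lib.Helper40
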