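import Mathlib
import Cfsg.Agent.Lib.Helper40.PSLOrders

/-!
# Adjacency of a prime with the characteristic in `PSL_n(q)` (helper40)

* `blockMat`: block diagonal matrices; `exists_orderOf_PSL_block`: elements of order `r * p`.
* `g3`, `exists_orderOf_PSL_three`: the `3 × 3` construction.
* `three_le_finrank_of_commuting`, `false_of_dim_three`: linear algebra of a semisimple element
  commuting with a nilpotent one.
* `exists_lift_data`, `order_add_two_le`, `false_of_three`: non-existence of elements of order `r * p`.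
-/

set_option autoImplicit false
set_option linter.unusedSectionVars false

namespace Cfsg.Agent.Lib.Helper40

open Matrix Module Cfsg.Agent.S2364


section block
variable {F : Type*} [Field F] {c d n : ℕ}

/-- the index equivalence -/
def blockEquiv (h : c + d = n) : Fin c ⊕ Fin d ≃ Fin n := finSumFinEquiv.trans (finCongr h)

/-- block diagonal matrix -/
def blockMat (h : c + d = n) (C : Matrix (Fin c) (Fin c) F) (D : Matrix (Fin d) (Fin d) F) :
    Matrix (Fin n) (Fin n) F :=
  Matrix.reindex (blockEquiv h) (blockEquiv h) (Matrix.fromBlocks C 0 0 D)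

theorem blockMat_mul (h : c + d = n) (C C' : Matrix (Fin c) (Fin c) F)
    (D D' : Matrix (Fin d) (Fin d) F) :
    blockMat h C D * blockMat h C' D' = blockMat h (C * C') (D * D') := by
  unfold blockMat
  rw [Matrix.reindex_apply, Matrix.reindex_apply, Matrix.reindex_apply,
    Matrix.submatrix_mul_equiv, Matrix.fromBlocks_multiply]
  simp

theorem blockMat_one (h : c + d = n) : blockMat h (1 : Matrix (Fin c) (Fin c) F) 1 = 1 := by
  unfold blockMat
  rw [Matrix.fromBlocks_one, Matrix.reindex_apply, Matrix.submatrix_one_equiv]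

theorem blockMat_smul_one (h : c + d = n) (a : F) :
    blockMat h (a • (1 : Matrix (Fin c) (Fin c) F)) (a • 1) = a • 1 := by
  unfold blockMat
  have : Matrix.fromBlocks (a • (1 : Matrix (Fin c) (Fin c) F)) 0 0 (a • 1) =
      a • (1 : Matrix (Fin c ⊕ Fin d) (Fin c ⊕ Fin d) F) := by
    rw [← Matrix.fromBlocks_one, Matrix.fromBlocks_smul, smul_zero, smul_zero]
  rw [this, Matrix.reindex_apply]
  ext i j
  simp [Matrix.one_apply]

theorem blockMat_pow (h : c + d = n) (C : Matrix (Fin c) (Fin c) F)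
    (D : Matrix (Fin d) (Fin d) F) (i : ℕ) : blockMat h C D ^ i = blockMat h (C ^ i) (D ^ i) := by
  induction i with
  | zero => rw [pow_zero, pow_zero, pow_zero, blockMat_one]
  | succ i ih => rw [pow_succ, ih, blockMat_mul, ← pow_succ, ← pow_succ]

theorem blockMat_det (h : c + d = n) (C : Matrix (Fin c) (Fin c) F)
    (D : Matrix (Fin d) (Fin d) F) : (blockMat h C D).det = C.det * D.det := by
  unfold blockMat
  rw [Matrix.det_reindex_self, Matrix.det_fromBlocks_zero₂₁]

theorem blockMat_inj (h : c + d = n) (C C' : Matrix (Fin c) (Fin c) F)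
    (D D' : Matrix (Fin d) (Fin d) F) (heq : blockMat h C D = blockMat h C' D') :
    C = C' ∧ D = D' := by
  unfold blockMat at heq
  have h1 := (Matrix.reindex (blockEquiv h) (blockEquiv h)).injective heq
  have h2 := Matrix.fromBlocks_inj.mp h1
  exact ⟨h2.1, h2.2.2.2⟩

/-- if a power of a block matrix is scalar, so are the powers of the blocks -/
theorem blockMat_pow_eq_smul (h : c + d = n) (C : Matrix (Fin c) (Fin c) F)
    (D : Matrix (Fin d) (Fin d) F) (i : ℕ) (a : F) (heq : blockMat h C D ^ i = a • 1) :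
    C ^ i = a • 1 ∧ D ^ i = a • 1 := by
  rw [blockMat_pow, ← blockMat_smul_one h a] at heq
  exact blockMat_inj h _ _ _ _ heq

end block

section constr
open scoped MatrixGroups
variable {F : Type*} [Field F] [Fintype F]

theorem orderOf_eq_of_pow_eq_one_iff_dvd {G : Type*} [Monoid G] (y : G) (m : ℕ)
    (h : ∀ i, y ^ i = 1 ↔ m ∣ i) : orderOf y = m :=
  Nat.dvd_antisymm (orderOf_dvd_of_pow_eq_one ((h m).mpr dvd_rfl))
    ((h _).mp (pow_orderOf_eq_one y))

/-- a scalar of `p`-power order in characteristic `p` is one -/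
theorem eq_one_of_pow_char_eq_one (p : ℕ) [Fact p.Prime] [CharP F p] (a : F) (h : a ^ p = 1) :
    a = 1 := by
  have h1 : (a - 1) ^ p = 0 := by
    rw [sub_pow_char, h, one_pow, sub_self]
  exact sub_eq_zero.mp (pow_eq_zero_iff (Fact.out : p.Prime).ne_zero |>.mp h1)

/-- an element of order `r * p` in `PSL_n(q)` from a block diagonal matrix -/
theorem exists_orderOf_PSL_block (p : ℕ) [Fact p.Prime] [CharP F p] (r : ℕ) (hr : r.Prime)
    (hrp : r ≠ p) {c d n : ℕ} (h : c + d = n) (hd : 1 ≤ d)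
    (C : Matrix.SpecialLinearGroup (Fin c) F) (D : Matrix.SpecialLinearGroup (Fin d) F)
    (hC : orderOf C = r) (hD : orderOf D = p) :
    ∃ x : Matrix.ProjectiveSpecialLinearGroup (Fin n) F, orderOf x = r * p := by
  have hpp : p.Prime := Fact.out
  have hdet : (blockMat h (C : Matrix (Fin c) (Fin c) F) (D : Matrix (Fin d) (Fin d) F)).det = 1 := by
    rw [blockMat_det, C.2, D.2, mul_one]
  let g : Matrix.SpecialLinearGroup (Fin n) F := ⟨_, hdet⟩
  refine ⟨QuotientGroup.mk g, ?_⟩
  apply orderOf_eq_of_pow_eq_one_iff_dvd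
  intro i
  have hCi : C ^ i = 1 ↔ (C : Matrix (Fin c) (Fin c) F) ^ i = 1 := by
    constructor
    · intro h1
      have := congrArg (fun X : Matrix.SpecialLinearGroup (Fin c) F =>
        (X : Matrix (Fin c) (Fin c) F)) h1
      exact this
    · intro h1
      apply Subtype.ext
      exact h1
  have hDi : D ^ i = 1 ↔ (D : Matrix (Fin d) (Fin d) F) ^ i = 1 := by
    constructor
    · intro h1
      have := congrArg (fun X : Matrix.SpecialLinearGroup (Fin d) F =>
        (X : Matrix (Fin d) (Fin d) F)) h1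
      exact this
    · intro h1
      apply Subtype.ext
      exact h1
  rw [mk_pow_eq_one_iff]
  constructor
  · rintro ⟨a, ha⟩
    obtain ⟨h1, h2⟩ := blockMat_pow_eq_smul h _ _ i a ha
    have hDp : (D : Matrix (Fin d) (Fin d) F) ^ p = 1 := by
      have := congrArg (fun X : Matrix.SpecialLinearGroup (Fin d) F =>
        (X : Matrix (Fin d) (Fin d) F)) (hD ▸ pow_orderOf_eq_one D)
      exact this
    have h3 : a ^ p = 1 := by
      have h4 : ((D : Matrix (Fin d) (Fin d) F) ^ i) ^ p = 1 := by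
        rw [← pow_mul, mul_comm, pow_mul, hDp, one_pow]
      rw [h2, smul_pow, one_pow] at h4
      have h5 := congrFun (congrFun h4 ⟨0, hd⟩) ⟨0, hd⟩
      simpa using h5
    have ha1 : a = 1 := eq_one_of_pow_char_eq_one p a h3
    rw [ha1, one_smul] at h1 h2
    have h6 : r ∣ i := hC ▸ orderOf_dvd_of_pow_eq_one (hCi.mpr h1)
    have h7 : p ∣ i := hD ▸ orderOf_dvd_of_pow_eq_one (hDi.mpr h2)
    exact Nat.Coprime.mul_dvd_of_dvd_of_dvd ((Nat.coprime_primes hr hpp).mpr hrp) h6 h7
  · intro hdvd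
    refine ⟨1, ?_⟩
    rw [one_smul]
    change blockMat h (C : Matrix (Fin c) (Fin c) F) (D : Matrix (Fin d) (Fin d) F) ^ i = 1
    have h1 : (C : Matrix (Fin c) (Fin c) F) ^ i = 1 :=
      hCi.mp (orderOf_dvd_iff_pow_eq_one.mp (hC ▸ (Dvd.intro _ rfl).trans hdvd))
    have h2 : (D : Matrix (Fin d) (Fin d) F) ^ i = 1 :=
      hDi.mp (orderOf_dvd_iff_pow_eq_one.mp (hD ▸ (Dvd.intro_left _ rfl).trans hdvd))
    rw [blockMat_pow, h1, h2, blockMat_one]

end constr

section three
open scoped MatrixGroups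
variable {F : Type*} [Field F] [Fintype F]

/-- the `3 × 3` element `diag(ζ, ζ, ζ⁻²) * (1 + E₁₂)` -/
def g3 (ζ : F) : Matrix (Fin 3) (Fin 3) F := !![ζ, ζ, 0; 0, ζ, 0; 0, 0, (ζ⁻¹) ^ 2]

theorem g3_pow (ζ : F) (i : ℕ) :
    g3 ζ ^ i = !![ζ ^ i, (i : F) * ζ ^ i, 0; 0, ζ ^ i, 0; 0, 0, (ζ⁻¹) ^ (2 * i)] := by
  induction i with
  | zero =>
    ext a b
    fin_cases a <;> fin_cases b <;> simp
  | succ i ih =>
    rw [pow_succ, ih, g3]
    ext a b
    fin_cases a <;> fin_cases b <;>
      simp [Matrix.mul_apply, Fin.sum_univ_three, pow_succ, Nat.mul_succ] <;> ring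

theorem g3_det (ζ : F) (hζ : ζ ≠ 0) : (g3 ζ).det = 1 := by
  rw [g3, Matrix.det_fin_three]
  simp
  field_simp

/-- an element of order `r * p` in `PSL_3(q)` -/
theorem exists_orderOf_PSL_three (p : ℕ) [Fact p.Prime] [CharP F p] (r : ℕ) (hr : r.Prime)
    (hrp : r ≠ p) (ζ : F) (hζ : ζ ≠ 0) (hm : ∀ i : ℕ, orderOf ζ ∣ 3 * i ↔ r ∣ i) :
    ∃ x : Matrix.ProjectiveSpecialLinearGroup (Fin 3) F, orderOf x = r * p := by
  have hpp : p.Prime := Fact.out
  let g : Matrix.SpecialLinearGroup (Fin 3) F := ⟨g3 ζ, g3_det ζ hζ⟩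
  refine ⟨QuotientGroup.mk g, ?_⟩
  apply orderOf_eq_of_pow_eq_one_iff_dvd
  intro i
  rw [mk_pow_eq_one_iff]
  change (∃ a : F, g3 ζ ^ i = a • 1) ↔ _
  rw [g3_pow]
  constructor
  · rintro ⟨a, ha⟩
    have h01 := congrFun (congrFun ha 0) 1
    have h00 := congrFun (congrFun ha 0) 0
    have h22 := congrFun (congrFun ha 2) 2
    simp at h01 h00 h22
    have hi : (i : F) = 0 := by
      rcases h01 with h | h
      · exact h
      · exact absurd h.1 hζ
    have hpi : p ∣ i := (CharP.cast_eq_zero_iff F p i).mp hi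
    have h3 : ζ ^ (3 * i) = 1 := by
      have e : ζ ^ (3 * i) = ζ ^ i * ζ ^ (2 * i) := by
        rw [← pow_add]
        congr 1
        ring
      rw [e, h00, ← h22, inv_mul_cancel₀ (pow_ne_zero _ hζ)]
    have hri : r ∣ i := (hm i).mp (orderOf_dvd_of_pow_eq_one h3)
    exact Nat.Coprime.mul_dvd_of_dvd_of_dvd ((Nat.coprime_primes hr hpp).mpr hrp) hri hpi
  · intro hdvd
    have hpi : p ∣ i := (Dvd.intro_left _ rfl).trans hdvd
    have hri : r ∣ i := (Dvd.intro _ rfl).trans hdvd
    have hi : (i : F) = 0 := (CharP.cast_eq_zero_iff F p i).mpr hpi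
    have h3 : ζ ^ (3 * i) = 1 := orderOf_dvd_iff_pow_eq_one.mp ((hm i).mpr hri)
    have h4 : (ζ⁻¹) ^ (2 * i) = ζ ^ i := by
      have h5 : ζ ^ (2 * i) * (ζ⁻¹) ^ (2 * i) = 1 := by
        rw [← mul_pow, mul_inv_cancel₀ hζ, one_pow]
      have h6 : ζ ^ (2 * i) * ζ ^ i = 1 := by
        rw [← pow_add, ← h3]
        congr 1
        ring
      exact mul_left_cancel₀ (pow_ne_zero (2 * i) hζ) (h5.trans h6.symm)
    refine ⟨ζ ^ i, ?_⟩
    ext a b
    fin_cases a <;> fin_cases b <;> simp [hi, h4]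

end three



section lin
variable {F : Type*} [Field F] {W : Type*} [AddCommGroup W] [Module F W]
  [FiniteDimensional F W]

/-- a nilpotent endomorphism vanishes on an invariant subspace of dimension at most one -/
theorem nilpotent_zero_of_finrank_le_one (N : Module.End F W) (hN : IsNilpotent N)
    (U : Submodule F W) (hU : ∀ v ∈ U, N v ∈ U) (hle : Module.finrank F U ≤ 1) :
    ∀ v ∈ U, N v = 0 := by
  intro a ha
  obtain ⟨v₀, hv₀⟩ := finrank_le_one_iff.mp hle
  obtain ⟨c₁, hc₁⟩ := hv₀ ⟨a, ha⟩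
  obtain ⟨c₂, hc₂⟩ := hv₀ ⟨N v₀.1, hU _ v₀.2⟩
  have hc₂' : N v₀.1 = c₂ • v₀.1 := (congrArg Subtype.val hc₂).symm
  have hc₁' : a = c₁ • v₀.1 := (congrArg Subtype.val hc₁).symm
  obtain ⟨k, hk⟩ := hN
  have hpow : ∀ i : ℕ, (N ^ i) v₀.1 = c₂ ^ i • v₀.1 := by
    intro i
    induction i with
    | zero => simp
    | succ i ih => rw [pow_succ, Module.End.mul_apply, hc₂', map_smul, ih, smul_smul, pow_succ']
  have h3 := hpow k
  rw [hk, LinearMap.zero_apply] at h3
  rcases smul_eq_zero.mp h3.symm with h | h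
  · have hc0 : c₂ = 0 := IsNilpotent.eq_zero ⟨k, h⟩
    rw [hc₁', map_smul, hc₂', hc0, zero_smul, smul_zero]
  · rw [hc₁', h, smul_zero, map_zero]

/-- a semisimple element with eigenvalue one commuting with a nonzero nilpotent needs dimension
three -/
theorem three_le_finrank_of_commuting [Fintype F] (r : ℕ) (hrF : (r : F) ≠ 0)
    (S N : Module.End F W) (hS : S ^ r = 1) (hS1 : S ≠ 1)
    (hP : LinearMap.ker (S - 1) ≠ ⊥)
    (hN : IsNilpotent N) (hN0 : N ≠ 0) (hSN : Commute S N) :
    3 ≤ Module.finrank F W := by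
  set P := LinearMap.ker (S - 1) with hPdef
  set R := LinearMap.range (S - 1) with hRdef
  have hdisj : Disjoint P R := disjoint_ker_range r hrF S hS
  have hdim : Module.finrank F R + Module.finrank F P = Module.finrank F W :=
    LinearMap.finrank_range_add_finrank_ker (S - 1)
  have hsup : P ⊔ R = ⊤ := Submodule.eq_top_of_disjoint P R (by omega) hdisj
  have hcomm : Commute (S - 1) N := (hSN.sub_left (Commute.one_left N))
  have hNR : ∀ v ∈ R, N v ∈ R := by
    rintro v ⟨w, rfl⟩
    refine ⟨N w, ?_⟩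
    rw [← Module.End.mul_apply, ← Module.End.mul_apply, hcomm.eq]
  have hNP : ∀ v ∈ P, N v ∈ P := by
    intro v hv
    rw [hPdef, LinearMap.mem_ker] at hv ⊢
    rw [← Module.End.mul_apply, hcomm.eq, Module.End.mul_apply, hv, map_zero]
  have hP0 : Module.finrank F P ≠ 0 := fun h => hP (Submodule.finrank_eq_zero.mp h)
  have hR0 : Module.finrank F R ≠ 0 := by
    intro h
    have h1 : R = ⊥ := Submodule.finrank_eq_zero.mp h
    apply hS1
    have h2 : S - 1 = 0 := LinearMap.range_eq_bot.mp h1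
    exact sub_eq_zero.mp h2
  by_contra hlt
  have hP1 : Module.finrank F P ≤ 1 := by omega
  have hR1 : Module.finrank F R ≤ 1 := by omega
  apply hN0
  apply LinearMap.ext
  intro v
  have hv : v ∈ P ⊔ R := by rw [hsup]; trivial
  obtain ⟨a, ha, b, hb, rfl⟩ := Submodule.mem_sup.mp hv
  rw [map_add, nilpotent_zero_of_finrank_le_one N hN P hNP hP1 a ha,
    nilpotent_zero_of_finrank_le_one N hN R hNR hR1 b hb, add_zero, LinearMap.zero_apply]

/-- an invariant line gives an eigenvector -/
theorem exists_eigen_of_invariant_line (B : Module.End F W) (L : Submodule F W)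
    (hL : ∀ v ∈ L, B v ∈ L) (h1 : Module.finrank F L = 1) :
    ∃ (μ : F) (v : W), v ≠ 0 ∧ v ∈ L ∧ B v = μ • v := by
  obtain ⟨v₀, hv₀0, hv₀⟩ := finrank_eq_one_iff'.mp h1
  obtain ⟨c, hc⟩ := hv₀ ⟨B v₀.1, hL _ v₀.2⟩
  refine ⟨c, v₀.1, ?_, v₀.2, ?_⟩
  · intro h
    apply hv₀0
    exact Subtype.ext h
  · exact (congrArg Subtype.val hc).symm

end lin

section exc
variable {F : Type*} [Field F] [Fintype F] {W : Type*} [AddCommGroup W] [Module F W]
  [FiniteDimensional F W]

/-- an endomorphism is a scalar on an invariant line -/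
theorem exists_scalar_of_finrank_one (B : Module.End F W) (L : Submodule F W)
    (hL : ∀ v ∈ L, B v ∈ L) (h1 : Module.finrank F L = 1) :
    ∃ μ : F, ∀ w ∈ L, B w = μ • w := by
  obtain ⟨v₀, hv₀0, hv₀⟩ := finrank_eq_one_iff'.mp h1
  obtain ⟨c, hc⟩ := hv₀ ⟨B v₀.1, hL _ v₀.2⟩
  have hc' : B v₀.1 = c • v₀.1 := (congrArg Subtype.val hc).symm
  refine ⟨c, ?_⟩
  intro w hw
  obtain ⟨d, hd⟩ := hv₀ ⟨w, hw⟩
  have hd' : w = d • v₀.1 := (congrArg Subtype.val hd).symm
  rw [hd', map_smul, hc', smul_comm]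

/-- the exceptional configuration in dimension three -/
theorem false_of_dim_three (hF3 : (3 : F) ≠ 0)
    (S N : Module.End F W) (hW : Module.finrank F W = 3) (hS : S ^ 3 = 1) (hS1 : S ≠ 1)
    (hP : LinearMap.ker (S - 1) ≠ ⊥)
    (hN : IsNilpotent N) (hN0 : N ≠ 0) (hSN : Commute S N) (hdet : LinearMap.det S = 1) :
    False := by
  have hrF : ((3 : ℕ) : F) ≠ 0 := by exact_mod_cast hF3
  set P := LinearMap.ker (S - 1) with hPdef
  set R := LinearMap.range (S - 1) with hRdef
  have hmemP : ∀ v, v ∈ P ↔ S v = v := by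
    intro v
    rw [hPdef, LinearMap.mem_ker, LinearMap.sub_apply, Module.End.one_apply, sub_eq_zero]
  have hdisj : Disjoint P R := disjoint_ker_range 3 hrF S hS
  have hdim : Module.finrank F R + Module.finrank F P = Module.finrank F W :=
    LinearMap.finrank_range_add_finrank_ker (S - 1)
  have hsup : P ⊔ R = ⊤ := Submodule.eq_top_of_disjoint P R (by omega) hdisj
  have hcomm : Commute (S - 1) N := (hSN.sub_left (Commute.one_left N))
  have hSR : ∀ v ∈ R, S v ∈ R := by
    rintro v ⟨w, rfl⟩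
    refine ⟨S w, ?_⟩
    simp only [LinearMap.sub_apply, Module.End.one_apply, map_sub]
  have hNR : ∀ v ∈ R, N v ∈ R := by
    rintro v ⟨w, rfl⟩
    refine ⟨N w, ?_⟩
    rw [← Module.End.mul_apply, ← Module.End.mul_apply, hcomm.eq]
  have hNP : ∀ v ∈ P, N v ∈ P := by
    intro v hv
    rw [hPdef, LinearMap.mem_ker] at hv ⊢
    rw [← Module.End.mul_apply, hcomm.eq, Module.End.mul_apply, hv, map_zero]
  have hP0 : Module.finrank F P ≠ 0 := fun h => hP (Submodule.finrank_eq_zero.mp h)
  have hR0 : Module.finrank F R ≠ 0 := by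
    intro h
    have h1 : R = ⊥ := Submodule.finrank_eq_zero.mp h
    apply hS1
    have h2 : S - 1 = 0 := LinearMap.range_eq_bot.mp h1
    exact sub_eq_zero.mp h2
  have hSRpow : (S.restrict hSR) ^ 3 = 1 := by
    rw [Module.End.pow_restrict 3 hSR]
    apply LinearMap.ext
    intro v
    apply Subtype.ext
    rw [LinearMap.restrict_apply]
    simp only [hS, Module.End.one_apply]
  -- `S` is a scalar on `R`
  have hscal : ∃ ζ₁ : F, ∀ v ∈ R, S v = ζ₁ • v := by
    by_cases hR1 : Module.finrank F R = 1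
    · exact exists_scalar_of_finrank_one S R hSR hR1
    · have hR2 : Module.finrank F R = 2 := by omega
      have hP1 : Module.finrank F P = 1 := by omega
      have hNPz := nilpotent_zero_of_finrank_le_one N hN P hNP (by omega)
      have hNR0 : N.restrict hNR ≠ 0 := by
        intro h0
        apply hN0
        apply LinearMap.ext
        intro v
        have hv : v ∈ P ⊔ R := by rw [hsup]; trivial
        obtain ⟨a, ha, b, hb, rfl⟩ := Submodule.mem_sup.mp hv
        have hb0 : N b = 0 := by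
          have := congrArg (fun f : Module.End F R => (f ⟨b, hb⟩ : W)) h0
          exact this
        rw [map_add, hNPz a ha, hb0, add_zero, LinearMap.zero_apply]
      have hnil : IsNilpotent (N.restrict hNR) := by
        obtain ⟨k, hk⟩ := hN
        refine ⟨k, ?_⟩
        rw [Module.End.pow_restrict k hNR]
        apply LinearMap.ext
        intro v
        apply Subtype.ext
        rw [LinearMap.restrict_apply]
        simp only [hk, LinearMap.zero_apply, ZeroMemClass.coe_zero]
      have hc : Commute (S.restrict hSR) (N.restrict hNR) := by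
        apply LinearMap.ext
        intro v
        apply Subtype.ext
        change S (N v.1) = N (S v.1)
        rw [← Module.End.mul_apply, ← Module.End.mul_apply, hSN.eq]
      set K₂ := LinearMap.ker (N.restrict hNR) with hK₂
      have hK₂0 : K₂ ≠ ⊥ := by
        intro h
        obtain ⟨k, hk⟩ := hnil
        have hinj : Function.Injective (N.restrict hNR) := LinearMap.ker_eq_bot.mp h
        have hinjk : Function.Injective (⇑((N.restrict hNR) ^ k)) := by
          rw [Module.End.coe_pow]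
          exact hinj.iterate k
        apply hNR0
        apply LinearMap.ext
        intro v
        apply hinjk
        rw [hk, LinearMap.zero_apply, LinearMap.zero_apply]
      have hK₂top : K₂ ≠ ⊤ := by
        intro h
        exact hNR0 (LinearMap.ker_eq_top.mp h)
      have hK₂1 : Module.finrank F K₂ = 1 := by
        have h1 : Module.finrank F K₂ ≠ 0 := fun h => hK₂0 (Submodule.finrank_eq_zero.mp h)
        have h2 : Module.finrank F K₂ < Module.finrank F R :=
          Submodule.finrank_lt hK₂top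
        omega
      have hK₂inv : ∀ v ∈ K₂, (S.restrict hSR) v ∈ K₂ := by
        intro v hv
        rw [hK₂, LinearMap.mem_ker] at hv ⊢
        rw [← Module.End.mul_apply, ← hc.eq, Module.End.mul_apply, hv, map_zero]
      obtain ⟨ζ₁, hζ₁⟩ := exists_scalar_of_finrank_one (S.restrict hSR) K₂ hK₂inv hK₂1
      obtain ⟨w₀, hw₀K, hw₀0⟩ := Submodule.exists_mem_ne_zero_of_ne_bot hK₂0
      have hpowζ : ∀ i : ℕ, ((S.restrict hSR) ^ i) w₀ = ζ₁ ^ i • w₀ := by
        intro i
        induction i with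
        | zero => simp
        | succ i ih =>
          rw [pow_succ', Module.End.mul_apply, ih, map_smul, hζ₁ w₀ hw₀K, smul_smul, pow_succ]
      have hζ₁3 : ζ₁ ^ 3 = 1 := by
        have h1 := hpowζ 3
        rw [hSRpow, Module.End.one_apply] at h1
        have h2 : (ζ₁ ^ 3 - 1) • w₀ = 0 := by rw [sub_smul, one_smul, ← h1, sub_self]
        rcases smul_eq_zero.mp h2 with h | h
        · exact sub_eq_zero.mp h
        · exact absurd h hw₀0
      have hζ₁0 : ζ₁ ≠ 0 := by
        intro h0
        rw [h0] at hζ₁3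
        norm_num at hζ₁3
      by_cases hS' : ζ₁⁻¹ • (S.restrict hSR) = 1
      · refine ⟨ζ₁, ?_⟩
        intro v hv
        have h1 := congrArg (fun f : Module.End F R => (f ⟨v, hv⟩ : W)) hS'
        simp only [LinearMap.smul_apply, Module.End.one_apply] at h1
        have h2 : ζ₁⁻¹ • S v = v := h1
        calc S v = ζ₁ • (ζ₁⁻¹ • S v) := by rw [smul_smul, mul_inv_cancel₀ hζ₁0, one_smul]
          _ = ζ₁ • v := by rw [h2]
      · exfalso
        have h3 : 3 ≤ Module.finrank F R := by
          apply three_le_finrank_of_commuting 3 hrF (ζ₁⁻¹ • (S.restrict hSR)) (N.restrict hNR)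
            ?_ hS' ?_ hnil hNR0 ?_
          · rw [smul_pow, hSRpow, inv_pow, hζ₁3, inv_one, one_smul]
          · intro hbot
            apply hw₀0
            have : w₀ ∈ LinearMap.ker (ζ₁⁻¹ • (S.restrict hSR) - 1) := by
              rw [LinearMap.mem_ker, LinearMap.sub_apply, LinearMap.smul_apply, hζ₁ w₀ hw₀K,
                smul_smul, inv_mul_cancel₀ hζ₁0, one_smul, Module.End.one_apply, sub_self]
            rw [hbot] at this
            exact (Submodule.mem_bot F).mp this
          · exact (hc.smul_left _)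
        omega
  obtain ⟨ζ₁, hζ₁⟩ := hscal
  -- `ζ₁ ^ 3 = 1`
  have hRbot : R ≠ ⊥ := fun h => hR0 (Submodule.finrank_eq_zero.mpr h)
  obtain ⟨v₁, hv₁R, hv₁0⟩ := Submodule.exists_mem_ne_zero_of_ne_bot hRbot
  have hpowζ : ∀ i : ℕ, (S ^ i) v₁ = ζ₁ ^ i • v₁ := by
    intro i
    induction i with
    | zero => simp
    | succ i ih =>
      rw [pow_succ', Module.End.mul_apply, ih, map_smul, hζ₁ v₁ hv₁R, smul_smul, pow_succ]
  have hζ₁3 : ζ₁ ^ 3 = 1 := by
    have h1 := hpowζ 3
    rw [hS, Module.End.one_apply] at h1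
    have h2 : (ζ₁ ^ 3 - 1) • v₁ = 0 := by rw [sub_smul, one_smul, ← h1, sub_self]
    rcases smul_eq_zero.mp h2 with h | h
    · exact sub_eq_zero.mp h
    · exact absurd h hv₁0
  -- determinant
  have hcomap : R ≤ R.comap S := fun v hv => hSR v hv
  have hdet2 := LinearMap.det_eq_det_mul_det R S hcomap
  have hres : S.restrict hcomap = ζ₁ • (LinearMap.id : R →ₗ[F] R) := by
    apply LinearMap.ext
    intro v
    apply Subtype.ext
    rw [LinearMap.restrict_apply]
    exact hζ₁ v.1 v.2
  have hquot : R.mapQ R S hcomap = LinearMap.id := by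
    apply Submodule.linearMap_qext
    apply LinearMap.ext
    intro v
    simp only [LinearMap.comp_apply, Submodule.mkQ_apply, Submodule.mapQ_apply, LinearMap.id_apply]
    rw [Submodule.Quotient.eq]
    exact ⟨v, by simp⟩
  rw [hdet, hres, hquot, LinearMap.det_smul, LinearMap.det_id, LinearMap.det_id, mul_one,
    mul_one] at hdet2
  have hζ₁1 : ζ₁ = 1 := by
    have hb : Module.finrank F R = 1 ∨ Module.finrank F R = 2 := by omega
    rcases hb with hb | hb
    · rw [hb, pow_one] at hdet2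
      exact hdet2.symm
    · rw [hb] at hdet2
      have : ζ₁ ^ 3 = ζ₁ ^ 2 * ζ₁ := pow_succ ζ₁ 2
      rw [hζ₁3, ← hdet2, one_mul] at this
      exact this.symm
  apply hR0
  have hRP : R ≤ P := by
    intro v hv
    rw [hmemP, hζ₁ v hv, hζ₁1, one_smul]
  have : R ≤ P ⊓ R := le_inf hRP le_rfl
  rw [hdisj.eq_bot, le_bot_iff] at this
  exact Submodule.finrank_eq_zero.mpr this

end exc

section lift
open scoped MatrixGroups
open Matrix
variable {F : Type*} [Field F] [Fintype F]

/-- data attached to an element of order `r * p` of `PSL_n(q)` -/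
theorem exists_lift_data (p : ℕ) [Fact p.Prime] [CharP F p] (r : ℕ) (hr : r.Prime) {n : ℕ}
    (hn : 1 ≤ n) (x : Matrix.ProjectiveSpecialLinearGroup (Fin n) F) (hx : orderOf x = r * p) :
    ∃ (MB N : Matrix (Fin n) (Fin n) F) (c : F), MB.det = 1 ∧ MB ^ r = c • 1 ∧ c ≠ 0 ∧
      (∀ c' : F, MB ≠ c' • 1) ∧ N ^ p = 0 ∧ N ≠ 0 ∧ MB * N = N * MB := by
  have hpp : p.Prime := Fact.out
  have : Nonempty (Fin n) := ⟨⟨0, hn⟩⟩
  obtain ⟨X, rfl⟩ := QuotientGroup.mk_surjective x
  set MX : Matrix (Fin n) (Fin n) F := (X : Matrix (Fin n) (Fin n) F) with hMX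
  have hdetX : MX.det = 1 := X.2
  obtain ⟨c, hc⟩ := (mk_pow_eq_one_iff X (r * p)).mp (by rw [← hx]; exact pow_orderOf_eq_one _)
  have hc0 : c ≠ 0 := by
    intro h0
    have h1 := congrArg Matrix.det hc
    rw [Matrix.det_pow, hdetX, one_pow, h0, zero_smul, Matrix.det_zero] at h1
    exact one_ne_zero h1
  have hMAns : ∀ c' : F, MX ^ r ≠ c' • 1 := by
    intro c' h
    have h1 := (mk_pow_eq_one_iff X r).mpr ⟨c', h⟩
    have h2 := orderOf_dvd_of_pow_eq_one h1
    rw [hx] at h2
    have h3 := Nat.le_of_dvd hr.pos h2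
    have := hpp.two_le
    nlinarith [hr.pos]
  have hMBns : ∀ c' : F, MX ^ p ≠ c' • 1 := by
    intro c' h
    have h1 := (mk_pow_eq_one_iff X p).mpr ⟨c', h⟩
    have h2 := orderOf_dvd_of_pow_eq_one h1
    rw [hx] at h2
    have h3 := Nat.le_of_dvd hpp.pos h2
    have := hr.two_le
    nlinarith [hpp.pos]
  obtain ⟨α₀, hα₀⟩ : ∃ α₀ : F, α₀ ^ p = c := by
    have hsurj : Function.Surjective (frobenius F p) :=
      Finite.injective_iff_surjective.mp (frobenius_inj F p)
    obtain ⟨y, hy⟩ := hsurj c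
    exact ⟨y, hy⟩
  refine ⟨MX ^ p, MX ^ r - α₀ • 1, c, ?_, ?_, hc0, hMBns, ?_, ?_, ?_⟩
  · rw [Matrix.det_pow, hdetX, one_pow]
  · rw [← pow_mul, mul_comm, hc]
  · have hcm : Commute (MX ^ r) (α₀ • (1 : Matrix (Fin n) (Fin n) F)) :=
      Commute.smul_right (Commute.one_right _) _
    rw [sub_pow_char_of_commute p hcm, ← pow_mul, hc, smul_pow, one_pow, hα₀, sub_self]
  · intro h0
    exact hMAns α₀ (sub_eq_zero.mp h0)
  · rw [Matrix.mul_sub, Matrix.sub_mul, Matrix.mul_smul, Matrix.smul_mul, Matrix.mul_one,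
      Matrix.one_mul, ← pow_add, ← pow_add, add_comm]

end lift

section norm
variable {F : Type*} [Field F] [Fintype F] {W : Type*} [AddCommGroup W] [Module F W]
  [FiniteDimensional F W]

/-- normalizing an endomorphism with scalar `r`-th power along an invariant line -/
theorem exists_normalize_on_line (r : ℕ) (hr0 : r ≠ 0) (B : Module.End F W) (c : F) (hc0 : c ≠ 0)
    (hB : B ^ r = c • 1) (L : Submodule F W) (hL : ∀ v ∈ L, B v ∈ L)
    (h1 : Module.finrank F L = 1) :
    ∃ μ : F, μ ≠ 0 ∧ μ ^ r = c ∧ (μ⁻¹ • B) ^ r = 1 ∧ LinearMap.ker (μ⁻¹ • B - 1) ≠ ⊥ := by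
  obtain ⟨μ, v, hv0, hvL, hBv⟩ := exists_eigen_of_invariant_line B L hL h1
  have hpow : ∀ i : ℕ, (B ^ i) v = μ ^ i • v := by
    intro i
    induction i with
    | zero => simp
    | succ i ih => rw [pow_succ', Module.End.mul_apply, ih, map_smul, hBv, smul_smul, pow_succ]
  have hμr : μ ^ r = c := by
    have h2 := hpow r
    rw [hB, LinearMap.smul_apply, Module.End.one_apply] at h2
    have h3 : (c - μ ^ r) • v = 0 := by rw [sub_smul, h2, sub_self]
    rcases smul_eq_zero.mp h3 with h | h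
    · exact (sub_eq_zero.mp h).symm
    · exact absurd h hv0
  have hμ0 : μ ≠ 0 := by
    intro h0
    rw [h0, zero_pow hr0] at hμr
    exact hc0 hμr.symm
  refine ⟨μ, hμ0, hμr, ?_, ?_⟩
  · rw [smul_pow, hB, smul_smul, ← hμr, inv_pow, inv_mul_cancel₀ (pow_ne_zero _ hμ0), one_smul]
  · intro hbot
    apply hv0
    have : v ∈ LinearMap.ker (μ⁻¹ • B - 1) := by
      rw [LinearMap.mem_ker, LinearMap.sub_apply, LinearMap.smul_apply, hBv, smul_smul,
        inv_mul_cancel₀ hμ0, one_smul, Module.End.one_apply, sub_self]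
    rw [hbot] at this
    exact (Submodule.mem_bot F).mp this

end norm

section nonex
open scoped MatrixGroups
open Matrix
variable {F : Type*} [Field F] [Fintype F]

theorem pow_three_eq_one_of_pow_nine (μ : F) (h9 : μ ^ 9 = 1) (hq : ¬ 9 ∣ Fintype.card F - 1) :
    μ ^ 3 = 1 := by
  have hμ0 : μ ≠ 0 := by
    intro h0
    rw [h0] at h9
    norm_num at h9
  have h1 : orderOf μ ∣ 9 := orderOf_dvd_of_pow_eq_one h9
  have h2 : orderOf μ ∣ Fintype.card F - 1 :=
    orderOf_dvd_of_pow_eq_one (FiniteField.pow_card_sub_one_eq_one μ hμ0)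
  have h3 : (9 : ℕ) = 3 ^ 2 := by norm_num
  rw [h3] at h1
  obtain ⟨j, hj, hoj⟩ := (Nat.dvd_prime_pow Nat.prime_three).mp h1
  have hj2 : j ≠ 2 := by
    intro h
    rw [h] at hoj
    rw [hoj] at h2
    exact hq (by norm_num at h2 ⊢; exact h2)
  have hj1 : j ≤ 1 := by omega
  apply orderOf_dvd_iff_pow_eq_one.mp
  rw [hoj]
  exact pow_dvd_pow 3 hj1 |>.trans (by norm_num)

/-- matrix-level core: the multiplicative order of `q` mod `r` is at most `n - 2` -/
theorem order_add_two_le (p : ℕ) [Fact p.Prime] [CharP F p] (r : ℕ) [Fact r.Prime]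
    (hrF : (r : F) ≠ 0) {n : ℕ} (hn : 2 ≤ n) (MB N : Matrix (Fin n) (Fin n) F) (c : F)
    (hB : MB ^ r = c • 1) (hc0 : c ≠ 0) (hBns : ∀ c' : F, MB ≠ c' • 1) (hNp : N ^ p = 0)
    (hN0 : N ≠ 0) (hBN : MB * N = N * MB) :
    orderOf ((Fintype.card F : ℕ) : ZMod r) + 2 ≤ n := by
  have hrp : r.Prime := Fact.out
  have hq1 : 1 ≤ Fintype.card F := Fintype.card_pos
  by_cases hrq : r ∣ Fintype.card F - 1
  · -- `k = 1`, need `3 ≤ n`
    have hk : orderOf ((Fintype.card F : ℕ) : ZMod r) = 1 := by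
      have h1 : r ∣ Fintype.card F ^ 1 - 1 := by rwa [pow_one]
      rw [dvd_pow_sub_one_iff hq1] at h1
      exact Nat.dvd_one.mp h1
    rw [hk]
    by_contra hlt
    have hn2 : n = 2 := by omega
    subst hn2
    set B : Module.End F (Fin 2 → F) := Matrix.toLinAlgEquiv' MB with hBdef
    set N' : Module.End F (Fin 2 → F) := Matrix.toLinAlgEquiv' N with hN'def
    have hB' : B ^ r = c • 1 := by rw [hBdef, ← map_pow, hB, map_smul, map_one]
    have hN'nil : IsNilpotent N' := ⟨p, by rw [hN'def, ← map_pow, hNp, map_zero]⟩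
    have hN'0 : N' ≠ 0 := by
      intro h
      apply hN0
      apply (Matrix.toLinAlgEquiv' (R := F) (n := Fin 2)).injective
      rw [← hN'def, h, map_zero]
    have hcomm : Commute B N' := by
      change _ * _ = _ * _
      rw [hBdef, hN'def, ← map_mul, ← map_mul, hBN]
    have hker0 : LinearMap.ker N' ≠ ⊥ := by
      intro h
      obtain ⟨k, hk⟩ := hN'nil
      have hinj : Function.Injective N' := LinearMap.ker_eq_bot.mp h
      have hinjk : Function.Injective (⇑(N' ^ k)) := by
        rw [Module.End.coe_pow]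
        exact hinj.iterate k
      apply hN'0
      apply LinearMap.ext
      intro v
      apply hinjk
      rw [hk, LinearMap.zero_apply, LinearMap.zero_apply]
    have hkertop : LinearMap.ker N' ≠ ⊤ := fun h => hN'0 (LinearMap.ker_eq_top.mp h)
    have hker1 : Module.finrank F (LinearMap.ker N') = 1 := by
      have h1 : Module.finrank F (LinearMap.ker N') ≠ 0 :=
        fun h => hker0 (Submodule.finrank_eq_zero.mp h)
      have h2 : Module.finrank F (LinearMap.ker N') < Module.finrank F (Fin 2 → F) :=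
        Submodule.finrank_lt hkertop
      rw [Module.finrank_fin_fun] at h2
      omega
    have hkerinv : ∀ v ∈ LinearMap.ker N', B v ∈ LinearMap.ker N' := by
      intro v hv
      rw [LinearMap.mem_ker] at hv ⊢
      rw [← Module.End.mul_apply, ← hcomm.eq, Module.End.mul_apply, hv, map_zero]
    obtain ⟨μ, hμ0, hμr, hSr, hSker⟩ :=
      exists_normalize_on_line r hrp.ne_zero B c hc0 hB' _ hkerinv hker1
    have hS1 : μ⁻¹ • B ≠ 1 := by
      intro h1
      apply hBns μ
      have h2 : B = μ • 1 := by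
        have := congrArg (fun Y => μ • Y) h1
        simp only [smul_smul, mul_inv_cancel₀ hμ0, one_smul] at this
        exact this
      apply (Matrix.toLinAlgEquiv' (R := F) (n := Fin 2)).injective
      rw [← hBdef, h2, map_smul, map_one]
    have h3 := three_le_finrank_of_commuting r hrF (μ⁻¹ • B) N' hSr hS1 hSker hN'nil hN'0
      (hcomm.smul_left _)
    rw [Module.finrank_fin_fun] at h3
    omega
  · obtain ⟨β₀, hβ₀⟩ := exists_pow_eq_of_not_dvd r hrp hrq c hc0
    have hβ₀0 : β₀ ≠ 0 := by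
      intro h0
      rw [h0, zero_pow hrp.ne_zero] at hβ₀
      exact hc0 hβ₀.symm
    set S : Matrix (Fin n) (Fin n) F := β₀⁻¹ • MB with hS
    have hSr : S ^ r = 1 := by
      rw [hS, smul_pow, hB, smul_smul, ← hβ₀, inv_pow, inv_mul_cancel₀ (pow_ne_zero _ hβ₀0),
        one_smul]
    have hS1 : S ≠ 1 := by
      intro h1
      apply hBns β₀
      have h2 := congrArg (fun Y => β₀ • Y) h1
      simp only [hS, smul_smul, mul_inv_cancel₀ hβ₀0, one_smul] at h2
      exact h2
    have hSN : S * N = N * S := by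
      rw [hS, Matrix.smul_mul, Matrix.mul_smul, hBN]
    obtain ⟨j, hj2, hjn, hj⟩ :=
      exists_dim_of_commuting_matrix r hrq hrF S N hSr hS1 p hNp hN0 hSN
    have hdvd : r ∣ Fintype.card F ^ j - 1 :=
      (Nat.modEq_iff_dvd' (Nat.one_le_pow _ _ hq1)).mp hj.symm
    have hkj := (dvd_pow_sub_one_iff hq1 j).mp hdvd
    have := Nat.le_of_dvd (by omega) hkj
    omega

/-- matrix-level core for the exceptional case -/
theorem false_of_three (p : ℕ) [Fact p.Prime] [CharP F p] (hF3 : (3 : F) ≠ 0)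
    (h9 : ¬ 9 ∣ Fintype.card F - 1) (MB N : Matrix (Fin 3) (Fin 3) F) (c : F)
    (hdet : MB.det = 1) (hB : MB ^ 3 = c • 1) (hc0 : c ≠ 0) (hBns : ∀ c' : F, MB ≠ c' • 1)
    (hNp : N ^ p = 0) (hN0 : N ≠ 0) (hBN : MB * N = N * MB) : False := by
  have hrF : ((3 : ℕ) : F) ≠ 0 := by exact_mod_cast hF3
  set B : Module.End F (Fin 3 → F) := Matrix.toLinAlgEquiv' MB with hBdef
  set N' : Module.End F (Fin 3 → F) := Matrix.toLinAlgEquiv' N with hN'def
  have hB' : B ^ 3 = c • 1 := by rw [hBdef, ← map_pow, hB, map_smul, map_one]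
  have hN'nil : IsNilpotent N' := ⟨p, by rw [hN'def, ← map_pow, hNp, map_zero]⟩
  have hN'0 : N' ≠ 0 := by
    intro h
    apply hN0
    apply (Matrix.toLinAlgEquiv' (R := F) (n := Fin 3)).injective
    rw [← hN'def, h, map_zero]
  have hcomm : Commute B N' := by
    change _ * _ = _ * _
    rw [hBdef, hN'def, ← map_mul, ← map_mul, hBN]
  have hc3 : c ^ 3 = 1 := by
    have h1 := congrArg Matrix.det hB
    rw [Matrix.det_pow, hdet, one_pow, Matrix.det_smul, Matrix.det_one, mul_one,
      Fintype.card_fin] at h1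
    exact h1.symm
  have hker0 : LinearMap.ker N' ≠ ⊥ := by
    intro h
    obtain ⟨k, hk⟩ := hN'nil
    have hinj : Function.Injective N' := LinearMap.ker_eq_bot.mp h
    have hinjk : Function.Injective (⇑(N' ^ k)) := by
      rw [Module.End.coe_pow]
      exact hinj.iterate k
    apply hN'0
    apply LinearMap.ext
    intro v
    apply hinjk
    rw [hk, LinearMap.zero_apply, LinearMap.zero_apply]
  have hkertop : LinearMap.ker N' ≠ ⊤ := fun h => hN'0 (LinearMap.ker_eq_top.mp h)
  have hkerinv : ∀ v ∈ LinearMap.ker N', B v ∈ LinearMap.ker N' := by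
    intro v hv
    rw [LinearMap.mem_ker] at hv ⊢
    rw [← Module.End.mul_apply, ← hcomm.eq, Module.End.mul_apply, hv, map_zero]
  have hraninv : ∀ v ∈ LinearMap.range N', B v ∈ LinearMap.range N' := by
    rintro v ⟨w, rfl⟩
    refine ⟨B w, ?_⟩
    rw [← Module.End.mul_apply, ← Module.End.mul_apply, hcomm.eq]
  have hrn := LinearMap.finrank_range_add_finrank_ker N'
  rw [Module.finrank_fin_fun] at hrn
  -- an invariant line
  obtain ⟨L, hLinv, hL1⟩ : ∃ L : Submodule F (Fin 3 → F), (∀ v ∈ L, B v ∈ L) ∧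
      Module.finrank F L = 1 := by
    have h1 : Module.finrank F (LinearMap.ker N') ≠ 0 :=
      fun h => hker0 (Submodule.finrank_eq_zero.mp h)
    have h2 : Module.finrank F (LinearMap.ker N') < Module.finrank F (Fin 3 → F) :=
      Submodule.finrank_lt hkertop
    rw [Module.finrank_fin_fun] at h2
    by_cases h3 : Module.finrank F (LinearMap.ker N') = 1
    · exact ⟨_, hkerinv, h3⟩
    · exact ⟨_, hraninv, by omega⟩
  obtain ⟨μ, hμ0, hμr, hSr, hSker⟩ :=
    exists_normalize_on_line 3 (by norm_num) B c hc0 hB' L hLinv hL1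
  have hμ9 : μ ^ 9 = 1 := by
    have : μ ^ 9 = (μ ^ 3) ^ 3 := by rw [← pow_mul]
    rw [this, hμr, hc3]
  have hμ3 : μ ^ 3 = 1 := pow_three_eq_one_of_pow_nine μ hμ9 h9
  have hS1 : μ⁻¹ • B ≠ 1 := by
    intro h1
    apply hBns μ
    have h2 : B = μ • 1 := by
      have := congrArg (fun Y => μ • Y) h1
      simp only [smul_smul, mul_inv_cancel₀ hμ0, one_smul] at this
      exact this
    apply (Matrix.toLinAlgEquiv' (R := F) (n := Fin 3)).injective
    rw [← hBdef, h2, map_smul, map_one]
  have hdetS : LinearMap.det (μ⁻¹ • B) = 1 := by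
    rw [LinearMap.det_smul, Module.finrank_fin_fun, inv_pow, hμ3, inv_one, one_mul]
    have : LinearMap.det B = MB.det := by
      rw [hBdef]
      exact LinearMap.det_toLin' MB
    rw [this, hdet]
  exact false_of_dim_three hF3 (μ⁻¹ • B) N' (Module.finrank_fin_fun F) hSr hS1 hSker hN'nil hN'0
    (hcomm.smul_left _) hdetS

end nonex

end Cfsg.Agent.Lib.Helper40
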