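import Mathlib
import Cfsg.Agent.Lib.Helper40.NilpotentJordan

/-!
# The regular unipotent matrix and its powers (helper40)

`regUnip F e = 1 + shiftMat F e`; in characteristic `p` its `k`-th power is scalar iff
`p ^ Nat.clog p e ∣ k` (`regUnip_pow_eq_smul_iff`), and `det (regUnip F e) = 1`.
-/

set_option autoImplicit false

namespace Cfsg.Agent.Lib.Helper40

open Matrix

section
variable {F : Type*} [Field F]

/-- the nilpotent shift matrix -/
noncomputable def shiftMat (F : Type*) [Field F] (e : ℕ) : Matrix (Fin e) (Fin e) F :=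
  LinearMap.toMatrixAlgEquiv' (shiftLin F e)

theorem shiftMat_pow_eq_zero_iff (e j : ℕ) : shiftMat F e ^ j = 0 ↔ e ≤ j := by
  unfold shiftMat
  rw [← map_pow, map_eq_zero_iff _ (LinearMap.toMatrixAlgEquiv' (R := F) (n := Fin e)).injective,
    ← kd_eq_finrank_iff, kd_shiftLin, Module.finrank_fin_fun]
  exact min_eq_right_iff

/-- the regular unipotent matrix -/
noncomputable def regUnip (F : Type*) [Field F] (e : ℕ) : Matrix (Fin e) (Fin e) F :=
  1 + shiftMat F e

theorem regUnip_pow_char_pow (p : ℕ) [Fact p.Prime] [CharP F p] {e : ℕ} (he : 1 ≤ e) (j : ℕ) :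
    regUnip F e ^ p ^ j = 1 + shiftMat F e ^ p ^ j := by
  have : Nonempty (Fin e) := ⟨⟨0, by omega⟩⟩
  unfold regUnip
  rw [add_pow_char_pow_of_commute p j (Commute.one_left _), one_pow]

theorem regUnip_pow_char_pow_eq_one_iff (p : ℕ) [Fact p.Prime] [CharP F p] {e : ℕ} (he : 1 ≤ e) (j : ℕ) :
    regUnip F e ^ p ^ j = 1 ↔ e ≤ p ^ j := by
  rw [regUnip_pow_char_pow p he, ← shiftMat_pow_eq_zero_iff (F := F)]
  constructor
  · intro h
    have h1 : (1 : Matrix (Fin e) (Fin e) F) + shiftMat F e ^ p ^ j = 1 + 0 := by rw [h, add_zero]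
    exact add_left_cancel h1
  · intro h
    rw [h, add_zero]

theorem orderOf_regUnip (p : ℕ) [Fact p.Prime] [CharP F p] {e : ℕ} (he : 1 ≤ e) : orderOf (regUnip F e) = p ^ Nat.clog p e := by
  have hp : p.Prime := Fact.out
  have h1 : regUnip F e ^ p ^ Nat.clog p e = 1 :=
    (regUnip_pow_char_pow_eq_one_iff p he _).mpr (Nat.le_pow_clog hp.one_lt e)
  obtain ⟨j1, hj1, hord⟩ := (Nat.dvd_prime_pow hp).mp (orderOf_dvd_of_pow_eq_one h1)
  have h2 : regUnip F e ^ p ^ j1 = 1 := by rw [← hord]; exact pow_orderOf_eq_one _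
  have h3 : e ≤ p ^ j1 := (regUnip_pow_char_pow_eq_one_iff p he _).mp h2
  have h4 : Nat.clog p e ≤ j1 := Nat.clog_le_of_le_pow h3
  rw [hord, le_antisymm hj1 h4]

theorem regUnip_det (p : ℕ) [Fact p.Prime] [CharP F p] {e : ℕ} (he : 1 ≤ e) : (regUnip F e).det = 1 := by
  have hp : p.Prime := Fact.out
  have h1 : (regUnip F e).det ^ p ^ Nat.clog p e = 1 := by
    rw [← Matrix.det_pow, ← orderOf_regUnip (F := F) p he, pow_orderOf_eq_one, Matrix.det_one]
  have h2 : ((regUnip F e).det - 1) ^ p ^ Nat.clog p e = 0 := by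
    rw [sub_pow_char_pow, h1, one_pow, sub_self]
  exact sub_eq_zero.mp (pow_eq_zero_iff (pow_ne_zero _ hp.ne_zero) |>.mp h2)

/-- the scalar powers of the regular unipotent matrix -/
theorem regUnip_pow_eq_smul_iff (p : ℕ) [Fact p.Prime] [CharP F p] {e : ℕ} (he : 1 ≤ e) (k : ℕ) :
    (∃ c : F, regUnip F e ^ k = c • (1 : Matrix (Fin e) (Fin e) F)) ↔ p ^ Nat.clog p e ∣ k := by
  have hp : p.Prime := Fact.out
  constructor
  · rintro ⟨c, hc⟩
    have h1 : (regUnip F e ^ k) ^ p ^ Nat.clog p e = 1 := by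
      rw [← pow_mul, mul_comm, pow_mul, ← orderOf_regUnip (F := F) p he, pow_orderOf_eq_one, one_pow]
    rw [hc, smul_pow, one_pow] at h1
    have h2 : c ^ p ^ Nat.clog p e = 1 := by
      have := congrFun (congrFun h1 ⟨0, by omega⟩) ⟨0, by omega⟩
      simpa using this
    have h3 : (c - 1) ^ p ^ Nat.clog p e = 0 := by
      rw [sub_pow_char_pow, h2, one_pow, sub_self]
    have h4 : c = 1 := sub_eq_zero.mp (pow_eq_zero_iff (pow_ne_zero _ hp.ne_zero) |>.mp h3)
    rw [h4, one_smul] at hc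
    rw [← orderOf_regUnip (F := F) p he]
    exact orderOf_dvd_of_pow_eq_one hc
  · rintro ⟨t, rfl⟩
    refine ⟨1, ?_⟩
    rw [pow_mul, ← orderOf_regUnip (F := F) p he, pow_orderOf_eq_one, one_pow, one_smul]

end

end Cfsg.Agent.Lib.Helper40
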