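import Mathlib
import Cfsg.Agent.Lib.Helper40.Singer
import Cfsg.Agent.Lib.Helper40.PSLOrders
import Cfsg.Agent.Lib.Helper40.PSLCharAdj
import Cfsg.Agent.Lib.Helper40.RegUnip
import Cfsg.Agent.Lib.Helper59.CommNotPrimary
import Cfsg.Agent.Lib.Helper35.SingerBound

/-!
# Element orders of `PSL_n(q)`: the dichotomy behind S2510 (helper40)

* `primary_pow_kill`: if `f(A)^k = 0` with `f` irreducible and `n ≤ p^j`, then `A^(p^j)` is killed
  by a monic irreducible polynomial.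
* `psl_dichotomy`: an element of `PSL_n(q)` either commutes with an element of order `r`
  (`r ∣ q - 1`, `r ∤ n`) or has order dividing `c * p^j`.
* `exists_psl_singer`, `exists_psl_regUnip`, `exists_psl_order`, `exists_psl_mixed`: elements.
-/

set_option autoImplicit false

namespace Cfsg.Agent.Lib.Helper40

open Matrix Polynomial

section nilp
variable {F : Type*} [Field F]

theorem matrix_pow_eq_zero_of_nilpotent {n : ℕ} (M : Matrix (Fin n) (Fin n) F) (k : ℕ)
    (hk : M ^ k = 0) (m : ℕ) (hm : n ≤ m) : M ^ m = 0 := by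
  have h1 : (Matrix.toLin' M) ^ k = 0 := by rw [← Matrix.toLin'_pow, hk, map_zero]
  have h2 := Module.End.ker_pow_le_ker_pow_finrank (Matrix.toLin' M) k
  rw [h1, LinearMap.ker_zero, top_le_iff, LinearMap.ker_eq_top, Module.finrank_fin_fun] at h2
  have h3 : M ^ n = 0 := by
    apply Matrix.toLin'.injective
    rw [Matrix.toLin'_pow, h2, map_zero]
  obtain ⟨t, rfl⟩ := Nat.exists_eq_add_of_le hm
  rw [pow_add, h3, zero_mul]

theorem primary_pow_kill [Finite F] (p : ℕ) [Fact p.Prime] [CharP F p] {n : ℕ}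
    (A : Matrix (Fin n) (Fin n) F) (f : F[X]) (hf : Irreducible f) (k : ℕ)
    (hk : aeval A (f ^ k) = 0) (j : ℕ) (hj : n ≤ p ^ j) :
    ∃ h : F[X], h.Monic ∧ Irreducible h ∧ aeval (A ^ p ^ j) h = 0 := by
  have hN : aeval A f ^ p ^ j = 0 := by
    apply matrix_pow_eq_zero_of_nilpotent _ k _ _ hj
    rw [← map_pow]
    exact hk
  obtain ⟨h0, hh0⟩ : ∃ h0 : F[X], h0 = f.map (iterateFrobenius F p j) := ⟨_, rfl⟩
  have hkill0 : aeval (A ^ p ^ j) h0 = 0 := by
    rw [← expand_aeval, hh0, ← map_expand, map_iterateFrobenius_expand, map_pow]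
    exact hN
  have hirr0 : Irreducible h0 := by
    have h1 : h0 = Polynomial.mapEquiv (iterateFrobeniusEquiv F p j) f := by
      rw [hh0]
      rfl
    rw [h1]
    exact (MulEquiv.irreducible_iff (Polynomial.mapEquiv (iterateFrobeniusEquiv F p j))).mpr hf
  refine ⟨h0 * C (h0.leadingCoeff)⁻¹, monic_mul_leadingCoeff_inv hirr0.ne_zero, ?_, ?_⟩
  · rw [irreducible_mul_isUnit]
    · exact hirr0
    · rw [Polynomial.isUnit_C, isUnit_iff_ne_zero]
      exact inv_ne_zero (leadingCoeff_ne_zero.mpr hirr0.ne_zero)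
  · rw [map_mul, hkill0, zero_mul]

end nilp

section psl
variable {F : Type*} [Field F] [Fintype F]

local notation "PSLn" n => Matrix.ProjectiveSpecialLinearGroup (Fin n) F

/-- the dichotomy -/
theorem psl_dichotomy (p : ℕ) [Fact p.Prime] [CharP F p] {n : ℕ} (r : ℕ) (hr : r.Prime)
    (hrn : ¬ r ∣ n) (l : F) (hl : orderOf l = r) (c : ℕ)
    (hc : (Fintype.card F ^ n - 1) / (Fintype.card F - 1) ∣ c * (Fintype.card F - 1))
    (j : ℕ) (hj : n ≤ p ^ j) (x : PSLn n) :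
    (∃ z : PSLn n, Commute x z ∧ orderOf z = r) ∨ orderOf x ∣ c * p ^ j := by
  obtain ⟨X, rfl⟩ := QuotientGroup.mk_surjective x
  by_cases hprim : ∃ (f : F[X]) (k : ℕ), Irreducible f ∧
      aeval (X : Matrix (Fin n) (Fin n) F) (f ^ k) = 0
  · right
    obtain ⟨f, k, hf, hk⟩ := hprim
    obtain ⟨h, hm, hirr, hkill⟩ := primary_pow_kill p (X : Matrix (Fin n) (Fin n) F) f hf k hk j hj
    have hdet : ((X : Matrix (Fin n) (Fin n) F) ^ p ^ j).det = 1 := by
      rw [Matrix.det_pow, X.2, one_pow]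
    obtain ⟨c', hc'⟩ := Cfsg.Agent.Lib.Helper35.SingerBound.exists_smul_of_irreducible_kill _ hdet h hm hirr hkill c hc
    apply orderOf_dvd_of_pow_eq_one
    rw [mk_pow_eq_one_iff]
    refine ⟨c', ?_⟩
    rw [mul_comm, pow_mul]
    exact hc'
  · left
    obtain ⟨Z, hZdet, hZA, hZr, hZk⟩ :=
      Cfsg.Agent.Lib.Helper59.CommNotPrimary.exists_commuting_of_not_primary (X : Matrix (Fin n) (Fin n) F) hprim r hr hrn l hl
    obtain ⟨Z', hZ'⟩ : ∃ Z' : Matrix.SpecialLinearGroup (Fin n) F,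
        (Z' : Matrix (Fin n) (Fin n) F) = Z := ⟨⟨Z, hZdet⟩, rfl⟩
    refine ⟨QuotientGroup.mk Z', ?_, ?_⟩
    · have h1 : X * Z' = Z' * X := by
        apply Subtype.ext
        rw [Matrix.SpecialLinearGroup.coe_mul, Matrix.SpecialLinearGroup.coe_mul, hZ']
        exact hZA.symm
      change (QuotientGroup.mk X : PSLn n) * QuotientGroup.mk Z' =
        QuotientGroup.mk Z' * QuotientGroup.mk X
      rw [← QuotientGroup.mk_mul, ← QuotientGroup.mk_mul, h1]
    · apply orderOf_eq_of_pow_eq_one_iff_dvd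
      intro i
      rw [mk_pow_eq_one_iff, hZ']
      constructor
      · exact hZk i
      · rintro ⟨t, rfl⟩
        refine ⟨1, ?_⟩
        rw [pow_mul, hZr, one_pow, one_smul]

/-- the Singer element of `PSL_n(q)` -/
theorem exists_psl_singer (p : ℕ) [Fact p.Prime] [CharP F p] (n : ℕ) (hn : 1 ≤ n) :
    ∃ y : PSLn n, ∀ i : ℕ, y ^ i = 1 ↔
      (Fintype.card F ^ n - 1) / (Fintype.card F - 1) ∣ i * (Fintype.card F - 1) := by
  have hq2 : 2 ≤ Fintype.card F := Fintype.one_lt_card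
  have hdvd : Fintype.card F - 1 ∣ Fintype.card F ^ n - 1 := Nat.sub_one_dvd_pow_sub_one _ _
  have hot : Fintype.card F ^ n - 1 =
      (Fintype.card F ^ n - 1) / (Fintype.card F - 1) * 1 * (Fintype.card F - 1) := by
    rw [mul_one, Nat.div_mul_cancel hdvd]
  obtain ⟨X, hX⟩ := exists_SL_singer (F := F) p n hn _ 1 hot
  refine ⟨QuotientGroup.mk X, ?_⟩
  intro i
  rw [mk_pow_eq_one_iff]
  exact hX i

/-- the regular unipotent element of `PSL_n(q)` -/
theorem exists_psl_regUnip (p : ℕ) [Fact p.Prime] [CharP F p] (n : ℕ) (hn : 1 ≤ n) :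
    ∃ y : PSLn n, orderOf y = p ^ Nat.clog p n := by
  obtain ⟨J, hJ⟩ : ∃ J : Matrix.SpecialLinearGroup (Fin n) F,
      (J : Matrix (Fin n) (Fin n) F) = regUnip F n := ⟨⟨regUnip F n, regUnip_det p hn⟩, rfl⟩
  refine ⟨QuotientGroup.mk J, ?_⟩
  apply orderOf_eq_of_pow_eq_one_iff_dvd
  intro i
  rw [mk_pow_eq_one_iff, hJ]
  exact regUnip_pow_eq_smul_iff p hn i

/-- an element of order `r` of `PSL_n(q)` for a prime `r ∣ q - 1`, `r ∤ n` -/
theorem exists_psl_order (n : ℕ) (hn : 2 ≤ n) (r : ℕ) (hr : r.Prime) (hrn : ¬ r ∣ n) (l : F)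
    (hl : orderOf l = r) : ∃ y : PSLn n, orderOf y = r := by
  classical
  have hl0 : l ≠ 0 := by
    intro h
    rw [h, orderOf_zero] at hl
    · exact hr.ne_zero hl.symm
  have hlr : l ^ r = 1 := by rw [← hl]; exact pow_orderOf_eq_one l
  obtain ⟨i0, hi0⟩ : ∃ i0 : Fin n, i0 = ⟨0, by omega⟩ := ⟨_, rfl⟩
  obtain ⟨i1, hi1⟩ : ∃ i1 : Fin n, i1 = ⟨1, by omega⟩ := ⟨_, rfl⟩
  have h01 : i0 ≠ i1 := by
    rw [hi0, hi1]
    simp [Fin.ext_iff]
  obtain ⟨d, hd⟩ : ∃ d : Fin n → F, d = fun i => (if i = i0 then l else 1) *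
      (if i = i1 then l⁻¹ else 1) := ⟨_, rfl⟩
  have hd0 : d i0 = l := by rw [hd]; simp [h01]
  have hd1 : d i1 = l⁻¹ := by rw [hd]; simp [h01.symm]
  have hdo : ∀ i, i ≠ i0 → i ≠ i1 → d i = 1 := by
    intro i h0 h1
    rw [hd]
    simp [h0, h1]
  have hdet : (Matrix.diagonal d).det = 1 := by
    rw [Matrix.det_diagonal, hd, Finset.prod_mul_distrib, Finset.prod_ite_eq' Finset.univ i0,
      Finset.prod_ite_eq' Finset.univ i1]
    simp [hl0]
  obtain ⟨D, hD⟩ : ∃ D : Matrix.SpecialLinearGroup (Fin n) F,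
      (D : Matrix (Fin n) (Fin n) F) = Matrix.diagonal d := ⟨⟨_, hdet⟩, rfl⟩
  refine ⟨QuotientGroup.mk D, ?_⟩
  apply orderOf_eq_of_pow_eq_one_iff_dvd
  intro k
  rw [mk_pow_eq_one_iff, hD, Matrix.diagonal_pow]
  constructor
  · rintro ⟨c, hc⟩
    have e0 := congrFun (congrFun hc i0) i0
    have e1 := congrFun (congrFun hc i1) i1
    rw [Matrix.diagonal_apply_eq, Matrix.smul_apply, Matrix.one_apply_eq, smul_eq_mul, mul_one,
      Pi.pow_apply] at e0 e1
    rw [hd0] at e0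
    rw [hd1] at e1
    rw [← hl]
    apply orderOf_dvd_of_pow_eq_one
    by_cases h2 : n = 2
    · -- `l ^ (2 k) = 1`, `r` odd
      have h3 : l ^ (2 * k) = 1 := by
        rw [two_mul, pow_add]
        nth_rewrite 2 [e0]
        rw [← e1, ← mul_pow, mul_inv_cancel₀ hl0, one_pow]
      have h4 : r ∣ 2 * k := by rw [← hl]; exact orderOf_dvd_of_pow_eq_one h3
      have h5 : r ∣ k := by
        apply (Nat.Coprime.dvd_of_dvd_mul_left _ h4)
        rw [Nat.Prime.coprime_iff_not_dvd hr, ← h2]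
        exact hrn
      obtain ⟨t, rfl⟩ := h5
      rw [pow_mul, hlr, one_pow]
    · have hi2 : (⟨2, by omega⟩ : Fin n) ≠ i0 := by rw [hi0]; simp [Fin.ext_iff]
      have hi2' : (⟨2, by omega⟩ : Fin n) ≠ i1 := by rw [hi1]; simp [Fin.ext_iff]
      have e2 := congrFun (congrFun hc ⟨2, by omega⟩) ⟨2, by omega⟩
      rw [Matrix.diagonal_apply_eq, Matrix.smul_apply, Matrix.one_apply_eq, smul_eq_mul, mul_one,
        Pi.pow_apply, hdo _ hi2 hi2', one_pow] at e2
      rw [e0, ← e2]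
  · rintro ⟨t, rfl⟩
    refine ⟨1, ?_⟩
    rw [one_smul, ← Matrix.diagonal_one]
    congr 1
    funext i
    rw [Pi.pow_apply]
    by_cases h0 : i = i0
    · rw [h0, hd0, pow_mul, hlr, one_pow]
    · by_cases h1 : i = i1
      · rw [h1, hd1, inv_pow, pow_mul, hlr, one_pow, inv_one]
      · rw [hdo i h0 h1, one_pow]

/-- an element of `PSL_n(q)` whose order is divisible by `r` and by the order of the regular
unipotent element of size `n - 1` -/
theorem exists_psl_mixed (p : ℕ) [Fact p.Prime] [CharP F p] (n : ℕ) (hn : 2 ≤ n) (r : ℕ)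
    (hr : r.Prime) (hrn : ¬ r ∣ n) (l : F) (hl : orderOf l = r) :
    ∃ y : PSLn n, r ∣ orderOf y ∧ p ^ Nat.clog p (n - 1) ∣ orderOf y := by
  classical
  have hl0 : l ≠ 0 := by
    intro h
    rw [h, orderOf_zero] at hl
    · exact hr.ne_zero hl.symm
  have hlr : l ^ r = 1 := by rw [← hl]; exact pow_orderOf_eq_one l
  have hsum : (n - 1) + 1 = n := by omega
  have hn1 : 1 ≤ n - 1 := by omega
  obtain ⟨b, hb⟩ : ∃ b : ℕ, b = (r - 1) * (n - 1) := ⟨_, rfl⟩
  obtain ⟨Y, hY⟩ : ∃ Y : Matrix (Fin n) (Fin n) F,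
      Y = blockMat hsum (l • regUnip F (n - 1)) (l ^ b • (1 : Matrix (Fin 1) (Fin 1) F)) :=
    ⟨_, rfl⟩
  have hr1 : 1 + (r - 1) = r := by have := hr.pos; omega
  have hdet : Y.det = 1 := by
    rw [hY, blockMat_det, Matrix.det_smul, Matrix.det_smul, regUnip_det p hn1, Matrix.det_one,
      Fintype.card_fin, Fintype.card_fin, mul_one, mul_one, pow_one, hb, ← pow_add]
    have : n - 1 + (r - 1) * (n - 1) = r * (n - 1) := by
      nth_rewrite 1 [← one_mul (n - 1)]
      rw [← add_mul, hr1]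
    rw [this, pow_mul, hlr, one_pow]
  have hpow : ∀ k : ℕ, Y ^ k = blockMat hsum (l ^ k • regUnip F (n - 1) ^ k)
      ((l ^ b) ^ k • (1 : Matrix (Fin 1) (Fin 1) F)) := by
    intro k
    rw [hY, blockMat_pow, _root_.smul_pow, _root_.smul_pow, one_pow]
  obtain ⟨Y', hY'⟩ : ∃ Y' : Matrix.SpecialLinearGroup (Fin n) F,
      (Y' : Matrix (Fin n) (Fin n) F) = Y := ⟨⟨Y, hdet⟩, rfl⟩
  refine ⟨QuotientGroup.mk Y', ?_⟩
  have key : ∀ k : ℕ, (QuotientGroup.mk Y' : PSLn n) ^ k = 1 →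
      r ∣ k ∧ p ^ Nat.clog p (n - 1) ∣ k := by
    intro k hk
    rw [mk_pow_eq_one_iff, hY', hpow] at hk
    obtain ⟨c, hc⟩ := hk
    rw [← blockMat_smul_one hsum c] at hc
    obtain ⟨h1, h2⟩ := blockMat_inj hsum _ _ _ _ hc
    have h3 : (l ^ b) ^ k = c := by
      have := congrFun (congrFun h2 0) 0
      simpa using this
    have h4 : regUnip F (n - 1) ^ k = ((l ^ k)⁻¹ * c) • (1 : Matrix (Fin (n - 1)) (Fin (n - 1)) F) := by
      rw [mul_smul, ← h1, smul_smul, inv_mul_cancel₀ (pow_ne_zero k hl0), one_smul]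
    have h5 : p ^ Nat.clog p (n - 1) ∣ k := (regUnip_pow_eq_smul_iff p hn1 k).mp ⟨_, h4⟩
    refine ⟨?_, h5⟩
    have h6 : regUnip F (n - 1) ^ k = 1 := by
      obtain ⟨t, rfl⟩ := h5
      rw [pow_mul, ← orderOf_regUnip (F := F) p hn1, pow_orderOf_eq_one, one_pow]
    rw [h6] at h1
    have h7 : l ^ k = c := by
      have := congrFun (congrFun h1 ⟨0, by omega⟩) ⟨0, by omega⟩
      simpa using this
    have h8 : l ^ (n * k) = 1 := by
      have e1 : n * k = k + (n - 1) * k := by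
        nth_rewrite 1 [← hsum]
        rw [add_mul, one_mul, add_comm]
      have e2 : b * k + (n - 1) * k = r * ((n - 1) * k) := by
        rw [hb, ← add_mul]
        have : (r - 1) * (n - 1) + (n - 1) = r * (n - 1) := by
          nth_rewrite 2 [← one_mul (n - 1)]
          rw [← add_mul, add_comm, hr1]
        rw [this, mul_assoc]
      rw [e1, pow_add, h7, ← h3, ← pow_mul, ← pow_add, e2, pow_mul, hlr, one_pow]
    have h9 : r ∣ n * k := by rw [← hl]; exact orderOf_dvd_of_pow_eq_one h8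
    exact (Nat.Coprime.dvd_of_dvd_mul_left ((Nat.Prime.coprime_iff_not_dvd hr).mpr hrn) h9)
  exact key _ (pow_orderOf_eq_one _)

end psl

end Cfsg.Agent.Lib.Helper40
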