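import Mathlib

/-!
# Eigenvalues of unitary matrices over finite fields (helper40, for S2511)

* `roots_reverse_of_splits`: the roots of the reverse polynomial are the inverses of the roots.
* `charpoly_map_frob_of_unitary`, `roots_map_twist_of_unitary`: the eigenvalue multiset of a unitary
  matrix is stable under `y ↦ (y ^ q)⁻¹`.
* `pow_sub_smul_pow_eq_zero_of_roots`: if all eigenvalues `y` satisfy `y ^ c = w` then `A ^ c - w` is
  nilpotent.
-/

set_option autoImplicit false
set_option linter.unusedSectionVars false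

namespace Cfsg.Agent.Lib.Helper40

open Polynomial Matrix

section reverse
variable {K : Type*} [Field K]

theorem reverse_X_sub_C' (a : K) : (X - C a : K[X]).reverse = 1 - C a * X := by
  ext n
  rw [coeff_reverse, natDegree_X_sub_C]
  rcases n with _ | _ | n
  · simp [revAt_le]
  · simp [revAt_le, coeff_X, coeff_C, coeff_one]
  · have h1 : revAt 1 (n + 2) = n + 2 := revAt_eq_self_of_lt (by omega)
    rw [h1]
    simp [coeff_X, coeff_C, coeff_one]

theorem reverse_multiset_prod_X_sub_C (s : Multiset K) :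
    ((s.map fun a => X - C a).prod).reverse = (s.map fun a => 1 - C a * X).prod := by
  induction s using Multiset.induction_on with
  | empty =>
    have h1 : (1 : K[X]) = C 1 := by rw [C_1]
    rw [Multiset.map_zero, Multiset.prod_zero, Multiset.map_zero, Multiset.prod_zero]
    conv_lhs => rw [h1]
    rw [reverse_C, C_1]
  | cons a s ih =>
    rw [Multiset.map_cons, Multiset.prod_cons, reverse_mul_of_domain, ih, reverse_X_sub_C',
      Multiset.map_cons, Multiset.prod_cons]

theorem roots_one_sub_C_mul_X (a : K) (ha : a ≠ 0) : (1 - C a * X : K[X]).roots = {a⁻¹} := by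
  have h1 : (1 - C a * X : K[X]) = C (-a) * (X - C a⁻¹) := by
    rw [mul_sub, ← C_mul, neg_mul, mul_inv_cancel₀ ha, C_neg, C_neg, C_1]
    ring
  rw [h1, roots_C_mul _ (neg_ne_zero.mpr ha), roots_X_sub_C]

theorem roots_reverse_of_splits (f : K[X]) (hf : f.Splits) (h0 : ∀ y ∈ f.roots, y ≠ 0) :
    f.reverse.roots = f.roots.map (fun y => y⁻¹) := by
  by_cases hf0 : f = 0
  · subst hf0
    simp
  have hlc : f.leadingCoeff ≠ 0 := leadingCoeff_ne_zero.mpr hf0
  have h1 := hf.eq_prod_roots
  have h2 : f.reverse = C f.leadingCoeff * (f.roots.map fun a => 1 - C a * X).prod := by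
    conv_lhs => rw [h1]
    rw [reverse_mul_of_domain, reverse_C, reverse_multiset_prod_X_sub_C]
  rw [h2, roots_C_mul _ hlc, roots_multiset_prod]
  · rw [Multiset.bind_map]
    have h3 : ∀ a ∈ f.roots, (1 - C a * X : K[X]).roots = {a⁻¹} :=
      fun a ha => roots_one_sub_C_mul_X a (h0 a ha)
    rw [Multiset.bind_congr h3]
    exact Multiset.bind_singleton _ _
  · intro hmem
    rw [Multiset.mem_map] at hmem
    obtain ⟨a, ha, ha0⟩ := hmem
    have h3 := roots_one_sub_C_mul_X a (h0 a ha)
    rw [ha0, roots_zero] at h3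
    exact Multiset.singleton_ne_zero _ h3.symm

end reverse

section unitary
variable {K : Type*} [Field K]

/-- charpoly of a unitary matrix: Frobenius twist equals the reverse up to a constant -/
theorem charpoly_map_frob_of_unitary (p : ℕ) [Fact p.Prime] [CharP K p] (k : ℕ) {n : ℕ}
    (B : Matrix (Fin n) (Fin n) K) (hB : Bᵀ * B.map (· ^ (p ^ k)) = 1) :
    B.det ≠ 0 ∧ B.charpoly.map (iterateFrobenius K p k) =
      (-1) ^ Fintype.card (Fin n) * C (Ring.inverse B.det) * B.charpoly.reverse := by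
  set σ := iterateFrobenius K p k with hσ
  have hσfun : (fun x : K => x ^ (p ^ k)) = ⇑σ := by
    funext x
    rw [hσ, iterateFrobenius_def]
  have h1 : (B.map σ)ᵀ * B = 1 := by
    have := congrArg Matrix.transpose hB
    rw [Matrix.transpose_mul, Matrix.transpose_transpose, Matrix.transpose_one, hσfun] at this
    exact this
  have hinv : B⁻¹ = (B.map σ)ᵀ := Matrix.inv_eq_left_inv h1
  have hunit : IsUnit B := by
    rw [Matrix.isUnit_iff_isUnit_det]
    have h2 := congrArg Matrix.det h1
    rw [Matrix.det_mul, Matrix.det_one] at h2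
    exact IsUnit.of_mul_eq_one _ (by rw [mul_comm]; exact h2)
  have hdet0 : B.det ≠ 0 := ((Matrix.isUnit_iff_isUnit_det B).mp hunit).ne_zero
  refine ⟨hdet0, ?_⟩
  rw [← Matrix.charpoly_map, ← Matrix.charpoly_transpose, ← hinv, Matrix.charpoly_inv B hunit,
    Matrix.reverse_charpoly]

/-- the eigenvalues of a unitary matrix are nonzero -/
theorem ne_zero_of_mem_roots_charpoly {n : ℕ} (B : Matrix (Fin n) (Fin n) K) (hdet : B.det ≠ 0)
    (y : K) (hy : y ∈ B.charpoly.roots) : y ≠ 0 := by
  rintro rfl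
  have h1 : B.charpoly.IsRoot 0 := (mem_roots'.mp hy).2
  rw [IsRoot, ← coeff_zero_eq_eval_zero] at h1
  have h4 := Matrix.det_eq_sign_charpoly_coeff B
  rw [h1, mul_zero] at h4
  exact hdet h4

/-- the eigenvalue multiset of a unitary matrix is stable under `y ↦ (y ^ q)⁻¹` -/
theorem roots_map_twist_of_unitary (p : ℕ) [Fact p.Prime] [CharP K p] (k : ℕ) {n : ℕ}
    (B : Matrix (Fin n) (Fin n) K) (hB : Bᵀ * B.map (· ^ (p ^ k)) = 1) (hs : B.charpoly.Splits) :
    B.charpoly.roots.map (fun y => (y ^ (p ^ k))⁻¹) = B.charpoly.roots := by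
  obtain ⟨hdet0, hid⟩ := charpoly_map_frob_of_unitary p k B hB
  set σ := iterateFrobenius K p k with hσ
  have h0 : ∀ y ∈ B.charpoly.roots, y ≠ 0 := ne_zero_of_mem_roots_charpoly B hdet0
  have h1 : (B.charpoly.map σ).roots = B.charpoly.roots.map σ := hs.roots_map σ
  have hc : ((-1 : K) ^ Fintype.card (Fin n) * Ring.inverse B.det) ≠ 0 := by
    apply mul_ne_zero (pow_ne_zero _ (neg_ne_zero.mpr one_ne_zero))
    rw [Ring.inverse_eq_inv']
    exact inv_ne_zero hdet0
  have h2 : (B.charpoly.map σ).roots = B.charpoly.roots.map (fun y => y⁻¹) := by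
    rw [hid]
    have e1 : ((-1 : K[X]) ^ Fintype.card (Fin n) * C (Ring.inverse B.det)) =
        C ((-1 : K) ^ Fintype.card (Fin n) * Ring.inverse B.det) := by
      rw [C_mul, C_pow, C_neg, C_1]
    rw [e1, roots_C_mul _ hc, roots_reverse_of_splits _ hs h0]
  have h3 : B.charpoly.roots.map σ = B.charpoly.roots.map (fun y => y⁻¹) := by rw [← h1, h2]
  have h4 := congrArg (Multiset.map (fun y : K => y⁻¹)) h3
  rw [Multiset.map_map, Multiset.map_map] at h4
  have e2 : ((fun y : K => y⁻¹) ∘ fun y => y⁻¹) = id := by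
    funext y
    simp
  have e3 : ((fun y : K => y⁻¹) ∘ ⇑σ) = fun y => (y ^ (p ^ k))⁻¹ := by
    funext y
    simp [hσ, iterateFrobenius_def]
  rw [e2, Multiset.map_id, e3] at h4
  exact h4

end unitary

section nilp
variable {K : Type*} [Field K]

/-- if all eigenvalues `y` satisfy `y ^ c = w` then `B ^ c - w` is nilpotent -/
theorem pow_sub_smul_pow_eq_zero_of_roots {n : ℕ} (B : Matrix (Fin n) (Fin n) K)
    (hs : B.charpoly.Splits) (c : ℕ) (w : K) (h : ∀ y ∈ B.charpoly.roots, y ^ c = w) :
    (B ^ c - w • (1 : Matrix (Fin n) (Fin n) K)) ^ n = 0 := by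
  have h1 := hs.eq_prod_roots_of_monic (Matrix.charpoly_monic B)
  have h2 : (B.charpoly.roots.map (X - C ·)).prod ∣
      (B.charpoly.roots.map (fun _ => (X ^ c - C w : K[X]))).prod := by
    apply Multiset.prod_dvd_prod_of_dvd
    intro y hy
    rw [dvd_iff_isRoot, IsRoot, eval_sub, eval_pow, eval_X, eval_C, h y hy, sub_self]
  rw [← h1, Multiset.map_const', Multiset.prod_replicate, ← hs.natDegree_eq_card_roots,
    Matrix.charpoly_natDegree_eq_dim, Fintype.card_fin] at h2
  obtain ⟨g, hg⟩ := h2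
  have h3 : aeval B ((X ^ c - C w : K[X]) ^ n) = 0 := by
    rw [hg, map_mul, Matrix.aeval_self_charpoly, zero_mul]
  rw [map_pow, map_sub, map_pow, aeval_X, aeval_C, Algebra.algebraMap_eq_smul_one] at h3
  exact h3

end nilp

end Cfsg.Agent.Lib.Helper40
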