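import Mathlib
import Cfsg.Agent.Lib.Helper40.PSURoots
import Cfsg.Agent.Lib.Helper40.Singer
import Cfsg.Agent.Lib.Helper29.TwistedOrbit
import Cfsg.Agent.Lib.Helper39.UnitaryOrbB

/-!
# The order bound for one-class elements of `SU_n(q)` (helper40, for S2511)
-/

set_option autoImplicit false
set_option linter.unusedSectionVars false

namespace Cfsg.Agent.Lib.Helper40

open Polynomial Matrix

section bound
variable {F : Type*} [Field F] [Fintype F]

theorem unitary_pow_smul_of_no_idem (p : ℕ) [Fact p.Prime] [CharP F p] (k : ℕ)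
    (hF : Fintype.card F = (p ^ k) ^ 2) {n : ℕ} (A : Matrix (Fin n) (Fin n) F)
    (hdet : A.det = 1) (hA : Aᵀ * A.map (· ^ (p ^ k)) = 1)
    (hno : ¬ ∃ π : Matrix (Fin n) (Fin n) F, π * π = π ∧ π ≠ 0 ∧ π ≠ 1 ∧ π * A = A * π ∧
      πᵀ = π.map (· ^ (p ^ k)))
    (N c j : ℕ) (hN : (N : ℤ) * ((p ^ k : ℕ) + 1) = ((p ^ k : ℕ) : ℤ) ^ n - (-1) ^ n)
    (hc : N ∣ c * (p ^ k + 1)) (hj : n ≤ p ^ j) :
    ∃ w : F, A ^ (c * p ^ j) = w • (1 : Matrix (Fin n) (Fin n) F) := by
  classical
  have hpp : p.Prime := Fact.out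
  rcases Nat.eq_zero_or_pos n with hn0 | hnpos
  · subst hn0
    exact ⟨1, Subsingleton.elim _ _⟩
  have : Nonempty (Fin n) := ⟨⟨0, hnpos⟩⟩
  set q := p ^ k with hq
  have hq1 : 1 ≤ q := Nat.one_le_pow _ _ hpp.pos
  -- the splitting field
  let K := A.charpoly.SplittingField
  have : Finite K := Module.finite_of_finite F
  have : CharP K p := charP_of_injective_algebraMap (algebraMap F K).injective p
  set AK : Matrix (Fin n) (Fin n) K := A.map (algebraMap F K) with hAK
  have hχ : AK.charpoly = A.charpoly.map (algebraMap F K) := Matrix.charpoly_map A _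
  have hs : AK.charpoly.Splits := by
    rw [hχ]
    exact SplittingField.splits A.charpoly
  -- unitary over `K`
  have hAKu : AKᵀ * AK.map (· ^ q) = 1 := by
    have h1 : AK.map (· ^ q) = (A.map (· ^ q)).map (algebraMap F K) := by
      ext a b
      simp [hAK, Matrix.map_apply]
    rw [h1, hAK, ← Matrix.transpose_map, ← Matrix.map_mul, hA]
    simp
  have hAKdet : AK.det = 1 := by
    rw [hAK, ← RingHom.mapMatrix_apply, ← RingHom.map_det, hdet, map_one]
  set M := AK.charpoly.roots with hM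
  have hcard : Multiset.card M = n := by
    rw [hM, ← hs.natDegree_eq_card_roots, Matrix.charpoly_natDegree_eq_dim, Fintype.card_fin]
  have h0 : ∀ y ∈ M, y ≠ 0 :=
    ne_zero_of_mem_roots_charpoly AK (by rw [hAKdet]; exact one_ne_zero)
  have hinj : Function.Injective (fun y : K => y ^ q) := by
    have := (iterateFrobenius K p k).injective
    intro a b hab
    apply this
    rw [iterateFrobenius_def, iterateFrobenius_def]
    exact hab
  have hψ : M.map (fun y => (y ^ q)⁻¹) = M := roots_map_twist_of_unitary p k AK hAKu hs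
  have hroot : ∀ y ∈ M, aeval y A.charpoly = 0 := by
    intro y hy
    have h1 := (mem_roots'.mp hy).2
    rw [hχ, IsRoot, eval_map_algebraMap] at h1
    exact h1
  have horb : ∀ y ∈ M, ∀ y' ∈ M, ∃ j : ℕ, y' = (fun z : K => (z ^ q)⁻¹)^[j] y := by
    intro y hy y' hy'
    exact Cfsg.Agent.Lib.Helper39.UnitaryOrb.unitary_single_orbit_of_no_idem p k hF A hA hno y y' (hroot y hy) (hroot y' hy')
  have hprod : M.prod = 1 := by
    rw [hM, ← Matrix.det_eq_prod_roots_charpoly_of_splits hs, hAKdet]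
  have hN' : (N : ℤ) * ((q : ℤ) + 1) = (q : ℤ) ^ (Multiset.card M) - (-1) ^ (Multiset.card M) := by
    rw [hcard]
    exact hN
  have hyN := Cfsg.Agent.Lib.Helper29.pow_eq_one_of_twisted_orbit q M h0 hinj hψ horb hprod N hN'
  -- a fixed eigenvalue
  obtain ⟨y0, hy0⟩ : ∃ y0, y0 ∈ M := by
    apply Multiset.card_pos_iff_exists_mem.mp
    rw [hcard]
    exact hnpos
  set w' : K := y0 ^ c with hw'
  have hpowc : ∀ y ∈ M, (y ^ c) ^ (q + 1) = 1 := by
    intro y hy
    obtain ⟨t, ht⟩ := hc
    rw [← pow_mul, ht, pow_mul, hyN y hy, one_pow]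
  have hψfix : ∀ w : K, w ^ (q + 1) = 1 → (w ^ q)⁻¹ = w := by
    intro w hw
    rw [pow_succ] at hw
    exact (eq_inv_of_mul_eq_one_right hw).symm
  have hiter : ∀ (t : ℕ) (y : K), ((fun z : K => (z ^ q)⁻¹)^[t] y) ^ c =
      (fun z : K => (z ^ q)⁻¹)^[t] (y ^ c) := by
    intro t
    induction t with
    | zero => intro y; rfl
    | succ t ih =>
      intro y
      rw [Function.iterate_succ_apply, Function.iterate_succ_apply, ih]
      congr 1
      rw [inv_pow, ← pow_mul, ← pow_mul, mul_comm]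
  have hfixiter : ∀ (t : ℕ) (w : K), w ^ (q + 1) = 1 → (fun z : K => (z ^ q)⁻¹)^[t] w = w := by
    intro t w hw
    induction t with
    | zero => rfl
    | succ t ih => rw [Function.iterate_succ_apply', ih, hψfix w hw]
  have hall : ∀ y ∈ M, y ^ c = w' := by
    intro y hy
    obtain ⟨t, ht⟩ := horb y0 hy0 y hy
    rw [ht, hiter, hfixiter t _ (hpowc y0 hy0)]
  -- `w'` lies in `F`
  have hw'F : w' ^ (Fintype.card F - 1) = 1 := by
    have h6 : Fintype.card F - 1 = (q + 1) * (q - 1) := by
      rw [hF]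
      have : 1 ≤ q ^ 2 := Nat.one_le_pow _ _ hq1
      zify [this, hq1]
      ring
    rw [h6, pow_mul, hpowc y0 hy0, one_pow]
  obtain ⟨w, hw⟩ := exists_algebraMap_eq_of_pow_card_sub_one (F := F) w' hw'F
  -- nilpotency
  have hnil := pow_sub_smul_pow_eq_zero_of_roots AK hs c w' hall
  have hnilF : (A ^ c - w • (1 : Matrix (Fin n) (Fin n) F)) ^ n = 0 := by
    have hinjM : Function.Injective ((algebraMap F K).mapMatrix :
        Matrix (Fin n) (Fin n) F → Matrix (Fin n) (Fin n) K) := by
      intro X Y hXY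
      ext a b
      have := congrFun (congrFun hXY a) b
      simp only [RingHom.mapMatrix_apply, Matrix.map_apply] at this
      exact (algebraMap F K).injective this
    apply hinjM
    rw [map_pow, map_sub, map_pow, map_zero]
    have e1 : (algebraMap F K).mapMatrix A = AK := rfl
    have e2 : (algebraMap F K).mapMatrix (w • (1 : Matrix (Fin n) (Fin n) F)) =
        w' • (1 : Matrix (Fin n) (Fin n) K) := by
      rw [← hw]
      ext a b
      simp [Matrix.one_apply]
      split_ifs <;> simp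
    rw [e1, e2]
    exact hnil
  have hnilP : (A ^ c - w • (1 : Matrix (Fin n) (Fin n) F)) ^ (p ^ j) = 0 := by
    obtain ⟨d, hd⟩ := Nat.exists_eq_add_of_le hj
    rw [hd, pow_add, hnilF, zero_mul]
  have hcomm : Commute (A ^ c) (w • (1 : Matrix (Fin n) (Fin n) F)) :=
    Commute.smul_right (Commute.one_right _) _
  rw [sub_pow_char_pow_of_commute p j hcomm, sub_eq_zero, ← pow_mul, _root_.smul_pow, one_pow]
    at hnilP
  exact ⟨w ^ p ^ j, hnilP⟩

end bound

end Cfsg.Agent.Lib.Helper40
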