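import Mathlib
import Cfsg.Prelude.Def_Classical
import Cfsg.Agent.Lib.Helper40.UnitaryBasic

/-!
# The centre of `SU_3(q)` (helper40)

* `mem_center_SU_of_scalar`, `exists_scalar_of_mem_center_SU3`: the centre of `SU_3(q)` is the
  group of scalar matrices in it.
* `mk_pow_eq_one_of_scalar`, `dvd_orderOf_mk_PSU3`: orders in `PSU_3(q)` from orders in `SU_3(q)`.
-/

set_option autoImplicit false
set_option linter.unusedSectionVars false
set_option linter.style.haveILetI false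

namespace Cfsg.Agent.Lib.Helper40

open Matrix

section center
variable {F : Type*} [Field F] [Fintype F]

theorem sq_sub_one_eq' (q : ℕ) (hq : 1 ≤ q) : q ^ 2 - 1 = (q + 1) * (q - 1) := by
  obtain ⟨t, rfl⟩ : ∃ t, q = t + 1 := ⟨q - 1, by omega⟩
  simp only [Nat.add_sub_cancel]
  have : (t + 1) ^ 2 = (t + 1 + 1) * t + 1 := by ring
  rw [this, Nat.add_sub_cancel]

/-- scalar matrices are central -/
theorem mem_center_SU_of_scalar {n : ℕ} (q : ℕ) (X : ↥(Cfsg.SU n F q)) (c : F)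
    (h : ((X : Matrix.SpecialLinearGroup (Fin n) F) : Matrix (Fin n) (Fin n) F) = c • 1) :
    X ∈ Subgroup.center ↥(Cfsg.SU n F q) := by
  rw [Subgroup.mem_center_iff]
  intro Y
  apply Subtype.ext
  apply Subtype.ext
  show ((Y : Matrix.SpecialLinearGroup (Fin n) F) : Matrix (Fin n) (Fin n) F) *
      ((X : Matrix.SpecialLinearGroup (Fin n) F) : Matrix (Fin n) (Fin n) F) =
    ((X : Matrix.SpecialLinearGroup (Fin n) F) : Matrix (Fin n) (Fin n) F) *
      ((Y : Matrix.SpecialLinearGroup (Fin n) F) : Matrix (Fin n) (Fin n) F)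
  rw [h, Matrix.mul_smul, Matrix.smul_mul, Matrix.mul_one, Matrix.one_mul]

/-- a diagonal matrix with distinct entries commutes only with diagonal matrices -/
theorem eq_zero_of_diag_comm (d : Fin 3 → F) (z : Matrix (Fin 3) (Fin 3) F)
    (h : Matrix.diagonal d * z = z * Matrix.diagonal d) (i j : Fin 3) (hij : d i ≠ d j) :
    z i j = 0 := by
  have h1 := congrFun (congrFun h i) j
  rw [Matrix.diagonal_mul, Matrix.mul_diagonal] at h1
  have h2 : (d i - d j) * z i j = 0 := by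
    rw [sub_mul, h1]
    ring
  rcases mul_eq_zero.mp h2 with h3 | h3
  · exact absurd (sub_eq_zero.mp h3) hij
  · exact h3

/-- the centre of `SU_3(q)` consists of scalar matrices -/
theorem exists_scalar_of_mem_center_SU3 (p : ℕ) [Fact p.Prime] [CharP F p] (k : ℕ) (hk : 1 ≤ k)
    (hF : Fintype.card F = (p ^ k) ^ 2) (Z : ↥(Cfsg.SU 3 F (p ^ k)))
    (hZ : Z ∈ Subgroup.center ↥(Cfsg.SU 3 F (p ^ k))) :
    ∃ c : F, ((Z : Matrix.SpecialLinearGroup (Fin 3) F) : Matrix (Fin 3) (Fin 3) F) = c • 1 := by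
  have hp : p.Prime := Fact.out
  have hq2 : 2 ≤ p ^ k := by
    calc 2 ≤ p := hp.two_le
      _ = p ^ 1 := (pow_one p).symm
      _ ≤ p ^ k := Nat.pow_le_pow_right hp.pos hk
  have hq0 : p ^ k ≠ 0 := by omega
  have hdvd : p ^ k + 1 ∣ Fintype.card F - 1 := by
    rw [hF, sq_sub_one_eq' _ (by omega)]
    exact dvd_mul_right _ _
  obtain ⟨a, ha0, ha⟩ := exists_orderOf_eq_of_dvd_card_sub_one (F := F) (p ^ k + 1) hdvd
  have ha1 : a ≠ 1 := by
    intro h
    have := (ha 1).mp (by rw [h, pow_one])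
    have := Nat.le_of_dvd (by norm_num) this
    omega
  have ha2 : a ≠ a⁻¹ := by
    intro h
    have h2 : a ^ 2 = 1 := by
      rw [pow_two]
      nth_rewrite 2 [h]
      exact mul_inv_cancel₀ ha0
    have := (ha 2).mp h2
    have := Nat.le_of_dvd (by norm_num) this
    omega
  have ha3 : a⁻¹ ≠ 1 := by
    intro h
    apply ha1
    rw [← inv_inv a, h, inv_one]
  have haq : a ^ (p ^ k + 1) = 1 := (ha (p ^ k + 1)).mpr dvd_rfl
  -- the diagonal element
  have hDdet : (Matrix.diagonal ![a, a⁻¹, 1] : Matrix (Fin 3) (Fin 3) F).det = 1 := by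
    rw [Matrix.det_diagonal, Fin.prod_univ_three]
    simp [ha0]
  let D : Matrix.SpecialLinearGroup (Fin 3) F := ⟨_, hDdet⟩
  have hD : D ∈ Cfsg.SU 3 F (p ^ k) := by
    apply mem_SU_of_transpose_mul_map p k
    show (Matrix.diagonal ![a, a⁻¹, 1] : Matrix (Fin 3) (Fin 3) F)ᵀ *
      (Matrix.diagonal ![a, a⁻¹, 1] : Matrix (Fin 3) (Fin 3) F).map (· ^ (p ^ k)) = 1
    rw [Matrix.diagonal_transpose, Matrix.diagonal_map (f := fun x : F => x ^ (p ^ k)) (zero_pow hq0), Matrix.diagonal_mul_diagonal,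
      ← Matrix.diagonal_one]
    congr 1
    funext i
    fin_cases i
    · show a * a ^ (p ^ k) = 1
      rw [← pow_succ', haq]
    · show a⁻¹ * a⁻¹ ^ (p ^ k) = 1
      rw [← pow_succ', inv_pow, haq, inv_one]
    · show (1 : F) * 1 ^ (p ^ k) = 1
      rw [one_pow, one_mul]
  -- the permutation element
  have hPdet : (!![0, 1, 0; 0, 0, 1; 1, 0, 0] : Matrix (Fin 3) (Fin 3) F).det = 1 := by
    rw [Matrix.det_fin_three]
    simp
  let P : Matrix.SpecialLinearGroup (Fin 3) F := ⟨_, hPdet⟩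
  have hP : P ∈ Cfsg.SU 3 F (p ^ k) := by
    apply mem_SU_of_transpose_mul_map p k
    show (!![0, 1, 0; 0, 0, 1; 1, 0, 0] : Matrix (Fin 3) (Fin 3) F)ᵀ *
      (!![0, 1, 0; 0, 0, 1; 1, 0, 0] : Matrix (Fin 3) (Fin 3) F).map (· ^ (p ^ k)) = 1
    ext i j
    fin_cases i <;> fin_cases j <;>
      simp [Matrix.mul_apply, Fin.sum_univ_three, hp.ne_zero]
  rw [Subgroup.mem_center_iff] at hZ
  set z : Matrix (Fin 3) (Fin 3) F :=
    ((Z : Matrix.SpecialLinearGroup (Fin 3) F) : Matrix (Fin 3) (Fin 3) F) with hz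
  have hcD : (Matrix.diagonal ![a, a⁻¹, 1] : Matrix (Fin 3) (Fin 3) F) * z =
      z * Matrix.diagonal ![a, a⁻¹, 1] := by
    have h1 := hZ ⟨D, hD⟩
    have h2 := congrArg (fun Y : ↥(Cfsg.SU 3 F (p ^ k)) =>
      ((Y : Matrix.SpecialLinearGroup (Fin 3) F) : Matrix (Fin 3) (Fin 3) F)) h1
    exact h2
  have hcP : (!![0, 1, 0; 0, 0, 1; 1, 0, 0] : Matrix (Fin 3) (Fin 3) F) * z =
      z * !![0, 1, 0; 0, 0, 1; 1, 0, 0] := by
    have h1 := hZ ⟨P, hP⟩
    have h2 := congrArg (fun Y : ↥(Cfsg.SU 3 F (p ^ k)) =>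
      ((Y : Matrix.SpecialLinearGroup (Fin 3) F) : Matrix (Fin 3) (Fin 3) F)) h1
    exact h2
  have e01 : z 0 1 = 0 := eq_zero_of_diag_comm _ z hcD 0 1 ha2
  have e10 : z 1 0 = 0 := eq_zero_of_diag_comm _ z hcD 1 0 ha2.symm
  have e02 : z 0 2 = 0 := eq_zero_of_diag_comm _ z hcD 0 2 ha1
  have e20 : z 2 0 = 0 := eq_zero_of_diag_comm _ z hcD 2 0 ha1.symm
  have e12 : z 1 2 = 0 := eq_zero_of_diag_comm _ z hcD 1 2 ha3
  have e21 : z 2 1 = 0 := eq_zero_of_diag_comm _ z hcD 2 1 ha3.symm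
  have d01 : z 1 1 = z 0 0 := by
    have := congrFun (congrFun hcP 0) 1
    simpa [Matrix.mul_apply, Fin.sum_univ_three] using this
  have d12 : z 2 2 = z 1 1 := by
    have := congrFun (congrFun hcP 1) 2
    simpa [Matrix.mul_apply, Fin.sum_univ_three] using this
  refine ⟨z 0 0, ?_⟩
  ext i j
  fin_cases i <;> fin_cases j <;> simp [e01, e10, e02, e20, e12, e21, d01, d12]

/-- powers that are scalar matrices are trivial in `PSU` -/
theorem mk_pow_eq_one_of_scalar {n : ℕ} (q : ℕ) (X : ↥(Cfsg.SU n F q)) (N : ℕ) (c : F)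
    (h : ((X : Matrix.SpecialLinearGroup (Fin n) F) : Matrix (Fin n) (Fin n) F) ^ N = c • 1) :
    (QuotientGroup.mk X : Cfsg.PSU n F q) ^ N = 1 := by
  rw [← QuotientGroup.mk_pow, QuotientGroup.eq_one_iff]
  apply mem_center_SU_of_scalar q (X ^ N) c
  rw [← h]
  rfl

/-- the centre of `SU_3(q)` has exponent `gcd(3, q + 1)` -/
theorem dvd_orderOf_mk_PSU3 (p : ℕ) [Fact p.Prime] [CharP F p] (k : ℕ) (hk : 1 ≤ k)
    (hF : Fintype.card F = (p ^ k) ^ 2) (X : ↥(Cfsg.SU 3 F (p ^ k))) (M : ℕ)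
    (h : M * Nat.gcd 3 (p ^ k + 1) ∣ orderOf X) :
    M ∣ orderOf (QuotientGroup.mk X : Cfsg.PSU 3 F (p ^ k)) := by
  set o := orderOf (QuotientGroup.mk X : Cfsg.PSU 3 F (p ^ k)) with ho
  have hdpos : 0 < Nat.gcd 3 (p ^ k + 1) := Nat.gcd_pos_of_pos_left _ (by norm_num)
  have hq0 : p ^ k ≠ 0 := (pow_pos (Fact.out : p.Prime).pos k).ne'
  have h1 : (QuotientGroup.mk X : Cfsg.PSU 3 F (p ^ k)) ^ o = 1 := pow_orderOf_eq_one _
  rw [← QuotientGroup.mk_pow, QuotientGroup.eq_one_iff] at h1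
  obtain ⟨c, hc⟩ := exists_scalar_of_mem_center_SU3 p k hk hF (X ^ o) h1
  have hdet : c ^ 3 = 1 := by
    have h2 := congrArg Matrix.det hc
    rw [((X ^ o : ↥(Cfsg.SU 3 F (p ^ k))) : Matrix.SpecialLinearGroup (Fin 3) F).2,
      Matrix.det_smul, Matrix.det_one, mul_one, Fintype.card_fin] at h2
    exact h2.symm
  have hun : c ^ (p ^ k + 1) = 1 := by
    have h2 := transpose_mul_map_of_mem_SU (p ^ k) hq0 _ (X ^ o).2
    rw [hc] at h2
    have h3 := congrFun (congrFun h2 0) 0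
    simp [Matrix.mul_apply, Fin.sum_univ_three, Matrix.one_apply] at h3
    rw [pow_succ']
    exact h3
  have hcd : c ^ Nat.gcd 3 (p ^ k + 1) = 1 := by
    rw [pow_gcd_eq_one]
    exact ⟨hdet, hun⟩
  have h3 : X ^ (o * Nat.gcd 3 (p ^ k + 1)) = 1 := by
    apply Subtype.ext
    apply Subtype.ext
    rw [pow_mul]
    show (((X ^ o : ↥(Cfsg.SU 3 F (p ^ k))) : Matrix.SpecialLinearGroup (Fin 3) F) :
      Matrix (Fin 3) (Fin 3) F) ^ Nat.gcd 3 (p ^ k + 1) = 1
    rw [hc, _root_.smul_pow, one_pow, hcd, one_smul]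
  have h4 : orderOf X ∣ o * Nat.gcd 3 (p ^ k + 1) := orderOf_dvd_of_pow_eq_one h3
  exact Nat.dvd_of_mul_dvd_mul_right hdpos (h.trans h4)

end center

end Cfsg.Agent.Lib.Helper40
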