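import Mathlib
import Cfsg.Agent.Lib.Helper40.SpRoots
import Cfsg.Agent.Lib.Helper40.SU3Center
import Cfsg.Agent.Lib.Helper5.UnitaryCenter
import Cfsg.Agent.S0278

/-!
# Semisimple elements commuting with unipotent elements in unitary groups (helper40)

* `exists_finset_of_twisted_closed`: the orbit of a root under `x ↦ (x ^ q)⁻¹`.
* `unitary_order_add_two_le`: a unitary matrix of prime order `r` (`r ∤ q² - 1`) commuting with a
  nonzero nilpotent matrix has `ord_r(-q) + 2 ≤ m`.
* `exists_lift_data_PSU`: data attached to an element of order `r * p` of `PSU_m(q)`.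
-/

set_option autoImplicit false
set_option linter.unusedSectionVars false

namespace Cfsg.Agent.Lib.Helper40

open Matrix Polynomial Module

section orbit
variable {G : Type*} [CommGroup G] [DecidableEq G]

/-- the orbit of an element of a set closed under `x ↦ (x ^ q)⁻¹` -/
theorem exists_finset_of_twisted_closed (S : Set G) (q : ℕ) (hS : ∀ x ∈ S, (x ^ q)⁻¹ ∈ S) (ν : G)
    (hν : ν ∈ S) (o e : ℕ) (ho : orderOf ν = o) (he : 0 < e)
    (hqe : orderOf (-(q : ZMod o)) = e) :
    ∃ s : Finset G, (∀ x ∈ s, x ∈ S ∧ orderOf x = o) ∧ s.card = e := by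
  have hmem : ∀ i : ℕ, ν ^ ((-(q : ℤ)) ^ i) ∈ S := by
    intro i
    induction i with
    | zero => rw [pow_zero, zpow_one]; exact hν
    | succ i ih =>
      have := hS _ ih
      rw [← zpow_natCast, ← _root_.zpow_neg, ← _root_.zpow_mul, ← pow_succ] at this
      exact this
  have hunit : IsUnit (-(q : ZMod o)) := by
    apply IsUnit.of_pow_eq_one (n := e) _ he.ne'
    rw [← hqe]
    exact pow_orderOf_eq_one _
  have hcop : q.Coprime o := (ZMod.isUnit_iff_coprime q o).mp (by simpa using hunit)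
  have hord : ∀ i : ℕ, orderOf (ν ^ ((-(q : ℤ)) ^ i)) = o := by
    intro i
    have h1 : orderOf (ν ^ (q ^ i)) = o := by
      rw [Nat.Coprime.orderOf_pow, ho]
      rw [ho]
      exact (Nat.Coprime.pow_left i hcop).symm
    rcases Nat.even_or_odd i with hi | hi
    · rw [Even.neg_pow hi, ← Nat.cast_pow, zpow_natCast]
      exact h1
    · rw [Odd.neg_pow hi, _root_.zpow_neg, orderOf_inv, ← Nat.cast_pow, zpow_natCast]
      exact h1
  refine ⟨(Finset.range e).image (fun i => ν ^ ((-(q : ℤ)) ^ i)), ?_, ?_⟩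
  · intro x hx
    obtain ⟨i, -, rfl⟩ := Finset.mem_image.mp hx
    exact ⟨hmem i, hord i⟩
  · rw [Finset.card_image_of_injOn, Finset.card_range]
    intro i hi j hj hij
    simp only [Finset.coe_range, Set.mem_Iio] at hi hj
    simp only at hij
    rw [zpow_eq_zpow_iff_modEq, ho] at hij
    have h1 : (-(q : ZMod o)) ^ i = (-(q : ZMod o)) ^ j := by
      have := (ZMod.intCast_eq_intCast_iff _ _ _).mpr hij
      push_cast at this
      exact this
    rw [← hqe] at hi hj
    exact pow_injOn_Iio_orderOf hi hj h1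

end orbit

section main
variable {F : Type*} [Field F] [Fintype F]

/-- a unitary matrix of prime order `r ∤ q (q² - 1)` commuting with a nonzero nilpotent matrix:
the order `e` of `-q` modulo `r` satisfies `e + 2 ≤ m` -/
theorem unitary_order_add_two_le (p : ℕ) [Fact p.Prime] [CharP F p] (k : ℕ)
    (hF : Fintype.card F = (p ^ k) ^ 2) (r : ℕ) (hr : r.Prime) (hrp : r ≠ p) {m : ℕ} (hm : 4 ≤ m)
    (S N : Matrix (Fin m) (Fin m) F) (hSu : Sᵀ * S.map (· ^ (p ^ k)) = 1) (hSr : S ^ r = 1)
    (hS1 : S ≠ 1) (hNp : N ^ p = 0) (hN0 : N ≠ 0) (hSN : S * N = N * S) (e : ℕ)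
    (he : orderOf (-((p ^ k : ℕ) : ZMod r)) = e) : e + 2 ≤ m := by
  classical
  have hpp : p.Prime := Fact.out
  have : Fact r.Prime := ⟨hr⟩
  have : CharP (AlgebraicClosure F) p :=
    charP_of_injective_algebraMap (algebraMap F (AlgebraicClosure F)).injective p
  have hrK : (r : AlgebraicClosure F) ≠ 0 := by
    intro h0
    have h1 := (CharP.cast_eq_zero_iff (AlgebraicClosure F) p r).mp h0
    exact hrp ((Nat.prime_dvd_prime_iff_eq hpp hr).mp h1).symm
  have hrF : (r : F) ≠ 0 := by
    intro h0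
    have h1 := (CharP.cast_eq_zero_iff F p r).mp h0
    exact hrp ((Nat.prime_dvd_prime_iff_eq hpp hr).mp h1).symm
  have hrq : ¬ r ∣ p ^ k := fun h =>
    hrp ((Nat.prime_dvd_prime_iff_eq hr hpp).mp (hr.dvd_of_dvd_pow h))
  -- `e > 0`
  have hunit : IsUnit (-((p ^ k : ℕ) : ZMod r)) := by
    rw [IsUnit.neg_iff, ZMod.isUnit_iff_coprime]
    exact ((Nat.Prime.coprime_iff_not_dvd hr).mpr hrq).symm
  have he0 : 0 < e := by
    obtain ⟨u, hu⟩ := hunit
    rw [← he, ← hu, orderOf_units]
    exact orderOf_pos u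
  -- an eigenvalue of order `r`
  obtain ⟨ν, hνroot, hνr, hν1⟩ := exists_root_charpoly_of_pow (K := AlgebraicClosure F) S r 1 hrK
    (by rw [one_mul]; exact hSr) (by rw [pow_one]; exact hS1)
  rw [one_mul] at hνr
  rw [pow_one] at hν1
  have hν0 : ν ≠ 0 := by
    rintro rfl
    rw [zero_pow hr.ne_zero] at hνr
    exact zero_ne_one hνr
  have hord : orderOf (Units.mk0 ν hν0) = r := by
    apply orderOf_eq_prime
    · apply Units.ext
      rw [Units.val_pow_eq_pow_val, Units.val_mk0, hνr, Units.val_one]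
    · intro h
      apply hν1
      have := congrArg Units.val h
      rw [Units.val_mk0, Units.val_one] at this
      exact this
  obtain ⟨s, hs, hcard⟩ := exists_finset_of_twisted_closed
    {x : (AlgebraicClosure F)ˣ | aeval (x : AlgebraicClosure F) S.charpoly = 0} (p ^ k)
    (by
      intro x hx
      show aeval (((x ^ (p ^ k))⁻¹ : (AlgebraicClosure F)ˣ) : AlgebraicClosure F) S.charpoly = 0
      rw [Units.val_inv_eq_inv_val, Units.val_pow_eq_pow_val, ← inv_pow]
      exact aeval_inv_pow_charpoly_of_unitary p k hF S hSu (x : AlgebraicClosure F) hx)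
    (Units.mk0 ν hν0) (by
      show aeval ((Units.mk0 ν hν0 : (AlgebraicClosure F)ˣ) : AlgebraicClosure F) S.charpoly = 0
      rw [Units.val_mk0]
      exact hνroot) r e hord he0 he
  set Z : Finset (AlgebraicClosure F) := s.map ⟨Units.val, Units.val_injective⟩ with hZ
  have hZroot : ∀ z ∈ Z, aeval z S.charpoly = 0 := by
    intro z hz
    obtain ⟨x, hx, rfl⟩ := Finset.mem_map.mp hz
    exact (hs x hx).1
  have hZ1 : (1 : AlgebraicClosure F) ∉ Z := by
    intro h1
    obtain ⟨x, hx, hx1⟩ := Finset.mem_map.mp h1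
    have h2 : x = 1 := Units.ext hx1
    have h3 := (hs x hx).2
    rw [h2, orderOf_one] at h3
    exact hr.one_lt.ne h3
  have hZcard : Z.card = e := by rw [hZ, Finset.card_map, hcard]
  have hem := card_le_of_roots_charpoly S Z hZroot
  rw [Fintype.card_fin, hZcard] at hem
  by_contra hlt
  -- the simple spectrum argument
  have hinj : Function.Injective
      ((algebraMap F (AlgebraicClosure F)).mapMatrix (m := Fin m)) := by
    intro X Y hXY
    exact Matrix.map_injective (algebraMap F (AlgebraicClosure F)).injective hXY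
  have hsimple : ∀ Z' : Finset (AlgebraicClosure F), (∀ z ∈ Z', aeval z S.charpoly = 0) →
      m ≤ Z'.card → False := by
    intro Z' hZ' hcard'
    have hN : (algebraMap F (AlgebraicClosure F)).mapMatrix N = 0 := by
      apply eq_zero_of_commute_of_card_roots ((algebraMap F (AlgebraicClosure F)).mapMatrix S) _ Z'
      · intro z hz
        exact isRoot_charpoly_map S z (hZ' z hz)
      · rw [Fintype.card_fin]
        exact hcard'
      · rw [← map_mul, ← map_mul, hSN]
      · exact ⟨p, by rw [← map_pow, hNp, map_zero]⟩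
    apply hN0
    exact hinj (hN.trans (map_zero _).symm)
  by_cases h1 : aeval (1 : AlgebraicClosure F) S.charpoly = 0
  · apply hsimple (insert 1 Z)
    · intro z hz
      rcases Finset.mem_insert.mp hz with rfl | hz
      · exact h1
      · exact hZroot z hz
    · rw [Finset.card_insert_of_notMem hZ1, hZcard]
      omega
  · by_cases hem' : e = m
    · exact hsimple Z hZroot (by rw [hZcard, hem'])
    · have hem1 : e + 1 = m := by omega
      -- `S - 1` is invertible
      have hfpf : ∀ v : Fin m → F, Matrix.toLinAlgEquiv' S v = v → v = 0 := by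
        intro v hv
        by_contra hv0
        apply h1
        have hev : Module.End.HasEigenvalue
            (Matrix.toLinAlgEquiv' S : Module.End F (Fin m → F)) 1 := by
          apply Module.End.hasEigenvalue_of_hasEigenvector (x := v)
          refine ⟨Module.End.mem_eigenspace_iff.mpr ?_, hv0⟩
          rw [hv, one_smul]
        have h3 := (Module.End.hasEigenvalue_iff_isRoot_charpoly _ 1).mp hev
        have h4 : (Matrix.toLinAlgEquiv' S : Module.End F (Fin m → F)).charpoly = S.charpoly :=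
          Matrix.charpoly_toLin' S
        rw [h4, Polynomial.IsRoot] at h3
        rw [← map_one (algebraMap F (AlgebraicClosure F)), Polynomial.aeval_algebraMap_apply,
          Polynomial.coe_aeval_eq_eval, h3, map_zero]
      have h5 := Cfsg.Agent.S2364.pow_finrank_modEq_one r
        (Matrix.toLinAlgEquiv' S : Module.End F (Fin m → F))
        (by rw [← map_pow, hSr, map_one]) hfpf
      rw [Module.finrank_fin_fun, hF] at h5
      -- `(-q) ^ (2 m) = 1`
      have h6 : (-((p ^ k : ℕ) : ZMod r)) ^ (2 * m) = 1 := by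
        have h7 := (ZMod.natCast_eq_natCast_iff _ _ _).mpr h5
        push_cast at h7
        rw [pow_mul, neg_sq]
        push_cast
        exact h7
      have h8 : e ∣ 2 * m := by
        rw [← he]
        exact orderOf_dvd_of_pow_eq_one h6
      have h9 : e ∣ 2 * (e + 1) := by rw [hem1]; exact h8
      have h10 : e ∣ 2 := by
        have : 2 * (e + 1) = e * 2 + 2 := by ring
        rw [this] at h9
        exact (Nat.dvd_add_right (Dvd.intro _ rfl)).mp h9
      have := Nat.le_of_dvd (by norm_num) h10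
      omega

end main

section lift
variable {F : Type*} [Field F] [Fintype F]

/-- powers in `PSU` -/
theorem mk_pow_eq_one_iff_PSU {n : ℕ} {q : ℕ} (hF : Fintype.card F = q ^ 2)
    (X : ↥(Cfsg.SU (n + 1) F q)) (i : ℕ) :
    (QuotientGroup.mk X : Cfsg.PSU (n + 1) F q) ^ i = 1 ↔
      ∃ c : F, ((X : Matrix.SpecialLinearGroup (Fin (n + 1)) F) :
        Matrix (Fin (n + 1)) (Fin (n + 1)) F) ^ i = c • 1 := by
  constructor
  · intro h
    rw [← QuotientGroup.mk_pow, QuotientGroup.eq_one_iff] at h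
    exact ⟨_, Cfsg.Agent.Lib.Helper5.center_eq_smul_one hF (X ^ i) h⟩
  · rintro ⟨c, hc⟩
    exact mk_pow_eq_one_of_scalar q X i c hc

/-- data attached to an element of order `r * p` of `PSU_n(q)` -/
theorem exists_lift_data_PSU (p : ℕ) [Fact p.Prime] [CharP F p] (q : ℕ)
    (hF : Fintype.card F = q ^ 2) (r : ℕ) (hr : r.Prime) {n : ℕ}
    (x : Cfsg.PSU (n + 1) F q) (hx : orderOf x = r * p) :
    ∃ (MB N : Matrix (Fin (n + 1)) (Fin (n + 1)) F) (c : F),
      MBᵀ * MB.map (· ^ q) = 1 ∧ MB ^ r = c • 1 ∧ c ≠ 0 ∧ c * c ^ q = 1 ∧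
      (∀ c' : F, MB ≠ c' • 1) ∧ N ^ p = 0 ∧ N ≠ 0 ∧ MB * N = N * MB := by
  have hpp : p.Prime := Fact.out
  have hq0 : q ≠ 0 := by
    rintro rfl
    have : 1 < Fintype.card F := Fintype.one_lt_card
    rw [hF] at this
    norm_num at this
  obtain ⟨X, rfl⟩ := QuotientGroup.mk_surjective x
  set MX : Matrix (Fin (n + 1)) (Fin (n + 1)) F :=
    ((X : Matrix.SpecialLinearGroup (Fin (n + 1)) F) : Matrix (Fin (n + 1)) (Fin (n + 1)) F) with hMX
  have hdetX : MX.det = 1 := X.1.2
  obtain ⟨c, hc⟩ := (mk_pow_eq_one_iff_PSU hF X (r * p)).mp (by rw [← hx]; exact pow_orderOf_eq_one _)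
  have hc0 : c ≠ 0 := by
    intro h0
    have h1 := congrArg Matrix.det hc
    rw [Matrix.det_pow, hdetX, one_pow, h0, zero_smul, Matrix.det_zero] at h1
    exact one_ne_zero h1
  have hMAns : ∀ c' : F, MX ^ r ≠ c' • 1 := by
    intro c' h
    have h1 := (mk_pow_eq_one_iff_PSU hF X r).mpr ⟨c', h⟩
    have h2 := orderOf_dvd_of_pow_eq_one h1
    rw [hx] at h2
    have h3 := Nat.le_of_dvd hr.pos h2
    have := hpp.two_le
    nlinarith [hr.pos]
  have hMBns : ∀ c' : F, MX ^ p ≠ c' • 1 := by
    intro c' h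
    have h1 := (mk_pow_eq_one_iff_PSU hF X p).mpr ⟨c', h⟩
    have h2 := orderOf_dvd_of_pow_eq_one h1
    rw [hx] at h2
    have h3 := Nat.le_of_dvd hpp.pos h2
    have := hr.two_le
    nlinarith [hpp.pos]
  obtain ⟨α₀, hα₀⟩ : ∃ α₀ : F, α₀ ^ p = c := by
    have hsurj : Function.Surjective (frobenius F p) :=
      Finite.injective_iff_surjective.mp (frobenius_inj F p)
    obtain ⟨y, hy⟩ := hsurj c
    exact ⟨y, hy⟩
  have hcq : c * c ^ q = 1 := by
    have h1 := transpose_mul_map_of_mem_SU q hq0 (X ^ (r * p)).1 (X ^ (r * p)).2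
    have h2 : (((X ^ (r * p) : ↥(Cfsg.SU (n + 1) F q)) : Matrix.SpecialLinearGroup (Fin (n + 1)) F) :
        Matrix (Fin (n + 1)) (Fin (n + 1)) F) = c • 1 := hc
    rw [h2] at h1
    have h3 := congrFun (congrFun h1 0) 0
    rw [Matrix.mul_apply, Matrix.one_apply_eq, Finset.sum_eq_single 0] at h3
    · simpa using h3
    · intro x _ hx
      simp [hx]
    · intro h
      exact absurd (Finset.mem_univ _) h
  refine ⟨MX ^ p, MX ^ r - α₀ • 1, c, ?_, ?_, hc0, hcq, hMBns, ?_, ?_, ?_⟩
  · exact transpose_mul_map_of_mem_SU q hq0 (X ^ p).1 (X ^ p).2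
  · rw [← pow_mul, mul_comm, hc]
  · have hcm : Commute (MX ^ r) (α₀ • (1 : Matrix (Fin (n + 1)) (Fin (n + 1)) F)) :=
      Commute.smul_right (Commute.one_right _) _
    rw [sub_pow_char_of_commute p hcm, ← pow_mul, hc, _root_.smul_pow, one_pow, hα₀, sub_self]
  · intro h0
    exact hMAns α₀ (sub_eq_zero.mp h0)
  · rw [Matrix.mul_sub, Matrix.sub_mul, Matrix.mul_smul, Matrix.smul_mul, Matrix.mul_one,
      Matrix.one_mul, ← pow_add, ← pow_add, Nat.add_comm p r]

end lift

section card
variable {F : Type*} [Field F] [Fintype F]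

/-- the order of `SU_n(q)` without the factor `q + 1` -/
theorem card_SU_eq {q : ℕ} (hF : Fintype.card F = q ^ 2) (n : ℕ) (hn : 1 ≤ n) :
    Nat.card (Cfsg.SU n F q) = q ^ (n * (n - 1) / 2) *
      ∏ i ∈ Finset.range (n - 1), (if Even (i + 1) then q ^ (i + 1 + 1) + 1 else q ^ (i + 1 + 1) - 1) := by
  have h := Cfsg.Agent.S0278.result hF n hn
  obtain ⟨n', rfl⟩ : ∃ n', n = n' + 1 := ⟨n - 1, by omega⟩
  rw [Finset.prod_range_succ'] at h
  simp only [Nat.add_sub_cancel] at h ⊢
  have h0 : (if Even 0 then q ^ (0 + 1) + 1 else q ^ (0 + 1) - 1) = q + 1 := by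
    rw [if_pos (by decide : Even 0), zero_add, pow_one]
  rw [h0] at h
  have hq1 : 0 < q + 1 := Nat.succ_pos q
  apply Nat.eq_of_mul_eq_mul_left hq1
  rw [h]
  ring

end card

end Cfsg.Agent.Lib.Helper40
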