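import Mathlib
import Cfsg.Agent.Lib.Helper40.UnitaryCommute
import Cfsg.Agent.Lib.Helper40.Singer

set_option autoImplicit false
set_option linter.unusedSectionVars false

namespace Cfsg.Agent.Lib.Helper40

open Matrix Polynomial Module

section conj
variable {F : Type*} [Field F] {ι : Type*} [Fintype ι] [DecidableEq ι]

theorem twisted_unitary_conj (f : F →+* F) (P Pi D J : Matrix ι ι F) (hP : P * Pi = 1)
    (hPJ : Pᵀ * f.mapMatrix P = J) (hD : Dᵀ * J * f.mapMatrix D = J) :
    (P * D * Pi)ᵀ * f.mapMatrix (P * D * Pi) = 1 := by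
  rw [Matrix.transpose_mul, Matrix.transpose_mul, map_mul, map_mul]
  calc Piᵀ * (Dᵀ * Pᵀ) * (f.mapMatrix P * f.mapMatrix D * f.mapMatrix Pi)
      = Piᵀ * (Dᵀ * (Pᵀ * f.mapMatrix P) * f.mapMatrix D) * f.mapMatrix Pi := by
        simp only [Matrix.mul_assoc]
    _ = Piᵀ * (Pᵀ * f.mapMatrix P) * f.mapMatrix Pi := by rw [hPJ, hD]
    _ = (P * Pi)ᵀ * f.mapMatrix (P * Pi) := by
        rw [Matrix.transpose_mul, map_mul]
        simp only [Matrix.mul_assoc]
    _ = 1 := by rw [hP, Matrix.transpose_one, map_one, Matrix.mul_one]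

theorem conj_pow_of_inv {M : Type*} [Monoid M] (a b c : M) (h : c * a = 1) (h' : a * c = 1)
    (i : ℕ) : (a * b * c) ^ i = a * b ^ i * c := by
  induction i with
  | zero => rw [pow_zero, pow_zero, mul_one, h']
  | succ i ih =>
    rw [pow_succ, ih, pow_succ]
    calc a * b ^ i * c * (a * b * c) = a * b ^ i * (c * a) * b * c := by simp only [mul_assoc]
      _ = a * (b ^ i * b) * c := by rw [h, mul_one]; simp only [mul_assoc]

end conj

section blocks
variable {F : Type*} [Field F] {m : ℕ}

theorem diag_blocks_gram (f : F →+* F) (a b c d : F) :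
    (Matrix.fromBlocks (Matrix.diagonal fun _ : Fin m => a) (Matrix.diagonal fun _ => b)
      (Matrix.diagonal fun _ => c) (Matrix.diagonal fun _ => d))ᵀ *
      f.mapMatrix (Matrix.fromBlocks (Matrix.diagonal fun _ : Fin m => a) (Matrix.diagonal fun _ => b)
      (Matrix.diagonal fun _ => c) (Matrix.diagonal fun _ => d)) =
    Matrix.fromBlocks (Matrix.diagonal fun _ : Fin m => a * f a + c * f c)
      (Matrix.diagonal fun _ => a * f b + c * f d)
      (Matrix.diagonal fun _ => b * f a + d * f c) (Matrix.diagonal fun _ => b * f b + d * f d) := by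
  rw [Matrix.fromBlocks_transpose, RingHom.mapMatrix_apply, Matrix.fromBlocks_map,
    Matrix.fromBlocks_multiply]
  have h1 : ∀ a : F, (Matrix.diagonal fun _ : Fin m => a).map f = Matrix.diagonal fun _ => f a := by
    intro a
    rw [Matrix.diagonal_map (map_zero f)]
  simp only [h1, Matrix.diagonal_transpose, Matrix.diagonal_mul_diagonal, Matrix.diagonal_add]

/-- the change of basis from a hyperbolic basis to an orthonormal basis -/
theorem hyperbolic_gram (f : F →+* F) (c s : F) (hc : c * f c = -1) (hs : 2 * s = 1)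
    (hfs : f s = s) :
    (Matrix.fromBlocks (Matrix.diagonal fun _ : Fin m => (1 : F)) (Matrix.diagonal fun _ => s)
      (Matrix.diagonal fun _ => c) (Matrix.diagonal fun _ => -(c * s)))ᵀ *
      f.mapMatrix (Matrix.fromBlocks (Matrix.diagonal fun _ : Fin m => (1 : F))
      (Matrix.diagonal fun _ => s)
      (Matrix.diagonal fun _ => c) (Matrix.diagonal fun _ => -(c * s))) =
    Matrix.fromBlocks 0 1 1 0 := by
  rw [diag_blocks_gram]
  have e11 : (1 : F) * f 1 + c * f c = 0 := by
    rw [map_one]
    linear_combination hc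
  have e12 : 1 * f s + c * f (-(c * s)) = 1 := by
    rw [map_neg, map_mul, hfs]
    linear_combination (-s) * hc + hs
  have e21 : s * f 1 + -(c * s) * f c = 1 := by
    rw [map_one]
    linear_combination (-s) * hc + hs
  have e22 : s * f s + -(c * s) * f (-(c * s)) = 0 := by
    rw [map_neg, map_mul, hfs]
    linear_combination (s * s) * hc
  rw [e11, e12, e21, e22]
  simp only [Matrix.diagonal_one]
  congr 1
  · exact Matrix.diagonal_zero
  · exact Matrix.diagonal_zero

end blocks

end Cfsg.Agent.Lib.Helper40
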