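import Mathlib
import Cfsg.Agent.Lib.Helper40.UnitaryCommute
import Cfsg.Agent.Lib.Helper40.Singer
import Cfsg.Agent.Lib.Helper40.UnitaryTorusB0

/-!
# The cyclic torus of order `q ^ (2 m) - 1` in `GU_{2m}(q)` (helper40)

* `exists_pow_succ_eq_neg_one`: an element of norm `-1`.
* `exists_unitary_torus_blocks`: for `q` odd and `o ∣ (q ^ (2 m) - 1) / (q + 1)`, a unitary matrix of
  determinant one (in block form) whose `i`-th power is scalar iff `o ∣ i * (q + 1)`.
-/

set_option autoImplicit false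
set_option linter.unusedSectionVars false

namespace Cfsg.Agent.Lib.Helper40

open Matrix Polynomial Module

section exist
variable {F : Type*} [Field F] [Fintype F]

/-- an element `c` with `c ^ (q + 1) = -1` -/
theorem exists_pow_succ_eq_neg_one (q : ℕ) (hq : Odd q) (hF : Fintype.card F = q ^ 2) :
    ∃ c : F, c ^ (q + 1) = -1 := by
  obtain ⟨j, hj⟩ := hq
  have hdvd : 2 * (q + 1) ∣ Fintype.card F - 1 := by
    rw [hF]
    refine ⟨j, ?_⟩
    have h1 : 1 ≤ q ^ 2 := Nat.one_le_pow _ _ (by omega)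
    zify [h1]
    rw [hj]
    push_cast
    ring
  obtain ⟨a, ha0, ha⟩ := exists_orderOf_eq_of_dvd_card_sub_one (F := F) (2 * (q + 1)) hdvd
  refine ⟨a, ?_⟩
  have h1 : a ^ (q + 1) * a ^ (q + 1) = 1 := by
    rw [← pow_add, ha]
    exact ⟨1, by ring⟩
  rcases mul_self_eq_one_iff.mp h1 with h | h
  · exfalso
    have h2 := (ha (q + 1)).mp h
    have := Nat.le_of_dvd (by omega) h2
    omega
  · exact h

/-- the torus of order `q ^ (2 m) - 1` of `GU_{2m}(q)`, in block form -/
theorem exists_unitary_torus_blocks (p : ℕ) [Fact p.Prime] [CharP F p] (hp2 : p ≠ 2) (k : ℕ)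
    (hF : Fintype.card F = (p ^ k) ^ 2) (m : ℕ) (hm : 1 ≤ m) (o t : ℕ)
    (hot : (p ^ k) ^ (2 * m) - 1 = o * t * (p ^ k + 1)) :
    ∃ X : Matrix (Fin m ⊕ Fin m) (Fin m ⊕ Fin m) F, X.det = 1 ∧
      Xᵀ * X.map (· ^ (p ^ k)) = 1 ∧
      ∀ i : ℕ, (∃ c : F, X ^ i = c • 1) ↔ o ∣ i * (p ^ k + 1) := by
  classical
  have hpp : p.Prime := Fact.out
  have : NeZero m := ⟨by omega⟩
  set q := p ^ k with hq
  have hq1 : 1 ≤ q := Nat.one_le_pow _ _ hpp.pos
  have hqodd : Odd q := by
    rw [hq]
    apply Odd.pow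
    rcases hpp.eq_two_or_odd' with h | h
    · exact absurd h hp2
    · exact h
  have hq2 : 2 ≤ Fintype.card F := Fintype.one_lt_card
  have hqF1 : 0 < Fintype.card F - 1 := by omega
  set frob : F →+* F := iterateFrobenius F p k with hfrobdef
  have hfrob : ∀ x : F, frob x = x ^ q := fun x => by rw [hfrobdef, iterateFrobenius_def]
  have hfrob2 : ∀ x : F, frob (frob x) = x := by
    intro x
    rw [hfrob, hfrob, ← pow_mul, ← sq, ← hF, FiniteField.pow_card]
  have hfrobfun : (fun x : F => x ^ q) = ⇑frob := by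
    funext x
    rw [hfrob]
  -- the scalars
  obtain ⟨c, hc⟩ := exists_pow_succ_eq_neg_one (F := F) q hqodd hF
  have hc' : c * frob c = -1 := by rw [hfrob, ← pow_succ', hc]
  have h2F : (2 : F) ≠ 0 := by
    intro h0
    have h1 : ((2 : ℕ) : F) = 0 := by exact_mod_cast h0
    have h2 := (CharP.cast_eq_zero_iff F p 2).mp h1
    exact hp2 ((Nat.prime_dvd_prime_iff_eq hpp Nat.prime_two).mp h2)
  set s : F := (2 : F)⁻¹ with hs
  have hs2 : 2 * s = 1 := mul_inv_cancel₀ h2F
  have hfs : frob s = s := by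
    rw [hs, map_inv₀, map_ofNat]
  -- the field extension
  have hodvd : o ∣ Fintype.card F ^ m - 1 := by
    rw [hF, ← pow_mul, hot]
    exact ⟨t * (q + 1), by ring⟩
  obtain ⟨ζ, hζ⟩ := exists_orderOf_units_extension (F := F) p m o hodvd
  let E := FiniteField.Extension F p m
  have hfr : finrank F E = m := FiniteField.finrank_extension F p m
  let b : Basis (Fin m) F E := Module.finBasisOfFinrankEq F E hfr
  let L : E →ₐ[F] Matrix (Fin m) (Fin m) F := Algebra.leftMulMatrix b
  have hLinj : Function.Injective L := Algebra.leftMulMatrix_injective b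
  have hcardE : Nat.card E = Fintype.card F ^ m := by
    rw [FiniteField.natCard_extension F p m, Nat.card_eq_fintype_card]
  have hζo : (ζ : E) ^ o = 1 := by
    rw [← hζ, ← Units.val_pow_eq_pow_val, pow_orderOf_eq_one, Units.val_one]
  have hsc : ∀ a : F, (a • 1 : Matrix (Fin m) (Fin m) F) = L (algebraMap F E a) := by
    intro a
    rw [AlgHom.commutes, Algebra.algebraMap_eq_smul_one]
  set A : Matrix (Fin m) (Fin m) F := L (ζ : E) with hA
  set Ai : Matrix (Fin m) (Fin m) F := L ((ζ⁻¹ : Eˣ) : E) with hAi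
  have hAiA : Ai * A = 1 := by
    rw [hAi, hA, ← map_mul, ← Units.val_mul, inv_mul_cancel, Units.val_one, map_one]
  set A' : Matrix (Fin m) (Fin m) F := frob.mapMatrix Aiᵀ with hA'
  set D : Matrix (Fin m ⊕ Fin m) (Fin m ⊕ Fin m) F := Matrix.fromBlocks A 0 0 A' with hD
  set J : Matrix (Fin m ⊕ Fin m) (Fin m ⊕ Fin m) F := Matrix.fromBlocks 0 1 1 0 with hJ
  have hff : ∀ M : Matrix (Fin m) (Fin m) F, frob.mapMatrix (frob.mapMatrix M) = M := by
    intro M
    ext i j
    simp only [RingHom.mapMatrix_apply, Matrix.map_apply]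
    exact hfrob2 _
  have hDJ : Dᵀ * J * frob.mapMatrix D = J := by
    rw [hD, hJ, Matrix.fromBlocks_transpose, RingHom.mapMatrix_apply, Matrix.fromBlocks_map,
      Matrix.fromBlocks_multiply, Matrix.fromBlocks_multiply]
    have h0 : (0 : Matrix (Fin m) (Fin m) F).map frob = 0 := by
      ext i j
      simp
    simp only [h0, Matrix.transpose_zero, Matrix.mul_zero, Matrix.zero_mul, add_zero, zero_add,
      Matrix.mul_one]
    have h1 : Aᵀ * A'.map frob = 1 := by
      have : A'.map frob = frob.mapMatrix A' := rfl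
      rw [this, hA', hff, ← Matrix.transpose_mul, hAiA, Matrix.transpose_one]
    have h2 : A'ᵀ * A.map frob = 1 := by
      have e1 : A.map frob = frob.mapMatrix A := rfl
      have e2 : A'ᵀ = frob.mapMatrix Ai := by
        rw [hA', RingHom.mapMatrix_apply, RingHom.mapMatrix_apply, Matrix.transpose_map,
          Matrix.transpose_transpose]
      rw [e1, e2, ← map_mul, hAiA, map_one]
    rw [h1, h2]
  -- the change of basis
  set P : Matrix (Fin m ⊕ Fin m) (Fin m ⊕ Fin m) F :=
    Matrix.fromBlocks (Matrix.diagonal fun _ : Fin m => (1 : F)) (Matrix.diagonal fun _ => s)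
      (Matrix.diagonal fun _ => c) (Matrix.diagonal fun _ => -(c * s)) with hP
  have hPJ : Pᵀ * frob.mapMatrix P = J := hyperbolic_gram frob c s hc' hs2 hfs
  have hJJ : J * J = 1 := by
    rw [hJ, Matrix.fromBlocks_multiply]
    simp [Matrix.fromBlocks_one]
  have hdetP : P.det ≠ 0 := by
    intro h0
    have h1 := congrArg Matrix.det hPJ
    rw [Matrix.det_mul, Matrix.det_transpose, h0, zero_mul] at h1
    have h2 := congrArg Matrix.det hJJ
    rw [Matrix.det_mul, ← h1, mul_zero, Matrix.det_one] at h2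
    exact zero_ne_one h2
  have hPPi : P * P⁻¹ = 1 := Matrix.mul_nonsing_inv P (isUnit_iff_ne_zero.mpr hdetP)
  have hPiP : P⁻¹ * P = 1 := Matrix.nonsing_inv_mul P (isUnit_iff_ne_zero.mpr hdetP)
  refine ⟨P * D * P⁻¹, ?_, ?_, ?_⟩
  · -- determinant
    have h1 : (P * D * P⁻¹).det = D.det := by
      rw [Matrix.det_mul, Matrix.det_mul, mul_comm (P.det), mul_assoc, ← Matrix.det_mul, hPPi,
        Matrix.det_one, mul_one]
    have h2 : D.det = A.det * A'.det := Matrix.det_fromBlocks_zero₂₁ A 0 A'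
    have h3 : A'.det = frob Ai.det := by
      rw [hA', ← RingHom.map_det, Matrix.det_transpose]
    have h4 : A.det = Algebra.norm F (ζ : E) := (Algebra.norm_eq_matrix_det b (ζ : E)).symm
    have h5 : Ai.det = (Algebra.norm F (ζ : E))⁻¹ := by
      rw [hAi, ← Algebra.norm_eq_matrix_det b]
      apply eq_inv_of_mul_eq_one_left
      rw [← map_mul, ← Units.val_mul, inv_mul_cancel, Units.val_one, map_one]
    have hq2' : 2 ≤ q := by
      by_contra hlt
      have : q = 1 := by omega
      rw [this] at hF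
      omega
    have hW : ((Nat.card E - 1) / (Nat.card F - 1)) * (q - 1) = o * t := by
      rw [hcardE, Nat.card_eq_fintype_card, hF]
      have hdvd : q ^ 2 - 1 ∣ (q ^ 2) ^ m - 1 := Nat.sub_one_dvd_pow_sub_one (q ^ 2) m
      obtain ⟨W, hW⟩ := hdvd
      have hq21 : 0 < q ^ 2 - 1 := by
        have : 2 ^ 2 ≤ q ^ 2 := Nat.pow_le_pow_left hq2' 2
        omega
      rw [hW, Nat.mul_div_cancel_left _ hq21]
      have h6 : q ^ 2 - 1 = (q - 1) * (q + 1) := by
        have : 1 ≤ q ^ 2 := Nat.one_le_pow _ _ hq1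
        zify [this, hq1]
        ring
      have h7 : (q ^ 2) ^ m - 1 = o * t * (q + 1) := by rw [← pow_mul, hot]
      rw [h7, h6] at hW
      have h8 : (W * (q - 1)) * (q + 1) = (o * t) * (q + 1) := by rw [hW]; ring
      exact Nat.eq_of_mul_eq_mul_right (by omega) h8
    have hν : (Algebra.norm F (ζ : E)) ^ (q - 1) = 1 := by
      apply (algebraMap F E).injective
      rw [map_pow, FiniteField.algebraMap_norm_eq_pow, map_one, ← pow_mul, hW, pow_mul, hζo,
        one_pow]
    have hν0 : Algebra.norm F (ζ : E) ≠ 0 := by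
      intro h0
      rw [h0, zero_pow (by omega)] at hν
      exact zero_ne_one hν
    have hνq : (Algebra.norm F (ζ : E)) ^ q = Algebra.norm F (ζ : E) := by
      have : q = (q - 1) + 1 := by omega
      rw [this, pow_succ, hν, one_mul]
    rw [h1, h2, h3, h4, h5, hfrob, inv_pow, hνq, mul_inv_cancel₀ hν0]
  · have h1 := twisted_unitary_conj frob P P⁻¹ D J hPPi hPJ hDJ
    rw [hfrobfun]
    exact h1
  · intro i
    have hXi : (P * D * P⁻¹) ^ i = P * D ^ i * P⁻¹ := conj_pow_of_inv P D P⁻¹ hPiP hPPi i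
    have hDi : D ^ i = Matrix.fromBlocks (A ^ i) 0 0 (A' ^ i) :=
      Matrix.fromBlocks_diagonal_pow A A' i
    have h1 : ∀ a : F, (P * D * P⁻¹) ^ i = a • 1 ↔ D ^ i = a • 1 := by
      intro a
      rw [hXi]
      constructor
      · intro h
        have h2 : D ^ i = P⁻¹ * (P * D ^ i * P⁻¹) * P := by
          simp only [Matrix.mul_assoc]
          rw [hPiP, Matrix.mul_one, ← Matrix.mul_assoc, hPiP, Matrix.one_mul]
        rw [h2, h, Matrix.mul_smul, Matrix.smul_mul, Matrix.mul_one, hPiP]
      · intro h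
        rw [h, Matrix.mul_smul, Matrix.smul_mul, Matrix.mul_one, hPPi]
    have h2 : ∀ a : F, D ^ i = a • 1 ↔ A ^ i = a • 1 ∧ A' ^ i = a • 1 := by
      intro a
      rw [hDi, ← Matrix.fromBlocks_one, Matrix.fromBlocks_smul, Matrix.fromBlocks_inj]
      simp
    have hAi_pow : Ai ^ i = L (((ζ ^ i)⁻¹ : Eˣ) : E) := by
      rw [hAi, ← map_pow, ← Units.val_pow_eq_pow_val, inv_pow]
    have hA'_pow : A' ^ i = frob.mapMatrix (Ai ^ i)ᵀ := by
      rw [hA', ← map_pow, Matrix.transpose_pow]
    have hfsm : ∀ a : F, frob.mapMatrix ((a • 1 : Matrix (Fin m) (Fin m) F))ᵀ = frob a • 1 := by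
      intro a
      ext i j
      rw [RingHom.mapMatrix_apply, Matrix.map_apply, Matrix.transpose_apply, Matrix.smul_apply,
        Matrix.smul_apply, Matrix.one_apply, Matrix.one_apply]
      by_cases hij : i = j
      · subst hij
        simp
      · have hji : ¬ j = i := fun h => hij h.symm
        simp [hij, hji]
    have key : ∀ a : F, a ≠ 0 → (ζ : E) ^ i = algebraMap F E a → A' ^ i = frob a⁻¹ • 1 := by
      intro a ha0 ha
      have h3 : (((ζ ^ i)⁻¹ : Eˣ) : E) = algebraMap F E a⁻¹ := by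
        rw [Units.val_inv_eq_inv_val, Units.val_pow_eq_pow_val, ha, map_inv₀]
      rw [hA'_pow, hAi_pow, h3, ← hsc, hfsm]
    have hq2' : 2 ≤ q := by
      by_contra hlt
      have : q = 1 := by omega
      rw [this] at hF
      omega
    constructor
    · rintro ⟨a, ha⟩
      obtain ⟨ha1, ha2⟩ := (h2 a).mp ((h1 a).mp ha)
      have h3 : (ζ : E) ^ i = algebraMap F E a := by
        apply hLinj
        rw [map_pow, ← hsc]
        exact ha1
      have ha0 : a ≠ 0 := by
        intro h0
        rw [h0, map_zero] at h3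
        have : (ζ ^ i : Eˣ).val = 0 := by rw [Units.val_pow_eq_pow_val]; exact h3
        exact (ζ ^ i).ne_zero this
      rw [key a ha0 h3] at ha2
      have h4 : frob a⁻¹ = a := by
        have := congrFun (congrFun ha2 0) 0
        simpa using this
      rw [hfrob, inv_pow] at h4
      have h5 : a ^ (q + 1) = 1 := by
        rw [pow_succ]
        nth_rewrite 2 [← h4]
        exact mul_inv_cancel₀ (pow_ne_zero _ ha0)
      rw [← hζ, orderOf_dvd_iff_pow_eq_one]
      apply Units.ext
      rw [Units.val_pow_eq_pow_val, Units.val_one, pow_mul, h3, ← map_pow, h5, map_one]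
    · intro hdvd
      have h3 : ((ζ : E) ^ i) ^ (q + 1) = 1 := by
        have h7 : ζ ^ (i * (q + 1)) = 1 := by
          rw [← orderOf_dvd_iff_pow_eq_one, hζ]
          exact hdvd
        rw [← pow_mul, ← Units.val_pow_eq_pow_val, h7, Units.val_one]
      have h4 : ((ζ : E) ^ i) ^ (Fintype.card F - 1) = 1 := by
        have h6 : Fintype.card F - 1 = (q + 1) * (q - 1) := by
          rw [hF]
          have : 1 ≤ q ^ 2 := Nat.one_le_pow _ _ hq1
          zify [this, hq1]
          ring
        rw [h6, pow_mul, h3, one_pow]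
      obtain ⟨a, ha⟩ := exists_algebraMap_eq_of_pow_card_sub_one (F := F) ((ζ : E) ^ i) h4
      have h5 : a ^ (q + 1) = 1 := by
        apply (algebraMap F E).injective
        rw [map_pow, ha, h3, map_one]
      have ha0 : a ≠ 0 := by
        intro h0
        rw [h0, zero_pow (by omega)] at h5
        exact zero_ne_one h5
      have h6 : frob a⁻¹ = a := by
        rw [hfrob, inv_pow]
        rw [pow_succ] at h5
        exact (eq_inv_of_mul_eq_one_right h5).symm
      refine ⟨a, (h1 a).mpr ((h2 a).mpr ⟨?_, ?_⟩)⟩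
      · rw [hA, ← map_pow, ← ha, ← hsc]
      · rw [key a ha0 ha.symm, h6]

end exist

end Cfsg.Agent.Lib.Helper40
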