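import Mathlib
import Cfsg.Agent.Lib.Helper40.UnitaryCommute

/-!
# Unitary matrices commuting with a matrix with simple spectrum (helper40)

* `exists_eigenbasis_of_commute`: eigenbasis of a matrix with `n` distinct eigenvalues,
  diagonalising every commuting matrix.
* `exists_twisted_pair`, `exists_eigenbasis_chain`: for unitary matrices the eigenvalues along the
  orbit of `x ↦ (x ^ q)⁻¹` are related by the same map.
* `eq_smul_one_of_chain`, `pow_eq_one_of_chain`: consequences.
-/

set_option autoImplicit false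
set_option linter.unusedSectionVars false

namespace Cfsg.Agent.Lib.Helper40

open Matrix Polynomial Module

section eigen
variable {K : Type*} [Field K] {n : ℕ}

/-- a basis of eigenvectors of a matrix with `n` distinct eigenvalues; a commuting matrix is
diagonal in it -/
theorem exists_eigenbasis_of_commute (hn : 0 < n) (A B : Matrix (Fin n) (Fin n) K) (z : Fin n → K)
    (hz : Function.Injective z) (hroot : ∀ i, A.charpoly.IsRoot (z i)) (hAB : A * B = B * A) :
    ∃ (b : Basis (Fin n) K (Fin n → K)) (l : Fin n → K),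
      (∀ i, A *ᵥ b i = z i • b i) ∧ (∀ i, B *ᵥ b i = l i • b i) := by
  classical
  have : Nonempty (Fin n) := ⟨⟨0, hn⟩⟩
  set f : Module.End K (Fin n → K) := Matrix.toLinAlgEquiv' A with hf
  set g : Module.End K (Fin n → K) := Matrix.toLinAlgEquiv' B with hg
  have hfg : ∀ v, f (g v) = g (f v) := by
    intro v
    rw [← Module.End.mul_apply, ← Module.End.mul_apply, hf, hg, ← map_mul, ← map_mul, hAB]
  have hev : ∀ i : Fin n, ∃ v : Fin n → K, f.HasEigenvector (z i) v := by
    intro i
    have h3 : f.charpoly.IsRoot (z i) := by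
      have h4 : f.charpoly = A.charpoly := Matrix.charpoly_toLin' A
      rw [h4]
      exact hroot i
    exact ((Module.End.hasEigenvalue_iff_isRoot_charpoly f (z i)).mpr h3).exists_hasEigenvector
  choose v hv using hev
  have hli : LinearIndependent K v :=
    Module.End.eigenvectors_linearIndependent' f z hz v hv
  have hcard2 : Fintype.card (Fin n) = Module.finrank K (Fin n → K) := by
    rw [Module.finrank_fintype_fun_eq_card]
  set b := basisOfLinearIndependentOfCardEqFinrank hli hcard2 with hb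
  have hbv : ∀ i, b i = v i := by
    intro i
    rw [hb, coe_basisOfLinearIndependentOfCardEqFinrank]
  have hfv : ∀ i, f (v i) = z i • v i := fun i => (hv i).apply_eq_smul
  have hgv : ∀ i, ∃ c : K, g (v i) = c • v i := by
    intro i
    set x := g (v i) with hx
    have hfx : f x = z i • x := by rw [hx, hfg, hfv, map_smul]
    have hsum : x = ∑ w, b.repr x w • v w := by
      conv_lhs => rw [← b.sum_repr x]
      exact Finset.sum_congr rfl (fun w _ => by rw [hbv])
    have hzero : ∑ w, (b.repr x w * (z w - z i)) • v w = 0 := by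
      have h1 : f x = ∑ w, (b.repr x w * z w) • v w := by
        conv_lhs => rw [hsum, map_sum]
        apply Finset.sum_congr rfl
        intro w _
        rw [map_smul, hfv, smul_smul]
      have h2 : z i • x = ∑ w, (b.repr x w * z i) • v w := by
        conv_lhs => rw [hsum, Finset.smul_sum]
        apply Finset.sum_congr rfl
        intro w _
        rw [smul_smul, mul_comm]
      have h3 : ∑ w, (b.repr x w * (z w - z i)) • v w =
          ∑ w, (b.repr x w * z w) • v w - ∑ w, (b.repr x w * z i) • v w := by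
        rw [← Finset.sum_sub_distrib]
        apply Finset.sum_congr rfl
        intro w _
        rw [← sub_smul, mul_sub]
      rw [h3, ← h1, ← h2, hfx, sub_self]
    have hcoef := linearIndependent_iff'.mp hli Finset.univ _ hzero
    have hoff : ∀ w : Fin n, w ≠ i → b.repr x w = 0 := by
      intro w hwz
      have h1 := hcoef w (Finset.mem_univ w)
      rcases mul_eq_zero.mp h1 with h | h
      · exact h
      · exfalso
        apply hwz
        exact hz (sub_eq_zero.mp h)
    refine ⟨b.repr x i, ?_⟩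
    conv_lhs => rw [hsum]
    apply Finset.sum_eq_single i
    · intro w _ hwz
      rw [hoff w hwz, zero_smul]
    · intro h
      exact absurd (Finset.mem_univ i) h
  choose l hl using hgv
  refine ⟨b, l, ?_, ?_⟩
  · intro i
    rw [hbv]
    have := hfv i
    rw [hf, Matrix.toLinAlgEquiv'_apply] at this
    exact this
  · intro i
    rw [hbv]
    have := hl i
    rw [hg, Matrix.toLinAlgEquiv'_apply] at this
    exact this

end eigen

section pairing
variable {K : Type*} [Field K] {n : ℕ}

/-- the twisted dot product pairs each eigenvector with an eigenvector for the twisted eigenvalue -/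
theorem exists_twisted_pair (p : ℕ) [Fact p.Prime] [CharP K p] (k : ℕ)
    (A B : Matrix (Fin n) (Fin n) K) (hA : Aᵀ * A.map (· ^ (p ^ k)) = 1)
    (hB : Bᵀ * B.map (· ^ (p ^ k)) = 1) (b : Basis (Fin n) K (Fin n → K)) (z l : Fin n → K)
    (hAb : ∀ i, A *ᵥ b i = z i • b i) (hBb : ∀ i, B *ᵥ b i = l i • b i) (i : Fin n) :
    ∃ j, z j * (z i) ^ (p ^ k) = 1 ∧ l j * (l i) ^ (p ^ k) = 1 := by
  classical
  set w : Fin n → K := fun s => (b i s) ^ (p ^ k) with hw
  have hbi : b i ≠ 0 := b.ne_zero i
  obtain ⟨t, ht⟩ : ∃ t, b i t ≠ 0 := by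
    by_contra h
    simp only [not_exists, not_not] at h
    exact hbi (funext h)
  have hwt : w t ≠ 0 := pow_ne_zero _ ht
  -- some basis vector pairs nontrivially
  obtain ⟨j, hj⟩ : ∃ j, b j ⬝ᵥ w ≠ 0 := by
    by_contra h
    simp only [not_exists, not_not] at h
    have h1 : ∀ u : Fin n → K, u ⬝ᵥ w = 0 := by
      intro u
      rw [← b.sum_repr u, sum_dotProduct]
      apply Finset.sum_eq_zero
      intro j _
      rw [smul_dotProduct, h j, smul_zero]
    have h2 := h1 (Pi.single t 1)
    rw [single_dotProduct, one_mul] at h2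
    exact hwt h2
  refine ⟨j, ?_, ?_⟩
  · have h1 := hermForm_mulVec_of_transpose_mul_map p k A hA (b j) (b i)
    rw [hermForm_eq_dotProduct, hermForm_eq_dotProduct, hAb, hAb] at h1
    have h2 : (fun s => (z i • b i) s ^ (p ^ k)) = (z i) ^ (p ^ k) • w := by
      funext s
      simp only [Pi.smul_apply, smul_eq_mul, mul_pow, hw]
    rw [h2, smul_dotProduct, dotProduct_smul, smul_eq_mul, smul_eq_mul, ← mul_assoc] at h1
    have h3 : (z j * z i ^ (p ^ k) - 1) * (b j ⬝ᵥ w) = 0 := by
      rw [sub_mul, one_mul, h1, sub_self]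
    rcases mul_eq_zero.mp h3 with h | h
    · exact sub_eq_zero.mp h
    · exact absurd h hj
  · have h1 := hermForm_mulVec_of_transpose_mul_map p k B hB (b j) (b i)
    rw [hermForm_eq_dotProduct, hermForm_eq_dotProduct, hBb, hBb] at h1
    have h2 : (fun s => (l i • b i) s ^ (p ^ k)) = (l i) ^ (p ^ k) • w := by
      funext s
      simp only [Pi.smul_apply, smul_eq_mul, mul_pow, hw]
    rw [h2, smul_dotProduct, dotProduct_smul, smul_eq_mul, smul_eq_mul, ← mul_assoc] at h1
    have h3 : (l j * l i ^ (p ^ k) - 1) * (b j ⬝ᵥ w) = 0 := by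
      rw [sub_mul, one_mul, h1, sub_self]
    rcases mul_eq_zero.mp h3 with h | h
    · exact sub_eq_zero.mp h
    · exact absurd h hj

/-- structure of a unitary matrix commuting with a unitary matrix whose spectrum is a single
orbit `z 0, z 1, …` under `x ↦ (x ^ q)⁻¹` -/
theorem exists_eigenbasis_chain (p : ℕ) [Fact p.Prime] [CharP K p] (k : ℕ) (hn : 0 < n)
    (A B : Matrix (Fin n) (Fin n) K) (hA : Aᵀ * A.map (· ^ (p ^ k)) = 1)
    (hB : Bᵀ * B.map (· ^ (p ^ k)) = 1) (hAB : A * B = B * A) (z : Fin n → K)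
    (hz : Function.Injective z) (hroot : ∀ i, A.charpoly.IsRoot (z i))
    (hstep : ∀ (i : Fin n) (hi : i.1 + 1 < n), z ⟨i.1 + 1, hi⟩ * (z i) ^ (p ^ k) = 1) :
    ∃ (b : Basis (Fin n) K (Fin n → K)) (l : Fin n → K), (∀ i, B *ᵥ b i = l i • b i) ∧
      (∀ (i : Fin n) (hi : i.1 + 1 < n), l ⟨i.1 + 1, hi⟩ * (l i) ^ (p ^ k) = 1) := by
  obtain ⟨b, l, hAb, hBb⟩ := exists_eigenbasis_of_commute hn A B z hz hroot hAB
  refine ⟨b, l, hBb, ?_⟩
  intro i hi
  obtain ⟨j, hj1, hj2⟩ := exists_twisted_pair p k A B hA hB b z l hAb hBb i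
  have h1 := hstep i hi
  have hzi : (z i) ^ (p ^ k) ≠ 0 := by
    intro h0
    rw [h0, mul_zero] at h1
    exact zero_ne_one h1
  have h2 : z j = z ⟨i.1 + 1, hi⟩ := by
    apply mul_right_cancel₀ hzi
    rw [hj1, h1]
  rw [← hz h2]
  exact hj2

end pairing

section cons
variable {K : Type*} [Field K] {n : ℕ}

theorem prod_range_zpow {G : Type*} [CommGroup G] (x : G) (f : ℕ → ℤ) (n : ℕ) :
    ∏ j ∈ Finset.range n, x ^ f j = x ^ ∑ j ∈ Finset.range n, f j := by
  induction n with
  | zero => simp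
  | succ n ih => rw [Finset.prod_range_succ, Finset.sum_range_succ, _root_.zpow_add, ih]

theorem pow_mulVec_of_eigen (B : Matrix (Fin n) (Fin n) K) (v : Fin n → K) (c : K)
    (h : B *ᵥ v = c • v) (j : ℕ) : (B ^ j) *ᵥ v = c ^ j • v := by
  induction j with
  | zero => simp
  | succ j ih =>
    rw [pow_succ, ← Matrix.mulVec_mulVec, h, Matrix.mulVec_smul, ih, smul_smul, pow_succ, mul_comm]

theorem eq_of_mulVec_basis (B C : Matrix (Fin n) (Fin n) K) (b : Basis (Fin n) K (Fin n → K))
    (h : ∀ i, B *ᵥ b i = C *ᵥ b i) : B = C := by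
  apply (Matrix.toLinAlgEquiv' (R := K) (n := Fin n)).injective
  apply b.ext
  intro i
  rw [Matrix.toLinAlgEquiv'_apply, Matrix.toLinAlgEquiv'_apply]
  exact h i

/-- all eigenvalues agree when `B ^ (q + 1) = 1` -/
theorem eq_smul_one_of_chain (q : ℕ) (B : Matrix (Fin n) (Fin n) K) (hn : 0 < n)
    (b : Basis (Fin n) K (Fin n → K)) (l : Fin n → K) (hBb : ∀ i, B *ᵥ b i = l i • b i)
    (hl : ∀ (i : Fin n) (hi : i.1 + 1 < n), l ⟨i.1 + 1, hi⟩ * (l i) ^ q = 1)
    (hB : B ^ (q + 1) = 1) : B = l ⟨0, hn⟩ • (1 : Matrix (Fin n) (Fin n) K) := by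
  have h1 : ∀ i, (l i) ^ (q + 1) = 1 := by
    intro i
    have h2 := pow_mulVec_of_eigen B (b i) (l i) (hBb i) (q + 1)
    rw [hB, Matrix.one_mulVec] at h2
    have h3 : ((l i) ^ (q + 1) - 1) • b i = 0 := by
      rw [sub_smul, one_smul, ← h2, sub_self]
    rcases smul_eq_zero.mp h3 with h | h
    · exact sub_eq_zero.mp h
    · exact absurd h (b.ne_zero i)
  have h2 : ∀ (j : ℕ) (hj : j < n), l ⟨j, hj⟩ = l ⟨0, hn⟩ := by
    intro j
    induction j with
    | zero => intro _; rfl
    | succ j ih =>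
      intro hj
      have hj' : j < n := by omega
      have h3 := hl ⟨j, hj'⟩ hj
      have h4 := h1 ⟨j, hj'⟩
      rw [pow_succ'] at h4
      have h5 : (l ⟨j, hj'⟩) ^ q ≠ 0 := by
        intro h0
        rw [h0, mul_zero] at h4
        exact zero_ne_one h4
      have h6 : l ⟨j + 1, hj⟩ = l ⟨j, hj'⟩ := by
        apply mul_right_cancel₀ h5
        rw [h3, h4]
      rw [h6]
      exact ih hj'
  apply eq_of_mulVec_basis _ _ b
  intro i
  rw [hBb, Matrix.smul_mulVec, Matrix.one_mulVec]
  congr 1
  exact h2 i.1 i.2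

/-- the determinant one condition -/
theorem pow_eq_one_of_chain (q : ℕ) (B : Matrix (Fin n) (Fin n) K) (hn : 0 < n) (hne : Even n)
    (b : Basis (Fin n) K (Fin n → K)) (l : Fin n → K) (hBb : ∀ i, B *ᵥ b i = l i • b i)
    (hl : ∀ (i : Fin n) (hi : i.1 + 1 < n), l ⟨i.1 + 1, hi⟩ * (l i) ^ q = 1)
    (hdet : B.det = 1) (M : ℕ) (hM : (q + 1) * M = q ^ n - 1) (hq : 1 ≤ q) : B ^ M = 1 := by
  classical
  -- the determinant is the product of the eigenvalues
  have hdet' : B.det = ∏ i, l i := by
    have h1 : LinearMap.toMatrix b b (Matrix.toLin' B) = Matrix.diagonal l := by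
      ext i j
      rw [LinearMap.toMatrix_apply, Matrix.toLin'_apply, hBb, map_smul, Finsupp.smul_apply,
        b.repr_self, Matrix.diagonal_apply, Finsupp.single_apply, smul_eq_mul]
      by_cases hij : i = j
      · subst hij
        simp
      · have hji : ¬ j = i := fun h => hij h.symm
        simp [hij, hji]
    rw [← LinearMap.det_toLin' B, ← LinearMap.det_toMatrix b, h1, Matrix.det_diagonal]
  have hl0 : ∀ i, l i ≠ 0 := by
    intro i h0
    have : ∏ i, l i = 0 := Finset.prod_eq_zero (Finset.mem_univ i) h0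
    rw [← hdet', hdet] at this
    exact one_ne_zero this
  set ξ : Kˣ := Units.mk0 (l ⟨0, hn⟩) (hl0 _) with hξ
  have hform : ∀ (j : ℕ) (hj : j < n), l ⟨j, hj⟩ = ((ξ ^ ((-(q : ℤ)) ^ j) : Kˣ) : K) := by
    intro j
    induction j with
    | zero =>
      intro _
      rw [pow_zero, zpow_one, hξ, Units.val_mk0]
    | succ j ih =>
      intro hj
      have hj' : j < n := by omega
      have h3 := hl ⟨j, hj'⟩ hj
      simp only at h3
      rw [ih hj'] at h3
      have h4 : l ⟨j + 1, hj⟩ = ((((ξ ^ ((-(q : ℤ)) ^ j) : Kˣ)) ^ q)⁻¹ : Kˣ) := by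
        rw [Units.val_inv_eq_inv_val, Units.val_pow_eq_pow_val]
        exact eq_inv_of_mul_eq_one_left h3
      rw [h4, ← zpow_natCast, ← _root_.zpow_neg, ← _root_.zpow_mul, pow_succ]
  -- the product
  have hprod : ξ ^ (∑ j ∈ Finset.range n, (-(q : ℤ)) ^ j) = 1 := by
    apply Units.ext
    rw [Units.val_one, ← hdet, hdet', ← prod_range_zpow, Units.coe_prod,
      ← Fin.prod_univ_eq_prod_range (fun j => ((ξ ^ ((-(q : ℤ)) ^ j) : Kˣ) : K)) n]
    apply Finset.prod_congr rfl
    intro i _
    exact (hform i.1 i.2).symm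
  have hsum : (∑ j ∈ Finset.range n, (-(q : ℤ)) ^ j) = -(M : ℤ) := by
    have h1 := geom_sum_mul (-(q : ℤ)) n
    rw [Even.neg_pow hne] at h1
    have h2 : ((q + 1) * M : ℤ) = (q : ℤ) ^ n - 1 := by
      have h3 : 1 ≤ q ^ n := Nat.one_le_pow _ _ hq
      have := congrArg (Nat.cast : ℕ → ℤ) hM
      push_cast [h3] at this
      exact this
    have h4 : ((q : ℤ) + 1) ≠ 0 := by positivity
    apply mul_right_cancel₀ h4
    rw [neg_mul, mul_comm (M : ℤ), h2, ← h1]
    ring
  rw [hsum, _root_.zpow_neg, inv_eq_one, zpow_natCast] at hprod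
  apply eq_of_mulVec_basis _ _ b
  intro i
  rw [pow_mulVec_of_eigen B (b i) (l i) (hBb i) M, Matrix.one_mulVec, hform i.1 i.2,
    ← Units.val_pow_eq_pow_val, ← zpow_natCast, ← _root_.zpow_mul, mul_comm, _root_.zpow_mul,
    zpow_natCast, hprod, _root_.one_zpow, Units.val_one, one_smul]

end cons

end Cfsg.Agent.Lib.Helper40
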