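import Mathlib
import Cfsg.Agent.Lib.Helper40.UnitaryTorusA
import Cfsg.Agent.Lib.Helper40.UnitaryTorusB

/-!
# The Coxeter-type torus of `SU_{2m}(q)` (helper40)

* `unitary_torus_facts`: a unitary matrix `X` commuting with a unitary matrix `Y` of prime order `r`
  with `ord_r(-q) = n` (the dimension, even): if `X ^ (q + 1) = 1` then `X` is scalar, and if
  `det X = 1` then `X ^ ((q ^ n - 1) / (q + 1)) = 1`.
* `exists_SU_torus`: for `q` odd, `n = 2 m` and `o ∣ (q ^ n - 1) / (q + 1)` an element `X` of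
  `SU_n(q)` whose `i`-th power is scalar iff `o ∣ i * (q + 1)`.
-/

set_option autoImplicit false
set_option linter.unusedSectionVars false

namespace Cfsg.Agent.Lib.Helper40

open Matrix Polynomial Module

section main
variable {F : Type*} [Field F] [Fintype F]

/-- a unitary matrix `X` commuting with a unitary matrix `Y` of prime order `r`, where `-q` has
order `n` (the dimension, even) modulo `r`: `X` lies in a cyclic torus of order `q ^ n - 1` -/
theorem unitary_torus_facts (p : ℕ) [Fact p.Prime] [CharP F p] (k : ℕ)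
    (hF : Fintype.card F = (p ^ k) ^ 2) (r : ℕ) (hr : r.Prime) (hrp : r ≠ p) {n : ℕ}
    (hn : 0 < n) (hne : Even n)
    (Y X : Matrix (Fin n) (Fin n) F) (hYu : Yᵀ * Y.map (· ^ (p ^ k)) = 1) (hYr : Y ^ r = 1)
    (hY1 : Y ≠ 1) (hXu : Xᵀ * X.map (· ^ (p ^ k)) = 1) (hYX : Y * X = X * Y)
    (he : orderOf (-((p ^ k : ℕ) : ZMod r)) = n) :
    (X ^ (p ^ k + 1) = 1 → ∃ c : F, X = c • 1) ∧
      (X.det = 1 → ∀ M : ℕ, (p ^ k + 1) * M = (p ^ k) ^ n - 1 → X ^ M = 1) := by
  classical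
  have hpp : p.Prime := Fact.out
  have : Fact r.Prime := ⟨hr⟩
  set K := AlgebraicClosure F with hK
  have : CharP K p := charP_of_injective_algebraMap (algebraMap F K).injective p
  have hrK : (r : K) ≠ 0 := by
    intro h0
    have h1 := (CharP.cast_eq_zero_iff K p r).mp h0
    exact hrp ((Nat.prime_dvd_prime_iff_eq hpp hr).mp h1).symm
  -- an eigenvalue of order `r`
  obtain ⟨ν, hνroot, hνr, hν1⟩ := exists_root_charpoly_of_pow (K := K) Y r 1 hrK
    (by rw [one_mul]; exact hYr) (by rw [pow_one]; exact hY1)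
  rw [one_mul] at hνr
  rw [pow_one] at hν1
  have hν0 : ν ≠ 0 := by
    rintro rfl
    rw [zero_pow hr.ne_zero] at hνr
    exact zero_ne_one hνr
  set ν' : Kˣ := Units.mk0 ν hν0 with hν'
  have hord : orderOf ν' = r := by
    apply orderOf_eq_prime
    · apply Units.ext
      rw [Units.val_pow_eq_pow_val, Units.val_mk0, hνr, Units.val_one]
    · intro h
      apply hν1
      have := congrArg Units.val h
      rw [Units.val_mk0, Units.val_one] at this
      exact this
  -- the orbit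
  have hmem : ∀ i : ℕ, aeval ((ν' ^ ((-((p ^ k : ℕ) : ℤ)) ^ i) : Kˣ) : K) Y.charpoly = 0 := by
    intro i
    induction i with
    | zero => rw [pow_zero, zpow_one, hν', Units.val_mk0]; exact hνroot
    | succ i ih =>
      have h1 := aeval_inv_pow_charpoly_of_unitary p k hF Y hYu _ ih
      have h2 : ((ν' ^ ((-((p ^ k : ℕ) : ℤ)) ^ (i + 1)) : Kˣ) : K) =
          (((ν' ^ ((-((p ^ k : ℕ) : ℤ)) ^ i) : Kˣ) : K)⁻¹) ^ (p ^ k) := by
        rw [← Units.val_inv_eq_inv_val, ← Units.val_pow_eq_pow_val, ← _root_.zpow_neg,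
          ← zpow_natCast, ← _root_.zpow_mul, pow_succ]
        congr 2
        ring
      rw [h2]
      exact h1
  set z : Fin n → K := fun i => ((ν' ^ ((-((p ^ k : ℕ) : ℤ)) ^ i.1) : Kˣ) : K) with hz
  have hzinj : Function.Injective z := by
    intro i j hij
    have h1 : ν' ^ ((-((p ^ k : ℕ) : ℤ)) ^ i.1) = ν' ^ ((-((p ^ k : ℕ) : ℤ)) ^ j.1) :=
      Units.ext hij
    rw [zpow_eq_zpow_iff_modEq, hord] at h1
    have h2 : (-((p ^ k : ℕ) : ZMod r)) ^ i.1 = (-((p ^ k : ℕ) : ZMod r)) ^ j.1 := by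
      have := (ZMod.intCast_eq_intCast_iff _ _ _).mpr h1
      push_cast at this
      push_cast
      exact this
    have hi : i.1 < orderOf (-((p ^ k : ℕ) : ZMod r)) := by rw [he]; exact i.2
    have hj : j.1 < orderOf (-((p ^ k : ℕ) : ZMod r)) := by rw [he]; exact j.2
    exact Fin.ext (pow_injOn_Iio_orderOf hi hj h2)
  have hstep : ∀ (i : Fin n) (hi : i.1 + 1 < n), z ⟨i.1 + 1, hi⟩ * (z i) ^ (p ^ k) = 1 := by
    intro i hi
    simp only [hz]
    rw [← Units.val_pow_eq_pow_val, ← Units.val_mul, ← zpow_natCast, ← _root_.zpow_mul,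
      ← _root_.zpow_add, pow_succ]
    have : (-((p ^ k : ℕ) : ℤ)) ^ i.1 * -((p ^ k : ℕ) : ℤ) +
        (-((p ^ k : ℕ) : ℤ)) ^ i.1 * ((p ^ k : ℕ) : ℤ) = 0 := by ring
    rw [this, zpow_zero, Units.val_one]
  set φ := (algebraMap F K).mapMatrix (m := Fin n) with hφ
  have hφinj : Function.Injective φ := by
    intro X Y hXY
    exact Matrix.map_injective (algebraMap F K).injective hXY
  have hunit : ∀ Z : Matrix (Fin n) (Fin n) F, Zᵀ * Z.map (· ^ (p ^ k)) = 1 →
      (φ Z)ᵀ * (φ Z).map (· ^ (p ^ k)) = 1 := by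
    intro Z hZ
    have h1 : (φ Z)ᵀ = φ Zᵀ := by
      rw [hφ, RingHom.mapMatrix_apply, RingHom.mapMatrix_apply, Matrix.transpose_map]
    have h2 : (φ Z).map (· ^ (p ^ k)) = φ (Z.map (· ^ (p ^ k))) := by
      ext i j
      simp [hφ]
    rw [h1, h2, ← map_mul, hZ, map_one]
  have hroot : ∀ i, (φ Y).charpoly.IsRoot (z i) := by
    intro i
    exact isRoot_charpoly_map Y (z i) (hmem i.1)
  obtain ⟨b, l, hBb, hl⟩ := exists_eigenbasis_chain p k hn (φ Y) (φ X) (hunit Y hYu) (hunit X hXu)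
    (by rw [← map_mul, ← map_mul, hYX]) z hzinj hroot hstep
  constructor
  · intro hX1
    have h1 := eq_smul_one_of_chain (p ^ k) (φ X) hn b l hBb hl (by rw [← map_pow, hX1, map_one])
    refine ⟨X ⟨0, hn⟩ ⟨0, hn⟩, ?_⟩
    have h2 : ∀ i j, algebraMap F K (X i j) = (l ⟨0, hn⟩ • (1 : Matrix (Fin n) (Fin n) K)) i j := by
      intro i j
      rw [← h1]
      rfl
    have h3 : algebraMap F K (X ⟨0, hn⟩ ⟨0, hn⟩) = l ⟨0, hn⟩ := by
      rw [h2]
      simp
    ext i j
    apply (algebraMap F K).injective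
    rw [h2, Matrix.smul_apply, Matrix.smul_apply, ← h3]
    by_cases hij : i = j
    · subst hij
      simp
    · simp [hij]
  · intro hdet M hM
    have hdet' : (φ X).det = 1 := by
      rw [hφ, ← RingHom.map_det, hdet, map_one]
    have h1 := pow_eq_one_of_chain (p ^ k) (φ X) hn hne b l hBb hl hdet' M hM
      (Nat.one_le_pow _ _ hpp.pos)
    apply hφinj
    rw [map_pow, h1, map_one]

end main

section existSU
variable {F : Type*} [Field F] [Fintype F]

/-- a Singer-type element of `SU_{2m}(q)`, `q` odd -/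
theorem exists_SU_torus (p : ℕ) [Fact p.Prime] [CharP F p] (hp2 : p ≠ 2) (k : ℕ)
    (hF : Fintype.card F = (p ^ k) ^ 2) (n m : ℕ) (hn : n = 2 * m) (hm : 1 ≤ m) (o t : ℕ)
    (hot : (p ^ k) ^ n - 1 = o * t * (p ^ k + 1)) :
    ∃ X : ↥(Cfsg.SU n F (p ^ k)), ∀ i : ℕ,
      (∃ c : F, ((X : Matrix.SpecialLinearGroup (Fin n) F) : Matrix (Fin n) (Fin n) F) ^ i = c • 1) ↔
        o ∣ i * (p ^ k + 1) := by
  classical
  rw [hn] at hot
  obtain ⟨X₀, hdet, hu, hpow⟩ := exists_unitary_torus_blocks (F := F) p hp2 k hF m hm o t hot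
  let e : Fin m ⊕ Fin m ≃ Fin n := finSumFinEquiv.trans (finCongr (by omega))
  let R : Matrix (Fin m ⊕ Fin m) (Fin m ⊕ Fin m) F ≃ₐ[F] Matrix (Fin n) (Fin n) F :=
    Matrix.reindexAlgEquiv F F e
  have hRdet : (R X₀).det = 1 := by
    rw [Matrix.det_reindexAlgEquiv, hdet]
  have hRu : (R X₀)ᵀ * (R X₀).map (· ^ (p ^ k)) = 1 := by
    have h1 : R X₀ = X₀.submatrix e.symm e.symm := rfl
    rw [h1, Matrix.transpose_submatrix, ← Matrix.submatrix_map, Matrix.submatrix_mul_equiv, hu,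
      Matrix.submatrix_one_equiv]
  refine ⟨⟨⟨R X₀, hRdet⟩, mem_SU_of_transpose_mul_map p k _ hRu⟩, ?_⟩
  intro i
  rw [← hpow i]
  change (∃ c : F, (R X₀) ^ i = c • 1) ↔ _
  constructor
  · rintro ⟨c, hc⟩
    refine ⟨c, R.injective ?_⟩
    rw [map_pow, hc, map_smul, map_one]
  · rintro ⟨c, hc⟩
    refine ⟨c, ?_⟩
    rw [← map_pow, hc, map_smul, map_one]

end existSU

end Cfsg.Agent.Lib.Helper40
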