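import Mathlib
import Cfsg.Agent.Lib.Helper40.RegUnip
import Cfsg.Agent.Lib.Helper40.UnitaryTorusB0
import Cfsg.Agent.Lib.Helper95.GramFactor

/-!
# A regular unipotent element of the unitary group (helper40, for S2511)

`exists_unitary_regular_unipotent`: a unitary matrix `X` (standard Hermitian form) with
`(X - 1) ^ j = 0 ↔ e ≤ j`, via the Cayley-type transform `(1 + c N)(1 - σ(c) N)⁻¹` of the shift matrix,
which is skew for the alternating antidiagonal Hermitian form.
-/

set_option autoImplicit false
set_option linter.unusedSectionVars false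

namespace Cfsg.Agent.Lib.Helper40

open Matrix

section shift
variable {F : Type*} [Field F]

theorem shiftMat_apply (e : ℕ) (i j : Fin e) :
    shiftMat F e i j = if i.val = j.val + 1 then 1 else 0 := by
  classical
  unfold shiftMat
  rw [LinearMap.toMatrixAlgEquiv'_apply, shiftLin_apply]
  by_cases h : 0 < i.val
  · rw [dif_pos h, Pi.single_apply]
    by_cases h2 : i.val = j.val + 1
    · rw [if_pos h2, if_pos]
      apply Fin.ext
      simp only
      omega
    · rw [if_neg h2, if_neg]
      intro h3
      apply h2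
      have := congrArg Fin.val h3
      simp only at this
      omega
  · rw [dif_neg h, if_neg]
    omega

/-- the alternating antidiagonal Gram matrix -/
def altGram (γ : F) (e : ℕ) : Matrix (Fin e) (Fin e) F :=
  Matrix.of fun i j => if i.val + j.val + 1 = e then (-1) ^ i.val * γ else 0

theorem altGram_apply (γ : F) (e : ℕ) (i j : Fin e) :
    altGram γ e i j = if i.val + j.val + 1 = e then (-1) ^ i.val * γ else 0 := rfl

theorem shiftMat_transpose_mul_altGram (γ : F) (e : ℕ) :
    (shiftMat F e)ᵀ * altGram γ e = -(altGram γ e * shiftMat F e) := by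
  classical
  ext i j
  rw [Matrix.neg_apply, Matrix.mul_apply, Matrix.mul_apply]
  have h1 : ∑ k, (shiftMat F e)ᵀ i k * altGram γ e k j =
      if i.val + j.val + 2 = e then (-1) ^ (i.val + 1) * γ else 0 := by
    by_cases h : i.val + 1 < e
    · rw [Finset.sum_eq_single (⟨i.val + 1, h⟩ : Fin e)]
      · rw [Matrix.transpose_apply, shiftMat_apply, if_pos rfl, one_mul, altGram_apply]
        simp only
        by_cases h2 : i.val + j.val + 2 = e
        · rw [if_pos h2, if_pos (by omega)]
        · rw [if_neg h2, if_neg (by omega)]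
      · intro k _ hk
        rw [Matrix.transpose_apply, shiftMat_apply, if_neg, zero_mul]
        intro h3
        apply hk
        apply Fin.ext
        exact h3
      · intro h3
        exact absurd (Finset.mem_univ _) h3
    · rw [if_neg (by have := j.2; omega)]
      apply Finset.sum_eq_zero
      intro k _
      rw [Matrix.transpose_apply, shiftMat_apply, if_neg, zero_mul]
      have := k.2
      omega
  have h2 : ∑ k, altGram γ e i k * shiftMat F e k j =
      if i.val + j.val + 2 = e then (-1) ^ i.val * γ else 0 := by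
    by_cases h : j.val + 1 < e
    · rw [Finset.sum_eq_single (⟨j.val + 1, h⟩ : Fin e)]
      · rw [shiftMat_apply, if_pos rfl, mul_one, altGram_apply]
        simp only
        by_cases h2 : i.val + j.val + 2 = e
        · rw [if_pos h2, if_pos (by omega)]
        · rw [if_neg h2, if_neg (by omega)]
      · intro k _ hk
        rw [shiftMat_apply, if_neg, mul_zero]
        intro h3
        apply hk
        apply Fin.ext
        exact h3
      · intro h3
        exact absurd (Finset.mem_univ _) h3
    · rw [if_neg (by have := i.2; omega)]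
      apply Finset.sum_eq_zero
      intro k _
      rw [shiftMat_apply, if_neg, mul_zero]
      have := k.2
      omega
  rw [h1, h2]
  by_cases h : i.val + j.val + 2 = e
  · rw [if_pos h, if_pos h, pow_succ]
    ring
  · rw [if_neg h, if_neg h, neg_zero]

/-- the inverse of the Gram matrix -/
theorem altGram_mul_inv (γ : F) (hγ : γ ≠ 0) (e : ℕ) :
    altGram γ e * (Matrix.of fun j k : Fin e =>
      if j.val + k.val + 1 = e then ((-1) ^ k.val * γ)⁻¹ else 0) = 1 := by
  classical
  ext i k
  rw [Matrix.mul_apply]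
  have hi := i.2
  rw [Finset.sum_eq_single (⟨e - 1 - i.val, by omega⟩ : Fin e)]
  · rw [altGram_apply, Matrix.of_apply]
    simp only
    rw [if_pos (by omega), Matrix.one_apply]
    by_cases hik : i = k
    · subst hik
      rw [if_pos (by omega), if_pos rfl]
      apply mul_inv_cancel₀
      exact mul_ne_zero (pow_ne_zero _ (neg_ne_zero.mpr one_ne_zero)) hγ
    · rw [if_neg hik, if_neg, mul_zero]
      intro h
      apply hik
      apply Fin.ext
      omega
  · intro j _ hj
    rw [altGram_apply, if_neg, zero_mul]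
    intro h
    apply hj
    apply Fin.ext
    simp only
    omega
  · intro h3
    exact absurd (Finset.mem_univ _) h3

theorem altGram_det_ne_zero (γ : F) (hγ : γ ≠ 0) (e : ℕ) : (altGram γ e).det ≠ 0 := by
  intro h0
  have h1 := congrArg Matrix.det (altGram_mul_inv γ hγ e)
  rw [Matrix.det_mul, h0, zero_mul, Matrix.det_one] at h1
  exact zero_ne_one h1

theorem altGram_hermitian (σ : F →+* F) (γ : F) (e : ℕ) (hγ : σ γ = (-1) ^ (e - 1) * γ) :
    (altGram γ e)ᵀ = (altGram γ e).map σ := by
  ext i j
  rw [Matrix.transpose_apply, Matrix.map_apply, altGram_apply, altGram_apply]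
  by_cases h : i.val + j.val + 1 = e
  · rw [if_pos h, if_pos (by omega), map_mul, map_pow, map_neg, map_one, hγ]
    have h1 : e - 1 = i.val + j.val := by omega
    rw [h1, pow_add]
    have h2 : ((-1 : F) ^ i.val) * ((-1 : F) ^ i.val) = 1 := by
      rw [← pow_add, ← two_mul, pow_mul]
      simp
    calc (-1 : F) ^ j.val * γ = ((-1 : F) ^ i.val * (-1 : F) ^ i.val) * (-1 : F) ^ j.val * γ := by
          rw [h2, one_mul]
      _ = _ := by ring
  · rw [if_neg h, if_neg (by omega), map_zero]

end shift

section unipdet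
variable {F : Type*} [Field F] {e : ℕ}

theorem unip_det' (p : ℕ) [Fact p.Prime] [CharP F p] (he : 1 ≤ e)
    (X : Matrix (Fin e) (Fin e) F) (hX : ∀ j : ℕ, (X - 1) ^ j = 0 ↔ e ≤ j) : X.det = 1 := by
  have hp : p.Prime := Fact.out
  have : Nonempty (Fin e) := ⟨⟨0, by omega⟩⟩
  have h0 : (X - 1) ^ p ^ e = 0 := (hX _).mpr (Nat.lt_pow_self hp.one_lt).le
  rw [sub_pow_char_pow_of_commute p e (Commute.one_right X), one_pow, sub_eq_zero] at h0
  have h1 : X.det ^ p ^ e = 1 := by
    rw [← Matrix.det_pow, h0, Matrix.det_one]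
  have h2 : (X.det - 1) ^ p ^ e = 0 := by
    rw [sub_pow_char_pow, h1, one_pow, sub_self]
  exact sub_eq_zero.mp (pow_eq_zero_iff (pow_ne_zero _ hp.ne_zero) |>.mp h2)

end unipdet

section ru
variable {F : Type*} [Field F] [Fintype F]

theorem map_shiftMat (σ : F →+* F) (e : ℕ) : σ.mapMatrix (shiftMat F e) = shiftMat F e := by
  ext i j
  rw [RingHom.mapMatrix_apply, Matrix.map_apply, shiftMat_apply]
  split_ifs <;> simp

/-- a regular unipotent unitary matrix -/
theorem exists_unitary_regular_unipotent (p : ℕ) [Fact p.Prime] [CharP F p] (k : ℕ)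
    (hF : Fintype.card F = (p ^ k) ^ 2) (e : ℕ) (he : 1 ≤ e) :
    ∃ X : Matrix (Fin e) (Fin e) F, Xᵀ * X.map (· ^ (p ^ k)) = 1 ∧ X.det = 1 ∧
      ∀ j : ℕ, (X - 1) ^ j = 0 ↔ e ≤ j := by
  classical
  have hpp : p.Prime := Fact.out
  set q := p ^ k with hq
  have hq1 : 1 ≤ q := Nat.one_le_pow _ _ hpp.pos
  have hq2' : 2 ≤ q := by
    by_contra hlt
    have : q = 1 := by omega
    rw [this] at hF
    have : 1 < Fintype.card F := Fintype.one_lt_card
    omega
  set σ : F →+* F := iterateFrobenius F p k with hσdef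
  have hσ : ∀ x : F, σ x = x ^ q := fun x => by rw [hσdef, iterateFrobenius_def]
  have hσ2 : ∀ x : F, σ (σ x) = x := by
    intro x
    rw [hσ, hσ, ← pow_mul, ← sq, ← hF, FiniteField.pow_card]
  have hσfun : (fun x : F => x ^ q) = ⇑σ := by
    funext x
    rw [hσ]
  have hσne : σ ≠ RingHom.id F := by
    intro hid
    have h1 : ∀ x : F, x ^ q = x := fun x => by rw [← hσ, hid]; rfl
    have h2 := FiniteField.X_pow_card_sub_X_natDegree_eq F (p := q) (by omega)
    have h3 := Polynomial.card_le_degree_of_subset_roots (R := F)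
      (p := Polynomial.X ^ q - Polynomial.X) (Z := Finset.univ) (fun x _ => by
        rw [Polynomial.mem_roots', Polynomial.IsRoot, Polynomial.eval_sub, Polynomial.eval_pow,
          Polynomial.eval_X, h1, sub_self]
        refine ⟨?_, rfl⟩
        intro h0
        have := congrArg Polynomial.natDegree h0
        rw [h2, Polynomial.natDegree_zero] at this
        omega)
    rw [h2, Finset.card_univ, hF] at h3
    nlinarith
  obtain ⟨d, hd⟩ : ∃ d : F, σ d ≠ d := by
    by_contra hall
    apply hσne
    ext x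
    by_contra hx
    exact hall ⟨x, hx⟩
  -- the constant `γ`
  obtain ⟨γ, hγ0, hγ⟩ : ∃ γ : F, γ ≠ 0 ∧ σ γ = (-1) ^ (e - 1) * γ := by
    rcases neg_one_pow_eq_or F (e - 1) with h | h
    · exact ⟨1, one_ne_zero, by rw [h, map_one, mul_one]⟩
    · refine ⟨d - σ d, sub_ne_zero.mpr (Ne.symm hd), ?_⟩
      rw [h, map_sub, hσ2]
      ring
  -- the constant `c`
  obtain ⟨c, hc⟩ : ∃ c : F, c + σ c ≠ 0 := by
    by_cases h2 : (2 : F) = 0
    · refine ⟨d, ?_⟩
      intro h0
      apply hd
      have h3 : σ d = -d := by linear_combination h0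
      have h4 : -d = d := by linear_combination (-d) * h2
      rw [h3, h4]
    · refine ⟨1, ?_⟩
      rw [map_one]
      intro h0
      apply h2
      linear_combination h0
  set s := σ c with hs
  set N := shiftMat F e with hN
  set G := altGram γ e with hG
  have hNG : Nᵀ * G = -(G * N) := shiftMat_transpose_mul_altGram γ e
  have hGherm : Gᵀ = G.map σ := altGram_hermitian σ γ e hγ
  have hGdet : G.det ≠ 0 := altGram_det_ne_zero γ hγ0 e
  have hσN : σ.mapMatrix N = N := map_shiftMat σ e
  have hNe : N ^ e = 0 := (shiftMat_pow_eq_zero_iff e e).mpr le_rfl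
  -- the two factors
  set A1 : Matrix (Fin e) (Fin e) F := 1 + c • N with hA1
  set B : Matrix (Fin e) (Fin e) F := 1 - s • N with hB
  have hBunit : IsUnit B := by
    apply IsNilpotent.isUnit_one_sub
    exact ⟨e, by rw [_root_.smul_pow, hNe, smul_zero]⟩
  obtain ⟨⟨B', Bi, hBBi, hBiB⟩, hB'⟩ := hBunit
  change B' = B at hB'
  subst hB'
  have hL1 : ∀ a : F, (1 + a • Nᵀ) * G = G * (1 - a • N) := by
    intro a
    rw [add_mul, one_mul, smul_mul_assoc, hNG, mul_sub, mul_one, mul_smul_comm, smul_neg,
      sub_eq_add_neg]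
  have hA1t : A1ᵀ = 1 + c • Nᵀ := by
    rw [hA1, Matrix.transpose_add, Matrix.transpose_one, Matrix.transpose_smul]
  have hBt : Bᵀ = 1 + (-s) • Nᵀ := by
    rw [hB, Matrix.transpose_sub, Matrix.transpose_one, Matrix.transpose_smul, neg_smul,
      sub_eq_add_neg]
  have hsm : ∀ a : F, σ.mapMatrix (a • N) = σ a • N := by
    intro a
    ext i j
    rw [RingHom.mapMatrix_apply, Matrix.map_apply, Matrix.smul_apply, Matrix.smul_apply,
      smul_eq_mul, smul_eq_mul, map_mul]
    congr 1
    have := congrFun (congrFun hσN i) j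
    rw [RingHom.mapMatrix_apply, Matrix.map_apply] at this
    exact this
  have hσA1 : σ.mapMatrix A1 = 1 + s • N := by
    rw [hA1, map_add, map_one, hsm]
  have hσB : σ.mapMatrix B = 1 - c • N := by
    rw [hB, map_sub, map_one, hsm, hs, hσ2]
  have hkey : A1ᵀ * G * σ.mapMatrix A1 = Bᵀ * G * σ.mapMatrix B := by
    rw [hA1t, hBt, hσA1, hσB, hL1, hL1, neg_smul, sub_neg_eq_add, mul_assoc, mul_assoc]
    congr 1
    have hcomm : Commute (1 - c • N) (1 + s • N) := by
      apply Commute.add_right (Commute.one_right _)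
      apply Commute.smul_right
      apply Commute.sub_left (Commute.one_left _)
      exact Commute.smul_left (Commute.refl N) c
    exact hcomm.eq
  set g := A1 * Bi with hg
  have hD : gᵀ * G * σ.mapMatrix g = G := by
    rw [hg, Matrix.transpose_mul, map_mul]
    calc Biᵀ * A1ᵀ * G * (σ.mapMatrix A1 * σ.mapMatrix Bi)
        = Biᵀ * (A1ᵀ * G * σ.mapMatrix A1) * σ.mapMatrix Bi := by simp only [Matrix.mul_assoc]
      _ = Biᵀ * (Bᵀ * G * σ.mapMatrix B) * σ.mapMatrix Bi := by rw [hkey]
      _ = (B * Bi)ᵀ * G * σ.mapMatrix (B * Bi) := by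
          rw [Matrix.transpose_mul, map_mul]
          simp only [Matrix.mul_assoc]
      _ = G := by rw [hBBi, Matrix.transpose_one, map_one, Matrix.one_mul, Matrix.mul_one]
  obtain ⟨P, Pi, hPPi, hPJ⟩ := Cfsg.Agent.Lib.Helper95.GramFactor.exists_gram_factor σ hσne hσ2 G hGherm hGdet
  have hPiP : Pi * P = 1 := mul_eq_one_comm.mp hPPi
  have hXu := twisted_unitary_conj σ P Pi g G hPPi hPJ hD
  -- the nilpotent part
  have hNB : N * B = B * N := by
    rw [hB, mul_sub, sub_mul, mul_one, one_mul, mul_smul_comm, smul_mul_assoc]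
  have hNBi : Commute N Bi := by
    have h1 : N * Bi = Bi * B * N * Bi := by rw [hBiB, one_mul]
    have h2 : Bi * B * N * Bi = Bi * N * (B * Bi) := by
      rw [mul_assoc Bi B N, ← hNB]
      simp only [mul_assoc]
    change N * Bi = Bi * N
    rw [h1, h2, hBBi, mul_one]
  have hg1 : g - 1 = (c + s) • (N * Bi) := by
    have h1 : g - 1 = (A1 - B) * Bi := by rw [sub_mul, hBBi]
    have h2 : A1 - B = (c + s) • N := by
      rw [hA1, hB, add_smul]
      abel
    rw [h1, h2, smul_mul_assoc]
  have hgpow : ∀ j : ℕ, (g - 1) ^ j = 0 ↔ e ≤ j := by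
    intro j
    rw [hg1, _root_.smul_pow, hNBi.mul_pow, ← shiftMat_pow_eq_zero_iff (F := F) e j]
    constructor
    · intro h
      have h1 := (smul_eq_zero.mp h).resolve_left (pow_ne_zero _ hc)
      have h2 : N ^ j * Bi ^ j * B ^ j = N ^ j := by
        rw [mul_assoc, ← (Commute.mul_pow (show Commute Bi B from by
          change Bi * B = B * Bi
          rw [hBiB, hBBi]) j), hBiB, one_pow, mul_one]
      rw [← h2, h1, zero_mul]
    · intro h
      rw [h, zero_mul, smul_zero]
  set X := P * g * Pi with hX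
  have hX1 : X - 1 = P * (g - 1) * Pi := by
    rw [hX, mul_sub, sub_mul, mul_one, hPPi]
  have hXpow : ∀ j : ℕ, (X - 1) ^ j = 0 ↔ e ≤ j := by
    intro j
    rw [hX1, conj_pow_of_inv P (g - 1) Pi hPiP hPPi j, ← hgpow j]
    constructor
    · intro h
      have h2 : (g - 1) ^ j = Pi * (P * (g - 1) ^ j * Pi) * P := by
        simp only [Matrix.mul_assoc]
        rw [hPiP, Matrix.mul_one, ← Matrix.mul_assoc, hPiP, Matrix.one_mul]
      rw [h2, h, mul_zero, zero_mul]
    · intro h
      rw [h, mul_zero, zero_mul]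
  refine ⟨X, ?_, unip_det' p he X hXpow, hXpow⟩
  rw [hσfun]
  exact hXu

end ru

end Cfsg.Agent.Lib.Helper40
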