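import Mathlib
import Cfsg.Agent.Lib.Helper40.UnitaryBasic
import Cfsg.Agent.Lib.Helper36.HermOrtho
import Cfsg.Agent.Lib.Helper40.PSLOrders

/-!
# The Coxeter torus of `SU_3(q)` (helper40)

An element of order `q² - q + 1` in `SU_3(q)` (matrix form): multiplication by an element of
order `q² - q + 1` of the cubic extension `K` of `F = F_{q²}`, which preserves the hermitian form
`Tr_{K/F}(x ^ q³ * y)`, written in an orthonormal basis (helper36's `exists_orthonormal_family_aux`).
-/

set_option autoImplicit false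
set_option linter.unusedSectionVars false

namespace Cfsg.Agent.Lib.Helper40

open Matrix Polynomial Module

section coxeter
variable {F : Type*} [Field F] [Fintype F] {K : Type*} [Field K] [Finite K] [Algebra F K]

/-- the trace of a finite field extension commutes with Frobenius powers -/
theorem trace_pow_char_pow (p : ℕ) [Fact p.Prime] [CharP F p] (j : ℕ) (w : K) :
    Algebra.trace F K (w ^ (p ^ j)) = (Algebra.trace F K w) ^ (p ^ j) := by
  have : CharP K p := charP_of_injective_algebraMap (algebraMap F K).injective p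
  apply (algebraMap F K).injective
  rw [map_pow (algebraMap F K), FiniteField.algebraMap_trace_eq_sum_pow, FiniteField.algebraMap_trace_eq_sum_pow,
    sum_pow_char_pow]
  apply Finset.sum_congr rfl
  intro i _
  rw [← pow_mul, ← pow_mul, mul_comm]

/-- Frobenius fixed -/
theorem pow_natCard_pow (x : K) (n : ℕ) : x ^ (Nat.card K ^ n) = x := by
  have := Fintype.ofFinite K
  rw [← Fintype.card_eq_nat_card]
  exact FiniteField.pow_card_pow n x

/-- the hermitian trace form on a cubic extension of `F_{q²}` and its orthonormal basis -/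
theorem exists_herm_orthonormal (p : ℕ) [Fact p.Prime] [CharP F p] (k : ℕ) (hk : 1 ≤ k)
    (hF : Fintype.card F = (p ^ k) ^ 2) (hK : finrank F K = 3) :
    ∃ (B : K → K → F) (e : Fin 3 → K), 
      (∀ x y, B x y = Algebra.trace F K (x ^ ((p ^ k) ^ 3) * y)) ∧
      (∀ i j, B (e i) (e j) = if i = j then 1 else 0) ∧
      (∀ (c : Fin 3 → F) (d : Fin 3 → F), B (∑ i, c i • e i) (∑ i, d i • e i) = ∑ i, (c i) ^ (p ^ k) * d i) ∧
      LinearIndependent F e := by
  have hpp : p.Prime := Fact.out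
  have : CharP K p := charP_of_injective_algebraMap (algebraMap F K).injective p
  have hq2 : 2 ≤ p ^ k := by
    calc 2 ≤ p := hpp.two_le
      _ = p ^ 1 := (pow_one p).symm
      _ ≤ p ^ k := Nat.pow_le_pow_right hpp.pos hk
  have hcardK : Nat.card K = ((p ^ k) ^ 2) ^ 3 := by
    rw [Module.natCard_eq_pow_finrank (K := F) (V := K), hK, Nat.card_eq_fintype_card, hF]
  have hx6 : ∀ x : K, x ^ ((p ^ k) ^ 3 * (p ^ k) ^ 3) = x := by
    intro x
    have h := pow_natCard_pow x 1
    rw [pow_one, hcardK] at h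
    have e : ((p ^ k) ^ 2) ^ 3 = (p ^ k) ^ 3 * (p ^ k) ^ 3 := by ring
    rw [← e]
    exact h
  have hc2 : ∀ c : F, c ^ ((p ^ k) ^ 2) = c := by
    intro c
    rw [← hF]
    exact FiniteField.pow_card c
  have hc3 : ∀ c : F, c ^ ((p ^ k) ^ 3) = c ^ (p ^ k) := by
    intro c
    have e : (p ^ k) ^ 3 = (p ^ k) ^ 2 * p ^ k := by ring
    rw [e, pow_mul, hc2]
  set σ : F →+* F := iterateFrobenius F p k with hσdef
  have hσ : ∀ c, σ c = c ^ (p ^ k) := fun c => by rw [hσdef, iterateFrobenius_def]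
  have hσ2 : ∀ a : F, σ (σ a) = a := by
    intro a
    rw [hσ, hσ, ← pow_mul, ← sq, hc2]
  have hσne : σ ≠ RingHom.id F := by
    intro h
    obtain ⟨a, ha0, ha⟩ := exists_orderOf_eq_of_dvd_card_sub_one (F := F) (Fintype.card F - 1) dvd_rfl
    have h1 : a ^ (p ^ k) = a := by
      rw [← hσ, h, RingHom.id_apply]
    have h2 : a ^ (p ^ k - 1) = 1 := by
      have : a ^ (p ^ k - 1) * a = 1 * a := by
        rw [← pow_succ, Nat.sub_add_cancel (by omega), h1, one_mul]
      exact mul_right_cancel₀ ha0 this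
    have h3 := (ha _).mp h2
    rw [hF] at h3
    have h4 := Nat.le_of_dvd (by omega) h3
    have h5 : p ^ k < (p ^ k) ^ 2 := by nlinarith
    omega
  have hq3 : (p ^ k) ^ 3 = p ^ (k * 3) := (pow_mul p k 3).symm
  let B : K →ₛₗ[σ] K →ₗ[F] F := LinearMap.mk₂'ₛₗ σ (RingHom.id F)
    (fun x y => Algebra.trace F K (x ^ ((p ^ k) ^ 3) * y))
    (fun x₁ x₂ y => by
      simp only [hq3]
      rw [add_pow_char_pow, add_mul, map_add])
    (fun c x y => by
      rw [_root_.smul_pow, hc3, smul_mul_assoc, map_smul, hσ])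
    (fun x y₁ y₂ => by
      rw [mul_add, map_add])
    (fun c x y => by
      rw [mul_smul_comm, map_smul, RingHom.id_apply])
  have hBdef : ∀ x y, B x y = Algebra.trace F K (x ^ ((p ^ k) ^ 3) * y) := fun x y => rfl
  have hS : B.IsSymm := by
    refine ⟨fun x y => ?_⟩
    rw [hBdef, hBdef, hσ, ← hc3, hq3, ← trace_pow_char_pow, ← hq3, mul_pow, ← pow_mul, hx6, mul_comm]
  have hND : B.Nondegenerate := by
    constructor
    · intro x hx
      have h1 := (traceForm_nondegenerate F K).1 (x ^ ((p ^ k) ^ 3)) (fun y => by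
        rw [Algebra.traceForm_apply]
        exact hx y)
      exact pow_eq_zero_iff (by positivity) |>.mp h1
    · intro y hy
      exact (traceForm_nondegenerate F K).2 y (fun x => by
        rw [Algebra.traceForm_apply]
        have := hy (x ^ ((p ^ k) ^ 3))
        rw [hBdef, ← pow_mul, hx6] at this
        exact this)
  obtain ⟨e, he⟩ := Cfsg.Agent.Lib.Helper36.exists_orthonormal_family_aux σ hσne hσ2 3 K B hS hND hK
  refine ⟨fun x y => B x y, e, hBdef, he, ?_, Cfsg.Agent.Lib.Helper36.linearIndependent_of_orthonormal σ B e he⟩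
  intro c d
  simp only [map_sum, LinearMap.sum_apply, LinearMap.map_smulₛₗ, LinearMap.smul_apply, map_smul, he,
    smul_eq_mul, mul_ite, mul_one, mul_zero, Finset.sum_ite_eq', Finset.mem_univ, if_true, hσ]
  exact Finset.sum_congr rfl (fun i _ => mul_comm _ _)


/-- arithmetic of `q² - q + 1` -/
theorem coxeter_arith (q : ℕ) (hq : 1 ≤ q) :
    (q + 1) * (q ^ 2 - q + 1) = q ^ 3 + 1 ∧ (q ^ 2 + q + 1) * (q ^ 2 - q + 1) = 1 + q ^ 2 + q ^ 4 ∧
    (q ^ 3 + 1) * (q ^ 3 - 1) = (q ^ 2) ^ 3 - 1 := by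
  have h : q ≤ q ^ 2 := by nlinarith
  have h3 : 1 ≤ q ^ 3 := Nat.one_le_pow _ _ hq
  have h6 : 1 ≤ (q ^ 2) ^ 3 := Nat.one_le_pow _ _ (Nat.one_le_pow _ _ hq)
  refine ⟨?_, ?_, ?_⟩
  · zify [h]
    ring
  · zify [h]
    ring
  · zify [h3, h6]
    ring

/-- an element of order `q² - q + 1` in `SU_3(q)` (in matrix form) -/
theorem exists_SU3_coxeter (p : ℕ) [Fact p.Prime] [CharP F p] (k : ℕ) (hk : 1 ≤ k)
    (hF : Fintype.card F = (p ^ k) ^ 2) :
    ∃ X : Matrix (Fin 3) (Fin 3) F, X.det = 1 ∧ Xᵀ * X.map (· ^ (p ^ k)) = 1 ∧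
      ∀ i, X ^ i = 1 → ((p ^ k) ^ 2 - p ^ k + 1) ∣ i := by
  have hpp : p.Prime := Fact.out
  have hq1 : 1 ≤ p ^ k := Nat.one_le_pow _ _ hpp.pos
  obtain ⟨ha1, ha2, ha3⟩ := coxeter_arith (p ^ k) hq1
  have hK : finrank F (FiniteField.Extension F p 3) = 3 := FiniteField.finrank_extension F p 3
  have hdvd : ((p ^ k) ^ 2 - p ^ k + 1) ∣ Fintype.card F ^ 3 - 1 := by
    rw [hF, ← ha3, ← ha1]
    exact Dvd.dvd.mul_right (Dvd.intro_left _ rfl) _
  obtain ⟨u, hu⟩ := exists_orderOf_units_extension (F := F) p 3 _ hdvd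
  obtain ⟨B, e, hBdef, he, hBe, hli⟩ := exists_herm_orthonormal (K := FiniteField.Extension F p 3) p k hk hF hK
  set lam : FiniteField.Extension F p 3 := (u : FiniteField.Extension F p 3) with hlamdef
  have hlamN : lam ^ ((p ^ k) ^ 2 - p ^ k + 1) = 1 := by
    rw [← hu, hlamdef, ← Units.val_pow_eq_pow_val, pow_orderOf_eq_one, Units.val_one]
  have hlam_ord : ∀ i, lam ^ i = 1 → ((p ^ k) ^ 2 - p ^ k + 1) ∣ i := by
    intro i hi
    rw [← hu]
    apply orderOf_dvd_of_pow_eq_one
    apply Units.ext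
    rw [Units.val_pow_eq_pow_val]
    exact hi
  have hlam3 : lam ^ ((p ^ k) ^ 3 + 1) = 1 := by
    rw [← ha1, mul_comm, pow_mul, hlamN, one_pow]
  have hlamnorm : lam ^ (1 + (p ^ k) ^ 2 + (p ^ k) ^ 4) = 1 := by
    rw [← ha2, mul_comm, pow_mul, hlamN, one_pow]
  let b : Basis (Fin 3) F (FiniteField.Extension F p 3) :=
    basisOfLinearIndependentOfCardEqFinrank' e hli (by simp [hK])
  have hb : ∀ i, b i = e i := fun i => by
    rw [coe_basisOfLinearIndependentOfCardEqFinrank']
  refine ⟨Algebra.leftMulMatrix b lam, ?_, ?_, ?_⟩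
  · rw [← Algebra.norm_eq_matrix_det b lam]
    apply (algebraMap F (FiniteField.Extension F p 3)).injective
    rw [FiniteField.algebraMap_norm_eq_pow_sum, hK, map_one, Nat.card_eq_fintype_card, hF]
    simp only [Finset.sum_range_succ, Finset.sum_range_zero]
    convert hlamnorm using 2
    ring
  · have hBinv : ∀ x y, B (lam * x) (lam * y) = B x y := by
      intro x y
      rw [hBdef, hBdef, mul_pow]
      congr 1
      have h1 : lam ^ ((p ^ k) ^ 3) * lam = 1 := by
        rw [← pow_succ]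
        exact hlam3
      calc lam ^ (p ^ k) ^ 3 * x ^ (p ^ k) ^ 3 * (lam * y)
          = (lam ^ ((p ^ k) ^ 3) * lam) * (x ^ (p ^ k) ^ 3 * y) := by ring
        _ = _ := by rw [h1, one_mul]
    have hrep : ∀ j, lam * e j = ∑ i, (Algebra.leftMulMatrix b lam) i j • e i := by
      intro j
      conv_lhs => rw [← b.sum_repr (lam * e j)]
      apply Finset.sum_congr rfl
      intro i _
      rw [Algebra.leftMulMatrix_eq_repr_mul, hb, hb]
    have h1 : ((Algebra.leftMulMatrix b lam).map (· ^ (p ^ k)))ᵀ * (Algebra.leftMulMatrix b lam) = 1 := by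
      ext j l
      rw [Matrix.mul_apply, Matrix.one_apply, ← he j l, ← hBinv, hrep j, hrep l, hBe]
      rfl
    have h2 := _root_.mul_eq_one_comm.mp h1
    have h3 := congrArg Matrix.transpose h2
    rw [Matrix.transpose_mul, Matrix.transpose_transpose, Matrix.transpose_one] at h3
    exact _root_.mul_eq_one_comm.mp h3
  · intro i hi
    apply hlam_ord
    apply Algebra.leftMulMatrix_injective b
    rw [map_pow, hi, map_one]

end coxeter

end Cfsg.Agent.Lib.Helper40
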