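import Mathlib
import Cfsg.Agent.Lib.Helper40.UnitaryCommute
import Cfsg.Agent.Lib.Helper40.PSLCharAdj
import Cfsg.Agent.Lib.Helper40.PSUBound
import Cfsg.Agent.Lib.Helper40.PSUElements
import Cfsg.Agent.Lib.Helper40.PSURegUnip
import Cfsg.Agent.Lib.Helper59.UnitaryIdem
import Cfsg.Agent.Lib.Helper70.SUSingerOdd

/-!
# Ingredients of S2511 for `PSU_n(q)` (helper40)
-/

set_option autoImplicit false
set_option linter.unusedSectionVars false

namespace Cfsg.Agent.Lib.Helper40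

open Matrix

section blocks
variable {F : Type*} [Field F] {n c d : ℕ}

theorem blockMat_transpose (h : c + d = n) (C : Matrix (Fin c) (Fin c) F)
    (D : Matrix (Fin d) (Fin d) F) : (blockMat h C D)ᵀ = blockMat h Cᵀ Dᵀ := by
  unfold blockMat
  rw [Matrix.reindex_apply, Matrix.reindex_apply, Matrix.transpose_submatrix,
    Matrix.fromBlocks_transpose, Matrix.transpose_zero, Matrix.transpose_zero]

theorem blockMat_map (h : c + d = n) (C : Matrix (Fin c) (Fin c) F)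
    (D : Matrix (Fin d) (Fin d) F) (f : F → F) (hf : f 0 = 0) :
    (blockMat h C D).map f = blockMat h (C.map f) (D.map f) := by
  unfold blockMat
  rw [Matrix.reindex_apply, Matrix.reindex_apply, ← Matrix.submatrix_map, Matrix.fromBlocks_map]
  congr 2 <;> ext i j <;> simp [hf]

end blocks

section psu
variable {F : Type*} [Field F] [Fintype F]

/-- the dichotomy -/
theorem psu_dichotomy (p : ℕ) [Fact p.Prime] [CharP F p] (k : ℕ)
    (hF : Fintype.card F = (p ^ k) ^ 2) {n : ℕ} (r : ℕ) (hr : r.Prime) (hrq : r ∣ p ^ k + 1)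
    (hrn : ¬ r ∣ n + 1) (N c j : ℕ)
    (hN : (N : ℤ) * ((p ^ k : ℕ) + 1) = ((p ^ k : ℕ) : ℤ) ^ (n + 1) - (-1) ^ (n + 1))
    (hc : N ∣ c * (p ^ k + 1)) (hj : n + 1 ≤ p ^ j) (x : Cfsg.PSU (n + 1) F (p ^ k)) :
    (∃ z : Cfsg.PSU (n + 1) F (p ^ k), Commute x z ∧ orderOf z = r) ∨ orderOf x ∣ c * p ^ j := by
  have hpp : p.Prime := Fact.out
  have hq0 : p ^ k ≠ 0 := pow_ne_zero _ hpp.ne_zero
  obtain ⟨X, rfl⟩ := QuotientGroup.mk_surjective x
  set A : Matrix (Fin (n + 1)) (Fin (n + 1)) F :=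
    ((X : Matrix.SpecialLinearGroup (Fin (n + 1)) F) : Matrix (Fin (n + 1)) (Fin (n + 1)) F) with hAdef
  have hA : Aᵀ * A.map (· ^ (p ^ k)) = 1 := transpose_mul_map_of_mem_SU (p ^ k) hq0 X.1 X.2
  have hdet : A.det = 1 := X.1.2
  by_cases hidem : ∃ π : Matrix (Fin (n + 1)) (Fin (n + 1)) F, π * π = π ∧ π ≠ 0 ∧ π ≠ 1 ∧
      π * A = A * π ∧ πᵀ = π.map (· ^ (p ^ k))
  · left
    obtain ⟨π, hπ, h0, h1, hcomm, hs⟩ := hidem
    obtain ⟨Z, hZdet, hZu, hZA, hZr, hZk⟩ :=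
      Cfsg.Agent.Lib.Helper59.UnitaryIdem.exists_unitary_commuting_of_idem p k hF A π hπ h0 h1 hcomm hs r hr hrq hrn
    obtain ⟨Z', hZ'⟩ : ∃ Z' : ↥(Cfsg.SU (n + 1) F (p ^ k)),
        ((Z' : Matrix.SpecialLinearGroup (Fin (n + 1)) F) : Matrix (Fin (n + 1)) (Fin (n + 1)) F) = Z :=
      ⟨⟨⟨Z, hZdet⟩, mem_SU_of_transpose_mul_map p k _ hZu⟩, rfl⟩
    refine ⟨QuotientGroup.mk Z', ?_, ?_⟩
    · have h1 : X * Z' = Z' * X := by
        apply Subtype.ext
        apply Subtype.ext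
        rw [Subgroup.coe_mul, Subgroup.coe_mul, Matrix.SpecialLinearGroup.coe_mul,
          Matrix.SpecialLinearGroup.coe_mul, hZ']
        exact hZA.symm
      change (QuotientGroup.mk X : Cfsg.PSU (n + 1) F (p ^ k)) * QuotientGroup.mk Z' =
        QuotientGroup.mk Z' * QuotientGroup.mk X
      rw [← QuotientGroup.mk_mul, ← QuotientGroup.mk_mul, h1]
    · apply orderOf_eq_of_pow_eq_one_iff_dvd
      intro i
      rw [mk_pow_eq_one_iff_PSU hF, hZ']
      constructor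
      · exact hZk i
      · rintro ⟨t, rfl⟩
        refine ⟨1, ?_⟩
        rw [pow_mul, hZr, one_pow, one_smul]
  · right
    obtain ⟨w, hw⟩ := unitary_pow_smul_of_no_idem p k hF A hdet hA hidem N c j hN hc hj
    apply orderOf_dvd_of_pow_eq_one
    rw [mk_pow_eq_one_iff_PSU hF]
    exact ⟨w, hw⟩

/-- the integer `N = (q ^ m - (-1) ^ m) / (q + 1)` -/
theorem exists_singer_order (q m : ℕ) (hq : 1 ≤ q) :
    ∃ N : ℕ, (N : ℤ) * ((q : ℤ) + 1) = (q : ℤ) ^ m - (-1) ^ m := by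
  have h1 : ((q : ℤ) - (-1)) ∣ (q : ℤ) ^ m - (-1) ^ m := sub_dvd_pow_sub_pow _ _ m
  obtain ⟨t, ht⟩ := h1
  have hq' : (1 : ℤ) ≤ (q : ℤ) := by exact_mod_cast hq
  have h2 : (0 : ℤ) ≤ (q : ℤ) ^ m - (-1) ^ m := by
    have h3 : (-1 : ℤ) ^ m ≤ 1 := by
      rcases neg_one_pow_eq_or ℤ m with h | h
      · rw [h]
      · rw [h]; norm_num
    have h4 : (1 : ℤ) ≤ (q : ℤ) ^ m := one_le_pow₀ hq'
    linarith
  have ht0 : 0 ≤ t := by
    by_contra hneg
    rw [not_le] at hneg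
    have h5 : ((q : ℤ) - (-1)) * t < 0 := mul_neg_of_pos_of_neg (by linarith) hneg
    linarith
  refine ⟨t.toNat, ?_⟩
  rw [Int.toNat_of_nonneg ht0, ht]
  ring

/-- the Singer-type element of `PSU_n(q)` -/
theorem exists_psu_singer (p : ℕ) [Fact p.Prime] [CharP F p] (k : ℕ)
    (hF : Fintype.card F = (p ^ k) ^ 2) (n N : ℕ)
    (hN : (N : ℤ) * ((p ^ k : ℕ) + 1) = ((p ^ k : ℕ) : ℤ) ^ (n + 1) - (-1) ^ (n + 1)) :
    ∃ y : Cfsg.PSU (n + 1) F (p ^ k), ∀ i : ℕ, y ^ i = 1 ↔ N ∣ i * (p ^ k + 1) := by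
  have hpp : p.Prime := Fact.out
  have hq1 : 1 ≤ p ^ k := Nat.one_le_pow _ _ hpp.pos
  have hqm : 1 ≤ (p ^ k) ^ (n + 1) := Nat.one_le_pow _ _ hq1
  rcases Nat.even_or_odd (n + 1) with he | ho
  · rw [he.neg_one_pow] at hN
    obtain ⟨m, hm⟩ := he
    have hN' : (p ^ k) ^ (n + 1) - 1 = N * (p ^ k + 1) := by
      zify [hqm]
      push_cast at hN ⊢
      linarith
    obtain ⟨X, hX⟩ := exists_SU_singer_even (F := F) p k hF (n + 1) m (by omega) (by omega) N hN'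
    refine ⟨QuotientGroup.mk X, ?_⟩
    intro i
    rw [mk_pow_eq_one_iff_PSU hF]
    exact hX i
  · rw [ho.neg_one_pow] at hN
    have hN' : (p ^ k) ^ (n + 1) + 1 = N * (p ^ k + 1) := by
      zify
      push_cast at hN ⊢
      linarith
    obtain ⟨X, hX⟩ := Cfsg.Agent.Lib.Helper70.SUSingerOdd.exists_SU_singer_odd (F := F) p k hF (n + 1) ho N hN'
    refine ⟨QuotientGroup.mk X, ?_⟩
    intro i
    rw [mk_pow_eq_one_iff_PSU hF]
    exact hX i

/-- the regular unipotent element of `PSU_n(q)` -/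
theorem exists_psu_regUnip (p : ℕ) [Fact p.Prime] [CharP F p] (k : ℕ)
    (hF : Fintype.card F = (p ^ k) ^ 2) (n : ℕ) :
    ∃ y : Cfsg.PSU (n + 1) F (p ^ k), orderOf y = p ^ Nat.clog p (n + 1) := by
  obtain ⟨X, hXu, hXdet, hXpow⟩ :=
    exists_unitary_regular_unipotent (F := F) p k hF (n + 1) (by omega)
  obtain ⟨X', hX'⟩ : ∃ X' : ↥(Cfsg.SU (n + 1) F (p ^ k)),
      ((X' : Matrix.SpecialLinearGroup (Fin (n + 1)) F) : Matrix (Fin (n + 1)) (Fin (n + 1)) F) = X :=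
    ⟨⟨⟨X, hXdet⟩, mem_SU_of_transpose_mul_map p k _ hXu⟩, rfl⟩
  refine ⟨QuotientGroup.mk X', ?_⟩
  apply orderOf_eq_of_pow_eq_one_iff_dvd
  intro i
  rw [mk_pow_eq_one_iff_PSU hF, hX']
  exact unip_pow_eq_smul_iff p (by omega) X hXpow i

/-- an element of order `r` of `PSU_n(q)`, `n ≥ 3`, for a prime `r ∣ q + 1` -/
theorem exists_psu_order (p : ℕ) [Fact p.Prime] [CharP F p] (k : ℕ)
    (hF : Fintype.card F = (p ^ k) ^ 2) (n : ℕ) (hn : 2 ≤ n) (r : ℕ) (hr : r.Prime)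
    (hrq : r ∣ p ^ k + 1) (l : F) (hl : orderOf l = r) :
    ∃ y : Cfsg.PSU (n + 1) F (p ^ k), orderOf y = r := by
  classical
  have hl0 : l ≠ 0 := by
    intro h
    rw [h, orderOf_zero] at hl
    · exact hr.ne_zero hl.symm
  have hlr : l ^ r = 1 := by rw [← hl]; exact pow_orderOf_eq_one l
  have hlq : l ^ (p ^ k + 1) = 1 := by
    obtain ⟨t, ht⟩ := hrq
    rw [ht, pow_mul, hlr, one_pow]
  obtain ⟨i0, hi0⟩ : ∃ i0 : Fin (n + 1), i0 = ⟨0, by omega⟩ := ⟨_, rfl⟩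
  obtain ⟨i1, hi1⟩ : ∃ i1 : Fin (n + 1), i1 = ⟨1, by omega⟩ := ⟨_, rfl⟩
  have h01 : i0 ≠ i1 := by
    rw [hi0, hi1]
    simp [Fin.ext_iff]
  obtain ⟨d, hd⟩ : ∃ d : Fin (n + 1) → F, d = fun i => (if i = i0 then l else 1) *
      (if i = i1 then l⁻¹ else 1) := ⟨_, rfl⟩
  have hd0 : d i0 = l := by rw [hd]; simp [h01]
  have hd1 : d i1 = l⁻¹ := by rw [hd]; simp [h01.symm]
  have hdo : ∀ i, i ≠ i0 → i ≠ i1 → d i = 1 := by
    intro i h0 h1
    rw [hd]
    simp [h0, h1]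
  have hdq : ∀ i, d i * d i ^ (p ^ k) = 1 := by
    intro i
    rw [← pow_succ']
    by_cases h0 : i = i0
    · rw [h0, hd0, hlq]
    · by_cases h1 : i = i1
      · rw [h1, hd1, inv_pow, hlq, inv_one]
      · rw [hdo i h0 h1, one_pow]
  have hdet : (Matrix.diagonal d).det = 1 := by
    rw [Matrix.det_diagonal, hd, Finset.prod_mul_distrib, Finset.prod_ite_eq' Finset.univ i0,
      Finset.prod_ite_eq' Finset.univ i1]
    simp [hl0]
  have hu : (Matrix.diagonal d)ᵀ * (Matrix.diagonal d).map (· ^ (p ^ k)) = 1 := by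
    have hpp : p.Prime := Fact.out
    have hmap : (Matrix.diagonal d).map (· ^ (p ^ k)) = Matrix.diagonal (fun i => d i ^ (p ^ k)) :=
      Matrix.diagonal_map (f := fun x : F => x ^ (p ^ k)) (zero_pow (pow_ne_zero _ hpp.ne_zero))
    rw [Matrix.diagonal_transpose, hmap, Matrix.diagonal_mul_diagonal, ← Matrix.diagonal_one]
    congr 1
    funext i
    exact hdq i
  obtain ⟨D, hD⟩ : ∃ D : ↥(Cfsg.SU (n + 1) F (p ^ k)),
      ((D : Matrix.SpecialLinearGroup (Fin (n + 1)) F) : Matrix (Fin (n + 1)) (Fin (n + 1)) F) =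
        Matrix.diagonal d :=
    ⟨⟨⟨_, hdet⟩, mem_SU_of_transpose_mul_map p k _ hu⟩, rfl⟩
  refine ⟨QuotientGroup.mk D, ?_⟩
  apply orderOf_eq_of_pow_eq_one_iff_dvd
  intro t
  rw [mk_pow_eq_one_iff_PSU hF, hD, Matrix.diagonal_pow]
  constructor
  · rintro ⟨c, hc⟩
    have e0 := congrFun (congrFun hc i0) i0
    rw [Matrix.diagonal_apply_eq, Matrix.smul_apply, Matrix.one_apply_eq, smul_eq_mul, mul_one,
      Pi.pow_apply] at e0
    rw [hd0] at e0
    rw [← hl]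
    apply orderOf_dvd_of_pow_eq_one
    have hi2 : (⟨2, by omega⟩ : Fin (n + 1)) ≠ i0 := by rw [hi0]; simp [Fin.ext_iff]
    have hi2' : (⟨2, by omega⟩ : Fin (n + 1)) ≠ i1 := by rw [hi1]; simp [Fin.ext_iff]
    have e2 := congrFun (congrFun hc ⟨2, by omega⟩) ⟨2, by omega⟩
    rw [Matrix.diagonal_apply_eq, Matrix.smul_apply, Matrix.one_apply_eq, smul_eq_mul, mul_one,
      Pi.pow_apply, hdo _ hi2 hi2', one_pow] at e2
    rw [e0, ← e2]
  · rintro ⟨s, rfl⟩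
    refine ⟨1, ?_⟩
    rw [one_smul, ← Matrix.diagonal_one]
    congr 1
    funext i
    rw [Pi.pow_apply]
    by_cases h0 : i = i0
    · rw [h0, hd0, pow_mul, hlr, one_pow]
    · by_cases h1 : i = i1
      · rw [h1, hd1, inv_pow, pow_mul, hlr, one_pow, inv_one]
      · rw [hdo i h0 h1, one_pow]

omit [Fintype F] in
theorem smul_unitary {e : ℕ} (q : ℕ) (a : F) (g : Matrix (Fin e) (Fin e) F) :
    (a • g)ᵀ * (a • g).map (· ^ q) = (a * a ^ q) • (gᵀ * g.map (· ^ q)) := by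
  have h1 : (a • g).map (· ^ q) = a ^ q • g.map (· ^ q) := by
    ext i j
    simp [mul_pow]
  rw [h1, Matrix.transpose_smul, Matrix.smul_mul, Matrix.mul_smul, smul_smul]

/-- an element of `PSU_n(q)` whose order is divisible by `r` and by the order of the regular
unipotent element of size `n - 1` -/
theorem exists_psu_mixed (p : ℕ) [Fact p.Prime] [CharP F p] (k : ℕ)
    (hF : Fintype.card F = (p ^ k) ^ 2) (n : ℕ) (hn : 1 ≤ n) (r : ℕ) (hr : r.Prime)
    (hrq : r ∣ p ^ k + 1) (hrn : ¬ r ∣ n + 1) (l : F) (hl : orderOf l = r) :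
    ∃ y : Cfsg.PSU (n + 1) F (p ^ k), r ∣ orderOf y ∧ p ^ Nat.clog p n ∣ orderOf y := by
  classical
  have hpp : p.Prime := Fact.out
  have hl0 : l ≠ 0 := by
    intro h
    rw [h, orderOf_zero] at hl
    · exact hr.ne_zero hl.symm
  have hlr : l ^ r = 1 := by rw [← hl]; exact pow_orderOf_eq_one l
  have hlq : l ^ (p ^ k + 1) = 1 := by
    obtain ⟨t, ht⟩ := hrq
    rw [ht, pow_mul, hlr, one_pow]
  have hsum : n + 1 = n + 1 := rfl
  obtain ⟨g, hgu, hgdet, hgpow⟩ := exists_unitary_regular_unipotent (F := F) p k hF n hn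
  obtain ⟨b, hb⟩ : ∃ b : ℕ, b = (r - 1) * n := ⟨_, rfl⟩
  obtain ⟨Y, hY⟩ : ∃ Y : Matrix (Fin (n + 1)) (Fin (n + 1)) F,
      Y = blockMat hsum (l • g) (l ^ b • (1 : Matrix (Fin 1) (Fin 1) F)) := ⟨_, rfl⟩
  have hr1 : 1 + (r - 1) = r := by have := hr.pos; omega
  have hdet : Y.det = 1 := by
    rw [hY, blockMat_det, Matrix.det_smul, Matrix.det_smul, hgdet, Matrix.det_one,
      Fintype.card_fin, Fintype.card_fin, mul_one, mul_one, pow_one, hb, ← pow_add]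
    have : n + (r - 1) * n = r * n := by
      nth_rewrite 1 [← one_mul n]
      rw [← add_mul, hr1]
    rw [this, pow_mul, hlr, one_pow]
  have hYu : Yᵀ * Y.map (· ^ (p ^ k)) = 1 := by
    rw [hY, blockMat_transpose, blockMat_map _ _ _ _ (zero_pow (pow_ne_zero _ hpp.ne_zero)),
      blockMat_mul, smul_unitary, smul_unitary, hgu, ← pow_succ', hlq, one_smul, ← pow_succ',
      ← pow_mul, mul_comm, pow_mul, hlq, one_pow, one_smul]
    have h1 : (1 : Matrix (Fin 1) (Fin 1) F)ᵀ * (1 : Matrix (Fin 1) (Fin 1) F).map (· ^ (p ^ k)) = 1 := by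
      ext i j
      have hij : i = j := Subsingleton.elim _ _
      simp [Matrix.one_apply, hij]
    rw [h1, blockMat_one]
  have hpow : ∀ t : ℕ, Y ^ t = blockMat hsum (l ^ t • g ^ t)
      ((l ^ b) ^ t • (1 : Matrix (Fin 1) (Fin 1) F)) := by
    intro t
    rw [hY, blockMat_pow, _root_.smul_pow, _root_.smul_pow, one_pow]
  obtain ⟨Y', hY'⟩ : ∃ Y' : ↥(Cfsg.SU (n + 1) F (p ^ k)),
      ((Y' : Matrix.SpecialLinearGroup (Fin (n + 1)) F) : Matrix (Fin (n + 1)) (Fin (n + 1)) F) = Y :=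
    ⟨⟨⟨Y, hdet⟩, mem_SU_of_transpose_mul_map p k _ hYu⟩, rfl⟩
  refine ⟨QuotientGroup.mk Y', ?_⟩
  have key : ∀ t : ℕ, (QuotientGroup.mk Y' : Cfsg.PSU (n + 1) F (p ^ k)) ^ t = 1 →
      r ∣ t ∧ p ^ Nat.clog p n ∣ t := by
    intro t ht
    rw [mk_pow_eq_one_iff_PSU hF, hY', hpow] at ht
    obtain ⟨c, hc⟩ := ht
    rw [← blockMat_smul_one hsum c] at hc
    obtain ⟨h1, h2⟩ := blockMat_inj hsum _ _ _ _ hc
    have h3 : (l ^ b) ^ t = c := by
      have := congrFun (congrFun h2 0) 0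
      simpa using this
    have h4 : g ^ t = ((l ^ t)⁻¹ * c) • (1 : Matrix (Fin n) (Fin n) F) := by
      rw [mul_smul, ← h1, smul_smul, inv_mul_cancel₀ (pow_ne_zero t hl0), one_smul]
    have h5 : p ^ Nat.clog p n ∣ t := (unip_pow_eq_smul_iff p hn g hgpow t).mp ⟨_, h4⟩
    refine ⟨?_, h5⟩
    have h6 : g ^ t = 1 := by
      obtain ⟨s, rfl⟩ := h5
      rw [pow_mul, ← orderOf_unip p hn g hgpow, pow_orderOf_eq_one, one_pow]
    rw [h6] at h1
    have h7 : l ^ t = c := by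
      have := congrFun (congrFun h1 ⟨0, by omega⟩) ⟨0, by omega⟩
      simpa using this
    have h8 : l ^ ((n + 1) * t) = 1 := by
      have e1 : (n + 1) * t = t + n * t := by ring
      have e2 : b * t + n * t = r * (n * t) := by
        rw [hb, ← add_mul]
        have : (r - 1) * n + n = r * n := by
          nth_rewrite 2 [← one_mul n]
          rw [← add_mul, add_comm, hr1]
        rw [this, mul_assoc]
      rw [e1, pow_add, h7, ← h3, ← pow_mul, ← pow_add, e2, pow_mul, hlr, one_pow]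
    have h9 : r ∣ (n + 1) * t := by rw [← hl]; exact orderOf_dvd_of_pow_eq_one h8
    exact (Nat.Coprime.dvd_of_dvd_mul_left ((Nat.Prime.coprime_iff_not_dvd hr).mpr hrn) h9)
  exact key _ (pow_orderOf_eq_one _)

end psu

end Cfsg.Agent.Lib.Helper40
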