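/-
helper40 library: generation of SL_{n+1}(K) by the cyclic monomial matrix `w` and the root subgroup X_{01}
(Steinberg's explicit generators). Uses helper5's `closure_transvection_eq_top`.
-/
import Mathlib
import Cfsg.Agent.Lib.Helper5.SLGen

set_option autoImplicit false

namespace Cfsg.Agent.Lib.Helper40

open Matrix Matrix.SpecialLinearGroup
open scoped commutatorElement
open scoped Fin.NatCast Fin.CommRing

section cyc
variable {K : Type*} [Field K] {n : ℕ}

/-- the sign attached to row `i` of the cyclic monomial matrix -/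
def cycSign (K : Type*) [Field K] (n : ℕ) (i : Fin (n + 1)) : K := if i.val = n then (-1) ^ n else 1

theorem cycSign_mul_self (i : Fin (n + 1)) : cycSign K n i * cycSign K n i = 1 := by
  unfold cycSign
  split_ifs
  · rw [← mul_pow]; simp
  · simp

/-- the cyclic monomial matrix -/
def cycMat (K : Type*) [Field K] (n : ℕ) : Matrix (Fin (n + 1)) (Fin (n + 1)) K :=
  Matrix.of (fun i j => if j.val = i.val + 1 then 1 else if i.val = n ∧ j.val = 0 then (-1) ^ n else 0)

theorem cycMat_apply (i j : Fin (n + 1)) :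
    cycMat K n i j = if j = i + 1 then cycSign K n i else 0 := by
  unfold cycMat cycSign
  rw [Matrix.of_apply]
  have hi := i.isLt
  have hj := j.isLt
  by_cases hin : i.val = n
  · have hlast : i = Fin.last n := Fin.ext hin
    have h1 : ¬ (j.val = i.val + 1) := by omega
    have h2 : (j = i + 1) ↔ j.val = 0 := by
      rw [hlast, Fin.last_add_one, Fin.ext_iff]; rfl
    rw [if_neg h1]
    by_cases hj0 : j.val = 0
    · rw [if_pos ⟨hin, hj0⟩, if_pos (h2.2 hj0), if_pos hin]
    · rw [if_neg (fun h => hj0 h.2), if_neg (fun h => hj0 (h2.1 h))]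
  · have hne : i ≠ Fin.last n := fun h => hin (by rw [h]; rfl)
    have h2 : (j = i + 1) ↔ j.val = i.val + 1 := by
      rw [Fin.ext_iff, Fin.val_add_one_of_lt (lt_of_le_of_ne (Fin.le_last i) hne)]
    by_cases hj1 : j.val = i.val + 1
    · rw [if_pos hj1, if_pos (h2.2 hj1), if_neg hin]
    · rw [if_neg hj1, if_neg (fun h => hin h.1), if_neg (fun h => hj1 (h2.1 h))]

/-- conjugating a transvection by the cyclic monomial matrix -/
theorem cyc_conj (w : SpecialLinearGroup (Fin (n + 1)) K)
    (hw : (w : Matrix (Fin (n + 1)) (Fin (n + 1)) K) = cycMat K n)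
    {i j : Fin (n + 1)} (hij : i ≠ j) (hij' : i - 1 ≠ j - 1) (c : K) :
    w * transvection hij c =
      transvection hij' (cycSign K n (i - 1) * cycSign K n (j - 1) * c) * w := by
  apply Subtype.ext
  rw [coe_mul, coe_mul, transvection_coe, transvection_coe, mul_add, add_mul, mul_one, one_mul, hw]
  congr 1
  ext a b
  by_cases hb : b = j
  · subst hb
    rw [Matrix.mul_single_apply_same]
    by_cases ha : a = i - 1
    · subst ha
      rw [Matrix.single_mul_apply_same, cycMat_apply, cycMat_apply, if_pos (by ring), if_pos (by ring)]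
      have := cycSign_mul_self (K := K) (n := n) (b - 1)
      calc cycSign K n (i - 1) * c = cycSign K n (i - 1) * c * (cycSign K n (b - 1) * cycSign K n (b - 1)) := by
            rw [this, mul_one]
        _ = _ := by ring
    · rw [Matrix.single_mul_apply_of_ne _ _ _ _ _ ha, cycMat_apply,
        if_neg (fun h => ha (by rw [h]; ring)), zero_mul]
  · rw [Matrix.mul_single_apply_of_ne _ _ _ _ _ hb]
    by_cases ha : a = i - 1
    · subst ha
      rw [Matrix.single_mul_apply_same, cycMat_apply, if_neg (fun h => hb (by rw [h]; ring)), mul_zero]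
    · rw [Matrix.single_mul_apply_of_ne _ _ _ _ _ ha]

/-- the whole root subgroup lies in the subgroup -/
def RootIn (G₁ : Subgroup (SpecialLinearGroup (Fin (n + 1)) K)) (i j : Fin (n + 1)) : Prop :=
  ∀ (h : i ≠ j) (c : K), transvection h c ∈ G₁

theorem rootIn_shift (G₁ : Subgroup (SpecialLinearGroup (Fin (n + 1)) K))
    (w : SpecialLinearGroup (Fin (n + 1)) K)
    (hw : (w : Matrix (Fin (n + 1)) (Fin (n + 1)) K) = cycMat K n) (hwG : w ∈ G₁)
    (i j : Fin (n + 1)) (h : RootIn G₁ i j) : RootIn G₁ (i - 1) (j - 1) := by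
  intro hij' c
  have hij : i ≠ j := fun h' => hij' (by rw [h'])
  have key := cyc_conj w hw hij hij' (cycSign K n (i - 1) * cycSign K n (j - 1) * c)
  have hc : cycSign K n (i - 1) * cycSign K n (j - 1) * (cycSign K n (i - 1) * cycSign K n (j - 1) * c) = c := by
    have h1 := cycSign_mul_self (K := K) (n := n) (i - 1)
    have h2 := cycSign_mul_self (K := K) (n := n) (j - 1)
    calc _ = (cycSign K n (i - 1) * cycSign K n (i - 1)) * (cycSign K n (j - 1) * cycSign K n (j - 1)) * c := by ring
      _ = c := by rw [h1, h2, one_mul, one_mul]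
  rw [hc] at key
  have : transvection hij' c = w * transvection hij (cycSign K n (i - 1) * cycSign K n (j - 1) * c) * w⁻¹ := by
    rw [key, mul_inv_cancel_right]
  rw [this]
  exact G₁.mul_mem (G₁.mul_mem hwG (h hij _)) (G₁.inv_mem hwG)

theorem rootIn_comm (G₁ : Subgroup (SpecialLinearGroup (Fin (n + 1)) K))
    (i k j : Fin (n + 1)) (hik : i ≠ k) (hkj : k ≠ j) (h1 : RootIn G₁ i k) (h2 : RootIn G₁ k j) :
    RootIn G₁ i j := by
  intro hij c
  have := Cfsg.Agent.Lib.Helper5.commutator_transvection_transvection hij hik hkj c (1 : K)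
  rw [mul_one] at this
  rw [← this, commutatorElement_def]
  exact G₁.mul_mem (G₁.mul_mem (G₁.mul_mem (h1 hik c) (h2 hkj 1)) (G₁.inv_mem (h1 hik c)))
    (G₁.inv_mem (h2 hkj 1))

theorem eq_top_of_cyc (G₁ : Subgroup (SpecialLinearGroup (Fin (n + 1)) K))
    (w : SpecialLinearGroup (Fin (n + 1)) K)
    (hw : (w : Matrix (Fin (n + 1)) (Fin (n + 1)) K) = cycMat K n) (hwG : w ∈ G₁)
    (h01 : RootIn G₁ 0 1) : G₁ = ⊤ := by
  -- step A
  have hA0 : ∀ m : ℕ, RootIn G₁ (0 - (m : Fin (n + 1))) (1 - (m : Fin (n + 1))) := by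
    intro m
    induction m with
    | zero => simpa using h01
    | succ m ih =>
      have := rootIn_shift G₁ w hw hwG _ _ ih
      have e1 : (0 : Fin (n + 1)) - ((m + 1 : ℕ) : Fin (n + 1)) = 0 - (m : Fin (n + 1)) - 1 := by
        push_cast; ring
      have e2 : (1 : Fin (n + 1)) - ((m + 1 : ℕ) : Fin (n + 1)) = 1 - (m : Fin (n + 1)) - 1 := by
        push_cast; ring
      rw [e1, e2]; exact this
  have hA : ∀ i : Fin (n + 1), RootIn G₁ i (i + 1) := by
    intro i
    have := hA0 (-i).val
    rw [Fin.cast_val_eq_self] at this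
    have e1 : (0 : Fin (n + 1)) - -i = i := by ring
    have e2 : (1 : Fin (n + 1)) - -i = i + 1 := by ring
    rw [e1, e2] at this
    exact this
  -- step B
  have hB : ∀ k : ℕ, 1 ≤ k → k ≤ n → ∀ i : Fin (n + 1), RootIn G₁ i (i + (k : Fin (n + 1))) := by
    intro k hk1
    induction k, hk1 using Nat.le_induction with
    | base => intro _ i; simpa using hA i
    | succ k hk1 ih =>
      intro hkn i
      have hne : ∀ m : ℕ, 1 ≤ m → m ≤ n → ∀ a : Fin (n + 1), a ≠ a + (m : Fin (n + 1)) := by
        intro m hm1 hmn a h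
        have h0 : ((m : ℕ) : Fin (n + 1)) = 0 := by
          have := h.symm
          rwa [add_eq_left] at this
        have := congrArg Fin.val h0
        rw [Fin.val_natCast, Nat.mod_eq_of_lt (by omega)] at this
        simp at this
        omega
      have h1 := ih (by omega) i
      have h2 := hA (i + (k : Fin (n + 1)))
      have e : i + ((k + 1 : ℕ) : Fin (n + 1)) = i + (k : Fin (n + 1)) + 1 := by push_cast; ring
      rw [e]
      exact rootIn_comm G₁ i (i + (k : Fin (n + 1))) _ (hne k hk1 (by omega) i)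
        (by simpa using hne 1 le_rfl (by omega) (i + (k : Fin (n + 1)))) h1 h2
  -- step C
  have hC : ∀ i j : Fin (n + 1), RootIn G₁ i j := by
    intro i j hij c
    have hk : (j - i).val ≠ 0 := by
      intro h0
      apply hij
      have : j - i = 0 := Fin.ext h0
      exact (sub_eq_zero.1 this).symm
    have := hB (j - i).val (by omega) (by have := (j - i).isLt; omega) i
    rw [Fin.cast_val_eq_self] at this
    have e : i + (j - i) = j := by ring
    rw [e] at this
    exact this hij c
  rw [eq_top_iff, ← Cfsg.Agent.Lib.Helper5.closure_transvection_eq_top, Subgroup.closure_le]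
  rintro _ ⟨i, j, hij, c, rfl⟩
  exact hC i j hij c

end cyc

end Cfsg.Agent.Lib.Helper40
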