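import Mathlib
import Cfsg.Agent.Lib.Helper40.PolyFactorCount

/-!
# Irreducible factors of `X^r - 1` over a finite field, `r` a prime different from the characteristic
-/

namespace Cfsg.Agent.Lib.Helper40

open Polynomial UniqueFactorizationMonoid

section
variable {F : Type*} [Field F] [Fintype F] [DecidableEq F]

/-- The set of monic irreducible factors of the `r`-th cyclotomic polynomial. -/
noncomputable def cycloFactors (r : ℕ) : Finset F[X] :=
  (normalizedFactors (cyclotomic r F)).toFinset

theorem cycloFactors_spec {p q : ℕ} [Fact p.Prime] [CharP F p] (hF : Fintype.card F = q)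
    (r i t : ℕ) (hr : r.Prime) (hrp : r ≠ p) (hi : i = orderOf (q : ZMod r))
    (ht : t * i = r - 1) :
    (∀ m ∈ (cycloFactors r : Finset F[X]), m.Monic ∧ Irreducible m ∧ m.natDegree = i) ∧
      (cycloFactors r : Finset F[X]).card = t ∧ (X - 1 : F[X]) ∉ (cycloFactors r : Finset F[X]) ∧
      0 < i ∧ (r : F) ≠ 0 ∧
      ∀ m : F[X], m.Monic → Irreducible m →
        (m ∣ X ^ r - 1 ↔ m = X - 1 ∨ m ∈ (cycloFactors r : Finset F[X])) := by
  have hp : p.Prime := Fact.out
  have : Fact r.Prime := ⟨hr⟩
  obtain ⟨f, hf⟩ := FiniteField.card F p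
  have hK : Fintype.card F = p ^ (f : ℕ) := hf.2
  have hn : p.Coprime r := (Nat.coprime_primes hp hr).mpr hrp.symm
  have hrF : (r : F) ≠ 0 := by
    intro h0
    rw [CharP.cast_eq_zero_iff F p] at h0
    exact hrp ((Nat.prime_dvd_prime_iff_eq hp hr).mp h0).symm
  have hord : orderOf (ZMod.unitOfCoprime _ (hn.pow_left f)) = i := by
    rw [hi, ← orderOf_units, ZMod.coe_unitOfCoprime, ← hF, hK]
  have hipos : 0 < i := by
    rw [← hord]
    exact orderOf_pos _
  have hne : cyclotomic r F ≠ 0 := cyclotomic_ne_zero r F
  refine ⟨?_, ?_, ?_, hipos, hrF, ?_⟩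
  · intro m hm
    rw [cycloFactors, Multiset.mem_toFinset] at hm
    refine ⟨monic_of_mem_normalizedFactors hm, irreducible_of_normalized_factor m hm, ?_⟩
    rw [← hord]
    exact natDegree_of_mem_normalizedFactors_cyclotomic hK hn hm
  · rw [cycloFactors, normalizedFactors_cyclotomic_card hK hn, hord, Nat.totient_prime hr]
    exact Nat.div_eq_of_eq_mul_left hipos ht.symm
  · intro hmem
    rw [cycloFactors, Multiset.mem_toFinset] at hmem
    have h1 := dvd_of_mem_normalizedFactors hmem
    have h2 : (cyclotomic r F).eval 1 = 0 := by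
      obtain ⟨c, hc⟩ := h1
      rw [hc]
      simp
    rw [eval_one_cyclotomic_prime] at h2
    exact hrF h2
  · intro m hm hirr
    rw [← cyclotomic_prime_mul_X_sub_one F r]
    constructor
    · intro hdvd
      rcases hirr.prime.dvd_or_dvd hdvd with h | h
      · right
        rw [cycloFactors, Multiset.mem_toFinset]
        exact mem_normalizedFactors_of_monic_irreducible hne hm hirr h
      · left
        exact eq_of_monic_irreducible_dvd hm hirr (monic_X_sub_C 1) (irreducible_X_sub_C 1) h
    · rintro (h | h)
      · rw [h]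
        exact dvd_mul_left _ _
      · rw [cycloFactors, Multiset.mem_toFinset] at h
        exact dvd_mul_of_dvd_left (dvd_of_mem_normalizedFactors h) _

end

end Cfsg.Agent.Lib.Helper40
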