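import Mathlib

/-!
# The Fine–Herstein count of nilpotent matrices (helper40)

* `exists_fitting_basis` : Fitting decomposition in matrix form.
* `blockDiag_intertwine` : intertwiners of block-diagonal matrices (nilpotent block, invertible
  block) are block-diagonal.
* `card_type_mul`, `typeCount_mul`, `sum_typeCount` : the counting identities.
* `nilCount_eq` : the number of nilpotent `n × n` matrices over `F_q` is `q ^ (n * (n - 1))`.
* `card_pElements_eq_nilCount` : elements of `p`-power order of `GL_n(F)` correspond to nilpotent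
  matrices, in characteristic `p`.
-/

namespace Cfsg.Agent.Lib.Helper40

open Matrix Polynomial

variable {F : Type*} [Field F]

/-- Fitting decomposition in matrix form: every endomorphism of a finite-dimensional space has,
in a suitable basis, a block-diagonal matrix with a nilpotent and an invertible block. -/
theorem exists_fitting_basis {V : Type*} [AddCommGroup V] [Module F V] [FiniteDimensional F V]
    (φ : Module.End F V) :
    ∃ (k m : ℕ) (b : Module.Basis (Fin k ⊕ Fin m) F V)
      (N : Matrix (Fin k) (Fin k) F) (B : Matrix (Fin m) (Fin m) F),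
      IsNilpotent N ∧ IsUnit B.det ∧ LinearMap.toMatrix b b φ = Matrix.fromBlocks N 0 0 B := by
  obtain ⟨j, hc, hj⟩ := ((LinearMap.eventually_isCompl_ker_pow_range_pow φ).and
    (Filter.eventually_ge_atTop 1)).exists
  set K := LinearMap.ker (φ ^ j) with hKdef
  set R := LinearMap.range (φ ^ j) with hRdef
  have hK : ∀ x ∈ K, φ x ∈ K := by
    intro x hx
    rw [hKdef, LinearMap.mem_ker] at hx ⊢
    rw [← Module.End.mul_apply, ← pow_succ, pow_succ', Module.End.mul_apply, hx, map_zero]
  have hR : ∀ x ∈ R, φ x ∈ R := by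
    rintro _ ⟨y, rfl⟩
    refine ⟨φ y, ?_⟩
    rw [← Module.End.mul_apply, ← pow_succ, pow_succ', Module.End.mul_apply]
  set φK := φ.restrict hK with hφK
  set φR := φ.restrict hR with hφR
  have hnil : IsNilpotent φK := by
    refine ⟨j, ?_⟩
    ext x
    rw [hφK, Module.End.pow_restrict, LinearMap.restrict_apply]
    simp
  have hinj : Function.Injective φR := by
    rw [← LinearMap.ker_eq_bot, LinearMap.ker_eq_bot']
    intro x hx
    have h1 : φ (x : V) = 0 := by
      have := congrArg Subtype.val hx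
      simpa [hφR] using this
    have h2 : (x : V) ∈ K := by
      rw [hKdef, LinearMap.mem_ker]
      obtain ⟨i, rfl⟩ : ∃ i, j = i + 1 := ⟨j - 1, by omega⟩
      rw [pow_succ, Module.End.mul_apply, h1, map_zero]
    have h3 : (x : V) ∈ K ⊓ R := ⟨h2, x.2⟩
    rw [hc.inf_eq_bot, Submodule.mem_bot] at h3
    exact Subtype.ext h3
  let e : (K × R) ≃ₗ[F] V := Submodule.prodEquivOfIsCompl K R hc
  have he : ∀ x, e ((φK.prodMap φR) x) = φ (e x) := by
    rintro ⟨x, y⟩
    show (Submodule.prodEquivOfIsCompl K R hc) _ = φ ((Submodule.prodEquivOfIsCompl K R hc) _)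
    rw [Submodule.coe_prodEquivOfIsCompl', Submodule.coe_prodEquivOfIsCompl', map_add]
    rfl
  let bK := Module.finBasis F K
  let bR := Module.finBasis F R
  refine ⟨_, _, (bK.prod bR).map e, LinearMap.toMatrix bK bK φK, LinearMap.toMatrix bR bR φR,
    ?_, ?_, ?_⟩
  · exact hnil.map (LinearMap.toMatrixAlgEquiv bK)
  · rw [LinearMap.det_toMatrix]
    exact LinearEquiv.isUnit_det' (LinearEquiv.ofInjectiveEndo φR hinj)
  · rw [← LinearMap.toMatrix_prodMap]
    ext i i'
    rw [LinearMap.toMatrix_apply, LinearMap.toMatrix_apply, Module.Basis.map_repr,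
      Module.Basis.map_apply, ← he]
    simp

theorem charpoly_of_isNilpotent {κ : Type*} [Fintype κ] [DecidableEq κ] (N : Matrix κ κ F)
    (hN : IsNilpotent N) : N.charpoly = X ^ Fintype.card κ := by
  rw [← sub_eq_zero]
  exact (Matrix.isNilpotent_charpoly_sub_pow_of_isNilpotent hN).eq_zero

theorem rootMultiplicity_charpoly_fromBlocks {k m : ℕ} (N : Matrix (Fin k) (Fin k) F)
    (B : Matrix (Fin m) (Fin m) F) (hN : IsNilpotent N) (hB : IsUnit B.det) :
    (Matrix.fromBlocks N 0 0 B).charpoly.rootMultiplicity 0 = k := by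
  rw [Matrix.charpoly_fromBlocks_zero₁₂, charpoly_of_isNilpotent N hN, Fintype.card_fin]
  have h0 : B.charpoly.coeff 0 ≠ 0 := by
    intro h
    rw [Matrix.det_eq_sign_charpoly_coeff, h, mul_zero] at hB
    exact not_isUnit_zero hB
  have h1 : B.charpoly.rootMultiplicity 0 = 0 := by
    apply Polynomial.rootMultiplicity_eq_zero
    rw [Polynomial.IsRoot, ← Polynomial.coeff_zero_eq_eval_zero]
    exact h0
  have h2 : (X : F[X]) ^ k * B.charpoly ≠ 0 :=
    mul_ne_zero (pow_ne_zero _ Polynomial.X_ne_zero) (Matrix.charpoly_monic B).ne_zero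
  rw [Polynomial.rootMultiplicity_mul h2, h1, add_zero]
  have h3 := Polynomial.rootMultiplicity_X_sub_C_pow (0 : F) k
  simpa using h3

/-- An invertible matrix intertwining two block-diagonal matrices, each with a nilpotent
block and an invertible block, is itself block-diagonal. -/
theorem blockDiag_intertwine {k m : ℕ} {N N' : Matrix (Fin k) (Fin k) F}
    {B B' : Matrix (Fin m) (Fin m) F} (hN : IsNilpotent N) (hN' : IsNilpotent N')
    (hB : IsUnit B.det) (hB' : IsUnit B'.det)
    (Q : Matrix (Fin k ⊕ Fin m) (Fin k ⊕ Fin m) F) (hQ : IsUnit Q.det)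
    (h : Matrix.fromBlocks N 0 0 B * Q = Q * Matrix.fromBlocks N' 0 0 B') :
    ∃ (C : Matrix (Fin k) (Fin k) F) (D : Matrix (Fin m) (Fin m) F),
      IsUnit C.det ∧ IsUnit D.det ∧ Q = Matrix.fromBlocks C 0 0 D ∧
        N * C = C * N' ∧ B * D = D * B' := by
  obtain ⟨Q11, Q12, Q21, Q22, rfl⟩ : ∃ Q11 Q12 Q21 Q22, Q = Matrix.fromBlocks Q11 Q12 Q21 Q22 :=
    ⟨_, _, _, _, (Matrix.fromBlocks_toBlocks Q).symm⟩
  rw [Matrix.fromBlocks_multiply, Matrix.fromBlocks_multiply, Matrix.fromBlocks_inj] at h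
  simp only [Matrix.zero_mul, Matrix.mul_zero, add_zero, zero_add] at h
  obtain ⟨h11, h12, h21, h22⟩ := h
  have e12 : Q12 = 0 := by
    have hp : ∀ j : ℕ, N ^ j * Q12 = Q12 * B' ^ j := by
      intro j
      induction j with
      | zero => simp
      | succ j ih => rw [pow_succ', Matrix.mul_assoc, ih, ← Matrix.mul_assoc, h12,
          Matrix.mul_assoc, ← pow_succ']
    obtain ⟨j, hj⟩ := hN
    have h1 := hp j
    rw [hj, Matrix.zero_mul] at h1
    have h2 : IsUnit (B' ^ j).det := by rw [Matrix.det_pow]; exact hB'.pow j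
    have h3 := congrArg (· * (B' ^ j)⁻¹) h1
    simp only [Matrix.zero_mul] at h3
    rw [Matrix.mul_nonsing_inv_cancel_right _ _ h2] at h3
    exact h3.symm
  have e21 : Q21 = 0 := by
    have hp : ∀ j : ℕ, B ^ j * Q21 = Q21 * N' ^ j := by
      intro j
      induction j with
      | zero => simp
      | succ j ih => rw [pow_succ', Matrix.mul_assoc, ih, ← Matrix.mul_assoc, h21,
          Matrix.mul_assoc, ← pow_succ']
    obtain ⟨j, hj⟩ := hN'
    have h1 := hp j
    rw [hj, Matrix.mul_zero] at h1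
    have h2 : IsUnit (B ^ j).det := by rw [Matrix.det_pow]; exact hB.pow j
    have h3 := congrArg ((B ^ j)⁻¹ * ·) h1
    simp only [Matrix.mul_zero] at h3
    rw [Matrix.nonsing_inv_mul_cancel_left _ _ h2] at h3
    exact h3
  subst e12 e21
  rw [Matrix.det_fromBlocks_zero₁₂] at hQ
  exact ⟨Q11, Q22, isUnit_of_mul_isUnit_left hQ, isUnit_of_mul_isUnit_right hQ, rfl, h11, h22⟩

/-- Block-diagonal form of a matrix whose characteristic polynomial has `0` as a root of
multiplicity `k`. -/
theorem exists_conj_fromBlocks {k m : ℕ} (M : Matrix (Fin k ⊕ Fin m) (Fin k ⊕ Fin m) F)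
    (hM : M.charpoly.rootMultiplicity 0 = k) :
    ∃ (P : GL (Fin k ⊕ Fin m) F) (N : Matrix (Fin k) (Fin k) F) (B : GL (Fin m) F),
      IsNilpotent N ∧ (P : Matrix _ _ F) * Matrix.fromBlocks N 0 0 (B : Matrix _ _ F) *
        ((P⁻¹ : GL (Fin k ⊕ Fin m) F) : Matrix _ _ F) = M := by
  obtain ⟨k', m', b, N, B, hN, hB, hmat⟩ := exists_fitting_basis (Matrix.toLin' M)
  have hM' : LinearMap.toMatrix (Pi.basisFun F (Fin k ⊕ Fin m)) (Pi.basisFun F (Fin k ⊕ Fin m))
      (Matrix.toLin' M) = M := by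
    rw [LinearMap.toMatrix_eq_toMatrix', LinearMap.toMatrix'_toLin']
  have hchar : M.charpoly = (Matrix.fromBlocks N 0 0 B).charpoly := by
    rw [← hmat, LinearMap.charpoly_toMatrix]
    conv_lhs => rw [← hM']
    rw [LinearMap.charpoly_toMatrix]
  have hk : k' = k := by
    rw [← hM, hchar, rootMultiplicity_charpoly_fromBlocks N B hN hB]
  have hm : m' = m := by
    have h1 := Module.finrank_eq_card_basis b
    rw [Module.finrank_fintype_fun_eq_card] at h1
    simp only [Fintype.card_sum, Fintype.card_fin] at h1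
    omega
  subst hk hm
  have h1 := basis_toMatrix_mul_linearMap_toMatrix_mul_basis_toMatrix
    (Pi.basisFun F (Fin k' ⊕ Fin m')) b (Pi.basisFun F (Fin k' ⊕ Fin m')) b (Matrix.toLin' M)
  rw [hM', hmat] at h1
  refine ⟨⟨(Pi.basisFun F (Fin k' ⊕ Fin m')).toMatrix b, b.toMatrix (Pi.basisFun F _),
    Module.Basis.toMatrix_mul_toMatrix_flip _ _, Module.Basis.toMatrix_mul_toMatrix_flip _ _⟩,
    N, Matrix.GeneralLinearGroup.mk'' B hB, hN, ?_⟩
  exact h1

/-- The block-diagonal element of `GL` with blocks `C` and `D`. -/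
def diagGL {k m : ℕ} (C : GL (Fin k) F) (D : GL (Fin m) F) : GL (Fin k ⊕ Fin m) F :=
  ⟨Matrix.fromBlocks C.val 0 0 D.val, Matrix.fromBlocks (C⁻¹).val 0 0 (D⁻¹).val,
   by simp [Matrix.fromBlocks_multiply], by simp [Matrix.fromBlocks_multiply]⟩

theorem diagGL_val {k m : ℕ} (C : GL (Fin k) F) (D : GL (Fin m) F) :
    (diagGL C D).val = Matrix.fromBlocks C.val 0 0 D.val := rfl

theorem diagGL_inv_val {k m : ℕ} (C : GL (Fin k) F) (D : GL (Fin m) F) :
    ((diagGL C D)⁻¹).val = Matrix.fromBlocks (C⁻¹).val 0 0 (D⁻¹).val := rfl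

theorem diagGL_injective {k m : ℕ} {C C' : GL (Fin k) F} {D D' : GL (Fin m) F}
    (h : diagGL C D = diagGL C' D') : C = C' ∧ D = D' := by
  have h1 := congrArg Units.val h
  rw [diagGL_val, diagGL_val, Matrix.fromBlocks_inj] at h1
  exact ⟨Units.ext h1.1, Units.ext h1.2.2.2⟩

theorem units_conj_eq {R : Type*} [Monoid R] (u v : Rˣ) (x y : R)
    (h : u.val * x * (u⁻¹).val = v.val * y * (v⁻¹).val) :
    x * ((u⁻¹).val * v.val) = ((u⁻¹).val * v.val) * y := by
  have h1 : x = (u⁻¹).val * (v.val * y * (v⁻¹).val) * u.val := by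
    rw [← h]; simp [mul_assoc]
  rw [h1]; simp [mul_assoc]

/-- The conjugate of a block-diagonal matrix by a unit. -/
def thetaMap {k m : ℕ}
    (z : GL (Fin k ⊕ Fin m) F × {N : Matrix (Fin k) (Fin k) F // IsNilpotent N} × GL (Fin m) F) :
    Matrix (Fin k ⊕ Fin m) (Fin k ⊕ Fin m) F :=
  z.1.val * Matrix.fromBlocks z.2.1.val 0 0 z.2.2.val * (z.1⁻¹).val

theorem thetaMap_rootMultiplicity {k m : ℕ}
    (z : GL (Fin k ⊕ Fin m) F × {N : Matrix (Fin k) (Fin k) F // IsNilpotent N} × GL (Fin m) F) :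
    (thetaMap z).charpoly.rootMultiplicity 0 = k := by
  rw [thetaMap, Matrix.coe_units_inv, Matrix.charpoly_units_conj]
  exact rootMultiplicity_charpoly_fromBlocks _ _ z.2.1.2
    ((Matrix.isUnit_iff_isUnit_det _).mp z.2.2.isUnit)

theorem isNilpotent_units_conj {k : ℕ} (C : GL (Fin k) F) {N : Matrix (Fin k) (Fin k) F}
    (hN : IsNilpotent N) : IsNilpotent ((C⁻¹).val * N * C.val) := by
  obtain ⟨j, hj⟩ := hN
  refine ⟨j, ?_⟩
  have : ∀ i : ℕ, ((C⁻¹).val * N * C.val) ^ i = (C⁻¹).val * N ^ i * C.val := by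
    intro i
    induction i with
    | zero => simp
    | succ i ih =>
      rw [pow_succ, ih, pow_succ]
      simp [mul_assoc]
  rw [this, hj]; simp

/-- The twisting map used to count the fibres of `thetaMap`. -/
def psiMap {k m : ℕ}
    (z : GL (Fin k ⊕ Fin m) F × {N : Matrix (Fin k) (Fin k) F // IsNilpotent N} × GL (Fin m) F)
    (C : GL (Fin k) F) (D : GL (Fin m) F) :
    GL (Fin k ⊕ Fin m) F × {N : Matrix (Fin k) (Fin k) F // IsNilpotent N} × GL (Fin m) F :=
  (z.1 * diagGL C D, ⟨_, isNilpotent_units_conj C z.2.1.2⟩, D⁻¹ * z.2.2 * D)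

theorem thetaMap_psiMap {k m : ℕ}
    (z : GL (Fin k ⊕ Fin m) F × {N : Matrix (Fin k) (Fin k) F // IsNilpotent N} × GL (Fin m) F)
    (C : GL (Fin k) F) (D : GL (Fin m) F) : thetaMap (psiMap z C D) = thetaMap z := by
  obtain ⟨P, ⟨N, hN⟩, B⟩ := z
  simp only [thetaMap, psiMap, _root_.mul_inv_rev, Units.val_mul, diagGL_val, diagGL_inv_val]
  have h1 : Matrix.fromBlocks C.val 0 0 D.val *
      Matrix.fromBlocks ((C⁻¹).val * N * C.val) 0 0 ((D⁻¹).val * B.val * D.val) *
      Matrix.fromBlocks (C⁻¹).val 0 0 (D⁻¹).val = Matrix.fromBlocks N 0 0 B.val := by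
    rw [Matrix.fromBlocks_multiply, Matrix.fromBlocks_multiply]
    simp [mul_assoc]
  rw [← h1]
  simp only [mul_assoc]


/-- The basic counting identity: matrices of size `k + m` whose characteristic polynomial has
`0` as a root of multiplicity `k`, counted against nilpotent matrices of size `k`. -/
theorem card_type_mul [Fintype F] (k m : ℕ) :
    Nat.card {M : Matrix (Fin k ⊕ Fin m) (Fin k ⊕ Fin m) F //
        M.charpoly.rootMultiplicity 0 = k} *
      (Nat.card (GL (Fin k) F) * Nat.card (GL (Fin m) F)) =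
    Nat.card (GL (Fin k ⊕ Fin m) F) *
      (Nat.card {N : Matrix (Fin k) (Fin k) F // IsNilpotent N} * Nat.card (GL (Fin m) F)) := by
  classical
  have h3 : ∀ M : {M : Matrix (Fin k ⊕ Fin m) (Fin k ⊕ Fin m) F //
      M.charpoly.rootMultiplicity 0 = k},
      ∃ z : GL (Fin k ⊕ Fin m) F × {N : Matrix (Fin k) (Fin k) F // IsNilpotent N} ×
        GL (Fin m) F, thetaMap z = M.1 := by
    rintro ⟨M, hM⟩
    obtain ⟨P, N, B, hN, h⟩ := exists_conj_fromBlocks M hM
    exact ⟨(P, ⟨N, hN⟩, B), h⟩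
  choose base hbase using h3
  rw [← Nat.card_prod, ← Nat.card_prod, ← Nat.card_prod, ← Nat.card_prod]
  refine Nat.card_eq_of_bijective (fun x => psiMap (base x.1) x.2.1 x.2.2) ⟨?_, ?_⟩
  · rintro ⟨M, C, D⟩ ⟨M', C', D'⟩ h
    simp only at h
    have h1 : M = M' := by
      apply Subtype.ext
      rw [← hbase M, ← hbase M', ← thetaMap_psiMap (base M) C D,
        ← thetaMap_psiMap (base M') C' D', h]
    subst h1
    have h2 := congrArg Prod.fst h
    simp only [psiMap] at h2
    have h3 := diagGL_injective (mul_left_cancel h2)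
    rw [h3.1, h3.2]
  · rintro ⟨P, ⟨N, hN⟩, B⟩
    set M : {M : Matrix (Fin k ⊕ Fin m) (Fin k ⊕ Fin m) F //
        M.charpoly.rootMultiplicity 0 = k} :=
      ⟨thetaMap (P, ⟨N, hN⟩, B), thetaMap_rootMultiplicity _⟩ with hMdef
    have h1 : thetaMap (base M) = thetaMap (P, ⟨N, hN⟩, B) := hbase M
    rcases hb : base M with ⟨P0, ⟨N0, hN0⟩, B0⟩
    rw [hb] at h1
    simp only [thetaMap] at h1
    have h2 := units_conj_eq P0 P _ _ h1
    have hQ : IsUnit ((P0⁻¹).val * P.val).det := by
      rw [← Units.val_mul]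
      exact (Matrix.isUnit_iff_isUnit_det _).mp (P0⁻¹ * P).isUnit
    obtain ⟨C0, D0, hC, hD, hQeq, hNC, hBD⟩ := blockDiag_intertwine hN0 hN
      ((Matrix.isUnit_iff_isUnit_det _).mp B0.isUnit)
      ((Matrix.isUnit_iff_isUnit_det _).mp B.isUnit) _ hQ h2
    refine ⟨(M, Matrix.GeneralLinearGroup.mk'' C0 hC, Matrix.GeneralLinearGroup.mk'' D0 hD), ?_⟩
    show psiMap (base M) _ _ = _
    rw [hb]
    simp only [psiMap]
    refine Prod.ext ?_ (Prod.ext ?_ ?_)
    · apply Units.ext
      simp only [Units.val_mul, diagGL_val]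
      show P0.val * Matrix.fromBlocks C0 0 0 D0 = P.val
      rw [← hQeq]
      simp
    · apply Subtype.ext
      show ((Matrix.GeneralLinearGroup.mk'' C0 hC)⁻¹).val * N0 * C0 = N
      rw [mul_assoc, hNC]
      exact Units.inv_mul_cancel_left (Matrix.GeneralLinearGroup.mk'' C0 hC) N
    · apply Units.ext
      simp only [Units.val_mul]
      show ((Matrix.GeneralLinearGroup.mk'' D0 hD)⁻¹).val * B0.val * D0 = B.val
      rw [mul_assoc, hBD]
      exact Units.inv_mul_cancel_left (Matrix.GeneralLinearGroup.mk'' D0 hD) B.val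

variable (F) in
/-- The number of `n × n` matrices whose characteristic polynomial has `0` as a root of
multiplicity exactly `k`. -/
noncomputable def typeCount (n k : ℕ) : ℕ :=
  Nat.card {M : Matrix (Fin n) (Fin n) F // M.charpoly.rootMultiplicity 0 = k}

variable (F) in
/-- The number of nilpotent `n × n` matrices. -/
noncomputable def nilCount (n : ℕ) : ℕ :=
  Nat.card {N : Matrix (Fin n) (Fin n) F // IsNilpotent N}

theorem card_GL_pos [Fintype F] (n : ℕ) : 0 < Nat.card (GL (Fin n) F) := Nat.card_pos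

theorem typeCount_mul [Fintype F] (k m : ℕ) :
    typeCount F (k + m) k * Nat.card (GL (Fin k) F) =
      Nat.card (GL (Fin (k + m)) F) * nilCount F k := by
  have h := card_type_mul (F := F) k m
  have e1 : {M : Matrix (Fin k ⊕ Fin m) (Fin k ⊕ Fin m) F //
        M.charpoly.rootMultiplicity 0 = k} ≃
      {M : Matrix (Fin (k + m)) (Fin (k + m)) F // M.charpoly.rootMultiplicity 0 = k} :=
    (Matrix.reindex finSumFinEquiv finSumFinEquiv).subtypeEquiv (fun M => by
      rw [Matrix.charpoly_reindex])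
  have e2 : GL (Fin k ⊕ Fin m) F ≃ GL (Fin (k + m)) F :=
    (Units.mapEquiv (Matrix.reindexAlgEquiv F F finSumFinEquiv).toMulEquiv).toEquiv
  rw [Nat.card_congr e1, Nat.card_congr e2] at h
  have hm := card_GL_pos (F := F) m
  unfold typeCount nilCount
  have h' : Nat.card {M : Matrix (Fin (k + m)) (Fin (k + m)) F //
      M.charpoly.rootMultiplicity 0 = k} * Nat.card (GL (Fin k) F) * Nat.card (GL (Fin m) F) =
      Nat.card (GL (Fin (k + m)) F) * Nat.card {N : Matrix (Fin k) (Fin k) F // IsNilpotent N} *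
        Nat.card (GL (Fin m) F) := by
    rw [mul_assoc, mul_assoc]; exact h
  exact Nat.eq_of_mul_eq_mul_right hm h'

theorem rootMultiplicity_charpoly_le {n : ℕ} (M : Matrix (Fin n) (Fin n) F) :
    M.charpoly.rootMultiplicity 0 ≤ n := by
  have h0 : M.charpoly ≠ 0 := (Matrix.charpoly_monic M).ne_zero
  have h1 := Polynomial.pow_rootMultiplicity_dvd M.charpoly 0
  have h2 := Polynomial.natDegree_le_of_dvd h1 h0
  rw [Polynomial.natDegree_pow, Polynomial.natDegree_X_sub_C, mul_one,
    Matrix.charpoly_natDegree_eq_dim, Fintype.card_fin] at h2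
  exact h2

theorem sum_typeCount [Fintype F] (n : ℕ) :
    ∑ k ∈ Finset.range (n + 1), typeCount F n k = Fintype.card F ^ (n * n) := by
  classical
  have h1 : Fintype.card (Matrix (Fin n) (Fin n) F) = Fintype.card F ^ (n * n) := by
    rw [Fintype.card_congr (Matrix.of (m := Fin n) (n := Fin n) (α := F)).symm, Fintype.card_fun,
      Fintype.card_fun, Fintype.card_fin, ← pow_mul]
  rw [← h1, ← Finset.card_univ,
    Finset.card_eq_sum_card_fiberwise (f := fun M : Matrix (Fin n) (Fin n) F =>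
      M.charpoly.rootMultiplicity 0) (t := Finset.range (n + 1))
      (fun M _ => Finset.mem_range.mpr (Nat.lt_succ_of_le (rootMultiplicity_charpoly_le M)))]
  refine Finset.sum_congr rfl fun k _ => ?_
  rw [typeCount, Nat.card_eq_fintype_card, Fintype.card_subtype]


theorem gl_succ (q n : ℕ) :
    ∏ i : Fin (n + 1), (q ^ (n + 1) - q ^ (i : ℕ)) =
      (q ^ (n + 1) - 1) * q ^ n * ∏ i : Fin n, (q ^ n - q ^ (i : ℕ)) := by
  rw [Fin.prod_univ_succ]
  simp only [Fin.val_zero, pow_zero, Fin.val_succ]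
  have h : ∀ i : Fin n, q ^ (n + 1) - q ^ ((i : ℕ) + 1) = q * (q ^ n - q ^ (i : ℕ)) := by
    intro i
    rw [Nat.mul_sub, ← pow_succ', ← pow_succ']
  simp only [h]
  rw [Finset.prod_mul_distrib, Finset.prod_const, Finset.card_univ, Fintype.card_fin]
  ring

/-- Fine–Herstein: the number of nilpotent `n × n` matrices over a field with `q` elements
is `q ^ (n * (n - 1))`. -/
theorem nilCount_eq [Fintype F] (n : ℕ) : nilCount F n = Fintype.card F ^ (n * (n - 1)) := by
  set q := Fintype.card F with hq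
  have hq1 : 1 ≤ q := Fintype.card_pos
  rcases n with _ | n
  · have : Unique {N : Matrix (Fin 0) (Fin 0) F // IsNilpotent N} :=
      ⟨⟨⟨0, IsNilpotent.zero⟩⟩, fun N => Subtype.ext (Subsingleton.elim _ _)⟩
    rw [nilCount, Nat.card_unique]
    simp
  · have hsum1 := sum_typeCount (F := F) (n + 1)
    have hsum0 := sum_typeCount (F := F) n
    have htop : typeCount F (n + 1) (n + 1) = nilCount F (n + 1) := by
      have h := typeCount_mul (F := F) (n + 1) 0
      rw [mul_comm] at h
      exact Nat.eq_of_mul_eq_mul_left (card_GL_pos _) h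
    have hlow : ∀ k ∈ Finset.range (n + 1),
        typeCount F (n + 1) k = (q ^ (n + 1) - 1) * q ^ n * typeCount F n k := by
      intro k hk
      obtain ⟨m, rfl⟩ : ∃ m, n = k + m :=
        ⟨n - k, by have := Finset.mem_range.mp hk; omega⟩
      have h1 := typeCount_mul (F := F) k (m + 1)
      have h0 := typeCount_mul (F := F) k m
      have hg : Nat.card (GL (Fin (k + m + 1)) F) =
          (q ^ (k + m + 1) - 1) * q ^ (k + m) * Nat.card (GL (Fin (k + m)) F) := by
        rw [Matrix.card_GL_field, Matrix.card_GL_field, gl_succ]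
      change typeCount F (k + m + 1) k * _ = Nat.card (GL (Fin (k + m + 1)) F) * _ at h1
      rw [hg, mul_assoc, ← h0, ← mul_assoc] at h1
      exact Nat.eq_of_mul_eq_mul_right (card_GL_pos k) h1
    rw [Finset.sum_range_succ, htop, Finset.sum_congr rfl hlow, ← Finset.mul_sum, hsum0] at hsum1
    obtain ⟨Q, hQ⟩ : ∃ Q, q ^ (n + 1) = Q + 1 :=
      ⟨q ^ (n + 1) - 1, by have := Nat.one_le_pow (n + 1) q hq1; omega⟩
    have e1 : q ^ ((n + 1) * (n + 1)) = (Q + 1) * (q ^ n * q ^ (n * n)) := by
      rw [← hQ, ← pow_add, ← pow_add]; congr 1; ring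
    have e2 : q ^ ((n + 1) * (n + 1 - 1)) = q ^ n * q ^ (n * n) := by
      rw [← pow_add]; congr 1
      rw [Nat.add_sub_cancel]; ring
    rw [e2]
    rw [e1, hQ, Nat.add_sub_cancel, mul_assoc] at hsum1
    linarith

theorem exists_orderOf_eq_prime_pow_iff_isNilpotent (p : ℕ) [Fact p.Prime] [CharP F p] {n : ℕ}
    (g : GL (Fin n) F) : (∃ k : ℕ, orderOf g = p ^ k) ↔ IsNilpotent (g.val - 1) := by
  rcases Nat.eq_zero_or_pos n with rfl | hn
  · constructor
    · intro _
      exact ⟨1, Subsingleton.elim _ _⟩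
    · intro _
      refine ⟨0, ?_⟩
      have : g = 1 := Subsingleton.elim _ _
      rw [this, orderOf_one, pow_zero]
  · have : Nonempty (Fin n) := ⟨⟨0, hn⟩⟩
    have hcomm : Commute g.val 1 := Commute.one_right _
    constructor
    · rintro ⟨k, hk⟩
      refine ⟨p ^ k, ?_⟩
      rw [sub_pow_char_pow_of_commute p k hcomm, one_pow, ← Units.val_pow_eq_pow_val, ← hk,
        pow_orderOf_eq_one, Units.val_one, sub_self]
    · rintro ⟨j, hj⟩
      have h1 : (g.val - 1) ^ p ^ j = 0 :=
        pow_eq_zero_of_le (Nat.lt_pow_self (Fact.out : p.Prime).one_lt).le hj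
      rw [sub_pow_char_pow_of_commute p j hcomm, one_pow, sub_eq_zero,
        ← Units.val_pow_eq_pow_val] at h1
      have h2 : g ^ p ^ j = 1 := Units.ext h1
      exact (Nat.dvd_prime_pow (Fact.out : p.Prime)).mp (orderOf_dvd_of_pow_eq_one h2) |>.imp
        fun i hi => hi.2

theorem card_pElements_eq_nilCount (p : ℕ) [Fact p.Prime] [CharP F p] (n : ℕ) :
    Nat.card {g : GL (Fin n) F // ∃ k : ℕ, orderOf g = p ^ k} = nilCount F n := by
  refine Nat.card_congr
    { toFun := fun g => ⟨g.1.val - 1,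
        (exists_orderOf_eq_prime_pow_iff_isNilpotent p g.1).mp g.2⟩
      invFun := fun N => ⟨N.2.isUnit_add_one.unit, by
        rw [exists_orderOf_eq_prime_pow_iff_isNilpotent p]
        rw [IsUnit.unit_spec, add_sub_cancel_right]
        exact N.2⟩
      left_inv := ?_
      right_inv := ?_ }
  · intro g
    apply Subtype.ext
    apply Units.ext
    simp
  · intro N
    apply Subtype.ext
    simp

end Cfsg.Agent.Lib.Helper40
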