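import Mathlib

/-!
# Fixed-point counting for linear maps of prime order over finite fields (helper40)

* `card_invariant_modEq_fixed`: `f ^ r = 1`, `S` an `f`-invariant subspace of a finite-dimensional
  space over a finite field with `q` elements: `q ^ dim S ≡ q ^ dim (S ⊓ ker (f - 1)) [MOD r]`.
* `orderOf_dvd_finrank_sub`: hence `ord_r(q) ∣ dim S - dim (S ⊓ ker (f - 1))`.
* `eq_one_of_invariant_isCompl_isotropic`: an isometry `f` of a nondegenerate form with
  `f ^ r = 1`, `rank (f - 1) ≤ ord_r(q)`, fixing two complementary totally isotropic subspaces,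
  is the identity.
-/

set_option autoImplicit false

namespace Cfsg.Agent.Lib.Helper40

open Module

section fixcount
variable {F : Type*} [Field F] [Fintype F] {V : Type*} [AddCommGroup V] [Module F V]
  [FiniteDimensional F V]

/-- orbit counting: for `f` with `f ^ r = 1` and an `f`-invariant subspace `S`,
`|S| ≡ |S ∩ Fix f|` modulo `r` -/
theorem card_invariant_modEq_fixed (r : ℕ) [Fact r.Prime] (f : V →ₗ[F] V) (hf : f ^ r = 1)
    (S : Submodule F V) (hS : ∀ v ∈ S, f v ∈ S) :
    Fintype.card F ^ finrank F S ≡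
      Fintype.card F ^ finrank F ↥(S ⊓ LinearMap.ker (f - 1)) [MOD r] := by
  classical
  have : Finite V := Module.finite_of_finite F
  let g : Function.End ↥S := fun s => ⟨f s.1, hS s.1 s.2⟩
  have hgk : ∀ k : ℕ, ∀ s : ↥S, ((g ^ k) s : V) = (f ^ k) s.1 := by
    intro k
    induction k with
    | zero => intro s; rfl
    | succ k ih =>
      intro s
      rw [pow_succ', pow_succ']
      change f ((g ^ k) s : V) = f ((f ^ k) s.1)
      rw [ih]
  have hg : g ^ r ^ 1 = 1 := by
    rw [pow_one]
    funext s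
    apply Subtype.ext
    rw [hgk, hf]
    rfl
  haveI : Fintype ↥S := Fintype.ofFinite _
  have h1 := Equiv.Perm.card_fixedPoints_modEq (f := g) (p := r) (n := 1) hg
  rw [Fintype.card_eq_nat_card, Fintype.card_eq_nat_card] at h1
  have h2 : Nat.card ↥(Function.fixedPoints g) = Nat.card ↥(S ⊓ LinearMap.ker (f - 1)) := by
    apply Nat.card_congr
    refine
      { toFun := fun s => ⟨s.1.1, Submodule.mem_inf.mpr ⟨s.1.2, ?_⟩⟩
        invFun := fun v => ⟨⟨v.1, (Submodule.mem_inf.mp v.2).1⟩, ?_⟩
        left_inv := fun s => rfl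
        right_inv := fun v => rfl }
    · have h3 : g s.1 = s.1 := s.2
      have h4 : f s.1.1 = s.1.1 := congrArg Subtype.val h3
      rw [LinearMap.mem_ker, LinearMap.sub_apply, h4]
      simp
    · have h3 : (f - 1) v.1 = 0 := LinearMap.mem_ker.mp (Submodule.mem_inf.mp v.2).2
      rw [LinearMap.sub_apply, sub_eq_zero] at h3
      change g ⟨v.1, (Submodule.mem_inf.mp v.2).1⟩ = ⟨v.1, (Submodule.mem_inf.mp v.2).1⟩
      apply Subtype.ext
      exact h3
  rw [h2, Module.natCard_eq_pow_finrank (K := F) (V := ↥S),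
    Module.natCard_eq_pow_finrank (K := F) (V := ↥(S ⊓ LinearMap.ker (f - 1))),
    Nat.card_eq_fintype_card] at h1
  exact h1

/-- the order of `q` modulo `r` divides the codimension of the fixed space in an invariant
subspace -/
theorem orderOf_dvd_finrank_sub (r : ℕ) [Fact r.Prime] (hrq : ¬ r ∣ Fintype.card F)
    (f : V →ₗ[F] V) (hf : f ^ r = 1) (S : Submodule F V) (hS : ∀ v ∈ S, f v ∈ S) :
    orderOf ((Fintype.card F : ℕ) : ZMod r) ∣
      finrank F S - finrank F ↥(S ⊓ LinearMap.ker (f - 1)) := by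
  have h1 := card_invariant_modEq_fixed r f hf S hS
  have hle : finrank F ↥(S ⊓ LinearMap.ker (f - 1)) ≤ finrank F S :=
    Submodule.finrank_mono inf_le_left
  have h2 := (ZMod.natCast_eq_natCast_iff _ _ _).mpr h1
  push_cast at h2
  have hq0 : ((Fintype.card F : ℕ) : ZMod r) ≠ 0 := by
    intro h
    exact hrq ((ZMod.natCast_eq_zero_iff _ _).mp h)
  rw [orderOf_dvd_iff_pow_eq_one]
  have h3 : ((Fintype.card F : ℕ) : ZMod r) ^ finrank F S =
      ((Fintype.card F : ℕ) : ZMod r) ^ (finrank F S - finrank F ↥(S ⊓ LinearMap.ker (f - 1))) *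
      ((Fintype.card F : ℕ) : ZMod r) ^ finrank F ↥(S ⊓ LinearMap.ker (f - 1)) := by
    rw [← pow_add, Nat.sub_add_cancel hle]
  rw [h3] at h2
  have h4 : ((Fintype.card F : ℕ) : ZMod r) ^ finrank F ↥(S ⊓ LinearMap.ker (f - 1)) ≠ 0 :=
    pow_ne_zero _ hq0
  exact mul_right_cancel₀ h4 (h2.trans (one_mul _).symm)

end fixcount

section isometry
variable {F : Type*} [Field F] {V : Type*} [AddCommGroup V] [Module F V]

/-- if an isometry fixes `W` pointwise, `U` setwise, `U` totally isotropic and `U ⊔ W = ⊤`,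
then it fixes `U` pointwise -/
theorem le_ker_sub_one_of_le (B : V →ₗ[F] V →ₗ[F] F) (f : V →ₗ[F] V)
    (hBf : ∀ u v, B (f u) (f v) = B u v) (hnd : ∀ u, (∀ v, B u v = 0) → u = 0)
    (U W : Submodule F V) (hsup : U ⊔ W = ⊤) (hU : ∀ u ∈ U, ∀ v ∈ U, B u v = 0)
    (hfU : ∀ v ∈ U, f v ∈ U) (hWC : W ≤ LinearMap.ker (f - 1)) :
    U ≤ LinearMap.ker (f - 1) := by
  intro u hu
  rw [LinearMap.mem_ker, LinearMap.sub_apply, Module.End.one_apply]
  apply hnd
  intro v
  have hv : v ∈ U ⊔ W := by rw [hsup]; exact Submodule.mem_top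
  obtain ⟨u', hu', w, hw, rfl⟩ := Submodule.mem_sup.mp hv
  have h1 : B (f u - u) u' = 0 := hU _ (U.sub_mem (hfU u hu) hu) _ hu'
  have h2 : f w = w := by
    have := hWC hw
    rw [LinearMap.mem_ker, LinearMap.sub_apply, Module.End.one_apply, sub_eq_zero] at this
    exact this
  have h3 : B (f u - u) w = 0 := by
    rw [map_sub, LinearMap.sub_apply]
    nth_rewrite 1 [← h2]
    rw [hBf, sub_self]
  rw [map_add, h1, h3, add_zero]

end isometry

section derange
variable {F : Type*} [Field F] [Fintype F] {V : Type*} [AddCommGroup V] [Module F V]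
  [FiniteDimensional F V]

/-- an isometry `f` of a nondegenerate form with `f ^ r = 1`, `rank (f - 1) ≤ ord_r(q)`, fixing
two complementary totally isotropic subspaces, is the identity -/
theorem eq_one_of_invariant_isCompl_isotropic (r : ℕ) [Fact r.Prime]
    (hrq : ¬ r ∣ Fintype.card F) (B : V →ₗ[F] V →ₗ[F] F) (f : V →ₗ[F] V) (hf : f ^ r = 1)
    (hBf : ∀ u v, B (f u) (f v) = B u v) (hnd : ∀ u, (∀ v, B u v = 0) → u = 0)
    (hrank : finrank F (LinearMap.range (f - 1)) ≤ orderOf ((Fintype.card F : ℕ) : ZMod r))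
    (U W : Submodule F V) (hc : IsCompl U W)
    (hU : ∀ u ∈ U, ∀ v ∈ U, B u v = 0) (hW : ∀ u ∈ W, ∀ v ∈ W, B u v = 0)
    (hfU : ∀ v ∈ U, f v ∈ U) (hfW : ∀ v ∈ W, f v ∈ W) : f = 1 := by
  set C := LinearMap.ker (f - 1) with hC
  set e := orderOf ((Fintype.card F : ℕ) : ZMod r) with he
  have hdU : e ∣ finrank F U - finrank F ↥(U ⊓ C) := orderOf_dvd_finrank_sub r hrq f hf U hfU
  have hdW : e ∣ finrank F W - finrank F ↥(W ⊓ C) := orderOf_dvd_finrank_sub r hrq f hf W hfW
  have hleU : finrank F ↥(U ⊓ C) ≤ finrank F U := Submodule.finrank_mono inf_le_left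
  have hleW : finrank F ↥(W ⊓ C) ≤ finrank F W := Submodule.finrank_mono inf_le_left
  -- the fixed space splits
  have hsplit : finrank F C = finrank F ↥(U ⊓ C) + finrank F ↥(W ⊓ C) := by
    have h1 : (U ⊓ C) ⊓ (W ⊓ C) = ⊥ := by
      rw [eq_bot_iff]
      intro v hv
      have hv1 : v ∈ U := (Submodule.mem_inf.mp (Submodule.mem_inf.mp hv).1).1
      have hv2 : v ∈ W := (Submodule.mem_inf.mp (Submodule.mem_inf.mp hv).2).1
      have : v ∈ U ⊓ W := Submodule.mem_inf.mpr ⟨hv1, hv2⟩
      rw [hc.inf_eq_bot] at this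
      exact this
    have h2 : (U ⊓ C) ⊔ (W ⊓ C) = C := by
      apply le_antisymm
      · exact sup_le inf_le_right inf_le_right
      · intro c hc'
        have hcT : c ∈ U ⊔ W := by rw [hc.sup_eq_top]; exact Submodule.mem_top
        obtain ⟨u, hu, w, hw, rfl⟩ := Submodule.mem_sup.mp hcT
        have h3 : f (u + w) = u + w := by
          have := hc'
          rw [hC, LinearMap.mem_ker, LinearMap.sub_apply, Module.End.one_apply, sub_eq_zero]
            at this
          exact this
        rw [map_add] at h3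
        have h4 : f u - u = w - f w := by
          rw [sub_eq_sub_iff_add_eq_add]
          rw [h3, add_comm]
        have h5 : f u - u ∈ U ⊓ W := by
          refine Submodule.mem_inf.mpr ⟨U.sub_mem (hfU u hu) hu, ?_⟩
          rw [h4]
          exact W.sub_mem hw (hfW w hw)
        rw [hc.inf_eq_bot, Submodule.mem_bot] at h5
        have h6 : w - f w = 0 := by rw [← h4, h5]
        apply Submodule.add_mem_sup
        · refine Submodule.mem_inf.mpr ⟨hu, ?_⟩
          rw [hC, LinearMap.mem_ker, LinearMap.sub_apply, Module.End.one_apply]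
          exact h5
        · refine Submodule.mem_inf.mpr ⟨hw, ?_⟩
          rw [hC, LinearMap.mem_ker, LinearMap.sub_apply, Module.End.one_apply, sub_eq_zero]
          exact (sub_eq_zero.mp h6).symm
    have h3 := Submodule.finrank_sup_add_finrank_inf_eq (U ⊓ C) (W ⊓ C)
    rw [h1, h2, finrank_bot, add_zero] at h3
    exact h3
  have hUW : finrank F U + finrank F W = finrank F V := Submodule.finrank_add_eq_of_isCompl hc
  have hrn : finrank F (LinearMap.range (f - 1)) + finrank F C = finrank F V :=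
    LinearMap.finrank_range_add_finrank_ker (f - 1)
  have hsum : (finrank F U - finrank F ↥(U ⊓ C)) + (finrank F W - finrank F ↥(W ⊓ C)) ≤ e := by
    omega
  have hzero : finrank F U - finrank F ↥(U ⊓ C) = 0 ∨ finrank F W - finrank F ↥(W ⊓ C) = 0 := by
    by_contra hcon
    rw [not_or] at hcon
    have h1 := Nat.le_of_dvd (Nat.pos_of_ne_zero hcon.1) hdU
    have h2 := Nat.le_of_dvd (Nat.pos_of_ne_zero hcon.2) hdW
    have he0 : e = 0 := by omega
    rw [he0, zero_dvd_iff] at hdU
    exact hcon.1 hdU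
  have hUC_of : finrank F U - finrank F ↥(U ⊓ C) = 0 → U ≤ C := by
    intro h
    have h1 : U ⊓ C = U := by
      apply Submodule.eq_of_le_of_finrank_eq inf_le_left
      omega
    rw [← h1]
    exact inf_le_right
  have hWC_of : finrank F W - finrank F ↥(W ⊓ C) = 0 → W ≤ C := by
    intro h
    have h1 : W ⊓ C = W := by
      apply Submodule.eq_of_le_of_finrank_eq inf_le_left
      omega
    rw [← h1]
    exact inf_le_right
  have hboth : U ≤ C ∧ W ≤ C := by
    rcases hzero with h | h
    · have hUC := hUC_of h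
      refine ⟨hUC, ?_⟩
      exact le_ker_sub_one_of_le B f hBf hnd W U (by rw [sup_comm]; exact hc.sup_eq_top) hW hfW hUC
    · have hWC := hWC_of h
      refine ⟨?_, hWC⟩
      exact le_ker_sub_one_of_le B f hBf hnd U W hc.sup_eq_top hU hfU hWC
  have htop : C = ⊤ := by
    rw [eq_top_iff, ← hc.sup_eq_top]
    exact sup_le hboth.1 hboth.2
  have h0 : f - 1 = 0 := LinearMap.ker_eq_top.mp htop
  exact sub_eq_zero.mp h0

end derange

section derange2
variable {F : Type*} [Field F] [Fintype F] {V : Type*} [AddCommGroup V] [Module F V]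
  [FiniteDimensional F V]

/-- a nontrivial isometry `f` with `f ^ r = 1` (`r` odd) and `rank (f - 1) ≤ ord_r(q)` neither
fixes nor interchanges two complementary totally isotropic subspaces -/
theorem not_exists_invariant_isotropic_pair (r : ℕ) [Fact r.Prime] (hr2 : r ≠ 2)
    (hrq : ¬ r ∣ Fintype.card F) (B : V →ₗ[F] V →ₗ[F] F) (f : V →ₗ[F] V) (hf : f ^ r = 1)
    (hf1 : f ≠ 1)
    (hBf : ∀ u v, B (f u) (f v) = B u v) (hnd : ∀ u, (∀ v, B u v = 0) → u = 0)
    (hrank : finrank F (LinearMap.range (f - 1)) ≤ orderOf ((Fintype.card F : ℕ) : ZMod r)) :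
    ¬ ∃ U W : Submodule F V, IsCompl U W ∧ (∀ u ∈ U, ∀ v ∈ U, B u v = 0) ∧
      (∀ u ∈ W, ∀ v ∈ W, B u v = 0) ∧
      ((U.map f = U ∧ W.map f = W) ∨ (U.map f = W ∧ W.map f = U)) := by
  rintro ⟨U, W, hc, hU, hW, hfix⟩
  rcases hfix with ⟨h1, h2⟩ | ⟨h1, h2⟩
  · apply hf1
    apply eq_one_of_invariant_isCompl_isotropic r hrq B f hf hBf hnd hrank U W hc hU hW
    · intro v hv
      rw [← h1]
      exact Submodule.mem_map_of_mem hv
    · intro v hv
      rw [← h2]
      exact Submodule.mem_map_of_mem hv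
  · -- `f ^ 2` fixes both
    have hr : r.Prime := Fact.out
    have hsq : f ^ 2 = 1 := by
      apply eq_one_of_invariant_isCompl_isotropic r hrq B (f ^ 2) ?_ ?_ hnd ?_ U W hc hU hW
      · intro v hv
        rw [pow_two, Module.End.mul_apply]
        have h3 : f v ∈ W := by rw [← h1]; exact Submodule.mem_map_of_mem hv
        rw [← h2]
        exact Submodule.mem_map_of_mem h3
      · intro v hv
        rw [pow_two, Module.End.mul_apply]
        have h3 : f v ∈ U := by rw [← h2]; exact Submodule.mem_map_of_mem hv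
        rw [← h1]
        exact Submodule.mem_map_of_mem h3
      · rw [← pow_mul, mul_comm, pow_mul, hf, one_pow]
      · intro u v
        rw [pow_two, Module.End.mul_apply, Module.End.mul_apply, hBf, hBf]
      · refine le_trans ?_ hrank
        apply Submodule.finrank_mono
        have h3 : f ^ 2 - 1 = (f - 1) * (f + 1) := by
          rw [pow_two, sub_mul, mul_add, mul_one, one_mul]
          abel
        rw [h3]
        exact LinearMap.range_comp_le_range _ _
    apply hf1
    obtain ⟨k, hk⟩ := hr.odd_of_ne_two hr2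
    have h3 : f ^ r = f := by
      rw [hk, pow_succ, pow_mul, hsq, one_pow, one_mul]
    rw [← h3, hf]

end derange2

end Cfsg.Agent.Lib.Helper40
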