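import Mathlib
import Cfsg.Agent.Lib.Helper40.FrobeniusDiv

/-!
# P. Hall's generalisation of Frobenius' theorem (helper40)

`hall_frobenius_dvd` : `gcd(|c^G| * n, |G|)` divides `#{x | x ^ n ∈ c^G}`.
`card_pow_eq_central_dvd` : for `c` central, `gcd(n, |K|)` divides `#{x | x ^ n = c}`.
-/

namespace Cfsg.Agent.Lib.Helper40

open Finset

universe u

/-- In a cyclic group of order divisible by `k`, the equation `q^k = 1` has exactly `k` solutions. -/
theorem nsol_cyclic {Q : Type u} [Group Q] [Finite Q] [IsCyclic Q] (k : ℕ) (hk : k ∣ Nat.card Q) :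
    nsol Q k = k := by
  classical
  have := Fintype.ofFinite Q
  have hk0 : 0 < k := Nat.pos_of_ne_zero (by
    rintro rfl
    exact Nat.card_pos.ne' (Nat.eq_zero_of_zero_dvd hk))
  apply le_antisymm
  · rw [nsol_eq_card_filter]
    exact IsCyclic.card_pow_eq_one_le hk0
  · exact Nat.le_of_dvd (nsol_pos k) (frobenius_dvd k hk)

theorem nsol_subgroup {G : Type*} [Group G] [Fintype G] [DecidableEq G] (H : Subgroup G)
    [DecidablePred (· ∈ H)] (k : ℕ) :
    (univ.filter (fun t : G => t ∈ H ∧ t ^ k = 1)).card = nsol ↥H k := by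
  unfold nsol
  rw [← Fintype.card_subtype, ← Nat.card_eq_fintype_card]
  apply Nat.card_congr
  exact
    { toFun := fun y => ⟨⟨y.1, y.2.1⟩, Subtype.ext y.2.2⟩
      invFun := fun y => ⟨y.1.1, y.1.2, congrArg Subtype.val y.2⟩
      left_inv := fun _ => rfl
      right_inv := fun _ => rfl }

theorem orderOf_of_pow_prime_pow_eq {K : Type*} [Group K] [Finite K] (p b : ℕ) (hp : p.Prime)
    (y d : K) (hy : y ^ (p ^ b) = d) (hd : p ∣ orderOf d) : orderOf y = p ^ b * orderOf d := by
  have h1 : orderOf d = orderOf y / Nat.gcd (orderOf y) (p ^ b) := by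
    rw [← hy, orderOf_pow]
  obtain ⟨j, hjb, hj⟩ := (Nat.dvd_prime_pow hp).mp (Nat.gcd_dvd_right (orderOf y) (p ^ b))
  have h2 : orderOf y = orderOf d * p ^ j := by
    rw [h1, hj]
    exact (Nat.div_mul_cancel (hj ▸ Nat.gcd_dvd_left _ _)).symm
  rcases Nat.lt_or_ge j b with hlt | hge
  · exfalso
    have h3 : p ^ (j + 1) ∣ orderOf y := by
      rw [h2, pow_succ, mul_comm]
      exact Nat.mul_dvd_mul_right hd _
    have h4 : p ^ (j + 1) ∣ p ^ b := pow_dvd_pow p hlt
    have h5 : p ^ (j + 1) ∣ p ^ j := by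
      rw [← hj]; exact Nat.dvd_gcd h3 h4
    have := (Nat.pow_dvd_pow_iff_le_right hp.one_lt).mp h5
    omega
  · have : j = b := le_antisymm hjb hge
    rw [h2, this, mul_comm]

/-- If `p` divides the order of `d`, the number of solutions of `y^(p^b) = d` is a multiple of
`p^b`. -/
theorem pow_dvd_card_pow_eq_of_dvd_orderOf (p : ℕ) (hp : p.Prime) {K : Type u} [Group K]
    [Finite K] (d : K) (hd : p ∣ orderOf d) (b : ℕ) :
    p ^ b ∣ Nat.card {y : K // y ^ (p ^ b) = d} := by
  classical
  have := Fintype.ofFinite K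
  have : Fintype (Subgroup K) := Fintype.ofFinite _
  rw [Nat.card_eq_fintype_card, Fintype.card_subtype]
  rw [Finset.card_eq_sum_card_fiberwise (f := fun x : K => Subgroup.zpowers x) (t := Finset.univ)
    (fun _ _ => Finset.mem_coe.mpr (Finset.mem_univ _))]
  apply Finset.dvd_sum
  intro Q _
  by_cases hQ : ∃ y0 : K, y0 ^ (p ^ b) = d ∧ Subgroup.zpowers y0 = Q
  · obtain ⟨y0, hy0, rfl⟩ := hQ
    have ho0 := orderOf_of_pow_prime_pow_eq p b hp y0 d hy0 hd
    have hcard : Nat.card ↥(Subgroup.zpowers y0) = p ^ b * orderOf d := by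
      rw [Nat.card_zpowers, ho0]
    have h1 : nsol ↥(Subgroup.zpowers y0) (p ^ b) = p ^ b :=
      nsol_cyclic _ (by rw [hcard]; exact Dvd.intro _ rfl)
    rw [← nsol_subgroup] at h1
    apply dvd_of_eq
    refine Eq.trans h1.symm ?_
    apply Finset.card_nbij' (fun t => t * y0) (fun y => y * y0⁻¹)
    · intro t ht
      simp only [Finset.mem_coe, Finset.mem_filter, Finset.mem_univ, true_and] at ht ⊢
      obtain ⟨k, hk⟩ := Subgroup.mem_zpowers_iff.mp ht.1
      have hc : Commute t y0 := by
        rw [← hk]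
        exact Commute.zpow_self y0 k
      have hpow : (t * y0) ^ (p ^ b) = d := by
        rw [hc.mul_pow, ht.2, one_mul, hy0]
      refine ⟨hpow, ?_⟩
      apply Subgroup.eq_of_le_of_card_ge
      · rw [Subgroup.zpowers_le]
        exact Subgroup.mul_mem _ ht.1 (Subgroup.mem_zpowers y0)
      · rw [Nat.card_zpowers, Nat.card_zpowers, ho0,
          orderOf_of_pow_prime_pow_eq p b hp _ d hpow hd]
    · intro y hy
      simp only [Finset.mem_coe, Finset.mem_filter, Finset.mem_univ, true_and] at hy ⊢
      have hyQ : y ∈ Subgroup.zpowers y0 := by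
        rw [← hy.2]; exact Subgroup.mem_zpowers y
      refine ⟨Subgroup.mul_mem _ hyQ (Subgroup.inv_mem _ (Subgroup.mem_zpowers y0)), ?_⟩
      obtain ⟨k, hk⟩ := Subgroup.mem_zpowers_iff.mp hyQ
      have hc : Commute y y0⁻¹ := by
        rw [← hk]
        exact (Commute.zpow_self y0 k).inv_right
      rw [hc.mul_pow, hy.1, inv_pow, hy0, mul_inv_cancel]
    · intro t _
      change t * y0 * y0⁻¹ = t
      group
    · intro y _
      change y * y0⁻¹ * y0 = y
      group
  · rw [Finset.card_eq_zero.mpr]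
    · exact dvd_zero _
    · rw [Finset.filter_eq_empty_iff]
      intro x hx hxQ
      simp only [Finset.mem_filter, Finset.mem_univ, true_and] at hx
      exact hQ ⟨x, hx, hxQ⟩

/-- **Prime power case with a central right-hand side.** -/
theorem card_pow_prime_pow_eq_central (p : ℕ) (hp : p.Prime) {K : Type u} [Group K] [Finite K]
    (d : K) (hd : d ∈ Subgroup.center K) (b : ℕ) :
    Nat.gcd (p ^ b) (Nat.card K) ∣ Nat.card {y : K // y ^ (p ^ b) = d} := by
  by_cases hpd : p ∣ orderOf d
  · exact dvd_trans (Nat.gcd_dvd_left _ _) (pow_dvd_card_pow_eq_of_dvd_orderOf p hp d hpd b)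
  · have hcop : (Nat.card ↥(Subgroup.zpowers d)).Coprime (p ^ b) := by
      rw [Nat.card_zpowers]
      exact Nat.Coprime.pow_right b ((Nat.Prime.coprime_iff_not_dvd hp).mpr hpd).symm
    obtain ⟨d0, hd0⟩ := (Nat.Coprime.pow_left_bijective hcop).2 ⟨d, Subgroup.mem_zpowers d⟩
    have hd0' : (d0 : K) ^ (p ^ b) = d := congrArg Subtype.val hd0
    have hcen : (d0 : K) ∈ Subgroup.center K := (Subgroup.zpowers_le.mpr hd) d0.2
    have hcomm : ∀ y : K, Commute y (d0 : K) := fun y => (Subgroup.mem_center_iff.mp hcen) y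
    have e : {y : K // y ^ (p ^ b) = d} ≃ {x : K // x ^ (p ^ b) = 1} :=
      { toFun := fun y => ⟨y.1 * (d0 : K)⁻¹, by
          rw [(hcomm y.1).inv_right.mul_pow, y.2, inv_pow, hd0', mul_inv_cancel]⟩
        invFun := fun x => ⟨x.1 * (d0 : K), by
          rw [(hcomm x.1).mul_pow, x.2, one_mul, hd0']⟩
        left_inv := fun y => Subtype.ext (by simp)
        right_inv := fun x => Subtype.ext (by simp) }
    rw [Nat.card_congr e]
    exact nsol_prime_pow_dvd p hp _ K rfl b

/-- Splitting the solutions of `x^(r*m) = c` for coprime `r`, `m` and central `c`. -/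
theorem card_sol_coprime_mul_central {G : Type*} [Group G] [Fintype G] [DecidableEq G] (c : G)
    (hc : ∀ g : G, g * c = c * g) (r m : ℕ) (a b : ℤ) (hab : (r : ℤ) * a + (m : ℤ) * b = 1) :
    (univ.filter (fun x : G => x ^ (r * m) = c)).card =
      ∑ z ∈ univ.filter (fun z : G => z ^ m = c ^ a),
        (univ.filter (fun y : G => y * z = z * y ∧ y ^ r = c ^ b)).card := by
  have cz : ∀ (k : ℤ) (g : G), Commute g (c ^ k) := fun k g => Commute.zpow_right (hc g) k
  have key : ∀ w : G, w ^ ((r : ℤ) * a) * w ^ ((m : ℤ) * b) = w := by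
    intro w
    rw [← zpow_add, hab, zpow_one]
  rw [Finset.card_eq_sum_card_fiberwise (f := fun x : G => x ^ ((r : ℤ) * a))
    (t := univ.filter (fun z : G => z ^ m = c ^ a))]
  · refine Finset.sum_congr rfl fun z hz => ?_
    simp only [Finset.mem_filter, Finset.mem_univ, true_and] at hz
    have hz' : z ^ (m : ℤ) = c ^ a := by rw [zpow_natCast]; exact hz
    have hzb : z ^ ((m : ℤ) * b) = c ^ (a * b) := by rw [zpow_mul, hz', ← zpow_mul]
    have hza : z ^ ((r : ℤ) * a) * c ^ (a * b) = z := by
      have := key z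
      rwa [hzb] at this
    apply Finset.card_nbij' (fun x => x ^ ((m : ℤ) * b)) (fun y => y * z)
    · intro x hx
      simp only [Finset.mem_coe, Finset.mem_filter, Finset.mem_univ, true_and] at hx ⊢
      have hx' : x ^ ((r : ℤ) * (m : ℤ)) = c := by
        rw [← Nat.cast_mul, zpow_natCast]; exact hx.1
      refine ⟨?_, ?_⟩
      · rw [← hx.2]
        exact (Commute.zpow_zpow_self x _ _).eq
      · rw [← zpow_natCast, ← zpow_mul, ← hx', ← zpow_mul]
        congr 1; ring
    · intro y hy
      simp only [Finset.mem_coe, Finset.mem_filter, Finset.mem_univ, true_and] at hy ⊢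
      have hy' : y ^ (r : ℤ) = c ^ b := by rw [zpow_natCast]; exact hy.2
      have hcm : Commute y z := hy.1
      refine ⟨?_, ?_⟩
      · rw [hcm.mul_pow, pow_mul, hy.2, mul_comm r m, pow_mul, hz, ← zpow_natCast, ← zpow_natCast,
          ← zpow_mul, ← zpow_mul, ← zpow_add]
        have : b * (m : ℤ) + a * (r : ℤ) = 1 := by rw [← hab]; ring
        rw [this, zpow_one]
      · rw [hcm.mul_zpow, zpow_mul, hy', ← zpow_mul, mul_comm b a, (cz (a * b) _).symm.eq]
        exact hza
    · intro x hx
      simp only [Finset.mem_coe, Finset.mem_filter, Finset.mem_univ, true_and] at hx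
      change x ^ ((m : ℤ) * b) * z = x
      rw [← hx.2]
      have hcm : Commute (x ^ ((m : ℤ) * b)) (x ^ ((r : ℤ) * a)) := Commute.zpow_zpow_self x _ _
      rw [hcm.eq]
      exact key x
    · intro y hy
      simp only [Finset.mem_coe, Finset.mem_filter, Finset.mem_univ, true_and] at hy
      have hy' : y ^ (r : ℤ) = c ^ b := by rw [zpow_natCast]; exact hy.2
      have hcm : Commute y z := hy.1
      change (y * z) ^ ((m : ℤ) * b) = y
      rw [hcm.mul_zpow, hzb]
      have h1 := key y
      rw [zpow_mul, hy', ← zpow_mul, mul_comm b a] at h1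
      rw [(cz (a * b) _).eq]
      exact h1
  · intro x hx
    simp only [Finset.mem_coe, Finset.mem_filter, Finset.mem_univ, true_and] at hx ⊢
    have hx' : x ^ ((r : ℤ) * (m : ℤ)) = c := by
      rw [← Nat.cast_mul, zpow_natCast]; exact hx
    rw [← zpow_natCast, ← zpow_mul, ← hx', ← zpow_mul]
    congr 1; ring

/-- the counting function `z ↦ #{y ∈ C(z) | y^r = w}` (`w` central) is a class function -/
theorem card_comm_conj_central {G : Type*} [Group G] [Fintype G] [DecidableEq G] (r : ℕ)
    (w : G) (hw : ∀ g : G, g * w = w * g) (z h : G) :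
    (univ.filter (fun y : G => y * (h * z * h⁻¹) = (h * z * h⁻¹) * y ∧ y ^ r = w)).card =
      (univ.filter (fun y : G => y * z = z * y ∧ y ^ r = w)).card := by
  apply Finset.card_nbij' (fun y => h⁻¹ * y * h) (fun y => h * y * h⁻¹)
  · intro y hy
    simp only [Finset.mem_coe, Finset.mem_filter, Finset.mem_univ, true_and] at hy ⊢
    refine ⟨?_, ?_⟩
    · have h1 : h⁻¹ * (y * (h * z * h⁻¹)) * h = h⁻¹ * ((h * z * h⁻¹) * y) * h := by rw [hy.1]
      calc h⁻¹ * y * h * z = h⁻¹ * (y * (h * z * h⁻¹)) * h := by group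
        _ = h⁻¹ * ((h * z * h⁻¹) * y) * h := h1
        _ = z * (h⁻¹ * y * h) := by group
    · have := conj_pow (i := r) (a := h⁻¹) (b := y)
      rw [inv_inv] at this
      rw [this, hy.2, mul_assoc, ← hw h, ← mul_assoc, inv_mul_cancel, one_mul]
  · intro y hy
    simp only [Finset.mem_coe, Finset.mem_filter, Finset.mem_univ, true_and] at hy ⊢
    refine ⟨?_, ?_⟩
    · calc h * y * h⁻¹ * (h * z * h⁻¹) = h * (y * z) * h⁻¹ := by group
        _ = h * (z * y) * h⁻¹ := by rw [hy.1]
        _ = h * z * h⁻¹ * (h * y * h⁻¹) := by group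
    · rw [conj_pow, hy.2, hw h, mul_assoc, mul_inv_cancel, mul_one]
  · intro y _
    change h * (h⁻¹ * y * h) * h⁻¹ = y
    group
  · intro y _
    change h⁻¹ * (h * y * h⁻¹) * h = y
    group

/-- solutions of `y^r = w` in the centraliser of `z`, for `w` central -/
theorem card_comm_eq_card_centralizer {G : Type*} [Group G] [Fintype G] [DecidableEq G] (z : G)
    (r : ℕ) (w : G) (hw : w ∈ Subgroup.centralizer ({z} : Set G)) :
    (univ.filter (fun y : G => y * z = z * y ∧ y ^ r = w)).card =
      Nat.card {y : ↥(Subgroup.centralizer ({z} : Set G)) // y ^ r = ⟨w, hw⟩} := by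
  rw [← Fintype.card_subtype, ← Nat.card_eq_fintype_card]
  apply Nat.card_congr
  exact
    { toFun := fun y => ⟨⟨y.1, Subgroup.mem_centralizer_singleton_iff.mpr y.2.1⟩,
        Subtype.ext y.2.2⟩
      invFun := fun y => ⟨y.1.1, Subgroup.mem_centralizer_singleton_iff.mp y.1.2,
        congrArg Subtype.val y.2⟩
      left_inv := fun _ => rfl
      right_inv := fun _ => rfl }

/-- **Central version of P. Hall's theorem**: for `c` central, `gcd(n, |K|)` divides the number
of solutions of `x ^ n = c`. -/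
theorem card_pow_eq_central_dvd {K : Type u} [Group K] [Finite K] (c : K)
    (hc : c ∈ Subgroup.center K) (n : ℕ) :
    Nat.gcd n (Nat.card K) ∣ Nat.card {x : K // x ^ n = c} := by
  classical
  have := Fintype.ofFinite K
  have hK0 : Nat.card K ≠ 0 := Nat.card_pos.ne'
  by_cases hcard : Nat.card {x : K // x ^ n = c} = 0
  · rw [hcard]; exact dvd_zero _
  rcases Nat.eq_zero_or_pos n with rfl | hnpos
  · -- n = 0
    rw [Nat.gcd_zero_left]
    by_cases hc1 : c = 1
    · subst hc1
      apply dvd_of_eq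
      apply Nat.card_congr
      exact (Equiv.subtypeUnivEquiv (fun x => pow_zero x)).symm
    · exfalso
      apply hcard
      have : IsEmpty {x : K // x ^ 0 = c} := ⟨fun x => hc1 (by rw [← x.2, pow_zero])⟩
      exact Nat.card_of_isEmpty
  have hn0 : n ≠ 0 := hnpos.ne'
  have hD0 : Nat.gcd n (Nat.card K) ≠ 0 := Nat.gcd_ne_zero_left hn0
  rw [← Nat.factorization_prime_le_iff_dvd hD0 hcard]
  intro p hp
  rw [← Nat.Prime.pow_dvd_iff_le_factorization hp hcard]
  set e := (Nat.gcd n (Nat.card K)).factorization p with he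
  have hpe : p ^ e ∣ Nat.gcd n (Nat.card K) := Nat.ordProj_dvd _ _
  set bb := n.factorization p with hbb
  set m := n / p ^ bb with hm
  have hrm : p ^ bb * m = n := Nat.ordProj_mul_ordCompl_eq_self _ _
  have hpm : Nat.Coprime p m := Nat.coprime_ordCompl hp hn0
  have hcop : Nat.Coprime (p ^ bb) m := Nat.Coprime.pow_left bb hpm
  have hebb : p ^ e ∣ p ^ bb := by
    rw [Nat.pow_dvd_pow_iff_le_right hp.one_lt, hbb,
      ← Nat.Prime.pow_dvd_iff_le_factorization hp hn0]
    exact dvd_trans hpe (Nat.gcd_dvd_left _ _)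
  obtain ⟨a', b', hab⟩ : ∃ a b : ℤ, ((p ^ bb : ℕ) : ℤ) * a + (m : ℤ) * b = 1 := by
    refine ⟨Int.gcdA (p ^ bb : ℕ) m, Int.gcdB (p ^ bb : ℕ) m, ?_⟩
    rw [← Int.gcd_eq_gcd_ab]
    have : Int.gcd ((p ^ bb : ℕ) : ℤ) (m : ℤ) = 1 := by
      rw [Int.gcd_natCast_natCast]; exact hcop
    rw [this]; rfl
  have hcg : ∀ g : K, g * c = c * g := Subgroup.mem_center_iff.mp hc
  have hcz : ∀ (k : ℤ) (g : K), g * c ^ k = c ^ k * g :=
    fun k g => (Commute.zpow_right (hcg g) k).eq
  have h1 : Nat.card {x : K // x ^ n = c} = ∑ z ∈ univ.filter (fun z : K => z ^ m = c ^ a'),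
      (univ.filter (fun y : K => y * z = z * y ∧ y ^ (p ^ bb) = c ^ b')).card := by
    rw [Nat.card_eq_fintype_card, Fintype.card_subtype]
    have h0 := card_sol_coprime_mul_central (G := K) c hcg (p ^ bb) m a' b' hab
    rwa [hrm] at h0
  rw [h1]
  apply class_sum_dvd
  · intro z h hz
    simp only [Finset.mem_filter, Finset.mem_univ, true_and] at hz ⊢
    rw [conj_pow, hz, hcz, mul_assoc, mul_inv_cancel, mul_one]
  · intro z h
    exact card_comm_conj_central _ _ (hcz b') z h
  · intro z _
    have hw : c ^ b' ∈ Subgroup.centralizer ({z} : Set K) :=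
      Subgroup.mem_centralizer_singleton_iff.mpr (hcz b' z).symm
    rw [card_comm_eq_card_centralizer z _ _ hw]
    have hwc : (⟨c ^ b', hw⟩ : ↥(Subgroup.centralizer ({z} : Set K))) ∈
        Subgroup.center ↥(Subgroup.centralizer ({z} : Set K)) := by
      rw [Subgroup.mem_center_iff]
      intro g
      exact Subtype.ext (hcz b' g.1)
    have h3 := card_pow_prime_pow_eq_central p hp _ hwc bb
    have h4 : p ^ e ∣ Nat.card (ConjClasses.mk z).carrier *
        Nat.card ↥(Subgroup.centralizer ({z} : Set K)) := by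
      rw [card_carrier_mul_card_centralizer]
      exact dvd_trans hpe (Nat.gcd_dvd_right _ _)
    refine (dvd_mul_gcd_of_dvd_mul h4).trans (Nat.mul_dvd_mul_left _ ?_)
    exact dvd_trans (Nat.gcd_dvd_gcd_of_dvd_left _ hebb) h3

/-- **P. Hall's generalisation of Frobenius' theorem**: the number of `x` with `x ^ n` conjugate
to `c` is a multiple of `gcd(|class of c| * n, |G|)`. -/
theorem hall_frobenius_dvd {G : Type u} [Group G] [Finite G] (c : G) (n : ℕ) :
    Nat.gcd (Nat.card {y : G // IsConj c y} * n) (Nat.card G) ∣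
      Nat.card {x : G // IsConj c (x ^ n)} := by
  classical
  have := Fintype.ofFinite G
  set h := Nat.card {y : G // IsConj c y} with hh
  have hcar : h = Nat.card (ConjClasses.mk c).carrier := by
    rw [hh]
    apply Nat.card_congr
    apply Equiv.subtypeEquivRight
    intro y
    rw [ConjClasses.mem_carrier_iff_mk_eq, ConjClasses.mk_eq_mk_iff_isConj, isConj_comm]
  have hhK : h * Nat.card ↥(Subgroup.centralizer ({c} : Set G)) = Nat.card G := by
    rw [hcar]; exact card_carrier_mul_card_centralizer c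
  -- the solution count is `h` times the count for `c`
  have h1 : Nat.card {x : G // IsConj c (x ^ n)} = h * Nat.card {x : G // x ^ n = c} := by
    rw [Nat.card_eq_fintype_card, Fintype.card_subtype,
      Finset.card_eq_sum_card_fiberwise (f := fun x : G => x ^ n)
        (t := univ.filter (fun y : G => IsConj c y))]
    · rw [hh, Nat.card_eq_fintype_card, Fintype.card_subtype, Finset.card_eq_sum_ones,
        Finset.sum_mul]
      refine Finset.sum_congr rfl fun y hy => ?_
      simp only [Finset.mem_filter, Finset.mem_univ, true_and] at hy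
      obtain ⟨g, hg⟩ := isConj_iff.mp hy
      rw [one_mul, Nat.card_eq_fintype_card, Fintype.card_subtype]
      apply Finset.card_nbij' (fun x => g⁻¹ * x * g) (fun x => g * x * g⁻¹)
      · intro x hx
        simp only [Finset.mem_coe, Finset.mem_filter, Finset.mem_univ, true_and] at hx ⊢
        have := conj_pow (i := n) (a := g⁻¹) (b := x)
        rw [inv_inv] at this
        rw [this, hx.2, ← hg]
        group
      · intro x hx
        simp only [Finset.mem_coe, Finset.mem_filter, Finset.mem_univ, true_and] at hx ⊢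
        rw [conj_pow, hx, hg]
        exact ⟨hy, rfl⟩
      · intro x _
        change g * (g⁻¹ * x * g) * g⁻¹ = x
        group
      · intro x _
        change g⁻¹ * (g * x * g⁻¹) * g = x
        group
    · intro x hx
      simp only [Finset.mem_coe, Finset.mem_filter, Finset.mem_univ, true_and] at hx ⊢
      exact hx
  -- pass to the centraliser
  have hcK : c ∈ Subgroup.centralizer ({c} : Set G) :=
    Subgroup.mem_centralizer_singleton_iff.mpr rfl
  have h2 : Nat.card {x : G // x ^ n = c} =
      Nat.card {x : ↥(Subgroup.centralizer ({c} : Set G)) // x ^ n = ⟨c, hcK⟩} := by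
    apply Nat.card_congr
    exact
      { toFun := fun x => ⟨⟨x.1, Subgroup.mem_centralizer_singleton_iff.mpr (by
          have h := (Commute.self_pow x.1 n).eq
          rw [x.2] at h
          exact h)⟩, Subtype.ext x.2⟩
        invFun := fun x => ⟨x.1.1, congrArg Subtype.val x.2⟩
        left_inv := fun _ => rfl
        right_inv := fun _ => rfl }
  have hcen : (⟨c, hcK⟩ : ↥(Subgroup.centralizer ({c} : Set G))) ∈
      Subgroup.center ↥(Subgroup.centralizer ({c} : Set G)) := by
    rw [Subgroup.mem_center_iff]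
    intro g
    exact Subtype.ext (Subgroup.mem_centralizer_singleton_iff.mp g.2)
  have h3 := card_pow_eq_central_dvd _ hcen n
  rw [h1, h2, ← hhK, Nat.gcd_mul_left]
  exact Nat.mul_dvd_mul_left _ h3

end Cfsg.Agent.Lib.Helper40
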