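import Mathlib
import Cfsg.Agent.S0245
import Cfsg.Agent.Lib.Helper13.Symp
import Cfsg.Agent.Lib.Helper13.SympGen
import Cfsg.Agent.Lib.Helper13.SpParabolic
import Cfsg.Agent.Lib.Helper37.SpSylow

/-!
# Counting pairs of complementary Lagrangian subspaces (helper40)

`IsLagPair U W`: `U`, `W` complementary totally isotropic subspaces of the standard symplectic
space `F^{2d}`.  `Sp_{2d}(F)` is transitive on such pairs, the stabiliser of the standard pair
contains the Levi subgroup `GL_d(F)`, whence (`lagPair_prime_dvd`) a prime `r ∤ q` dividing the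
number of pairs divides some `q ^ (i + 1) + 1`, `i < d`.
-/

set_option autoImplicit false

namespace Cfsg.Agent.Lib.Helper40

open Matrix Module

section defs
variable {F : Type*} [Field F] {d : ℕ}

/-- complementary totally isotropic subspaces -/
def IsLagPair (U W : Submodule F (Fin d ⊕ Fin d → F)) : Prop :=
  IsCompl U W ∧ (∀ u ∈ U, ∀ v ∈ U, Cfsg.sympForm d F u v = 0) ∧
    (∀ u ∈ W, ∀ v ∈ W, Cfsg.sympForm d F u v = 0)

theorem IsLagPair.symm {U W : Submodule F (Fin d ⊕ Fin d → F)} (h : IsLagPair U W) :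
    IsLagPair W U := ⟨h.1.symm, h.2.2, h.2.1⟩

/-- vectors supported on the first half of the coordinates -/
def stdU (d : ℕ) (F : Type*) [Field F] : Submodule F (Fin d ⊕ Fin d → F) where
  carrier := {v | ∀ j, v (Sum.inr j) = 0}
  add_mem' := by
    intro a b ha hb j
    rw [Pi.add_apply, ha j, hb j, add_zero]
  zero_mem' := fun j => rfl
  smul_mem' := by
    intro c a ha j
    rw [Pi.smul_apply, ha j, smul_zero]

/-- vectors supported on the second half of the coordinates -/
def stdW (d : ℕ) (F : Type*) [Field F] : Submodule F (Fin d ⊕ Fin d → F) where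
  carrier := {v | ∀ i, v (Sum.inl i) = 0}
  add_mem' := by
    intro a b ha hb j
    rw [Pi.add_apply, ha j, hb j, add_zero]
  zero_mem' := fun j => rfl
  smul_mem' := by
    intro c a ha j
    rw [Pi.smul_apply, ha j, smul_zero]

theorem mem_stdU {v : Fin d ⊕ Fin d → F} : v ∈ stdU d F ↔ ∀ j, v (Sum.inr j) = 0 := Iff.rfl

theorem mem_stdW {v : Fin d ⊕ Fin d → F} : v ∈ stdW d F ↔ ∀ i, v (Sum.inl i) = 0 := Iff.rfl

theorem isLagPair_std : IsLagPair (stdU d F) (stdW d F) := by
  refine ⟨⟨?_, ?_⟩, ?_, ?_⟩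
  · rw [Submodule.disjoint_def]
    intro v hU hW
    funext c
    rcases c with i | j
    · exact hW i
    · exact hU j
  · rw [Submodule.codisjoint_iff_exists_add_eq]
    intro z
    refine ⟨Sum.elim (fun i => z (Sum.inl i)) (fun _ => 0),
      Sum.elim (fun _ => 0) (fun j => z (Sum.inr j)), fun j => rfl, fun i => rfl, ?_⟩
    funext c
    rcases c with i | j
    · simp
    · simp
  · intro u hu v hv
    rw [Cfsg.Agent.Lib.Helper13.sympForm_eq_sum]
    apply Finset.sum_eq_zero
    intro i _
    rw [hu i, hv i, zero_mul, mul_zero, sub_zero]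
  · intro u hu v hv
    rw [Cfsg.Agent.Lib.Helper13.sympForm_eq_sum]
    apply Finset.sum_eq_zero
    intro i _
    rw [hu i, hv i, zero_mul, mul_zero, sub_zero]

/-- in a Lagrangian pair the first space is no bigger than the second -/
theorem IsLagPair.finrank_le {U W : Submodule F (Fin d ⊕ Fin d → F)} (h : IsLagPair U W) :
    finrank F U ≤ finrank F W := by
  obtain ⟨hc, hU, hW⟩ := h
  set B := Cfsg.Agent.Lib.Helper13.sympBilin d F with hB
  let ψ : U →ₗ[F] (W →ₗ[F] F) := B.compl₁₂ U.subtype W.subtype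
  have hψ : Function.Injective ψ := by
    rw [← LinearMap.ker_eq_bot, eq_bot_iff]
    intro u hu
    rw [LinearMap.mem_ker] at hu
    rw [Submodule.mem_bot]
    apply Subtype.ext
    apply Cfsg.Agent.Lib.Helper13.sympForm_left_nondeg
    intro v
    have hv : v ∈ U ⊔ W := by rw [hc.sup_eq_top]; exact Submodule.mem_top
    obtain ⟨u', hu', w, hw, rfl⟩ := Submodule.mem_sup.mp hv
    rw [Cfsg.Agent.Lib.Helper13.sympForm_add_right, hU _ u.2 _ hu', zero_add]
    have h1 : ψ u ⟨w, hw⟩ = 0 := by rw [hu]; rfl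
    exact h1
  have h1 := LinearMap.finrank_le_finrank_of_injective hψ
  rw [show finrank F (W →ₗ[F] F) = finrank F W from Subspace.dual_finrank_eq] at h1
  exact h1

theorem IsLagPair.finrank_eq {U W : Submodule F (Fin d ⊕ Fin d → F)} (h : IsLagPair U W) :
    finrank F U = d ∧ finrank F W = d := by
  have h1 := h.finrank_le
  have h2 := h.symm.finrank_le
  have h3 : finrank F U + finrank F W = finrank F (Fin d ⊕ Fin d → F) :=
    Submodule.finrank_add_eq_of_isCompl h.1
  rw [Module.finrank_fintype_fun_eq_card, Fintype.card_sum, Fintype.card_fin] at h3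
  omega

end defs

section action
variable {F : Type*} [Field F] {d : ℕ}

/-- the linear map of a symplectic matrix -/
noncomputable def spLin (A : symplecticGroup (Fin d) F) :
    (Fin d ⊕ Fin d → F) →ₗ[F] (Fin d ⊕ Fin d → F) :=
  Matrix.toLin' A.1

theorem spLin_apply (A : symplecticGroup (Fin d) F) (v : Fin d ⊕ Fin d → F) :
    spLin A v = A.1 *ᵥ v := Matrix.toLin'_apply _ _

theorem spLin_mul (A B : symplecticGroup (Fin d) F) : spLin (A * B) = spLin A ∘ₗ spLin B :=
  Matrix.toLin'_mul _ _

theorem spLin_one : spLin (1 : symplecticGroup (Fin d) F) = LinearMap.id := Matrix.toLin'_one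

theorem map_spLin_mul (A B : symplecticGroup (Fin d) F) (U : Submodule F (Fin d ⊕ Fin d → F)) :
    U.map (spLin (A * B)) = (U.map (spLin B)).map (spLin A) := by
  rw [spLin_mul, Submodule.map_comp]

theorem map_spLin_one (U : Submodule F (Fin d ⊕ Fin d → F)) :
    U.map (spLin (1 : symplecticGroup (Fin d) F)) = U := by
  rw [spLin_one, Submodule.map_id]

theorem spLin_inv_apply (A : symplecticGroup (Fin d) F) (v : Fin d ⊕ Fin d → F) :
    spLin A⁻¹ (spLin A v) = v := by
  rw [← LinearMap.comp_apply, ← spLin_mul, inv_mul_cancel, spLin_one]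
  rfl

theorem spLin_apply_inv (A : symplecticGroup (Fin d) F) (v : Fin d ⊕ Fin d → F) :
    spLin A (spLin A⁻¹ v) = v := by
  rw [← LinearMap.comp_apply, ← spLin_mul, mul_inv_cancel, spLin_one]
  rfl

theorem spLin_injective (A : symplecticGroup (Fin d) F) : Function.Injective (spLin A) :=
  Function.LeftInverse.injective (spLin_inv_apply A)

theorem sympForm_spLin (A : symplecticGroup (Fin d) F) (u v : Fin d ⊕ Fin d → F) :
    Cfsg.sympForm d F (spLin A u) (spLin A v) = Cfsg.sympForm d F u v := by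
  rw [spLin_apply, spLin_apply]
  exact Cfsg.Agent.Lib.Helper13.sympForm_mulVec_of_mem A.2 u v

theorem IsLagPair.map {U W : Submodule F (Fin d ⊕ Fin d → F)} (h : IsLagPair U W)
    (A : symplecticGroup (Fin d) F) : IsLagPair (U.map (spLin A)) (W.map (spLin A)) := by
  obtain ⟨hc, hU, hW⟩ := h
  refine ⟨⟨?_, ?_⟩, ?_, ?_⟩
  · rw [Submodule.disjoint_def]
    intro x hxU hxW
    obtain ⟨u, hu, rfl⟩ := Submodule.mem_map.mp hxU
    obtain ⟨w, hw, hwu⟩ := Submodule.mem_map.mp hxW
    have h1 : w = u := spLin_injective A hwu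
    rw [h1] at hw
    have h2 : u ∈ U ⊓ W := Submodule.mem_inf.mpr ⟨hu, hw⟩
    rw [hc.inf_eq_bot, Submodule.mem_bot] at h2
    rw [h2, map_zero]
  · rw [Submodule.codisjoint_iff_exists_add_eq]
    intro z
    have hz : spLin A⁻¹ z ∈ U ⊔ W := by rw [hc.sup_eq_top]; exact Submodule.mem_top
    obtain ⟨u, hu, w, hw, huw⟩ := Submodule.mem_sup.mp hz
    refine ⟨spLin A u, spLin A w, Submodule.mem_map_of_mem hu, Submodule.mem_map_of_mem hw, ?_⟩
    rw [← map_add, huw, spLin_apply_inv]
  · intro x hx y hy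
    obtain ⟨u, hu, rfl⟩ := Submodule.mem_map.mp hx
    obtain ⟨u', hu', rfl⟩ := Submodule.mem_map.mp hy
    rw [sympForm_spLin]
    exact hU u hu u' hu'
  · intro x hx y hy
    obtain ⟨u, hu, rfl⟩ := Submodule.mem_map.mp hx
    obtain ⟨u', hu', rfl⟩ := Submodule.mem_map.mp hy
    rw [sympForm_spLin]
    exact hW u hu u' hu'

theorem mulVec_eq_sum_smul_col {n : Type*} [Fintype n] (M : Matrix n n F) (v : n → F) :
    M *ᵥ v = ∑ c, v c • M.col c := by
  funext k
  simp [Matrix.mulVec, dotProduct, Finset.sum_apply, mul_comm]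

end action

section trans
variable {F : Type*} [Field F] {d : ℕ}

/-- `Sp_{2d}(F)` maps the standard pair onto any Lagrangian pair -/
theorem IsLagPair.exists_map_std {U W : Submodule F (Fin d ⊕ Fin d → F)} (h : IsLagPair U W) :
    ∃ A : symplecticGroup (Fin d) F,
      (stdU d F).map (spLin A) = U ∧ (stdW d F).map (spLin A) = W := by
  classical
  have hfr := h.finrank_eq
  obtain ⟨hc, hU, hW⟩ := h
  set B := Cfsg.Agent.Lib.Helper13.sympBilin d F with hB
  -- the pairing `W → U*`
  let ψ : W →ₗ[F] (U →ₗ[F] F) := B.flip.compl₁₂ W.subtype U.subtype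
  have hψapp : ∀ (w : W) (u : U), ψ w u = Cfsg.sympForm d F u.1 w.1 := fun w u => rfl
  have hψinj : Function.Injective ψ := by
    rw [← LinearMap.ker_eq_bot, eq_bot_iff]
    intro w hw
    rw [LinearMap.mem_ker] at hw
    rw [Submodule.mem_bot]
    apply Subtype.ext
    apply Cfsg.Agent.Lib.Helper13.sympForm_left_nondeg
    intro v
    have hv : v ∈ U ⊔ W := by rw [hc.sup_eq_top]; exact Submodule.mem_top
    obtain ⟨u', hu', w', hw', rfl⟩ := Submodule.mem_sup.mp hv
    rw [Cfsg.Agent.Lib.Helper13.sympForm_add_right, hW _ w.2 _ hw', add_zero,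
      Cfsg.Agent.Lib.Helper13.sympForm_swap]
    have h1 : ψ w ⟨u', hu'⟩ = 0 := by rw [hw]; rfl
    rw [hψapp] at h1
    rw [h1, neg_zero]
  have hψsurj : Function.Surjective ψ := by
    have hfin : finrank F W = finrank F (U →ₗ[F] F) := by
      rw [show finrank F (U →ₗ[F] F) = finrank F U from Subspace.dual_finrank_eq, hfr.1, hfr.2]
    exact (LinearMap.injective_iff_surjective_of_finrank_eq_finrank hfin).mp hψinj
  let bU : Basis (Fin d) F U := Module.finBasisOfFinrankEq F U hfr.1
  choose w hw using fun j : Fin d => hψsurj (-(bU.coord j))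
  have hpair : ∀ i j : Fin d,
      Cfsg.sympForm d F (bU i).1 (w j).1 = -(if i = j then (1 : F) else 0) := by
    intro i j
    rw [← hψapp, hw j, LinearMap.neg_apply, Basis.coord_apply, Basis.repr_self,
      Finsupp.single_apply]
  -- the matrix with columns `bU i`, `w j`
  let colv : Fin d ⊕ Fin d → (Fin d ⊕ Fin d → F) :=
    Sum.elim (fun i => (bU i).1) (fun j => (w j).1)
  let g : Matrix (Fin d ⊕ Fin d) (Fin d ⊕ Fin d) F := Matrix.of (fun k c => colv c k)
  have hcol : ∀ c, g.col c = colv c := fun c => rfl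
  have hgram : ∀ a b : Fin d ⊕ Fin d,
      Cfsg.sympForm d F (colv a) (colv b) = Matrix.J (Fin d) F a b := by
    intro a b
    rcases a with i | j <;> rcases b with i' | j'
    · change Cfsg.sympForm d F (bU i).1 (bU i').1 = _
      rw [hU _ (bU i).2 _ (bU i').2]
      simp [Matrix.J]
    · change Cfsg.sympForm d F (bU i).1 (w j').1 = _
      rw [hpair]
      simp [Matrix.J, Matrix.one_apply]
    · change Cfsg.sympForm d F (w j).1 (bU i').1 = _
      rw [Cfsg.Agent.Lib.Helper13.sympForm_swap, hpair, neg_neg]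
      simp [Matrix.J, Matrix.one_apply, eq_comm]
    · change Cfsg.sympForm d F (w j).1 (w j').1 = _
      rw [hW _ (w j).2 _ (w j').2]
      simp [Matrix.J]
  have hg : g ∈ symplecticGroup (Fin d) F := by
    rw [SymplecticGroup.mem_iff']
    ext a b
    have h1 := hgram a b
    rw [← hcol a, ← hcol b, ← Matrix.mulVec_single_one, ← Matrix.mulVec_single_one,
      Cfsg.Agent.Lib.Helper13.sympForm_mulVec_mulVec, Matrix.mulVec_single_one,
      single_one_dotProduct] at h1
    exact h1
  refine ⟨⟨g, hg⟩, ?_, ?_⟩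
  · apply Submodule.eq_of_le_of_finrank_eq
    · intro x hx
      obtain ⟨v, hv, rfl⟩ := Submodule.mem_map.mp hx
      rw [spLin_apply, mulVec_eq_sum_smul_col, Fintype.sum_sum_type]
      apply U.add_mem
      · apply U.sum_mem
        intro i _
        exact U.smul_mem _ (bU i).2
      · apply U.sum_mem
        intro j _
        rw [hv j, zero_smul]
        exact U.zero_mem
    · rw [← (Submodule.equivMapOfInjective _ (spLin_injective ⟨g, hg⟩) (stdU d F)).finrank_eq,
        (isLagPair_std (d := d) (F := F)).finrank_eq.1, hfr.1]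
  · apply Submodule.eq_of_le_of_finrank_eq
    · intro x hx
      obtain ⟨v, hv, rfl⟩ := Submodule.mem_map.mp hx
      rw [spLin_apply, mulVec_eq_sum_smul_col, Fintype.sum_sum_type]
      apply W.add_mem
      · apply W.sum_mem
        intro i _
        rw [hv i, zero_smul]
        exact W.zero_mem
      · apply W.sum_mem
        intro j _
        exact W.smul_mem _ (w j).2
    · rw [← (Submodule.equivMapOfInjective _ (spLin_injective ⟨g, hg⟩) (stdW d F)).finrank_eq,
        (isLagPair_std (d := d) (F := F)).finrank_eq.2, hfr.2]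

end trans

section count
variable {F : Type*} [Field F] {d : ℕ}

/-- the stabiliser of the standard Lagrangian pair -/
def lagStab (d : ℕ) (F : Type*) [Field F] : Subgroup (symplecticGroup (Fin d) F) where
  carrier := {A | (stdU d F).map (spLin A) = stdU d F ∧ (stdW d F).map (spLin A) = stdW d F}
  mul_mem' := by
    intro A B hA hB
    refine ⟨?_, ?_⟩
    · rw [map_spLin_mul, hB.1, hA.1]
    · rw [map_spLin_mul, hB.2, hA.2]
  one_mem' := ⟨map_spLin_one _, map_spLin_one _⟩
  inv_mem' := by
    intro A hA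
    refine ⟨?_, ?_⟩
    · nth_rewrite 1 [← hA.1]
      rw [← map_spLin_mul, inv_mul_cancel, map_spLin_one]
    · nth_rewrite 1 [← hA.2]
      rw [← map_spLin_mul, inv_mul_cancel, map_spLin_one]

theorem mem_lagStab {A : symplecticGroup (Fin d) F} : A ∈ lagStab d F ↔
    (stdU d F).map (spLin A) = stdU d F ∧ (stdW d F).map (spLin A) = stdW d F := Iff.rfl

/-- orbit–stabiliser: `|Sp_{2d}| = #(Lagrangian pairs) * |stabiliser|` -/
theorem card_Sp_eq_card_lagPairs_mul :
    Nat.card (symplecticGroup (Fin d) F) =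
      Nat.card {P : Submodule F (Fin d ⊕ Fin d → F) × Submodule F (Fin d ⊕ Fin d → F) //
        IsLagPair P.1 P.2} * Nat.card (lagStab d F) := by
  let φ : symplecticGroup (Fin d) F →
      Submodule F (Fin d ⊕ Fin d → F) × Submodule F (Fin d ⊕ Fin d → F) :=
    fun A => ((stdU d F).map (spLin A), (stdW d F).map (spLin A))
  have hφ : ∀ A B, φ A = φ B ↔ A⁻¹ * B ∈ lagStab d F := by
    intro A B
    constructor
    · intro h
      have h1 : (stdU d F).map (spLin A) = (stdU d F).map (spLin B) := congrArg Prod.fst h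
      have h2 : (stdW d F).map (spLin A) = (stdW d F).map (spLin B) := congrArg Prod.snd h
      refine ⟨?_, ?_⟩
      · rw [map_spLin_mul, ← h1, ← map_spLin_mul, inv_mul_cancel, map_spLin_one]
      · rw [map_spLin_mul, ← h2, ← map_spLin_mul, inv_mul_cancel, map_spLin_one]
    · intro h
      have hB : B = A * (A⁻¹ * B) := by rw [mul_inv_cancel_left]
      apply Prod.ext
      · change (stdU d F).map (spLin A) = (stdU d F).map (spLin B)
        rw [hB, map_spLin_mul, h.1]
      · change (stdW d F).map (spLin A) = (stdW d F).map (spLin B)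
        rw [hB, map_spLin_mul, h.2]
  rw [Cfsg.Agent.Lib.Helper13.card_eq_card_range_mul (lagStab d F) φ hφ]
  congr 1
  have hrange : Set.range φ = {P | IsLagPair P.1 P.2} := by
    ext P
    constructor
    · rintro ⟨A, rfl⟩
      exact isLagPair_std.map A
    · intro hP
      obtain ⟨A, h1, h2⟩ := IsLagPair.exists_map_std hP
      exact ⟨A, Prod.ext h1 h2⟩
  rw [hrange]
  rfl

/-- the Levi subgroup `GL_d` stabilises the standard pair -/
theorem leviHom_mem_lagStab (A : GL (Fin d) F) :
    Cfsg.Agent.Lib.Helper37.SpSylow.leviHom A ∈ lagStab d F := by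
  have key : ∀ A : GL (Fin d) F,
      (stdU d F).map (spLin (Cfsg.Agent.Lib.Helper37.SpSylow.leviHom A)) ≤ stdU d F ∧
      (stdW d F).map (spLin (Cfsg.Agent.Lib.Helper37.SpSylow.leviHom A)) ≤ stdW d F := by
    intro A
    constructor
    · intro x hx
      obtain ⟨v, hv, rfl⟩ := Submodule.mem_map.mp hx
      intro j
      rw [spLin_apply]
      change (fromBlocks _ _ _ _ *ᵥ v) (Sum.inr j) = 0
      rw [Matrix.fromBlocks_mulVec, Sum.elim_inr, Matrix.zero_mulVec, zero_add]
      have h0 : v ∘ Sum.inr = 0 := by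
        funext k
        exact hv k
      rw [h0, Matrix.mulVec_zero]
      rfl
    · intro x hx
      obtain ⟨v, hv, rfl⟩ := Submodule.mem_map.mp hx
      intro i
      rw [spLin_apply]
      change (fromBlocks _ _ _ _ *ᵥ v) (Sum.inl i) = 0
      rw [Matrix.fromBlocks_mulVec, Sum.elim_inl, Matrix.zero_mulVec, add_zero]
      have h0 : v ∘ Sum.inl = 0 := by
        funext k
        exact hv k
      rw [h0, Matrix.mulVec_zero]
      rfl
  have hinv : ∀ (A : GL (Fin d) F) (S : Submodule F (Fin d ⊕ Fin d → F)),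
      (∀ A : GL (Fin d) F, S.map (spLin (Cfsg.Agent.Lib.Helper37.SpSylow.leviHom A)) ≤ S) →
      S.map (spLin (Cfsg.Agent.Lib.Helper37.SpSylow.leviHom A)) = S := by
    intro A S hS
    apply le_antisymm (hS A)
    have h1 : S = (S.map (spLin (Cfsg.Agent.Lib.Helper37.SpSylow.leviHom A⁻¹))).map
        (spLin (Cfsg.Agent.Lib.Helper37.SpSylow.leviHom A)) := by
      rw [← map_spLin_mul, ← map_mul, mul_inv_cancel, map_one, map_spLin_one]
    nth_rewrite 1 [h1]
    exact Submodule.map_mono (hS A⁻¹)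
  exact ⟨hinv A _ (fun A => (key A).1), hinv A _ (fun A => (key A).2)⟩

end count

section arith

theorem sp_gl_arith (q : ℕ) : ∀ d : ℕ, ∃ a : ℕ,
    q ^ (d ^ 2) * ∏ i ∈ Finset.range d, (q ^ (2 * (i + 1)) - 1) =
      (∏ i : Fin d, (q ^ d - q ^ (i : ℕ))) * q ^ a * ∏ i ∈ Finset.range d, (q ^ (i + 1) + 1) := by
  intro d
  induction d with
  | zero => exact ⟨0, by simp⟩
  | succ d ih =>
    obtain ⟨a, ha⟩ := ih
    refine ⟨a + d + 1, ?_⟩
    have e1 : q ^ ((d + 1) ^ 2) = q ^ (d ^ 2) * q ^ (2 * d + 1) := by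
      rw [← pow_add]
      congr 1
      ring
    have e2 : q ^ (2 * (d + 1)) - 1 = (q ^ (d + 1) + 1) * (q ^ (d + 1) - 1) := by
      have := Nat.sq_sub_sq (q ^ (d + 1)) 1
      rw [one_pow, ← pow_mul, mul_comm (d + 1) 2] at this
      exact this
    have e3 : ∏ i : Fin (d + 1), (q ^ (d + 1) - q ^ (i : ℕ)) =
        (q ^ (d + 1) - 1) * (q ^ d * ∏ i : Fin d, (q ^ d - q ^ (i : ℕ))) := by
      rw [Fin.prod_univ_succ]
      simp only [Fin.val_zero, pow_zero, Fin.val_succ]
      congr 1
      have : ∀ i : Fin d, q ^ (d + 1) - q ^ ((i : ℕ) + 1) = q * (q ^ d - q ^ (i : ℕ)) := by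
        intro i
        rw [Nat.mul_sub, ← pow_succ', ← pow_succ']
      simp only [this]
      rw [Finset.prod_mul_distrib, Finset.prod_const, Finset.card_univ, Fintype.card_fin]
    rw [Finset.prod_range_succ, Finset.prod_range_succ, e1, e2, e3]
    calc q ^ d ^ 2 * q ^ (2 * d + 1) *
          ((∏ x ∈ Finset.range d, (q ^ (2 * (x + 1)) - 1)) *
            ((q ^ (d + 1) + 1) * (q ^ (d + 1) - 1)))
        = (q ^ d ^ 2 * ∏ x ∈ Finset.range d, (q ^ (2 * (x + 1)) - 1)) *
            (q ^ (2 * d + 1) * ((q ^ (d + 1) + 1) * (q ^ (d + 1) - 1))) := by ring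
      _ = ((∏ i : Fin d, (q ^ d - q ^ (i : ℕ))) * q ^ a *
            ∏ i ∈ Finset.range d, (q ^ (i + 1) + 1)) *
            (q ^ (2 * d + 1) * ((q ^ (d + 1) + 1) * (q ^ (d + 1) - 1))) := by rw [ha]
      _ = _ := by
        have e4 : q ^ (2 * d + 1) = q ^ d * q ^ (d + 1) := by
          rw [← pow_add]
          congr 1
          ring
        have e5 : q ^ (a + d + 1) = q ^ a * q ^ (d + 1) := by
          rw [add_assoc, pow_add]
        rw [e4, e5]
        ring

end arith

section final
variable {F : Type*} [Field F] [Fintype F] {d : ℕ}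

theorem even_card_lagPairs (hd : 1 ≤ d) :
    Even (Nat.card {P : Submodule F (Fin d ⊕ Fin d → F) × Submodule F (Fin d ⊕ Fin d → F) //
      IsLagPair P.1 P.2}) := by
  classical
  set T := {P : Submodule F (Fin d ⊕ Fin d → F) × Submodule F (Fin d ⊕ Fin d → F) //
      IsLagPair P.1 P.2} with hT
  have : Finite T := inferInstance
  have : Fintype T := Fintype.ofFinite T
  let sw : Function.End T := fun P => ⟨(P.1.2, P.1.1), P.2.symm⟩
  have hsw : sw ^ 2 ^ 1 = 1 := by
    rw [pow_one, pow_two]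
    rfl
  have h1 := Equiv.Perm.card_fixedPoints_modEq (f := sw) (p := 2) (n := 1) hsw
  have h2 : IsEmpty ↥(Function.fixedPoints sw) := by
    constructor
    rintro ⟨P, hP⟩
    have h3 : sw P = P := hP
    have h4 : P.1.2 = P.1.1 := congrArg (fun Q : T => Q.1.1) h3
    have h5 := P.2.finrank_eq
    have h6 := P.2.1.inf_eq_bot
    rw [h4, inf_idem] at h6
    rw [h6, finrank_bot] at h5
    omega
  rw [Fintype.card_eq_zero_iff.mpr h2] at h1
  rw [← Fintype.card_eq_nat_card, Nat.even_iff]
  exact h1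

/-- a prime `r ∤ q` dividing half the number of Lagrangian pairs divides some `q ^ (i + 1) + 1`
with `i < d` -/
theorem exists_dvd_pow_add_one_of_dvd_card_lagPairs (hd : 1 ≤ d) (r : ℕ) (hr : r.Prime)
    (hrq : ¬ r ∣ Fintype.card F)
    (h : r ∣ Nat.card {P : Submodule F (Fin d ⊕ Fin d → F) × Submodule F (Fin d ⊕ Fin d → F) //
      IsLagPair P.1 P.2} / 2) :
    ∃ i, i < d ∧ r ∣ Fintype.card F ^ (i + 1) + 1 := by
  classical
  set N := Nat.card {P : Submodule F (Fin d ⊕ Fin d → F) × Submodule F (Fin d ⊕ Fin d → F) //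
      IsLagPair P.1 P.2} with hN
  have hNeven : Even N := even_card_lagPairs hd
  have hrN : r ∣ N := by
    rw [← Nat.two_mul_div_two_of_even hNeven]
    exact Dvd.dvd.mul_left h 2
  have hcount : Nat.card (symplecticGroup (Fin d) F) = N * Nat.card (lagStab d F) :=
    card_Sp_eq_card_lagPairs_mul
  have hSp := Cfsg.Agent.S0245.result (F := F) rfl d
  have hGL : Nat.card (GL (Fin d) F) = ∏ i : Fin d, (Fintype.card F ^ d - Fintype.card F ^ (i : ℕ)) :=
    Matrix.card_GL_field d
  have hdiv : Nat.card (GL (Fin d) F) ∣ Nat.card (lagStab d F) := by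
    have h1 : (Cfsg.Agent.Lib.Helper37.SpSylow.leviHom (l := Fin d) (F := F)).range ≤ lagStab d F := by
      rintro _ ⟨A, rfl⟩
      exact leviHom_mem_lagStab A
    have h2 := Subgroup.card_dvd_of_le h1
    have h3 : Nat.card (Cfsg.Agent.Lib.Helper37.SpSylow.leviHom (l := Fin d) (F := F)).range =
        Nat.card (GL (Fin d) F) :=
      (Nat.card_congr (MonoidHom.ofInjective
        Cfsg.Agent.Lib.Helper37.SpSylow.leviHom_injective).toEquiv).symm
    rw [h3] at h2
    exact h2
  obtain ⟨t, ht⟩ := hdiv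
  obtain ⟨a, ha⟩ := sp_gl_arith (Fintype.card F) d
  have hGLpos : 0 < Nat.card (GL (Fin d) F) := Nat.card_pos
  rw [hSp, ht, ha, ← hGL] at hcount
  have h5 : N * t = Fintype.card F ^ a * ∏ i ∈ Finset.range d, (Fintype.card F ^ (i + 1) + 1) := by
    apply Nat.eq_of_mul_eq_mul_left hGLpos
    calc Nat.card (GL (Fin d) F) * (N * t) = N * (Nat.card (GL (Fin d) F) * t) := by ring
      _ = _ := by rw [← hcount]; ring
  have h6 : r ∣ Fintype.card F ^ a * ∏ i ∈ Finset.range d, (Fintype.card F ^ (i + 1) + 1) := by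
    rw [← h5]
    exact Dvd.dvd.mul_right hrN t
  rcases (Nat.Prime.dvd_mul hr).mp h6 with h7 | h7
  · exact absurd (hr.dvd_of_dvd_pow h7) hrq
  · obtain ⟨i, hi, hdvd⟩ := (Prime.dvd_finsetProd_iff hr.prime _).mp h7
    exact ⟨i, Finset.mem_range.mp hi, hdvd⟩

end final

end Cfsg.Agent.Lib.Helper40
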