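import Cfsg.Agent.Lib.Helper18.F4P
import Cfsg.Agent.Lib.Helper18.F4N
import Cfsg.Agent.Lib.Helper72.Lie2Gen
import Mathlib

/-!
# LIE2 (project of helper72), module S4625-[M-2F4]

For the Ree groups `²F₄(2^(2m+1))`, `m ≥ 1`: the squares of the elements of a Sylow 2-subgroup lie in its commutator
subgroup. The Sylow 2-subgroup `U¹ = U ∩ ²F₄` is generated by the class words of the 8 positive classes; the pair
words are involutions, and the square of a class word `x(t, u)` of type `B₂` is `x(0, t^(θ+1))`, which is the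
commutator of `x(ac, 0)` and `x(c, 0)` where `a^θ ≠ a` and `c^(θ+1) (a^θ + a) = t^(θ+1)`.
-/

set_option autoImplicit false

namespace Cfsg.Agent.Lib.Helper40.Lie2

open Cfsg.Lie Cfsg.Agent.Lib.Helper18 Cfsg.Agent.Lib.Helper18.F4T Cfsg.Agent.Lib.Helper91.ReeF4
open Cfsg.Agent.Lib.Helper91.SigAbs Cfsg.Agent.Lib.Helper91.ExcAut Cfsg.Agent.Lib.Helper61.ReeF4
open Cfsg.Agent.Lib.Helper72.Lie2

universe u

open scoped commutatorElement

section Gen

variable {K : Type u} [Field K]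

theorem wordG_mem_posUnipotent_F4 (w : List (ℕ × K)) (h : ∀ a ∈ w, chevF4.IsPosRoot a.1) :
    wordG hD4 w ∈ chevF4.posUnipotent K := by
  induction w with
  | nil => rw [wordG_nil]; exact one_mem _
  | cons a w ih =>
    rw [wordG_cons]
    exact mul_mem (xG_mem_posUnipotent hD4 a.1 a.2 (h a List.mem_cons_self))
      (ih fun b hb => h b (List.mem_cons_of_mem _ hb))

theorem blk_word_fst_mem (e : ℕ) (B : Blk) (τ υ : K) : ∀ a ∈ B.word e τ υ, a.1 ∈ B.roots := by
  cases B with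
  | pair r rb =>
    intro a ha
    simp only [Blk.word, f4PairWord, List.mem_cons, List.not_mem_nil, or_false] at ha
    rcases ha with rfl | rfl <;> simp [Blk.roots]
  | quad a b ab aab =>
    intro x hx
    simp only [Blk.word, b2ClassWord, List.mem_cons, List.not_mem_nil, or_false] at hx
    rcases hx with rfl | rfl | rfl | rfl <;> simp [Blk.roots]

theorem blk_word_mem_posUnipotent (e : ℕ) (B : Blk) (hB : B ∈ posBlks) (τ υ : K) :
    wordG hD4 (B.word e τ υ) ∈ chevF4.posUnipotent K := by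
  apply wordG_mem_posUnipotent_F4
  intro a ha
  exact posBlks_pos a.1 ((mem_rootsL posBlks a.1).mpr ⟨B, hB, blk_word_fst_mem e B τ υ a ha⟩)

/-- The products of class words over a list of classes lie in any subgroup containing the class words. -/
theorem prodL_cfL_mem_of [CharP K 2] (e : ℕ) (H : Subgroup (GL chevF4.Idx K)) (bl : List Blk)
    (hH : ∀ B ∈ bl, ∀ τ υ : K, wordG hD4 (B.word e τ υ) ∈ H)
    (hnd : (rootsL bl).Nodup) (hnd' : ∀ B ∈ bl, B.roots.Nodup) (p : ℕ → K) :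
    prodL hD4 (rootsL bl) (cfL e bl p) ∈ H := by
  induction bl with
  | nil => exact one_mem _
  | cons B bl ih =>
    have hnd0 := hnd
    rw [rootsL_cons, List.nodup_append] at hnd
    obtain ⟨-, hnd1, hdis⟩ := hnd
    rw [rootsL_cons, prodL_append]
    have e1 : prodL hD4 B.roots (cfL e (B :: bl) p) = prodL hD4 B.roots (B.cf e p) := by
      apply prodL_congr
      intro s hs
      show (if s ∈ B.roots then B.cf e p s else cfL e bl p s) = B.cf e p s
      rw [if_pos hs]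
    have e2 : prodL hD4 (rootsL bl) (cfL e (B :: bl) p) = prodL hD4 (rootsL bl) (cfL e bl p) := by
      apply prodL_congr
      intro s hs
      show (if s ∈ B.roots then B.cf e p s else cfL e bl p s) = cfL e bl p s
      rw [if_neg fun h => hdis s h s hs rfl]
    rw [e1, e2, prodL_cf e B (hnd' B List.mem_cons_self)]
    exact mul_mem (hH B List.mem_cons_self _ _)
      (ih (fun B' hB' => hH B' (List.mem_cons_of_mem _ hB')) hnd1 fun B' hB' => hnd' B' (List.mem_cons_of_mem _ hB'))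

end Gen

section U1

variable (K : Type u) [Field K] [Fintype K] [CharP K 2] (m : ℕ) (hq : ∀ t : K, t ^ (2 * 2 ^ m * 2 ^ m) = t)

/-- The class words of the positive classes. -/
def u1Gens : Set (GL chevF4.Idx K) :=
  {g | ∃ B ∈ posBlks, ∃ τ υ : K, g = wordG hD4 (B.word (2 ^ m) τ υ)}

include hq in
/-- `U ∩ ²F₄` is generated by the class words of the positive classes. -/
theorem closure_u1Gens :
    Subgroup.closure (u1Gens K m) = chevF4.posUnipotent K ⊓ twistedF4 K (2 ^ m) := by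
  have he : (2 : ℕ) ^ m ≠ 0 := pow_ne_zero _ (by norm_num)
  obtain ⟨hok, hnd, hl, hall, hmem⟩ := perm_facts posBlks (List.Perm.refl _)
  apply le_antisymm
  · rw [Subgroup.closure_le]
    rintro g ⟨B, hB, τ, υ, rfl⟩
    exact Subgroup.mem_inf.mpr ⟨blk_word_mem_posUnipotent (2 ^ m) B hB τ υ,
      word_mem K (2 ^ m) he B (hmem B hB) τ υ⟩
  · intro x hx
    obtain ⟨hxU, hxG⟩ := Subgroup.mem_inf.mp hx
    obtain ⟨t, rfl, ht⟩ := exists_cfL_of_fixed K m hq posBlks (List.Perm.refl _) x hxU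
      (twistedF4_le_f4Fix K m hq hxG)
    rw [prodL_congr hD4 _ _ _ ht]
    exact prodL_cfL_mem_of (2 ^ m) (Subgroup.closure (u1Gens K m)) posBlks
      (fun B hB τ υ => Subgroup.subset_closure ⟨B, hB, τ, υ, rfl⟩) hnd
      (fun B hB => B.roots_nodup (hok B hB)) t

/-! ### Squares of the generators -/

omit [Fintype K] in
theorem pairW_sq (t : K) : pairW (2 ^ m) t ^ 2 = 1 := by
  rw [pow_two, ← pairW_add, CharTwo.add_self_eq_zero]
  have h := pairW_add m (0 : K) 0
  rw [add_zero] at h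
  have h' : pairW (2 ^ m) (0 : K) * 1 = pairW (2 ^ m) (0 : K) * pairW (2 ^ m) (0 : K) := by
    rw [mul_one]; exact h
  exact (mul_left_cancel h').symm

omit [Fintype K] [CharP K 2] in
include hq in
/-- `c ↦ c^(θ+1)` is onto. -/
theorem exists_pow_theta_succ (y : K) : ∃ c : K, c ^ (2 ^ m + 1) = y := by
  obtain ⟨t, ht⟩ : ∃ t, 2 ^ m = t + 1 := ⟨2 ^ m - 1, by have := Nat.one_le_two_pow (n := m); omega⟩
  have hy := hq y
  rw [ht] at hy ⊢
  refine ⟨y ^ (2 * (t + 1) * t + 1), ?_⟩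
  rw [← pow_mul]
  by_cases h0 : y = 0
  · rw [h0, zero_pow (by positivity)]
  · have hne : y ^ (t + 1) ≠ 0 := pow_ne_zero _ h0
    apply mul_right_cancel₀ hne
    rw [← pow_add]
    have e : (2 * (t + 1) * t + 1) * (t + 1 + 1) + (t + 1) = (2 * (t + 1) * (t + 1)) * (t + 1) + 1 := by ring
    rw [e, pow_succ, pow_mul, hy, mul_comm]

omit [Fintype K] in
include hq in
theorem quadW_sq (t υ : K) : quadW (2 ^ m) t υ ^ 2 = quadW (2 ^ m) 0 (t ^ (2 ^ m + 1)) := by
  rw [pow_two, quadW_mul m hq, CharTwo.add_self_eq_zero, CharTwo.add_self_eq_zero, zero_add, pow_succ]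

include hq in
/-- The central elements `x(0, w)` of a class of type `B₂` are commutators. -/
theorem quadW_zero_eq_comm (hm : 1 ≤ m) (hK : Fintype.card K = 2 ^ (2 * m + 1)) (w : K) :
    ∃ x y : K, quadW (2 ^ m) 0 w = ⁅quadW (2 ^ m) x 0, quadW (2 ^ m) y 0⁆ := by
  have he : (2 : ℕ) ^ m ≠ 0 := pow_ne_zero _ (by norm_num)
  obtain ⟨a, ha⟩ := exists_theta_ne K m hq hm hK
  have hw₀ : (a : K) ^ 2 ^ m + (a : K) ≠ 0 := fun h => ha (CharTwo.add_eq_zero.mp h)
  obtain ⟨c, hc⟩ := exists_pow_theta_succ K m hq (w / ((a : K) ^ 2 ^ m + (a : K)))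
  refine ⟨(a : K) * c, c, ?_⟩
  have hw : ((a : K) * c) ^ 2 ^ m * c + c ^ 2 ^ m * ((a : K) * c) = w := by
    have e : ((a : K) * c) ^ 2 ^ m * c + c ^ 2 ^ m * ((a : K) * c)
        = c ^ (2 ^ m + 1) * ((a : K) ^ 2 ^ m + (a : K)) := by
      rw [mul_pow, pow_succ]; ring
    rw [e, hc, div_mul_cancel₀ _ hw₀]
  have key : quadW (2 ^ m) 0 w * (quadW (2 ^ m) c 0 * quadW (2 ^ m) ((a : K) * c) 0)
      = quadW (2 ^ m) ((a : K) * c) 0 * quadW (2 ^ m) c 0 := by
    rw [quadW_mul m hq, quadW_mul m hq, quadW_mul m hq, zero_pow he, zero_mul]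
    congr 1
    · ring
    · linear_combination (-1 : K) * hw + CharTwo.add_self_eq_zero (c ^ 2 ^ m * ((a : K) * c))
  rw [commutatorElement_def, ← key]
  group

omit [Fintype K] in
theorem blkAct_word_conj (e : ℕ) (cw : List ℕ) (B : Blk) (hB : ∀ s ∈ B.roots, s < 48) (τ υ : K) :
    wordG hD4 ((blkAct cw B).word e τ υ)
      = nW hD4 chevData_F4.{u} (wordJ cw) * wordG hD4 (B.word e τ υ) * (nW hD4 chevData_F4.{u} (wordJ cw))⁻¹ := by
  unfold blkAct
  rw [Blk.word_map, ← nW_conj_wordG (wordJ cw) (wordJ_lt cw) _ (Blk.word_lt e B hB τ υ)]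

omit [Fintype K] in
theorem sq_pair_blk (cw : List ℕ) (τ υ : K) :
    wordG hD4 ((blkAct cw (.pair 33 24)).word (2 ^ m) τ υ) ^ 2 = 1 := by
  rw [blkAct_word_conj K (2 ^ m) cw _ (by decide), conj_pow]
  have h : wordG hD4 ((Blk.pair 33 24).word (2 ^ m) τ υ) = pairW (2 ^ m) τ := rfl
  rw [h, pairW_sq K m, mul_one, mul_inv_cancel]

include hq in
theorem sq_quad_blk (hm : 1 ≤ m) (hK : Fintype.card K = 2 ^ (2 * m + 1)) (cw : List ℕ)
    (hpos : blkAct cw (.quad 27 25 28 30) ∈ posBlks) (τ υ : K) :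
    wordG hD4 ((blkAct cw (.quad 27 25 28 30)).word (2 ^ m) τ υ) ^ 2
      ∈ ⁅chevF4.posUnipotent K ⊓ twistedF4 K (2 ^ m), chevF4.posUnipotent K ⊓ twistedF4 K (2 ^ m)⁆ := by
  have hcl := closure_u1Gens K m hq
  have hmemU : ∀ x : K, wordG hD4 ((blkAct cw (.quad 27 25 28 30)).word (2 ^ m) x 0)
      ∈ chevF4.posUnipotent K ⊓ twistedF4 K (2 ^ m) := by
    intro x
    rw [← hcl]
    exact Subgroup.subset_closure ⟨_, hpos, x, 0, rfl⟩
  have hconj := blkAct_word_conj (K := K) (2 ^ m) cw (.quad 27 25 28 30) (by decide)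
  have h : ∀ t u : K, wordG hD4 ((Blk.quad 27 25 28 30).word (2 ^ m) t u) = quadW (2 ^ m) t u := fun _ _ => rfl
  rw [hconj, conj_pow, h, quadW_sq K m hq]
  obtain ⟨x, y, hxy⟩ := quadW_zero_eq_comm K m hq hm hK (τ ^ (2 ^ m + 1))
  have e : nW hD4 chevData_F4.{u} (wordJ cw) * quadW (2 ^ m) 0 (τ ^ (2 ^ m + 1))
        * (nW hD4 chevData_F4.{u} (wordJ cw))⁻¹
      = ⁅wordG hD4 ((blkAct cw (.quad 27 25 28 30)).word (2 ^ m) x 0),
          wordG hD4 ((blkAct cw (.quad 27 25 28 30)).word (2 ^ m) y 0)⁆ := by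
    rw [hxy, hconj, hconj, h, h, commutatorElement_def, commutatorElement_def]
    group
  rw [e]
  exact Subgroup.commutator_mem_commutator (hmemU x) (hmemU y)

include hq in
/-- The squares of the generators lie in the commutator subgroup. -/
theorem u1Gens_sq_mem (hm : 1 ≤ m) (hK : Fintype.card K = 2 ^ (2 * m + 1)) (g : GL chevF4.Idx K)
    (hg : g ∈ u1Gens K m) :
    g ^ 2 ∈ ⁅chevF4.posUnipotent K ⊓ twistedF4 K (2 ^ m), chevF4.posUnipotent K ⊓ twistedF4 K (2 ^ m)⁆ := by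
  obtain ⟨B, hB, τ, υ, rfl⟩ := hg
  have hB' := hB
  rw [posBlks_eq] at hB'
  simp only [List.mem_cons, List.not_mem_nil, or_false] at hB'
  rcases hB' with rfl | rfl | rfl | rfl | rfl | rfl | rfl | rfl
  · rw [sq_pair_blk K m]; exact one_mem _
  · exact sq_quad_blk K m hq hm hK _ hB τ υ
  · exact sq_quad_blk K m hq hm hK _ hB τ υ
  · rw [sq_pair_blk K m]; exact one_mem _
  · exact sq_quad_blk K m hq hm hK _ hB τ υ
  · rw [sq_pair_blk K m]; exact one_mem _
  · exact sq_quad_blk K m hq hm hK _ hB τ υ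
  · rw [sq_pair_blk K m]; exact one_mem _

include hq in
/-- `U ∩ ²F₄`: the squares lie in the commutator subgroup. -/
theorem sqComm_U1 (hm : 1 ≤ m) (hK : Fintype.card K = 2 ^ (2 * m + 1)) :
    SqComm (chevF4.posUnipotent K ⊓ twistedF4 K (2 ^ m)) :=
  sqComm_of_closure _ (u1Gens K m) (closure_u1Gens K m hq) (u1Gens_sq_mem K m hq hm hK)

end U1

/-- `SqComm` only depends on the isomorphism type of the subgroup. -/
theorem sqComm_of_mulEquiv {G H : Type*} [Group G] [Group H] (P : Subgroup G) (Q : Subgroup H) (e : P ≃* Q)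
    (h : SqComm P) : SqComm Q := by
  intro x
  obtain ⟨y, rfl⟩ := e.surjective x
  rw [← map_pow]
  have h1 := h y
  have h2 : (commutator P).map e.toMonoidHom = commutator Q := by
    rw [commutator_def, commutator_def, Subgroup.map_commutator,
      Subgroup.map_top_of_surjective e.toMonoidHom e.surjective]
  rw [← h2]
  exact ⟨_, h1, rfl⟩

/-- [M-2F4] -/
theorem sqComm_twistedF4 {K : Type} [Field K] [Fintype K] (m : ℕ) (hm : 1 ≤ m)
    (hK : Fintype.card K = 2 ^ (2 * m + 1)) (P : Sylow 2 (Cfsg.Lie.twistedF4 K (2 ^ m))) :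
    SqComm (P : Subgroup (Cfsg.Lie.twistedF4 K (2 ^ m))) := by
  have := charP_two_of_card hK
  have hq := hq_of_card hK
  have : Fact (Nat.Prime 2) := ⟨Nat.prime_two⟩
  have hle : chevF4.posUnipotent K ⊓ twistedF4 K (2 ^ m) ≤ twistedF4 K (2 ^ m) := inf_le_right
  have hfin : Finite ↥(twistedF4 K (2 ^ m)) := inferInstance
  have hcardP : Nat.card ↥((chevF4.posUnipotent K ⊓ twistedF4 K (2 ^ m)).subgroupOf (twistedF4 K (2 ^ m)))
      = 2 ^ ((2 * m + 1) * 12) := by
    rw [Nat.card_congr (Subgroup.subgroupOfEquivOfLe hle).toEquiv, card_U1 K m hq, hK, pow_mul]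
  have hcardG := card_twistedF4 hK
  have hP : IsPGroup 2 ↥((chevF4.posUnipotent K ⊓ twistedF4 K (2 ^ m)).subgroupOf (twistedF4 K (2 ^ m))) :=
    IsPGroup.of_card hcardP
  have hidx : ¬ 2 ∣ ((chevF4.posUnipotent K ⊓ twistedF4 K (2 ^ m)).subgroupOf (twistedF4 K (2 ^ m))).index := by
    have h1 := ((chevF4.posUnipotent K ⊓ twistedF4 K (2 ^ m)).subgroupOf (twistedF4 K (2 ^ m))).card_mul_index
    rw [hcardP, hcardG, pow_mul] at h1
    obtain ⟨k, hk⟩ : ∃ k, 2 ^ (2 * m + 1) = 2 * k := ⟨2 ^ (2 * m), by rw [pow_succ, mul_comm]⟩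
    have hk1 : 1 ≤ k := by
      rcases Nat.eq_zero_or_pos k with h0 | h0
      · rw [h0, mul_zero] at hk
        exact absurd hk (pow_ne_zero _ (by norm_num))
      · exact h0
    rw [hk] at h1
    have hpos : 0 < (2 * k) ^ 12 := by positivity
    have h2 : ((chevF4.posUnipotent K ⊓ twistedF4 K (2 ^ m)).subgroupOf (twistedF4 K (2 ^ m))).index
        = (2 * k - 1) * ((2 * k) ^ 3 + 1) * ((2 * k) ^ 4 - 1) * ((2 * k) ^ 6 + 1) := by
      apply Nat.eq_of_mul_eq_mul_left hpos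
      rw [h1]; ring
    rw [h2]
    have e3 : (2 * k) ^ 3 = 2 * (4 * k ^ 3) := by ring
    have e4 : (2 * k) ^ 4 = 2 * (8 * k ^ 4) := by ring
    have e6 : (2 * k) ^ 6 = 2 * (32 * k ^ 6) := by ring
    have hk4 : 1 ≤ k ^ 4 := Nat.one_le_pow _ _ hk1
    rw [e3, e4, e6]
    intro hdvd
    rcases (Nat.Prime.dvd_mul Nat.prime_two).mp hdvd with hdvd | hdvd
    · rcases (Nat.Prime.dvd_mul Nat.prime_two).mp hdvd with hdvd | hdvd
      · rcases (Nat.Prime.dvd_mul Nat.prime_two).mp hdvd with hdvd | hdvd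
        · omega
        · omega
      · omega
    · omega
  have h0 : SqComm ((hP.toSylow hidx : Sylow 2 ↥(twistedF4 K (2 ^ m))) : Subgroup ↥(twistedF4 K (2 ^ m))) := by
    rw [IsPGroup.toSylow_coe]
    exact sqComm_of_mulEquiv _ _ (Subgroup.subgroupOfEquivOfLe hle).symm (sqComm_U1 K m hq hm hK)
  exact sqComm_all_sylow_of_one _ h0 P

end Cfsg.Agent.Lib.Helper40.Lie2
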