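import Mathlib

/-!
# S2363: generic arithmetic for `|G| < p^(3k)` and `|G|^3 < p^(8k)` (helper40)

`G` a group of Lie type over the field with `q = p^f` elements, with order formula
`d * |G| = q^N * M`, `p ∤ d`, `p ∤ M`; then `k = v_p(|G|) = f N`, and a bound `M < d * q^e` with
`e ≤ 2N` (resp. `3e ≤ 5N`) gives `|G| < p^(3k)` (resp. `|G|^3 < p^(8k)`).
-/

set_option autoImplicit false

namespace Cfsg.Agent.Lib.Helper40.LieBound

/-- `p ∤ q^i - 1` for `q = p^f`, `f ≥ 1`, `i ≥ 1` -/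
theorem not_dvd_pow_sub_one {p f : ℕ} (hp : p.Prime) (hf : 1 ≤ f) {i : ℕ} (hi : 1 ≤ i) :
    ¬ p ∣ (p ^ f) ^ i - 1 := by
  intro h
  have h1 : p ∣ (p ^ f) ^ i := by
    rw [← pow_mul]
    exact dvd_pow_self p (by positivity)
  have hpos : 1 ≤ (p ^ f) ^ i := Nat.one_le_pow _ _ (pow_pos hp.pos f)
  have h2 : p ∣ (p ^ f) ^ i - ((p ^ f) ^ i - 1) := Nat.dvd_sub h1 h
  have h3 : (p ^ f) ^ i - ((p ^ f) ^ i - 1) = 1 := by omega
  rw [h3] at h2
  exact hp.one_lt.ne' (Nat.dvd_one.mp h2)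

/-- `p ∤ q^i + c` when `p ∤ c`, for `q = p^f`, `f ≥ 1`, `i ≥ 1` -/
theorem not_dvd_pow_add {p f : ℕ} (hf : 1 ≤ f) {i : ℕ} (hi : 1 ≤ i) {c : ℕ}
    (hc : ¬ p ∣ c) : ¬ p ∣ (p ^ f) ^ i + c := by
  intro h
  have h1 : p ∣ (p ^ f) ^ i := by
    rw [← pow_mul]
    exact dvd_pow_self p (by positivity)
  exact hc ((Nat.dvd_add_right h1).mp h)

/-- `p ∤ q^i + 1` -/
theorem not_dvd_pow_add_one {p f : ℕ} (hp : p.Prime) (hf : 1 ≤ f) {i : ℕ} (hi : 1 ≤ i) :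
    ¬ p ∣ (p ^ f) ^ i + 1 :=
  not_dvd_pow_add hf hi (fun h => hp.one_lt.ne' (Nat.dvd_one.mp h))

/-- a prime not dividing any factor does not divide the product -/
theorem not_dvd_prod {p : ℕ} (hp : p.Prime) {ι : Type*} (s : Finset ι) (a : ι → ℕ)
    (h : ∀ i ∈ s, ¬ p ∣ a i) : ¬ p ∣ ∏ i ∈ s, a i := by
  intro hd
  obtain ⟨i, hi, hpi⟩ := (Prime.dvd_finsetProd_iff hp.prime a).mp hd
  exact h i hi hpi

/-- `p ∤ gcd(n, q - 1)` -/
theorem not_dvd_gcd_sub_one {p f : ℕ} (hp : p.Prime) (hf : 1 ≤ f) (n : ℕ) :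
    ¬ p ∣ Nat.gcd n (p ^ f - 1) := by
  intro h
  have := not_dvd_pow_sub_one hp hf (le_refl 1)
  rw [pow_one] at this
  exact this (h.trans (Nat.gcd_dvd_right _ _))

/-- `p ∤ gcd(n, q + 1)` -/
theorem not_dvd_gcd_add_one {p f : ℕ} (hp : p.Prime) (hf : 1 ≤ f) (n : ℕ) :
    ¬ p ∣ Nat.gcd n (p ^ f + 1) := by
  intro h
  have := not_dvd_pow_add_one hp hf (le_refl 1)
  rw [pow_one] at this
  exact this (h.trans (Nat.gcd_dvd_right _ _))

/-- the `p`-adic valuation of the order -/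
theorem factorization_of_order {p f N d M g : ℕ} (hp : p.Prime)
    (hd : ¬ p ∣ d) (hM : ¬ p ∣ M) (hg : d * g = (p ^ f) ^ N * M) :
    g.factorization p = f * N := by
  have hd0 : d ≠ 0 := fun h => hd (h ▸ dvd_zero p)
  have hM0 : M ≠ 0 := fun h => hM (h ▸ dvd_zero p)
  have hq0 : (p ^ f) ^ N ≠ 0 := pow_ne_zero _ (pow_ne_zero _ hp.ne_zero)
  have hg0 : g ≠ 0 := by
    intro h
    rw [h, mul_zero] at hg
    exact (mul_ne_zero hq0 hM0) hg.symm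
  have h1 : (d * g).factorization p = g.factorization p := by
    rw [Nat.factorization_mul hd0 hg0, Finsupp.add_apply, Nat.factorization_eq_zero_of_not_dvd hd,
      zero_add]
  have h2 : ((p ^ f) ^ N * M).factorization p = f * N := by
    rw [Nat.factorization_mul hq0 hM0, Finsupp.add_apply, Nat.factorization_eq_zero_of_not_dvd hM,
      add_zero, ← pow_mul, hp.factorization_pow, Finsupp.single_eq_same]
  rw [← h1, hg, h2]

/-- the first bound: `|G| < p^(3k)` -/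
theorem card_lt {p f N e d M g : ℕ} (hp : p.Prime)
    (hd : ¬ p ∣ d) (hM : ¬ p ∣ M) (hg : d * g = (p ^ f) ^ N * M)
    (hMe : M < d * (p ^ f) ^ e) (he : e ≤ 2 * N) :
    g < p ^ (3 * g.factorization p) := by
  rw [factorization_of_order hp hd hM hg]
  have hd0 : 0 < d := Nat.pos_of_ne_zero (fun h => hd (h ▸ dvd_zero p))
  have hq : 0 < p ^ f := pow_pos hp.pos f
  have h1 : d * g < d * (p ^ f) ^ (N + e) := by
    rw [hg, pow_add]
    calc (p ^ f) ^ N * M < (p ^ f) ^ N * (d * (p ^ f) ^ e) :=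
          Nat.mul_lt_mul_of_pos_left hMe (pow_pos hq N)
      _ = d * ((p ^ f) ^ N * (p ^ f) ^ e) := by ring
  have h2 : g < (p ^ f) ^ (N + e) := Nat.lt_of_mul_lt_mul_left h1
  calc g < (p ^ f) ^ (N + e) := h2
    _ ≤ (p ^ f) ^ (3 * N) := Nat.pow_le_pow_right hq (by omega)
    _ = p ^ (3 * (f * N)) := by rw [← pow_mul]; congr 1; ring

/-- the second bound: `|G|^3 < p^(8k)` -/
theorem card_cube_lt {p f N e d M g : ℕ} (hp : p.Prime)
    (hd : ¬ p ∣ d) (hM : ¬ p ∣ M) (hg : d * g = (p ^ f) ^ N * M)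
    (hMe : M < d * (p ^ f) ^ e) (he : 3 * e ≤ 5 * N) :
    g ^ 3 < p ^ (8 * g.factorization p) := by
  rw [factorization_of_order hp hd hM hg]
  have hd0 : 0 < d := Nat.pos_of_ne_zero (fun h => hd (h ▸ dvd_zero p))
  have hq : 0 < p ^ f := pow_pos hp.pos f
  have h1 : d * g < d * (p ^ f) ^ (N + e) := by
    rw [hg, pow_add]
    calc (p ^ f) ^ N * M < (p ^ f) ^ N * (d * (p ^ f) ^ e) :=
          Nat.mul_lt_mul_of_pos_left hMe (pow_pos hq N)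
      _ = d * ((p ^ f) ^ N * (p ^ f) ^ e) := by ring
  have h2 : g < (p ^ f) ^ (N + e) := Nat.lt_of_mul_lt_mul_left h1
  calc g ^ 3 < ((p ^ f) ^ (N + e)) ^ 3 := Nat.pow_lt_pow_left h2 (by norm_num)
    _ = (p ^ f) ^ (3 * N + 3 * e) := by rw [← pow_mul]; congr 1; ring
    _ ≤ (p ^ f) ^ (8 * N) := Nat.pow_le_pow_right hq (by omega)
    _ = p ^ (8 * (f * N)) := by rw [← pow_mul]; congr 1; ring

/-- both bounds -/
theorem card_bounds {p f N e d M g : ℕ} (hp : p.Prime)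
    (hd : ¬ p ∣ d) (hM : ¬ p ∣ M) (hg : d * g = (p ^ f) ^ N * M)
    (hMe : M < d * (p ^ f) ^ e) (he1 : e ≤ 2 * N) (he2 : 3 * e ≤ 5 * N) :
    g < p ^ (3 * g.factorization p) ∧ g ^ 3 < p ^ (8 * g.factorization p) :=
  ⟨card_lt hp hd hM hg hMe he1, card_cube_lt hp hd hM hg hMe he2⟩

/-- `q^i - 1 < q^i` -/
theorem pow_sub_one_lt {q : ℕ} (hq : 1 ≤ q) (i : ℕ) : q ^ i - 1 < q ^ i := by
  have : 1 ≤ q ^ i := Nat.one_le_pow _ _ hq
  omega

/-- `q^i + 1 < q^(i+1)` for `q ≥ 2`, `i ≥ 1` -/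
theorem pow_add_one_lt {q : ℕ} (hq : 2 ≤ q) {i : ℕ} (hi : 1 ≤ i) : q ^ i + 1 < q ^ (i + 1) := by
  have h1 : 2 ≤ q ^ i := by
    calc 2 ≤ q := hq
      _ = q ^ 1 := (pow_one q).symm
      _ ≤ q ^ i := Nat.pow_le_pow_right (by omega) hi
  calc q ^ i + 1 < q ^ i + q ^ i := by omega
    _ = 2 * q ^ i := by ring
    _ ≤ q * q ^ i := Nat.mul_le_mul_right _ hq
    _ = q ^ (i + 1) := by ring

/-- the pairing estimate `(q^a - 1)(q^b + 1) < q^(a+b)` for `a < b` -/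
theorem pair_lt {q : ℕ} (hq : 2 ≤ q) {a b : ℕ} (hab : a < b) :
    (q ^ a - 1) * (q ^ b + 1) < q ^ (a + b) := by
  have h1 : 1 ≤ q ^ a := Nat.one_le_pow _ _ (by omega)
  have h2 : q ^ a < q ^ b := Nat.pow_lt_pow_right (by omega) hab
  obtain ⟨x, hx⟩ : ∃ x, q ^ a = x + 1 := ⟨q ^ a - 1, by omega⟩
  rw [pow_add, hx]
  simp only [Nat.add_sub_cancel]
  nlinarith

end Cfsg.Agent.Lib.Helper40.LieBound
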