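import Mathlib
import Cfsg.Agent.Lib.Helper40.LieBound
import Cfsg.Agent.Lib.Helper50.LieBoundPSL
import Cfsg.Agent.Lib.Helper50.LieBoundPSU
import Cfsg.Agent.Lib.Helper50.LieBoundExcA
import Cfsg.Agent.Lib.Helper46.LieBoundPSP
import Cfsg.Agent.Lib.Helper65.LieBoundPMinus
import Cfsg.Agent.Lib.Helper65.LieBoundExcC
import Cfsg.Agent.Lib.Helper44.LieBoundExcB

/-!
# S2363: the sixteen family bounds, collected (helper40)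

Thin wrappers around the arithmetic modules written by helper50 ([PSL] [PSU] [EXC-A]), helper46 ([PSP] [PPLUS]),
helper65 ([PMINUS] [EXC-C]) and helper44 ([EXC-B]).
-/

set_option autoImplicit false

namespace Cfsg.Agent.Lib.Helper40.LieBoundAll

/-- [PSL] -/
theorem psl_bound {p f q n g : ℕ} (hp : p.Prime) (hf : 1 ≤ f) (hq : q = p ^ f) (hn : 2 ≤ n)
    (hg : Nat.gcd n (q - 1) * ((q - 1) * g) = ∏ i : Fin n, (q ^ n - q ^ (i : ℕ))) :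
    g.factorization p = f * (n * (n - 1) / 2) ∧ g < p ^ (3 * g.factorization p) ∧
      (3 ≤ n → g ^ 3 < p ^ (8 * g.factorization p)) :=
  Cfsg.Agent.Lib.Helper50.LieBoundPSL.psl_bound hp hf hq hn hg

/-- [PSP] (also used for PΩ_{2m+1}: same shape with `d = 2`) -/
theorem psp_bound {p f q m d g : ℕ} (hp : p.Prime) (hf : 1 ≤ f) (hq : q = p ^ f) (hm : 2 ≤ m)
    (hd : ¬ p ∣ d)
    (hg : d * g = q ^ (m ^ 2) * ∏ i ∈ Finset.range m, (q ^ (2 * (i + 1)) - 1)) :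
    g < p ^ (3 * g.factorization p) ∧ g ^ 3 < p ^ (8 * g.factorization p) :=
  Cfsg.Agent.Lib.Helper46.LieBound.psp_bound hp hf hq hm hd hg

/-- [PSU] -/
theorem psu_bound {p f q n g : ℕ} (hp : p.Prime) (hf : 1 ≤ f) (hq : q = p ^ f) (hn : 3 ≤ n)
    (hg : Nat.gcd n (q + 1) * ((q + 1) * g) = q ^ (n * (n - 1) / 2) *
      ∏ i ∈ Finset.range n, (if Even i then q ^ (i + 1) + 1 else q ^ (i + 1) - 1)) :
    g < p ^ (3 * g.factorization p) ∧ g ^ 3 < p ^ (8 * g.factorization p) :=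
  Cfsg.Agent.Lib.Helper50.LieBoundPSU.psu_bound hp hf hq hn hg

/-- [PPLUS] -/
theorem pplus_bound {p f q m g : ℕ} (hp : p.Prime) (hf : 1 ≤ f) (hq : q = p ^ f) (hm : 4 ≤ m)
    (hg : Nat.gcd 4 (q ^ m - 1) * g =
      q ^ (m * (m - 1)) * (q ^ m - 1) * ∏ i ∈ Finset.range (m - 1), (q ^ (2 * (i + 1)) - 1)) :
    g < p ^ (3 * g.factorization p) ∧ g ^ 3 < p ^ (8 * g.factorization p) :=
  Cfsg.Agent.Lib.Helper46.LieBound.pplus_bound hp hf hq hm hg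

/-- [PMINUS] -/
theorem pminus_bound {p f q m g : ℕ} (hp : p.Prime) (hf : 1 ≤ f) (hq : q = p ^ f) (hm : 4 ≤ m)
    (hg : Nat.gcd 4 (q ^ m + 1) * g =
      q ^ (m * (m - 1)) * (q ^ m + 1) * ∏ i ∈ Finset.range (m - 1), (q ^ (2 * (i + 1)) - 1)) :
    g < p ^ (3 * g.factorization p) ∧ g ^ 3 < p ^ (8 * g.factorization p) :=
  Cfsg.Agent.Lib.Helper65.LieBound.pminus_bound hp hf hq hm hg

/-- [G2] -/
theorem g2_bound {p f q g : ℕ} (hp : p.Prime) (hf : 1 ≤ f) (hq : q = p ^ f)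
    (hg : g = q ^ 6 * (q ^ 2 - 1) * (q ^ 6 - 1)) :
    g < p ^ (3 * g.factorization p) ∧ g ^ 3 < p ^ (8 * g.factorization p) :=
  Cfsg.Agent.Lib.Helper50.LieBound.g2_bound hp hf hq hg

/-- [F4] -/
theorem f4_bound {p f q g : ℕ} (hp : p.Prime) (hf : 1 ≤ f) (hq : q = p ^ f)
    (hg : g = q ^ 24 * (q ^ 2 - 1) * (q ^ 6 - 1) * (q ^ 8 - 1) * (q ^ 12 - 1)) :
    g < p ^ (3 * g.factorization p) ∧ g ^ 3 < p ^ (8 * g.factorization p) :=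
  Cfsg.Agent.Lib.Helper50.LieBound.f4_bound hp hf hq hg

/-- [E6] -/
theorem e6_bound {p f q g : ℕ} (hp : p.Prime) (hf : 1 ≤ f) (hq : q = p ^ f)
    (hg : Nat.gcd 3 (q - 1) * g = q ^ 36 * (q ^ 2 - 1) * (q ^ 5 - 1) * (q ^ 6 - 1) * (q ^ 8 - 1) *
      (q ^ 9 - 1) * (q ^ 12 - 1)) :
    g < p ^ (3 * g.factorization p) ∧ g ^ 3 < p ^ (8 * g.factorization p) :=
  Cfsg.Agent.Lib.Helper44.LieBoundExcB.e6_bound hp hf hq hg

/-- [E7] -/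
theorem e7_bound {p f q g : ℕ} (hp : p.Prime) (hf : 1 ≤ f) (hq : q = p ^ f)
    (hg : Nat.gcd 2 (q - 1) * g = q ^ 63 * (q ^ 2 - 1) * (q ^ 6 - 1) * (q ^ 8 - 1) * (q ^ 10 - 1) *
      (q ^ 12 - 1) * (q ^ 14 - 1) * (q ^ 18 - 1)) :
    g < p ^ (3 * g.factorization p) ∧ g ^ 3 < p ^ (8 * g.factorization p) :=
  Cfsg.Agent.Lib.Helper44.LieBoundExcB.e7_bound hp hf hq hg

/-- [E8] -/
theorem e8_bound {p f q g : ℕ} (hp : p.Prime) (hf : 1 ≤ f) (hq : q = p ^ f)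
    (hg : g = q ^ 120 * (q ^ 2 - 1) * (q ^ 8 - 1) * (q ^ 12 - 1) * (q ^ 14 - 1) * (q ^ 18 - 1) *
      (q ^ 20 - 1) * (q ^ 24 - 1) * (q ^ 30 - 1)) :
    g < p ^ (3 * g.factorization p) ∧ g ^ 3 < p ^ (8 * g.factorization p) :=
  Cfsg.Agent.Lib.Helper50.LieBound.e8_bound hp hf hq hg

/-- [2E6] -/
theorem twoE6_bound {p f q g : ℕ} (hp : p.Prime) (hf : 1 ≤ f) (hq : q = p ^ f)
    (hg : Nat.gcd 3 (q + 1) * g = q ^ 36 * (q ^ 2 - 1) * (q ^ 5 + 1) * (q ^ 6 - 1) * (q ^ 8 - 1) *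
      (q ^ 9 + 1) * (q ^ 12 - 1)) :
    g < p ^ (3 * g.factorization p) ∧ g ^ 3 < p ^ (8 * g.factorization p) :=
  Cfsg.Agent.Lib.Helper44.LieBoundExcB.twoE6_bound hp hf hq hg

/-- [3D4] -/
theorem threeD4_bound {p f q g : ℕ} (hp : p.Prime) (hf : 1 ≤ f) (hq : q = p ^ f)
    (hg : g = q ^ 12 * (q ^ 2 - 1) * (q ^ 6 - 1) * (q ^ 8 + q ^ 4 + 1)) :
    g < p ^ (3 * g.factorization p) ∧ g ^ 3 < p ^ (8 * g.factorization p) :=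
  Cfsg.Agent.Lib.Helper50.LieBound.threeD4_bound hp hf hq hg

/-- [SZ] -/
theorem sz_bound {m g : ℕ}
    (hg : g = (2 ^ (2 * m + 1)) ^ 2 * (2 ^ (2 * m + 1) - 1) * ((2 ^ (2 * m + 1)) ^ 2 + 1)) :
    g < 2 ^ (3 * g.factorization 2) ∧ g ^ 3 < 2 ^ (8 * g.factorization 2) :=
  Cfsg.Agent.Lib.Helper65.LieBound.sz_bound hg

/-- [2F4] -/
theorem twoF4_bound {m g : ℕ}
    (hg : g = (2 ^ (2 * m + 1)) ^ 12 * (2 ^ (2 * m + 1) - 1) * ((2 ^ (2 * m + 1)) ^ 3 + 1) *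
      ((2 ^ (2 * m + 1)) ^ 4 - 1) * ((2 ^ (2 * m + 1)) ^ 6 + 1)) :
    g < 2 ^ (3 * g.factorization 2) ∧ g ^ 3 < 2 ^ (8 * g.factorization 2) :=
  Cfsg.Agent.Lib.Helper65.LieBound.twoF4_bound hg

/-- [2G2] -/
theorem twoG2_bound {m g : ℕ}
    (hg : g = (3 ^ (2 * m + 1)) ^ 3 * (3 ^ (2 * m + 1) - 1) * ((3 ^ (2 * m + 1)) ^ 3 + 1)) :
    g < 3 ^ (3 * g.factorization 3) ∧ g ^ 3 < 3 ^ (8 * g.factorization 3) :=
  Cfsg.Agent.Lib.Helper65.LieBound.twoG2_bound hg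

end Cfsg.Agent.Lib.Helper40.LieBoundAll
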