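import Mathlib
import Cfsg.Prelude.Def_LieTypeChar
import Cfsg.Agent.Lib.Helper40.LieBoundAll

/-!
# S2363: assembly of the family bounds (helper40)

Each family of `Cfsg.IsLieTypeChar` gives the conclusion of S2363, *given* its order formula as a
hypothesis (the landed order statements are plugged in in `Cfsg/Agent/S2363.lean`).
-/

set_option autoImplicit false

open Cfsg

namespace Cfsg.Agent.Lib.Helper40.LieBoundAsm

open Cfsg.Agent.Lib.Helper40.LieBound Cfsg.Agent.Lib.Helper40.LieBoundAll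

/-- the conclusion of S2363 -/
def Concl (p : ℕ) (G : Type*) [Group G] : Prop :=
  Nat.card G < p ^ (3 * (Nat.card G).factorization p) ∧
    ((¬ ∃ (F : Type) (_ : Field F) (_ : Fintype F),
        Fintype.card F = p ^ (Nat.card G).factorization p ∧
          Nonempty (G ≃* Matrix.ProjectiveSpecialLinearGroup (Fin 2) F)) →
      Nat.card G ^ 3 < p ^ (8 * (Nat.card G).factorization p))

theorem concl_of_bounds {p : ℕ} {G : Type*} [Group G]
    (h : Nat.card G < p ^ (3 * (Nat.card G).factorization p) ∧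
      Nat.card G ^ 3 < p ^ (8 * (Nat.card G).factorization p)) : Concl p G :=
  ⟨h.1, fun _ => h.2⟩

theorem concl_of_card {p : ℕ} {G H : Type*} [Group G] [Group H] (e : G ≃* H)
    (h : Nat.card H < p ^ (3 * (Nat.card H).factorization p) ∧
      Nat.card H ^ 3 < p ^ (8 * (Nat.card H).factorization p)) : Concl p G := by
  apply concl_of_bounds
  rw [Nat.card_congr e.toEquiv]
  exact h

theorem exists_card_eq_pow (F : Type*) [Field F] [Fintype F] (p : ℕ) [CharP F p] :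
    ∃ f, 1 ≤ f ∧ Fintype.card F = p ^ f := by
  obtain ⟨n, -, hn⟩ := FiniteField.card F p
  exact ⟨n, n.pos, hn⟩

theorem pow_of_pow_eq {p q a e : ℕ} (hp : p.Prime) (ha : 1 ≤ a) (he : 1 ≤ e)
    (h : q ^ a = p ^ e) : ∃ j, 1 ≤ j ∧ q = p ^ j := by
  have hq : q ∣ p ^ e := h ▸ dvd_pow_self q (by omega)
  obtain ⟨j, -, hj⟩ := (Nat.dvd_prime_pow hp).mp hq
  refine ⟨j, ?_, hj⟩
  rcases Nat.eq_zero_or_pos j with h0 | h0
  · exfalso
    rw [h0, pow_zero] at hj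
    rw [hj, one_pow] at h
    have : 2 ≤ p ^ e := le_trans hp.two_le (Nat.le_self_pow (by omega) p)
    omega
  · exact h0

/-- PSL -/
theorem concl_psl {p : ℕ} (hp : p.Prime) {G : Type*} [Group G]
    (hord : ∀ (F : Type) [Field F] [Fintype F] (n : ℕ), 2 ≤ n →
      Nat.gcd n (Fintype.card F - 1) * ((Fintype.card F - 1) *
        Nat.card (Matrix.ProjectiveSpecialLinearGroup (Fin n) F)) =
          ∏ i : Fin n, (Fintype.card F ^ n - Fintype.card F ^ (i : ℕ)))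
    (hG : IsPSLChar p G) : Concl p G := by
  obtain ⟨F, _, _, _, n, hn, -, ⟨e⟩⟩ := hG
  obtain ⟨f, hf, hq⟩ := exists_card_eq_pow F p
  obtain ⟨hk, h1, h2⟩ := psl_bound hp hf hq hn (hord F n hn)
  rw [← Nat.card_congr e.toEquiv] at hk h1 h2
  refine ⟨h1, fun hno => ?_⟩
  rcases Nat.lt_or_ge n 3 with hlt | hge
  · exfalso
    have hn2 : n = 2 := by omega
    subst hn2
    apply hno
    refine ⟨F, inferInstance, inferInstance, ?_, ⟨e⟩⟩
    rw [hk, hq]
    norm_num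
  · exact h2 hge

/-- PSp -/
theorem concl_psp {p : ℕ} (hp : p.Prime) {G : Type*} [Group G]
    (hord : ∀ (F : Type) [Field F] [Fintype F] (m : ℕ), 1 ≤ m →
      Nat.gcd 2 (Fintype.card F - 1) * Nat.card (PSp m F) =
        Fintype.card F ^ (m ^ 2) * ∏ i ∈ Finset.range m, (Fintype.card F ^ (2 * (i + 1)) - 1))
    (hG : IsPSpChar p G) : Concl p G := by
  obtain ⟨F, _, _, _, m, hm, -, ⟨e⟩⟩ := hG
  obtain ⟨f, hf, hq⟩ := exists_card_eq_pow F p
  apply concl_of_card e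
  refine psp_bound hp hf hq hm ?_ (hord F m (by omega))
  rw [hq]
  exact not_dvd_gcd_sub_one hp hf 2

/-- PSU -/
theorem concl_psu {p : ℕ} (hp : p.Prime) {G : Type*} [Group G]
    (hord : ∀ (F : Type) [Field F] [Fintype F] (q n : ℕ), Fintype.card F = q ^ 2 → 2 ≤ n →
      Nat.gcd n (q + 1) * ((q + 1) * Nat.card (PSU n F q)) = q ^ (n * (n - 1) / 2) *
        ∏ i ∈ Finset.range n, (if Even i then q ^ (i + 1) + 1 else q ^ (i + 1) - 1))
    (hG : IsPSUChar p G) : Concl p G := by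
  obtain ⟨F, _, _, _, n, q, hF, hn, -, ⟨e⟩⟩ := hG
  obtain ⟨f, hf, hcard⟩ := exists_card_eq_pow F p
  obtain ⟨j, hj, hq⟩ := pow_of_pow_eq hp (a := 2) (by norm_num) hf (hF ▸ hcard)
  apply concl_of_card e
  exact psu_bound hp hj hq hn (hord F q n hF (by omega))

/-- PΩ odd -/
theorem concl_podd {p : ℕ} (hp : p.Prime) {G : Type*} [Group G]
    (hord : ∀ (F : Type) [Field F] [Fintype F] (m : ℕ), Odd (Fintype.card F) → 3 ≤ m →
      2 * Nat.card (POmega F (quadFormOdd m F)) =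
        Fintype.card F ^ (m ^ 2) * ∏ i ∈ Finset.range m, (Fintype.card F ^ (2 * (i + 1)) - 1))
    (hG : IsPOmegaOddChar p G) : Concl p G := by
  obtain ⟨F, _, _, _, m, hm, hodd, ⟨e⟩⟩ := hG
  obtain ⟨f, hf, hq⟩ := exists_card_eq_pow F p
  apply concl_of_card e
  refine psp_bound hp hf hq (by omega) ?_ (hord F m hodd hm)
  intro h2
  have hp2 : p = 2 := (Nat.prime_dvd_prime_iff_eq hp Nat.prime_two).mp h2
  rw [hq, hp2] at hodd
  exact (Nat.not_even_iff_odd.mpr hodd) ((Nat.even_pow' (by omega)).mpr even_two)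

/-- PΩ⁺ -/
theorem concl_pplus {p : ℕ} (hp : p.Prime) {G : Type*} [Group G]
    (hord : ∀ (F : Type) [Field F] [Fintype F] (m : ℕ), 4 ≤ m →
      Nat.gcd 4 (Fintype.card F ^ m - 1) * Nat.card (POmega F (quadFormPlus m F)) =
        Fintype.card F ^ (m * (m - 1)) * (Fintype.card F ^ m - 1) *
          ∏ i ∈ Finset.range (m - 1), (Fintype.card F ^ (2 * (i + 1)) - 1))
    (hG : IsPOmegaPlusChar p G) : Concl p G := by
  obtain ⟨F, _, _, _, m, hm, ⟨e⟩⟩ := hG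
  obtain ⟨f, hf, hq⟩ := exists_card_eq_pow F p
  apply concl_of_card e
  exact pplus_bound hp hf hq hm (hord F m hm)

/-- PΩ⁻ -/
theorem concl_pminus {p : ℕ} (hp : p.Prime) {G : Type*} [Group G]
    (hord : ∀ (F : Type) [Field F] [Fintype F] (m : ℕ) (a b : F), 4 ≤ m →
      (∀ z₁ z₂ : F, z₁ ^ 2 + a * z₁ * z₂ + b * z₂ ^ 2 = 0 → z₁ = 0 ∧ z₂ = 0) →
      Nat.gcd 4 (Fintype.card F ^ m + 1) * Nat.card (POmega F (quadFormMinus (m - 1) F a b)) =
        Fintype.card F ^ (m * (m - 1)) * (Fintype.card F ^ m + 1) *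
          ∏ i ∈ Finset.range (m - 1), (Fintype.card F ^ (2 * (i + 1)) - 1))
    (hG : IsPOmegaMinusChar p G) : Concl p G := by
  obtain ⟨F, _, _, _, m, a, b, hm, hab, ⟨e⟩⟩ := hG
  obtain ⟨f, hf, hq⟩ := exists_card_eq_pow F p
  apply concl_of_card e
  exact pminus_bound hp hf hq hm (hord F m a b hm hab)

/-- exceptional Chevalley groups -/
theorem concl_exc {p : ℕ} (hp : p.Prime) {G : Type*} [Group G]
    (hG2 : ∀ (F : Type) [Field F] [Fintype F], Nat.card ↥(Lie.chevG2.group F) =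
      Fintype.card F ^ 6 * (Fintype.card F ^ 2 - 1) * (Fintype.card F ^ 6 - 1))
    (hF4 : ∀ (F : Type) [Field F] [Fintype F], Nat.card ↥(Lie.chevF4.group F) =
      Fintype.card F ^ 24 * (Fintype.card F ^ 2 - 1) * (Fintype.card F ^ 6 - 1) *
        (Fintype.card F ^ 8 - 1) * (Fintype.card F ^ 12 - 1))
    (hE6 : ∀ (F : Type) [Field F] [Fintype F],
      Nat.gcd 3 (Fintype.card F - 1) * Nat.card ↥(Lie.chevE6.group F) =
        Fintype.card F ^ 36 * (Fintype.card F ^ 2 - 1) * (Fintype.card F ^ 5 - 1) *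
          (Fintype.card F ^ 6 - 1) * (Fintype.card F ^ 8 - 1) * (Fintype.card F ^ 9 - 1) *
          (Fintype.card F ^ 12 - 1))
    (hE7 : ∀ (F : Type) [Field F] [Fintype F],
      Nat.gcd 2 (Fintype.card F - 1) * Nat.card ↥(Lie.chevE7.group F) =
        Fintype.card F ^ 63 * (Fintype.card F ^ 2 - 1) * (Fintype.card F ^ 6 - 1) *
          (Fintype.card F ^ 8 - 1) * (Fintype.card F ^ 10 - 1) * (Fintype.card F ^ 12 - 1) *
          (Fintype.card F ^ 14 - 1) * (Fintype.card F ^ 18 - 1))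
    (hE8 : ∀ (F : Type) [Field F] [Fintype F], Nat.card ↥(Lie.chevE8.group F) =
      Fintype.card F ^ 120 * (Fintype.card F ^ 2 - 1) * (Fintype.card F ^ 8 - 1) *
        (Fintype.card F ^ 12 - 1) * (Fintype.card F ^ 14 - 1) * (Fintype.card F ^ 18 - 1) *
        (Fintype.card F ^ 20 - 1) * (Fintype.card F ^ 24 - 1) * (Fintype.card F ^ 30 - 1))
    (hG : IsExceptionalChevChar p G) : Concl p G := by
  obtain ⟨F, _, _, _, h⟩ := hG
  obtain ⟨f, hf, hq⟩ := exists_card_eq_pow F p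
  rcases h with ⟨-, ⟨e⟩⟩ | ⟨⟨e⟩⟩ | ⟨⟨e⟩⟩ | ⟨⟨e⟩⟩ | ⟨⟨e⟩⟩
  · exact concl_of_card e (g2_bound hp hf hq (hG2 F))
  · exact concl_of_card e (f4_bound hp hf hq (hF4 F))
  · exact concl_of_card e (e6_bound hp hf hq (hE6 F))
  · exact concl_of_card e (e7_bound hp hf hq (hE7 F))
  · exact concl_of_card e (e8_bound hp hf hq (hE8 F))

/-- twisted ²E₆, ³D₄ -/
theorem concl_tw {p : ℕ} (hp : p.Prime) {G : Type*} [Group G]
    (h2E6 : ∀ (K : Type) [Field K] [Fintype K] (q : ℕ), IsPrimePow q → Fintype.card K = q ^ 2 →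
      Nat.gcd 3 (q + 1) * Nat.card ↥(Lie.twistedE6 K q) =
        q ^ 36 * (q ^ 2 - 1) * (q ^ 5 + 1) * (q ^ 6 - 1) * (q ^ 8 - 1) * (q ^ 9 + 1) * (q ^ 12 - 1))
    (h3D4 : ∀ (K : Type) [Field K] [Fintype K] (q : ℕ), IsPrimePow q → Fintype.card K = q ^ 3 →
      Nat.card ↥(Lie.twistedD4 K q) = q ^ 12 * (q ^ 2 - 1) * (q ^ 6 - 1) * (q ^ 8 + q ^ 4 + 1))
    (hG : IsTwistedE6D4Char p G) : Concl p G := by
  obtain ⟨K, _, _, _, q, hqpp, h⟩ := hG
  obtain ⟨f, hf, hcard⟩ := exists_card_eq_pow K p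
  rcases h with ⟨hK, ⟨e⟩⟩ | ⟨hK, ⟨e⟩⟩
  · obtain ⟨j, hj, hq⟩ := pow_of_pow_eq hp (a := 2) (by norm_num) hf (hK ▸ hcard)
    exact concl_of_card e (twoE6_bound hp hj hq (h2E6 K q hqpp hK))
  · obtain ⟨j, hj, hq⟩ := pow_of_pow_eq hp (a := 3) (by norm_num) hf (hK ▸ hcard)
    exact concl_of_card e (threeD4_bound hp hj hq (h3D4 K q hqpp hK))

/-- Suzuki -/
theorem concl_sz {G : Type*} [Group G]
    (hord : ∀ (F : Type) [Field F] [Fintype F] (m : ℕ), 1 ≤ m → Fintype.card F = 2 ^ (2 * m + 1) →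
      Nat.card ↥(Lie.Sz F (2 ^ (m + 1))) =
        (2 ^ (2 * m + 1)) ^ 2 * (2 ^ (2 * m + 1) - 1) * ((2 ^ (2 * m + 1)) ^ 2 + 1))
    (hG : Lie.IsoSuzuki G) : Concl 2 G := by
  obtain ⟨F, _, _, m, hm, hF, ⟨e⟩⟩ := hG
  exact concl_of_card e (sz_bound (hord F m hm hF))

/-- large Ree -/
theorem concl_2f4 {G : Type*} [Group G]
    (hord : ∀ (K : Type) [Field K] [Fintype K] (m : ℕ), Fintype.card K = 2 ^ (2 * m + 1) →
      Nat.card ↥(Lie.twistedF4 K (2 ^ m)) =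
        (2 ^ (2 * m + 1)) ^ 12 * (2 ^ (2 * m + 1) - 1) * ((2 ^ (2 * m + 1)) ^ 3 + 1) *
          ((2 ^ (2 * m + 1)) ^ 4 - 1) * ((2 ^ (2 * m + 1)) ^ 6 + 1))
    (hG : Lie.Iso2F4 G) : Concl 2 G := by
  obtain ⟨K, _, _, m, -, hK, ⟨e⟩⟩ := hG
  exact concl_of_card e (twoF4_bound (hord K m hK))

/-- small Ree -/
theorem concl_2g2 {G : Type*} [Group G]
    (hord : ∀ (K : Type) [Field K] [Fintype K] (m : ℕ), Fintype.card K = 3 ^ (2 * m + 1) →
      Nat.card ↥(Lie.twistedG2 K (3 ^ m)) =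
        (3 ^ (2 * m + 1)) ^ 3 * (3 ^ (2 * m + 1) - 1) * ((3 ^ (2 * m + 1)) ^ 3 + 1))
    (hG : Lie.IsoRee G) : Concl 3 G := by
  obtain ⟨K, _, _, m, -, hK, ⟨e⟩⟩ := hG
  exact concl_of_card e (twoG2_bound (hord K m hK))

end Cfsg.Agent.Lib.Helper40.LieBoundAsm
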