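import Mathlib
import Cfsg.Prelude.Def_GeometricClasses

/-!
# Project ASCHOE (helper55), module [T-FOUR] (helper40)

An orthogonal `m`-decomposition into `t` blocks, `4 ∣ t`, is of plus type: pair the blocks
`E j = D (2j) ⊔ D (2j+1)` and apply [T-EVEN] (taken as a hypothesis: `_of` form) to the `t/2` blocks `E j`
of even dimension `2m`.  Any finite index type, any field.
-/

set_option autoImplicit false
set_option linter.unusedSectionVars false

namespace Cfsg.Agent.Lib.Helper40.OeTFour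

open Cfsg Cfsg.Geo

variable {ι : Type} [Fintype ι] [DecidableEq ι] {F : Type*} [Field F]

/-- The statement of ASCHOE-[T-EVEN] for the form `Q`. -/
def TEvenStmt (Q : (ι → F) → F) : Prop :=
  ∀ {t : ℕ} (m : ℕ) (D : Fin t → Submodule F (ι → F)),
    (∀ i, Module.finrank F (D i) = m) →
    (∀ i, IsNondegenerateOn (QuadraticMap.polar Q) (D i)) →
    (∀ i j, i ≠ j → AreOrthogonalFor (QuadraticMap.polar Q) (D i) (D j)) →
    (∀ i j, AreIsometricFor Q (D i) (D j)) → Even t → Even m →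
    IsPlusTypeOn Q (iSup D)

section pair

variable {Q : (ι → F) → F}

theorem polar_add_left' (hb : IsBilinearForm (QuadraticMap.polar Q)) (x y v : ι → F) :
    QuadraticMap.polar Q (x + y) v = QuadraticMap.polar Q x v + QuadraticMap.polar Q y v :=
  hb.add_left x y v

/-- `Q (u + v) = Q u + Q v` for orthogonal vectors. -/
theorem Q_add_of_orth (u v : ι → F) (h : QuadraticMap.polar Q u v = 0) : Q (u + v) = Q u + Q v := by
  unfold QuadraticMap.polar at h
  linear_combination h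

/-- The sum of two orthogonal non-degenerate subspaces is non-degenerate. -/
theorem nondeg_sup (hb : IsBilinearForm (QuadraticMap.polar Q)) (W₁ W₂ : Submodule F (ι → F))
    (h1 : IsNondegenerateOn (QuadraticMap.polar Q) W₁) (h2 : IsNondegenerateOn (QuadraticMap.polar Q) W₂)
    (h12 : AreOrthogonalFor (QuadraticMap.polar Q) W₁ W₂)
    (h21 : AreOrthogonalFor (QuadraticMap.polar Q) W₂ W₁) :
    IsNondegenerateOn (QuadraticMap.polar Q) (W₁ ⊔ W₂) := by
  intro w hw hw0
  obtain ⟨u, hu, v, hv, rfl⟩ := Submodule.mem_sup.mp hw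
  by_cases hu0 : u = 0
  · have hv0 : v ≠ 0 := by
      intro h
      apply hw0
      rw [hu0, h, add_zero]
    obtain ⟨⟨x, hx, hx1⟩, ⟨y, hy, hy1⟩⟩ := h2 v hv hv0
    refine ⟨⟨x, Submodule.mem_sup_right hx, ?_⟩, ⟨y, Submodule.mem_sup_right hy, ?_⟩⟩
    · rw [hb.add_right, h21 x hx u hu, zero_add]
      exact hx1
    · rw [hb.add_left, h12 u hu y hy, zero_add]
      exact hy1
  · obtain ⟨⟨x, hx, hx1⟩, ⟨y, hy, hy1⟩⟩ := h1 u hu hu0
    refine ⟨⟨x, Submodule.mem_sup_left hx, ?_⟩, ⟨y, Submodule.mem_sup_left hy, ?_⟩⟩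
    · rw [hb.add_right, h12 x hx v hv, add_zero]
      exact hx1
    · rw [hb.add_left, h21 v hv y hy, add_zero]
      exact hy1

/-- Orthogonality of sums. -/
theorem orth_sup (hb : IsBilinearForm (QuadraticMap.polar Q)) (W₁ W₂ W₁' W₂' : Submodule F (ι → F))
    (h11 : AreOrthogonalFor (QuadraticMap.polar Q) W₁ W₁')
    (h12 : AreOrthogonalFor (QuadraticMap.polar Q) W₁ W₂')
    (h21 : AreOrthogonalFor (QuadraticMap.polar Q) W₂ W₁')
    (h22 : AreOrthogonalFor (QuadraticMap.polar Q) W₂ W₂') :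
    AreOrthogonalFor (QuadraticMap.polar Q) (W₁ ⊔ W₂) (W₁' ⊔ W₂') := by
  intro w hw w' hw'
  obtain ⟨u, hu, v, hv, rfl⟩ := Submodule.mem_sup.mp hw
  obtain ⟨u', hu', v', hv', rfl⟩ := Submodule.mem_sup.mp hw'
  rw [hb.add_left, hb.add_right, hb.add_right, h11 u hu u' hu', h12 u hu v' hv', h21 v hv u' hu',
    h22 v hv v' hv']
  simp

/-- The internal direct sum of two disjoint subspaces as a product. -/
noncomputable def prodEquivSup (W₁ W₂ : Submodule F (ι → F)) (hd : Disjoint W₁ W₂) :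
    (W₁ × W₂) ≃ₗ[F] ↥(W₁ ⊔ W₂) :=
  (LinearEquiv.ofInjective (W₁.subtype.coprod W₂.subtype) (by
    rw [← LinearMap.ker_eq_bot]
    rw [LinearMap.ker_coprod_of_disjoint_range]
    · simp
    · simpa using hd)).trans
  (LinearEquiv.ofEq _ _ (by rw [LinearMap.range_coprod]; simp))

theorem prodEquivSup_apply (W₁ W₂ : Submodule F (ι → F)) (hd : Disjoint W₁ W₂) (p : W₁ × W₂) :
    ((prodEquivSup W₁ W₂ hd p : ↥(W₁ ⊔ W₂)) : ι → F) = (p.1 : ι → F) + (p.2 : ι → F) := by
  unfold prodEquivSup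
  simp

/-- Isometries of orthogonal direct summands add up. -/
theorem isometric_sup (W₁ W₂ W₁' W₂' : Submodule F (ι → F))
    (hd : Disjoint W₁ W₂) (hd' : Disjoint W₁' W₂')
    (ho : AreOrthogonalFor (QuadraticMap.polar Q) W₁ W₂)
    (ho' : AreOrthogonalFor (QuadraticMap.polar Q) W₁' W₂')
    (h1 : AreIsometricFor Q W₁ W₁') (h2 : AreIsometricFor Q W₂ W₂') :
    AreIsometricFor Q (W₁ ⊔ W₂) (W₁' ⊔ W₂') := by
  obtain ⟨e₁, he₁⟩ := h1
  obtain ⟨e₂, he₂⟩ := h2
  refine ⟨(prodEquivSup W₁ W₂ hd).symm.trans ((e₁.prodCongr e₂).trans (prodEquivSup W₁' W₂' hd')), ?_⟩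
  intro w
  obtain ⟨p, rfl⟩ := (prodEquivSup W₁ W₂ hd).surjective w
  rw [LinearEquiv.trans_apply, LinearEquiv.symm_apply_apply, LinearEquiv.trans_apply, prodEquivSup_apply,
    prodEquivSup_apply]
  show Q (((e₁ p.1 : W₁') : ι → F) + ((e₂ p.2 : W₂') : ι → F)) = Q ((p.1 : ι → F) + (p.2 : ι → F))
  rw [Q_add_of_orth _ _ (ho' _ (e₁ p.1).2 _ (e₂ p.2).2), Q_add_of_orth _ _ (ho _ p.1.2 _ p.2.2), he₁, he₂]

end pair

/-- **ASCHOE-[T-FOUR]** in `_of` form, any finite index type. -/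
theorem isPlusTypeOn_top_of_four_dvd_of {Q : (ι → F) → F} (hTE : TEvenStmt Q)
    (hQ : IsNondegenerateQuadraticForm Q)
    {t : ℕ} (m : ℕ) (D : Fin t → Submodule F (ι → F)) (hD : IsOrthogonalMDecomposition Q m D)
    (h4 : 4 ∣ t) : IsPlusTypeOn Q ⊤ := by
  obtain ⟨s, rfl⟩ := h4
  have hb := hQ.polar_bilinear
  have hdec := hD.decomp.decomp
  have hnd := hD.decomp.nondegenerate
  have horth := hD.decomp.orthogonal
  -- the index maps
  let a : Fin (2 * s) → Fin (4 * s) := fun j => ⟨2 * j.1, by have := j.2; omega⟩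
  let b : Fin (2 * s) → Fin (4 * s) := fun j => ⟨2 * j.1 + 1, by have := j.2; omega⟩
  have hab : ∀ j, a j ≠ b j := fun j h => by
    have := congrArg Fin.val h
    simp only [a, b] at this
    omega
  have haa : ∀ j j', j ≠ j' → a j ≠ a j' := fun j j' hne h => by
    apply hne
    have := congrArg Fin.val h
    simp only [a] at this
    exact Fin.ext (by omega)
  have hbb : ∀ j j', j ≠ j' → b j ≠ b j' := fun j j' hne h => by
    apply hne
    have := congrArg Fin.val h
    simp only [b] at this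
    exact Fin.ext (by omega)
  have hab' : ∀ j j', a j ≠ b j' := fun j j' h => by
    have := congrArg Fin.val h
    simp only [a, b] at this
    omega
  let E : Fin (2 * s) → Submodule F (ι → F) := fun j => D (a j) ⊔ D (b j)
  have hdisj : ∀ i i' : Fin (4 * s), i ≠ i' → Disjoint (D i) (D i') := fun i i' h =>
    hdec.indep.pairwiseDisjoint h
  have hE : IsPlusTypeOn Q (iSup E) := by
    refine hTE (2 * m) E ?_ ?_ ?_ ?_ ⟨s, by ring⟩ ⟨m, by ring⟩
    · intro j
      have h1 := Submodule.finrank_sup_add_finrank_inf_eq (D (a j)) (D (b j))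
      rw [(hdisj _ _ (hab j)).eq_bot, finrank_bot, add_zero, hdec.finrank_eq, hdec.finrank_eq] at h1
      show Module.finrank F ↥(D (a j) ⊔ D (b j)) = 2 * m
      omega
    · intro j
      exact nondeg_sup hb _ _ (hnd _) (hnd _) (horth _ _ (hab j)) (horth _ _ (hab j).symm)
    · intro j j' hne
      exact orth_sup hb _ _ _ _ (horth _ _ (haa j j' hne)) (horth _ _ (hab' j j'))
        (horth _ _ (hab' j' j).symm) (horth _ _ (hbb j j' hne))
    · intro j j'
      exact isometric_sup _ _ _ _ (hdisj _ _ (hab j)) (hdisj _ _ (hab j')) (horth _ _ (hab j))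
        (horth _ _ (hab j')) (hD.isometric _ _) (hD.isometric _ _)
  have htop : iSup E = ⊤ := by
    rw [eq_top_iff, ← hdec.iSup_eq_top]
    refine iSup_le fun i => ?_
    have hi := i.2
    have hj : i.1 / 2 < 2 * s := by omega
    rcases Nat.mod_two_eq_zero_or_one i.1 with h | h
    · have e : i = a ⟨i.1 / 2, hj⟩ := Fin.ext (by simp only [a]; omega)
      have h1 : D i ≤ E ⟨i.1 / 2, hj⟩ :=
        calc D i = D (a ⟨i.1 / 2, hj⟩) := congrArg D e
          _ ≤ E ⟨i.1 / 2, hj⟩ := le_sup_left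
      exact le_trans h1 (le_iSup E ⟨i.1 / 2, hj⟩)
    · have e : i = b ⟨i.1 / 2, hj⟩ := Fin.ext (by simp only [b]; omega)
      have h1 : D i ≤ E ⟨i.1 / 2, hj⟩ :=
        calc D i = D (b ⟨i.1 / 2, hj⟩) := congrArg D e
          _ ≤ E ⟨i.1 / 2, hj⟩ := le_sup_right
      exact le_trans h1 (le_iSup E ⟨i.1 / 2, hj⟩)
  rwa [htop] at hE

end Cfsg.Agent.Lib.Helper40.OeTFour
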