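import Mathlib
import Cfsg.Prelude.Def_GeometricClasses
import Cfsg.Agent.Lib.Helper40.OeTFour

/-!
# Project ASCHOE (helper55), module [II-COMM] (helper40), part A: geometry

An isometry `x` with `x² = 1` and an isometry `y` with `y x = - x y` (characteristic not 2) split the space
into the two eigenspaces of `x`, orthogonal, non-degenerate, interchanged by `y`; by [T-EVEN] (hypothesis
`TEvenStmt Q`) the form is of plus type when `4` divides the dimension.
-/

set_option autoImplicit false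
set_option linter.unusedSectionVars false

namespace Cfsg.Agent.Lib.Helper40.OeIIComm

open Cfsg Cfsg.Geo Cfsg.Agent.Lib.Helper40.OeTFour
open scoped Matrix

variable {ι : Type} [Fintype ι] [DecidableEq ι] {F : Type*} [Field F]

/-- The eigenspace of the matrix `M` for the eigenvalue `c`. -/
def eigS (M : Matrix ι ι F) (c : F) : Submodule F (ι → F) where
  carrier := {v | M *ᵥ v = c • v}
  add_mem' := by
    intro a b ha hb
    simp only [Set.mem_ofPred_eq] at *
    rw [Matrix.mulVec_add, ha, hb, smul_add]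
  zero_mem' := by simp
  smul_mem' := by
    intro k v hv
    simp only [Set.mem_ofPred_eq] at *
    rw [Matrix.mulVec_smul, hv, smul_comm]

theorem mem_eigS (M : Matrix ι ι F) (c : F) (v : ι → F) : v ∈ eigS M c ↔ M *ᵥ v = c • v := Iff.rfl

section invol

variable {X Y Yi : Matrix ι ι F}

theorem eig_disjoint (h2 : (2 : F) ≠ 0) : Disjoint (eigS X 1) (eigS X (-1)) := by
  rw [Submodule.disjoint_def]
  intro v h1 h2'
  rw [mem_eigS] at h1 h2'
  rw [h1] at h2'
  have h3 : (2 : F) • v = 0 := by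
    have : v + v = 0 := by
      have h4 : (1 : F) • v = v := one_smul F v
      have h5 : (-1 : F) • v = -v := by simp
      rw [h4, h5] at h2'
      nth_rewrite 1 [h2']
      exact neg_add_cancel v
    rw [two_smul]; exact this
  exact (smul_eq_zero.mp h3).resolve_left h2

theorem eig_sup (hXX : X * X = 1) (h2 : (2 : F) ≠ 0) : eigS X 1 ⊔ eigS X (-1) = ⊤ := by
  rw [eq_top_iff]
  intro v _
  rw [Submodule.mem_sup]
  refine ⟨(2 : F)⁻¹ • (v + X *ᵥ v), ?_, (2 : F)⁻¹ • (v - X *ᵥ v), ?_, ?_⟩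
  · apply Submodule.smul_mem
    rw [mem_eigS, Matrix.mulVec_add, Matrix.mulVec_mulVec, hXX, Matrix.one_mulVec, one_smul, add_comm]
  · apply Submodule.smul_mem
    rw [mem_eigS, Matrix.mulVec_sub, Matrix.mulVec_mulVec, hXX, Matrix.one_mulVec]
    simp
  · rw [← smul_add]
    have : v + X *ᵥ v + (v - X *ᵥ v) = (2 : F) • v := by rw [two_smul]; abel
    rw [this, smul_smul, inv_mul_cancel₀ h2, one_smul]

/-- `Y` maps the `c`-eigenspace into the `-c`-eigenspace. -/
theorem map_eig (hYX : Y * X = -(X * Y)) (c : F) (v : ι → F) (hv : v ∈ eigS X c) :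
    Y *ᵥ v ∈ eigS X (-c) := by
  rw [mem_eigS] at hv ⊢
  have h1 : X *ᵥ (Y *ᵥ v) = -(Y *ᵥ (X *ᵥ v)) := by
    rw [Matrix.mulVec_mulVec, Matrix.mulVec_mulVec, hYX, Matrix.neg_mulVec, neg_neg]
  rw [h1, hv, Matrix.mulVec_smul, neg_smul]

end invol

section geom

variable {Q : (ι → F) → F}

theorem eig_orth (hQ : IsNondegenerateQuadraticForm Q) {X : Matrix ι ι F}
    (hX : ∀ v, Q (X *ᵥ v) = Q v) (c : F) (hc : c * -c ≠ 1) :
    AreOrthogonalFor (QuadraticMap.polar Q) (eigS X c) (eigS X (-c)) := by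
  intro u hu v hv
  rw [mem_eigS] at hu hv
  have hb := hQ.polar_bilinear
  have h1 : QuadraticMap.polar Q (X *ᵥ u) (X *ᵥ v) = QuadraticMap.polar Q u v := by
    unfold QuadraticMap.polar
    rw [← Matrix.mulVec_add, hX, hX, hX]
  rw [hu, hv, hb.smul_left, hb.smul_right] at h1
  have h3 : (c * -c - 1) * QuadraticMap.polar Q u v = 0 := by linear_combination h1
  rcases mul_eq_zero.mp h3 with h | h
  · exact absurd (sub_eq_zero.mp h) hc
  · exact h

/-- An orthogonal complement pair of a non-degenerate form: each summand is non-degenerate. -/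
theorem nondeg_of_orth_sup (hQ : IsNondegenerateQuadraticForm Q) (W₁ W₂ : Submodule F (ι → F))
    (h12 : AreOrthogonalFor (QuadraticMap.polar Q) W₁ W₂)
    (h21 : AreOrthogonalFor (QuadraticMap.polar Q) W₂ W₁) (hsup : W₁ ⊔ W₂ = ⊤) :
    IsNondegenerateOn (QuadraticMap.polar Q) W₁ := by
  have hb := hQ.polar_bilinear
  intro w hw hw0
  obtain ⟨⟨x, hx⟩, ⟨y, hy⟩⟩ := hQ.nondegenerate w hw0
  have hxm : x ∈ W₁ ⊔ W₂ := by rw [hsup]; trivial
  have hym : y ∈ W₁ ⊔ W₂ := by rw [hsup]; trivial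
  obtain ⟨p, hp, q, hq, rfl⟩ := Submodule.mem_sup.mp hxm
  obtain ⟨p', hp', q', hq', rfl⟩ := Submodule.mem_sup.mp hym
  refine ⟨⟨p, hp, ?_⟩, ⟨p', hp', ?_⟩⟩
  · rw [hb.add_left, h21 q hq w hw, add_zero] at hx
    exact hx
  · rw [hb.add_right, h12 w hw q' hq', add_zero] at hy
    exact hy

/-- **Part A of ASCHOE-[II-COMM]**. -/
theorem plus_of_involution (hTE : TEvenStmt Q) (hQ : IsNondegenerateQuadraticForm Q)
    (h4 : 4 ∣ Fintype.card ι) (h2 : (2 : F) ≠ 0) (X Y Yi : Matrix ι ι F)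
    (hX : ∀ v, Q (X *ᵥ v) = Q v) (hY : ∀ v, Q (Y *ᵥ v) = Q v)
    (hYYi : Y * Yi = 1) (hYiY : Yi * Y = 1)
    (hXX : X * X = 1) (hYX : Y * X = -(X * Y)) : IsPlusTypeOn Q ⊤ := by
  have hb := hQ.polar_bilinear
  have hYi : ∀ v, Q (Yi *ᵥ v) = Q v := by
    intro v
    rw [← hY (Yi *ᵥ v), Matrix.mulVec_mulVec, hYYi, Matrix.one_mulVec]
  have hYiX : Yi * X = -(X * Yi) := by
    have h1 : Yi * (Y * X) * Yi = Yi * (-(X * Y)) * Yi := by rw [hYX]
    rw [← Matrix.mul_assoc, hYiY, Matrix.one_mul, Matrix.mul_neg, Matrix.neg_mul, Matrix.mul_assoc,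
      Matrix.mul_assoc, hYYi, Matrix.mul_one] at h1
    rw [h1, neg_neg]
  have hone : (1 : F) * -1 ≠ 1 := by
    intro h
    apply h2
    have : (2 : F) = 1 - (1 * -1) := by ring
    rw [this, h, sub_self]
  have hone' : (-1 : F) * -(-1) ≠ 1 := by
    intro h
    apply hone
    rw [← h]; ring
  have ho12 : AreOrthogonalFor (QuadraticMap.polar Q) (eigS X 1) (eigS X (-1)) :=
    eig_orth hQ hX 1 hone
  have ho21 : AreOrthogonalFor (QuadraticMap.polar Q) (eigS X (-1)) (eigS X 1) := by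
    have := eig_orth hQ hX (-1) hone'
    rwa [neg_neg] at this
  have hsup := eig_sup (X := X) hXX h2
  have hsup' : eigS X (-1) ⊔ eigS X 1 = ⊤ := by rw [sup_comm]; exact hsup
  have hdisj := eig_disjoint (X := X) h2
  -- the isometry between the two eigenspaces
  have hmap1 : ∀ v ∈ eigS X 1, Matrix.toLin' Y v ∈ eigS X (-1) := fun v hv => by
    rw [Matrix.toLin'_apply]; exact map_eig hYX 1 v hv
  have hmap2 : ∀ v ∈ eigS X (-1), Matrix.toLin' Yi v ∈ eigS X 1 := fun v hv => by
    rw [Matrix.toLin'_apply]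
    have := map_eig hYiX (-1) v hv
    rwa [neg_neg] at this
  let e : ↥(eigS X 1) ≃ₗ[F] ↥(eigS X (-1)) :=
    LinearEquiv.ofLinearMap ((Matrix.toLin' Y).restrict hmap1) ((Matrix.toLin' Yi).restrict hmap2)
      (by
        apply LinearMap.ext
        intro w
        apply Subtype.ext
        simp only [LinearMap.comp_apply, LinearMap.coe_restrict_apply, LinearMap.id_apply,
          Matrix.toLin'_apply]
        rw [Matrix.mulVec_mulVec, hYYi, Matrix.one_mulVec])
      (by
        apply LinearMap.ext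
        intro w
        apply Subtype.ext
        simp only [LinearMap.comp_apply, LinearMap.coe_restrict_apply, LinearMap.id_apply,
          Matrix.toLin'_apply]
        rw [Matrix.mulVec_mulVec, hYiY, Matrix.one_mulVec])
  have he : ∀ w : ↥(eigS X 1), Q ((e w : ↥(eigS X (-1))) : ι → F) = Q (w : ι → F) := by
    intro w
    show Q (Matrix.toLin' Y (w : ι → F)) = Q (w : ι → F)
    rw [Matrix.toLin'_apply, hY]
  have he' : ∀ w : ↥(eigS X (-1)), Q ((e.symm w : ↥(eigS X 1)) : ι → F) = Q (w : ι → F) := by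
    intro w
    show Q (Matrix.toLin' Yi (w : ι → F)) = Q (w : ι → F)
    rw [Matrix.toLin'_apply, hYi]
  -- dimensions
  have hdim : Module.finrank F ↥(eigS X 1) + Module.finrank F ↥(eigS X (-1)) = Fintype.card ι := by
    have h1 := Submodule.finrank_sup_add_finrank_inf_eq (eigS X 1) (eigS X (-1))
    rw [hsup, hdisj.eq_bot, finrank_bot, add_zero, finrank_top, Module.finrank_pi] at h1
    exact h1.symm
  have hdim' : Module.finrank F ↥(eigS X 1) = Module.finrank F ↥(eigS X (-1)) := e.finrank_eq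
  obtain ⟨k, hk⟩ := h4
  let D : Fin 2 → Submodule F (ι → F) := ![eigS X 1, eigS X (-1)]
  have hD0 : D 0 = eigS X 1 := rfl
  have hD1 : D 1 = eigS X (-1) := rfl
  have hplus : IsPlusTypeOn Q (iSup D) := by
    refine hTE (2 * k) D ?_ ?_ ?_ ?_ ⟨1, rfl⟩ ⟨k, by ring⟩
    · rw [Fin.forall_fin_two, hD0, hD1]
      constructor <;> omega
    · rw [Fin.forall_fin_two, hD0, hD1]
      exact ⟨nondeg_of_orth_sup hQ _ _ ho12 ho21 hsup, nondeg_of_orth_sup hQ _ _ ho21 ho12 hsup'⟩
    · rw [Fin.forall_fin_two]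
      constructor
      · rw [Fin.forall_fin_two]
        exact ⟨fun h => absurd rfl h, fun _ => by rw [hD0, hD1]; exact ho12⟩
      · rw [Fin.forall_fin_two]
        exact ⟨fun _ => by rw [hD0, hD1]; exact ho21, fun h => absurd rfl h⟩
    · rw [Fin.forall_fin_two]
      constructor
      · rw [Fin.forall_fin_two]
        refine ⟨⟨LinearEquiv.refl F _, fun w => rfl⟩, ?_⟩
        rw [hD0, hD1]
        exact ⟨e, he⟩
      · rw [Fin.forall_fin_two]
        refine ⟨?_, ⟨LinearEquiv.refl F _, fun w => rfl⟩⟩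
        rw [hD0, hD1]
        exact ⟨e.symm, he'⟩
  have htop : iSup D = ⊤ := by
    rw [eq_top_iff, ← hsup]
    exact sup_le (le_iSup D 0) (le_iSup D 1)
  rwa [htop] at hplus

end geom

end Cfsg.Agent.Lib.Helper40.OeIIComm
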