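import Mathlib
import Cfsg.Prelude.Def_GeometricClasses
import Cfsg.Agent.Lib.Helper99.AschDefs
import Cfsg.Agent.Lib.Helper93.AschExpr
import Cfsg.Agent.Lib.Helper47.AschKronNormFinal
import Cfsg.Agent.Lib.Helper5.AschOBasic
import Cfsg.Agent.Lib.Helper40.OeIICommA

/-!
# Project ASCHOE (helper55), module [II-COMM] (helper40), part B: group theory

`N` a minimal `H`-normalised subgroup above the scalars, absolutely irreducible with scalar commutators,
`H` inside the isometry group of `Q`, `n ∈ {8, 10, 12}`: then `n = 8`, the characteristic is not 2, and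
`N ⊓ I` contains a non-scalar involution `x` and an element `y` with `y x = - x y`.
-/

set_option autoImplicit false
set_option linter.unusedSectionVars false

namespace Cfsg.Agent.Lib.Helper40.OeIIComm

open Cfsg Cfsg.Geo Cfsg.Agent.Lib.Helper99.Asch Cfsg.Agent.Lib.Helper5.AschO
open scoped MatrixGroups Matrix

variable {n : ℕ} {F : Type*} [Field F]

/-- scalar matrices are central -/
theorem scalar_comm {z : GL (Fin n) F} (hz : z ∈ scalars (Fin n) F) (g : GL (Fin n) F) : z * g = g * z := by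
  obtain ⟨c, hc⟩ := (mem_scalars_iff z).mp hz
  apply Units.ext
  rw [Units.val_mul, Units.val_mul, hc, Matrix.smul_mul, Matrix.mul_smul, Matrix.one_mul, Matrix.mul_one]

/-- a scalar isometry is `± 1` -/
theorem scalar_isometry [NeZero n] {Q : (Fin n → F) → F} (hQ : IsNondegenerateQuadraticForm Q)
    {g : GL (Fin n) F} (hz : g ∈ scalars (Fin n) F) (hg : g ∈ isometryGroup F Q) : g = 1 ∨ g = -1 := by
  obtain ⟨c, hc⟩ := (mem_scalars_iff g).mp hz
  have h1 := sq_eq_one_of_scalar_mem_isometryGroup hQ hg (c : F) hc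
  have h2 : ((c : F) - 1) * ((c : F) + 1) = 0 := by linear_combination h1
  rcases mul_eq_zero.mp h2 with h | h
  · left
    apply Units.ext
    rw [hc, sub_eq_zero.mp h, one_smul, Units.val_one]
  · right
    apply Units.ext
    rw [hc, eq_neg_of_add_eq_zero_left h, Units.val_neg, Units.val_one, neg_smul, one_smul]

section grp

variable {Q : (Fin n → F) → F} {H N : Subgroup (GL (Fin n) F)}

/-- `N = (N ⊓ I) Z`. -/
theorem exists_isometry_mul_scalar (hH : H ≤ isometryGroup F Q) (hN : IsMinNrm H N) {x : GL (Fin n) F}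
    (hx : x ∈ N) : ∃ x₀ ∈ N, x₀ ∈ isometryGroup F Q ∧ ∃ z ∈ scalars (Fin n) F, x = x₀ * z := by
  have h1 := hN.le_sup hx
  rw [Subgroup.mem_sup_of_normal_right] at h1
  obtain ⟨h, hh, z, hz, rfl⟩ := h1
  refine ⟨h, ?_, hH hh, z, hz, rfl⟩
  have : h = h * z * z⁻¹ := by group
  rw [this]
  exact N.mul_mem hx (N.inv_mem (hN.scalars_le hz))

/-- an element of `N` commuting with `N` is scalar -/
theorem mem_scalars_of_central [NeZero n] (habs : ActsAbsolutelyIrreducibly (matrixSet N)) {x : GL (Fin n) F}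
    (hx : ∀ y ∈ N, x * y = y * x) : x ∈ scalars (Fin n) F := by
  obtain ⟨c, hc⟩ := habs.2 (x : Matrix (Fin n) (Fin n) F) (by
    rintro s ⟨y, hy, rfl⟩
    have := congrArg Units.val (hx y hy)
    rwa [Units.val_mul, Units.val_mul] at this)
  have hc0 : c ≠ 0 := by
    intro h
    rw [h, zero_smul] at hc
    have h1 : (x : Matrix (Fin n) (Fin n) F) * ((x⁻¹ : GL (Fin n) F) : Matrix (Fin n) (Fin n) F) = 1 := by
      rw [← Units.val_mul, mul_inv_cancel, Units.val_one]
    rw [hc, Matrix.zero_mul] at h1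
    exact zero_ne_one h1
  exact (mem_scalars_iff x).mpr ⟨Units.mk0 c hc0, hc⟩

end grp

/-! ### the dimension is 8 and squares are scalar -/

section card

variable [Fintype F] {H N : Subgroup (GL (Fin n) F)}

theorem eight_and_sq (hn : n = 8 ∨ n = 10 ∨ n = 12) (hN : IsMinNrm H N)
    (habs : ActsAbsolutelyIrreducibly (matrixSet N)) (hab : CommScalar N) :
    n = 8 ∧ (∀ x ∈ N, x * x ∈ scalars (Fin n) F) ∧
      Nat.card N = Nat.card (scalars (Fin n) F) * 64 := by
  classical
  have hn2 : 2 ≤ n := by rcases hn with h | h | h <;> omega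
  obtain ⟨r, hr, hpow⟩ := exists_prime_exponent hn2 H N hN hab
  have : Fact r.Prime := ⟨hr⟩
  have hcard := card_eq_of_commScalar (by omega : 0 < n) N habs hab
  rw [inf_eq_right.mpr hN.scalars_le] at hcard
  -- the quotient of `N` by the scalars
  set K : Subgroup N := (scalars (Fin n) F).subgroupOf N with hK
  have hKcard : Nat.card K = Nat.card (scalars (Fin n) F) :=
    Nat.card_congr (Subgroup.subgroupOfEquivOfLe hN.scalars_le).toEquiv
  have hq := Subgroup.card_eq_card_quotient_mul_card_subgroup K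
  rw [hKcard, hcard] at hq
  have hZpos : 0 < Nat.card (scalars (Fin n) F) := Nat.card_pos
  have hq' : Nat.card (N ⧸ K) = n ^ 2 := by
    have : Nat.card (scalars (Fin n) F) * n ^ 2 = Nat.card (scalars (Fin n) F) * Nat.card (N ⧸ K) := by
      rw [hq]; ring
    exact (Nat.eq_of_mul_eq_mul_left hZpos this).symm
  have hp : IsPGroup r (N ⧸ K) := by
    intro g
    induction g using QuotientGroup.induction_on with
    | H x =>
      refine ⟨1, ?_⟩
      rw [pow_one, ← QuotientGroup.mk_pow, QuotientGroup.eq_one_iff]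
      show ((x ^ r : N) : GL (Fin n) F) ∈ scalars (Fin n) F
      rw [Subgroup.coe_pow]
      exact hpow x x.2
  obtain ⟨k, hk⟩ := hp.exists_card_eq
  rw [hq'] at hk
  have hdvd : ∀ p : ℕ, p.Prime → p ∣ n ^ 2 → r = p := by
    intro p hpp hd
    rw [hk] at hd
    exact ((Nat.prime_dvd_prime_iff_eq hpp hr).mp (hpp.dvd_of_dvd_pow hd)).symm
  have h8 : n = 8 := by
    rcases hn with h | h | h
    · exact h
    · exfalso
      have h2 := hdvd 2 Nat.prime_two (by rw [h]; norm_num)
      have h5 := hdvd 5 (by norm_num) (by rw [h]; norm_num)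
      omega
    · exfalso
      have h2 := hdvd 2 Nat.prime_two (by rw [h]; norm_num)
      have h3 := hdvd 3 Nat.prime_three (by rw [h]; norm_num)
      omega
  have hr2 : r = 2 := hdvd 2 Nat.prime_two (by rw [h8]; norm_num)
  refine ⟨h8, fun x hx => ?_, ?_⟩
  · have := hpow x hx
    rwa [hr2, pow_two] at this
  · rw [hcard, h8]; norm_num

/-- `N` is not covered by four cosets of the scalars. -/
theorem exists_not_mem_cosets
    (hcard : Nat.card N = Nat.card (scalars (Fin n) F) * 64) (g₁ g₂ g₃ g₄ : GL (Fin n) F) :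
    ∃ c ∈ N, c * g₁ ∉ scalars (Fin n) F ∧ c * g₂ ∉ scalars (Fin n) F ∧ c * g₃ ∉ scalars (Fin n) F ∧
      c * g₄ ∉ scalars (Fin n) F := by
  classical
  by_contra hcon
  push Not at hcon
  set Z : Set (GL (Fin n) F) := (scalars (Fin n) F : Set (GL (Fin n) F)) with hZ
  have hsub : (N : Set (GL (Fin n) F)) ⊆
      ((fun z => z * g₁⁻¹) '' Z ∪ (fun z => z * g₂⁻¹) '' Z) ∪
        ((fun z => z * g₃⁻¹) '' Z ∪ (fun z => z * g₄⁻¹) '' Z) := by
    intro c hc
    by_cases h1 : c * g₁ ∈ scalars (Fin n) F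
    · left; left; exact ⟨c * g₁, h1, by group⟩
    · by_cases h2 : c * g₂ ∈ scalars (Fin n) F
      · left; right; exact ⟨c * g₂, h2, by group⟩
      · by_cases h3 : c * g₃ ∈ scalars (Fin n) F
        · right; left; exact ⟨c * g₃, h3, by group⟩
        · right; right; exact ⟨c * g₄, hcon c hc h1 h2 h3, by group⟩
  have hZc : Z.ncard = Nat.card (scalars (Fin n) F) := by
    rw [hZ, ← Nat.card_coe_set_eq]; rfl
  have hNc : (N : Set (GL (Fin n) F)).ncard = Nat.card N := by
    rw [← Nat.card_coe_set_eq]; rfl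
  have h1 := Set.ncard_le_ncard hsub (Set.toFinite _)
  have himg : ∀ g : GL (Fin n) F, ((fun z => z * g) '' Z).ncard ≤ Z.ncard := fun g =>
    Set.ncard_image_le (Set.toFinite _)
  have h2 := Set.ncard_union_le ((fun z => z * g₁⁻¹) '' Z ∪ (fun z => z * g₂⁻¹) '' Z)
    ((fun z => z * g₃⁻¹) '' Z ∪ (fun z => z * g₄⁻¹) '' Z)
  have h3 := Set.ncard_union_le ((fun z => z * g₁⁻¹) '' Z) ((fun z => z * g₂⁻¹) '' Z)
  have h4 := Set.ncard_union_le ((fun z => z * g₃⁻¹) '' Z) ((fun z => z * g₄⁻¹) '' Z)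
  have h5 := himg g₁⁻¹
  have h6 := himg g₂⁻¹
  have h7 := himg g₃⁻¹
  have h8 := himg g₄⁻¹
  have hZpos : 0 < Nat.card (scalars (Fin n) F) := Nat.card_pos
  rw [hNc, hcard] at h1
  rw [hZc] at h5 h6 h7 h8
  omega

end card

end Cfsg.Agent.Lib.Helper40.OeIIComm
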