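import Mathlib
import Cfsg.Prelude.Def_GeometricClasses
import Cfsg.Agent.Lib.Helper99.AschDefs
import Cfsg.Agent.Lib.Helper40.OeIICommB

/-!
# Project ASCHOE (helper55), module [II-COMM] (helper40): assembly

`eight_plus_of_commScalar_of` = the sheet statement `eight_plus_of_commScalar` with the statement of
[T-EVEN] as the hypothesis `TEvenStmt Q`.
-/

set_option autoImplicit false
set_option linter.unusedSectionVars false

namespace Cfsg.Agent.Lib.Helper40.OeIIComm

open Cfsg Cfsg.Geo Cfsg.Agent.Lib.Helper99.Asch Cfsg.Agent.Lib.Helper5.AschO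
  Cfsg.Agent.Lib.Helper40.OeTFour
open scoped MatrixGroups Matrix

/-! ### identities in a monoid with negation -/

section ids

variable {M : Type*} [Monoid M] [HasDistribNeg M]

theorem id_case2 (c a b : M) (hcb : c * b = -(b * c)) (hab : a * b = -(b * a)) :
    (c * a) * b = b * (c * a) := by
  calc (c * a) * b = c * (a * b) := mul_assoc _ _ _
    _ = -((c * b) * a) := by rw [hab, mul_neg, mul_assoc]
    _ = (b * c) * a := by rw [hcb, neg_mul, neg_neg]
    _ = b * (c * a) := mul_assoc _ _ _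

theorem id_case3 (c a b : M) (hca : c * a = -(a * c)) (hba : b * a = -(a * b)) :
    (c * b) * a = a * (c * b) := by
  calc (c * b) * a = c * (b * a) := mul_assoc _ _ _
    _ = -((c * a) * b) := by rw [hba, mul_neg, mul_assoc]
    _ = (a * c) * b := by rw [hca, neg_mul, neg_neg]
    _ = a * (c * b) := mul_assoc _ _ _

theorem id_case4a (c a b : M) (hca : c * a = -(a * c)) (hba : b * a = -(a * b)) :
    (c * (b * a)) * a = a * (c * (b * a)) := by
  have h1 : (c * b) * a = a * (c * b) := id_case3 c a b hca hba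
  calc (c * (b * a)) * a = ((c * b) * a) * a := by rw [mul_assoc c b a]
    _ = (a * (c * b)) * a := by rw [h1]
    _ = a * (c * (b * a)) := by rw [mul_assoc, mul_assoc c b a]

theorem id_case4b (c a b : M) (hcb : c * b = -(b * c)) (hab : a * b = -(b * a)) :
    (c * (b * a)) * b = b * (c * (b * a)) := by
  calc (c * (b * a)) * b = (c * b) * (a * b) := by simp only [mul_assoc]
    _ = (-(b * c)) * (-(b * a)) := by rw [hcb, hab]
    _ = b * (c * (b * a)) := by rw [neg_mul_neg]; simp only [mul_assoc]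

end ids

variable {n : ℕ} {F : Type*} [Field F]

section main

variable {Q : (Fin n → F) → F} {H N : Subgroup (GL (Fin n) F)}

theorem sq_cases [NeZero n] (hQ : IsNondegenerateQuadraticForm Q)
    (hsq : ∀ x ∈ N, x * x ∈ scalars (Fin n) F) {x : GL (Fin n) F} (hx : x ∈ N)
    (hxI : x ∈ isometryGroup F Q) : x * x = 1 ∨ x * x = -1 :=
  scalar_isometry hQ (hsq x hx) (Subgroup.mul_mem _ hxI hxI)

theorem comm_cases [NeZero n] (hQ : IsNondegenerateQuadraticForm Q) (hab : CommScalar N)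
    {x y : GL (Fin n) F} (hx : x ∈ N) (hxI : x ∈ isometryGroup F Q) (hy : y ∈ N)
    (hyI : y ∈ isometryGroup F Q) : x * y = y * x ∨ x * y = -(y * x) := by
  have h1 : x * y * x⁻¹ * y⁻¹ ∈ isometryGroup F Q :=
    Subgroup.mul_mem _ (Subgroup.mul_mem _ (Subgroup.mul_mem _ hxI hyI) (Subgroup.inv_mem _ hxI))
      (Subgroup.inv_mem _ hyI)
  have e : x * y = (x * y * x⁻¹ * y⁻¹) * (y * x) := by group
  rcases scalar_isometry hQ (hab x hx y hy) h1 with h | h
  · left
    rw [e, h, one_mul]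
  · right
    rw [e, h, neg_mul, one_mul]

/-- The heart of [II-COMM]: a non-scalar involution in `N ⊓ I`. -/
theorem exists_noncentral_involution [Fintype F] [NeZero n] (hQ : IsNondegenerateQuadraticForm Q)
    (hH : H ≤ isometryGroup F Q) (hN : IsMinNrm H N)
    (habs : ActsAbsolutelyIrreducibly (matrixSet N)) (hab : CommScalar N)
    (hsq : ∀ x ∈ N, x * x ∈ scalars (Fin n) F)
    (hcard : Nat.card N = Nat.card (scalars (Fin n) F) * 64) :
    ∃ x ∈ N, x ∈ isometryGroup F Q ∧ x * x = 1 ∧ x ∉ scalars (Fin n) F := by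
  by_contra hcon
  have hstar : ∀ x ∈ N, x ∈ isometryGroup F Q → x * x = 1 → x ∈ scalars (Fin n) F := by
    intro x hx hxI hxx
    by_contra h
    exact hcon ⟨x, hx, hxI, hxx, h⟩
  -- a non-scalar element `a`
  obtain ⟨a, ha, haI, haZ⟩ : ∃ a ∈ N, a ∈ isometryGroup F Q ∧ a ∉ scalars (Fin n) F := by
    by_contra h
    push Not at h
    apply hN.not_le
    intro x hx
    obtain ⟨x₀, hx₀, hx₀I, z, hz, rfl⟩ := exists_isometry_mul_scalar hH hN hx
    exact Subgroup.mul_mem _ (h x₀ hx₀ hx₀I) hz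
  have haa : a * a = -1 := by
    rcases sq_cases hQ hsq ha haI with h | h
    · exact absurd (hstar a ha haI h) haZ
    · exact h
  -- `b` not commuting with `a`
  obtain ⟨b, hb, hbI, hab'⟩ : ∃ b ∈ N, b ∈ isometryGroup F Q ∧ a * b ≠ b * a := by
    by_contra h
    push Not at h
    apply haZ
    apply mem_scalars_of_central habs
    intro y hy
    obtain ⟨y₀, hy₀, hy₀I, z, hz, rfl⟩ := exists_isometry_mul_scalar hH hN hy
    rw [← mul_assoc, h y₀ hy₀ hy₀I, mul_assoc, mul_assoc, scalar_comm hz a]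
  have hab2 : a * b = -(b * a) := by
    rcases comm_cases hQ hab ha haI hb hbI with h | h
    · exact absurd h hab'
    · exact h
  have hba : b * a = -(a * b) := by rw [hab2, neg_neg]
  -- a third element outside four cosets
  obtain ⟨c, hc, hc1, hc2, hc3, hc4⟩ := exists_not_mem_cosets (N := N) hcard 1 a b (b * a)
  obtain ⟨c₀, hc₀, hc₀I, z, hz, rfl⟩ := exists_isometry_mul_scalar hH hN hc
  have hout : ∀ g : GL (Fin n) F, c₀ * z * g ∉ scalars (Fin n) F → c₀ * g ∉ scalars (Fin n) F := by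
    intro g hg h
    apply hg
    have : c₀ * z * g = (c₀ * g) * z := by rw [mul_assoc, scalar_comm hz g, mul_assoc]
    rw [this]
    exact Subgroup.mul_mem _ h hz
  have hd1 : c₀ ∉ scalars (Fin n) F := by
    have := hout 1 hc1
    rwa [mul_one] at this
  have hd2 := hout a hc2
  have hd3 := hout b hc3
  have hd4 := hout (b * a) hc4
  -- adjust to commute with `a` and `b`
  obtain ⟨c₂, hc₂, hc₂I, hc₂Z, hc₂a, hc₂b⟩ : ∃ c₂ ∈ N, c₂ ∈ isometryGroup F Q ∧
      c₂ ∉ scalars (Fin n) F ∧ c₂ * a = a * c₂ ∧ c₂ * b = b * c₂ := by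
    rcases comm_cases hQ hab hc₀ hc₀I ha haI with hca | hca
    · rcases comm_cases hQ hab hc₀ hc₀I hb hbI with hcb | hcb
      · exact ⟨c₀, hc₀, hc₀I, hd1, hca, hcb⟩
      · refine ⟨c₀ * a, Subgroup.mul_mem _ hc₀ ha, Subgroup.mul_mem _ hc₀I haI, hd2, ?_, ?_⟩
        · rw [hca, mul_assoc, hca]
        · exact id_case2 c₀ a b hcb hab2
    · rcases comm_cases hQ hab hc₀ hc₀I hb hbI with hcb | hcb
      · refine ⟨c₀ * b, Subgroup.mul_mem _ hc₀ hb, Subgroup.mul_mem _ hc₀I hbI, hd3, ?_, ?_⟩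
        · exact id_case3 c₀ a b hca hba
        · rw [hcb, mul_assoc, hcb]
      · refine ⟨c₀ * (b * a), Subgroup.mul_mem _ hc₀ (Subgroup.mul_mem _ hb ha),
          Subgroup.mul_mem _ hc₀I (Subgroup.mul_mem _ hbI haI), hd4, ?_, ?_⟩
        · exact id_case4a c₀ a b hca hba
        · exact id_case4b c₀ a b hcb hab2
  rcases sq_cases hQ hsq hc₂ hc₂I with hcc | hcc
  · exact hc₂Z (hstar c₂ hc₂ hc₂I hcc)
  · -- `x = a c₂` is an involution
    have hxx : (a * c₂) * (a * c₂) = 1 := by
      calc (a * c₂) * (a * c₂) = a * ((c₂ * a) * c₂) := by simp only [mul_assoc]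
        _ = (a * a) * (c₂ * c₂) := by rw [hc₂a]; simp only [mul_assoc]
        _ = 1 := by rw [haa, hcc, neg_mul_neg, one_mul]
    have hxZ := hstar (a * c₂) (Subgroup.mul_mem _ ha hc₂) (Subgroup.mul_mem _ haI hc₂I) hxx
    have h1 : (a * c₂) * b = b * (a * c₂) := scalar_comm hxZ b
    have h2 : (a * c₂) * b = -(b * (a * c₂)) := by
      calc (a * c₂) * b = a * (c₂ * b) := mul_assoc _ _ _
        _ = (a * b) * c₂ := by rw [hc₂b, mul_assoc]
        _ = -(b * (a * c₂)) := by rw [hab2, neg_mul, mul_assoc]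
    have h3 : (-1 : GL (Fin n) F) = 1 := by
      have h4 : b * (a * c₂) = -(b * (a * c₂)) := h1.symm.trans h2
      have h5 : (b * (a * c₂)) * (b * (a * c₂))⁻¹ = -(b * (a * c₂)) * (b * (a * c₂))⁻¹ := by
        rw [← h4]
      rw [mul_inv_cancel, neg_mul, mul_inv_cancel] at h5
      exact h5.symm
    apply haZ
    apply hstar a ha haI
    rw [haa, h3]

/-- **ASCHOE-[II-COMM]** in `_of` form: the hypothesis `hTE` is the statement of [T-EVEN]. -/
theorem eight_plus_of_commScalar_of [Fintype F] (hTE : TEvenStmt Q)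
    (hQ : IsNondegenerateQuadraticForm Q)
    (hn : n = 8 ∨ n = 10 ∨ n = 12) (hH : H ≤ isometryGroup F Q)
    (hN : IsMinNrm H N) (habs : ActsAbsolutelyIrreducibly (matrixSet N))
    (hab : CommScalar N) : n = 8 ∧ IsPlusTypeOn Q ⊤ := by
  have : NeZero n := ⟨by rcases hn with h | h | h <;> omega⟩
  obtain ⟨h8, hsq, hcard⟩ := eight_and_sq hn hN habs hab
  refine ⟨h8, ?_⟩
  obtain ⟨x, hx, hxI, hxx, hxZ⟩ := exists_noncentral_involution hQ hH hN habs hab hsq hcard
  -- `y` not commuting with `x`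
  obtain ⟨y, hy, hyI, hxy⟩ : ∃ y ∈ N, y ∈ isometryGroup F Q ∧ y * x ≠ x * y := by
    by_contra h
    push Not at h
    apply hxZ
    apply mem_scalars_of_central habs
    intro w hw
    obtain ⟨w₀, hw₀, hw₀I, z, hz, rfl⟩ := exists_isometry_mul_scalar hH hN hw
    rw [← mul_assoc, ← h w₀ hw₀ hw₀I, mul_assoc, mul_assoc, scalar_comm hz x]
  have hyx : y * x = -(x * y) := by
    rcases comm_cases hQ hab hy hyI hx hxI with h | h
    · exact absurd h hxy
    · exact h
  have h2 : (2 : F) ≠ 0 := by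
    intro h2
    apply hxy
    rw [hyx]
    apply Units.ext
    rw [Units.val_neg, neg_eq_iff_add_eq_zero, ← two_smul F, h2, zero_smul]
  have h4 : 4 ∣ Fintype.card (Fin n) := by
    rw [Fintype.card_fin, h8]
    exact ⟨2, rfl⟩
  refine plus_of_involution hTE hQ h4 h2 (x : Matrix (Fin n) (Fin n) F) (y : Matrix (Fin n) (Fin n) F)
    ((y⁻¹ : GL (Fin n) F) : Matrix (Fin n) (Fin n) F)
    ((mem_isometryGroup_iff x).mp hxI) ((mem_isometryGroup_iff y).mp hyI) ?_ ?_ ?_ ?_
  · rw [← Units.val_mul, mul_inv_cancel, Units.val_one]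
  · rw [← Units.val_mul, inv_mul_cancel, Units.val_one]
  · rw [← Units.val_mul, hxx, Units.val_one]
  · rw [← Units.val_mul, hyx, Units.val_neg, Units.val_mul]

end main

end Cfsg.Agent.Lib.Helper40.OeIIComm
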