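import Mathlib
import Cfsg.Prelude.Def_GeometricClasses
import Cfsg.Agent.Lib.Helper99.AschDefs
import Cfsg.Agent.Lib.Helper55.Oe.Defs
import Cfsg.Agent.Lib.Helper52.OeTEven
import Cfsg.Agent.Lib.Helper40.OeIIComm

/-!
# Project ASCHOE (helper55): exact sheet statement of [II-COMM] (helper40)

from the `_of` form (`Lib/Helper40/OeIIComm.lean`) and helper52's [T-EVEN].
-/

set_option autoImplicit false

namespace Cfsg.Agent.Lib.Helper55.Oe

open Cfsg Cfsg.Geo Cfsg.Agent.Lib.Helper99.Asch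
open scoped MatrixGroups Matrix Kronecker

variable {n : ℕ} {F : Type*} [Field F] [Fintype F]

/-- ASCHOE-[II-COMM] (exact sheet statement; renamed `_h40`: the official provider of `eight_plus_of_commScalar` is
helper45, `Lib/Helper45/OeIIComm.lean`, landed first). -/
theorem eight_plus_of_commScalar_h40 {Q : (Fin n → F) → F} (hQ : IsNondegenerateQuadraticForm Q)
    (hn : n = 8 ∨ n = 10 ∨ n = 12) {H : Subgroup (GL (Fin n) F)} (hH : H ≤ isometryGroup F Q)
    (N : Subgroup (GL (Fin n) F)) (hN : IsMinNrm H N) (habs : ActsAbsolutelyIrreducibly (matrixSet N))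
    (hab : CommScalar N) : n = 8 ∧ IsPlusTypeOn Q ⊤ :=
  Cfsg.Agent.Lib.Helper40.OeIIComm.eight_plus_of_commScalar_of
    (fun m D h1 h2 h3 h4 h5 h6 => isPlusTypeOn_iSup_of_even hQ m D h1 h2 h3 h4 h5 h6) hQ hn hH hN habs hab

end Cfsg.Agent.Lib.Helper55.Oe
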