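import Mathlib
import Cfsg.Prelude.Def_GeometricClasses
import Cfsg.Agent.Lib.Helper99.AschDefs
import Cfsg.Agent.Lib.Helper55.Oe.Defs
import Cfsg.Agent.Lib.Helper52.OeTEven
import Cfsg.Agent.Lib.Helper40.OeTFour

/-!
# Project ASCHOE (helper55): exact sheet statement of [T-FOUR] (helper40)

from the `_of` form (`Lib/Helper40/OeTFour.lean`) and helper52's [T-EVEN].
-/

set_option autoImplicit false

namespace Cfsg.Agent.Lib.Helper55.Oe

open Cfsg Cfsg.Geo Cfsg.Agent.Lib.Helper99.Asch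
open scoped MatrixGroups Matrix Kronecker

variable {n : ℕ} {F : Type*} [Field F] [Fintype F]

/-- ASCHOE-[T-FOUR] (exact sheet statement). -/
theorem isPlusTypeOn_top_of_four_dvd {Q : (Fin n → F) → F} (hQ : IsNondegenerateQuadraticForm Q)
    {t : ℕ} (m : ℕ) (D : Fin t → Submodule F (Fin n → F)) (hD : IsOrthogonalMDecomposition Q m D)
    (h4 : 4 ∣ t) : IsPlusTypeOn Q ⊤ :=
  Cfsg.Agent.Lib.Helper40.OeTFour.isPlusTypeOn_top_of_four_dvd_of
    (fun m D h1 h2 h3 h4 h5 h6 => isPlusTypeOn_iSup_of_even hQ m D h1 h2 h3 h4 h5 h6) hQ m D hD h4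

end Cfsg.Agent.Lib.Helper55.Oe
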