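import Mathlib
import Cfsg.Agent.Lib.Helper40.PSURoots
import Cfsg.Agent.Lib.Helper40.SpRoots

/-!
# Eigenvalue multisets of symplectic matrices (helper40, for S2512)

* `roots_map_inv_of_symplectic`: the eigenvalue multiset of a symplectic matrix is stable under
  inversion.
* `roots_map_frob_of_base`: the root multiset of a polynomial over a finite field `F`, in an
  extension, is stable under `y ↦ y ^ |F|`.
* `orderOf_coprime_char`: element orders in a field of characteristic `p` are prime to `p`.
-/

set_option autoImplicit false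
set_option linter.unusedSectionVars false

namespace Cfsg.Agent.Lib.Helper40

open Polynomial Matrix

section sym
variable {K : Type*} [Field K] {l : Type*} [Fintype l] [DecidableEq l]

theorem ne_zero_of_mem_roots_charpoly' {ι : Type*} [Fintype ι] [DecidableEq ι]
    (B : Matrix ι ι K) (hdet : B.det ≠ 0)
    (y : K) (hy : y ∈ B.charpoly.roots) : y ≠ 0 := by
  rintro rfl
  have h1 : B.charpoly.IsRoot 0 := (mem_roots'.mp hy).2
  rw [IsRoot, ← coeff_zero_eq_eval_zero] at h1
  have h4 := Matrix.det_eq_sign_charpoly_coeff B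
  rw [h1, mul_zero] at h4
  exact hdet h4

theorem roots_map_inv_of_symplectic (B : Matrix (l ⊕ l) (l ⊕ l) K)
    (hB : B ∈ symplecticGroup l K) (hs : B.charpoly.Splits) :
    B.charpoly.roots.map (fun y => y⁻¹) = B.charpoly.roots := by
  have hdetu : IsUnit B.det := SymplecticGroup.symplectic_det hB
  have hunit : IsUnit B := (Matrix.isUnit_iff_isUnit_det B).mpr hdetu
  have hdet0 : B.det ≠ 0 := hdetu.ne_zero
  have h0 : ∀ y ∈ B.charpoly.roots, y ≠ 0 := ne_zero_of_mem_roots_charpoly' B hdet0
  have h1 : B.charpoly = (-1) ^ Fintype.card (l ⊕ l) * C (Ring.inverse B.det) *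
      B.charpoly.reverse := by
    conv_lhs => rw [← charpoly_inv_of_symplectic B hB]
    rw [Matrix.charpoly_inv B hunit, Matrix.reverse_charpoly]
  have hc : ((-1 : K) ^ Fintype.card (l ⊕ l) * Ring.inverse B.det) ≠ 0 := by
    apply mul_ne_zero (pow_ne_zero _ (neg_ne_zero.mpr one_ne_zero))
    rw [Ring.inverse_eq_inv']
    exact inv_ne_zero hdet0
  have e1 : ((-1 : K[X]) ^ Fintype.card (l ⊕ l) * C (Ring.inverse B.det)) =
      C ((-1 : K) ^ Fintype.card (l ⊕ l) * Ring.inverse B.det) := by
    rw [C_mul, C_pow, C_neg, C_1]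
  conv_rhs => rw [h1, e1, roots_C_mul _ hc, roots_reverse_of_splits _ hs h0]

end sym

section frob
variable {F : Type*} [Field F] [Fintype F] {K : Type*} [Field K] [Algebra F K]

theorem roots_map_frob_of_base (f : F[X]) (hs : (f.map (algebraMap F K)).Splits) :
    ((f.map (algebraMap F K)).roots).map (fun y => y ^ Fintype.card F) =
      (f.map (algebraMap F K)).roots := by
  obtain ⟨p, hp⟩ := CharP.exists F
  have hpp : Fact p.Prime := ⟨CharP.char_is_prime F p⟩
  obtain ⟨a, -, ha⟩ := FiniteField.card F p
  have : CharP K p := charP_of_injective_algebraMap (algebraMap F K).injective p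
  set φ := iterateFrobenius K p a with hφ
  have hφfun : (fun y : K => y ^ Fintype.card F) = ⇑φ := by
    funext y
    rw [hφ, iterateFrobenius_def, ha]
  have hcomp : φ.comp (algebraMap F K) = algebraMap F K := by
    apply RingHom.ext
    intro x
    rw [RingHom.comp_apply, hφ, iterateFrobenius_def, ← ha, ← map_pow, FiniteField.pow_card]
  have h1 : ((f.map (algebraMap F K)).map φ).roots = (f.map (algebraMap F K)).roots.map φ :=
    hs.roots_map φ
  rw [Polynomial.map_map, hcomp] at h1
  rw [hφfun, ← h1]

end frob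

section ord
variable {K : Type*} [Field K]

theorem orderOf_coprime_char (p : ℕ) [Fact p.Prime] [CharP K p] (y : K) (hy : 0 < orderOf y) :
    (orderOf y).Coprime p := by
  have hp : p.Prime := Fact.out
  rw [Nat.coprime_comm, Nat.Prime.coprime_iff_not_dvd hp]
  rintro ⟨s, hs⟩
  have h1 : (y ^ s) ^ p = 1 := by
    rw [← pow_mul, mul_comm, ← hs, pow_orderOf_eq_one]
  have h2 : (y ^ s - 1) ^ p = 0 := by
    rw [sub_pow_char, h1, one_pow, sub_self]
  have h3 : y ^ s = 1 := sub_eq_zero.mp (pow_eq_zero_iff hp.ne_zero |>.mp h2)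
  have h4 : orderOf y ∣ s := orderOf_dvd_of_pow_eq_one h3
  have hs0 : 0 < s := by
    rcases Nat.eq_zero_or_pos s with h | h
    · rw [h, mul_zero] at hs
      omega
    · exact h
  have h5 : orderOf y ≤ s := Nat.le_of_dvd hs0 h4
  have h6 : s < p * s := by
    have := hp.two_le
    nlinarith
  omega

end ord

end Cfsg.Agent.Lib.Helper40
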