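import Mathlib
import Cfsg.Agent.Lib.Helper40.SpNonex
import Cfsg.Agent.Lib.Helper40.SpBoundA

/-!
# Isometries of symmetric forms: eigenvalues (helper40, for S2362)

* `charpoly_inv_of_isometry`, `aeval_inv_charpoly_of_isometry`, `roots_map_inv_of_isometry`:
  the eigenvalues of an isometry of a non-degenerate bilinear form (given by a matrix) are closed
  under inversion.
* `two_mul_le_of_isometry_of_ppd`: an isometry of prime order `r` without fixed vectors lives in
  dimension at least `2 m`, where `ord_r(q)` is `2 m`, or `m` odd.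
* `eq_one_of_commute_of_nodup_roots`: a matrix of `p`-power order commuting with a matrix with
  simple spectrum is trivial.
-/

set_option autoImplicit false
set_option linter.unusedSectionVars false

namespace Cfsg.Agent.Lib.Helper40

open Matrix Polynomial Module

section iso
variable {F : Type*} [Field F] {K : Type*} [Field K] [Algebra F K]
  {ι : Type*} [Fintype ι] [DecidableEq ι]

theorem isUnit_det_of_isometry (G g : Matrix ι ι F) (hGdet : G.det ≠ 0) (hg : gᵀ * G * g = G) :
    IsUnit g.det := by
  rw [isUnit_iff_ne_zero]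
  intro h0
  have := congrArg Matrix.det hg
  rw [Matrix.det_mul, Matrix.det_mul, h0, mul_zero] at this
  exact hGdet this.symm

/-- the characteristic polynomial of an isometry is that of its inverse -/
theorem charpoly_inv_of_isometry (G g : Matrix ι ι F) (hGdet : G.det ≠ 0)
    (hg : gᵀ * G * g = G) : g⁻¹.charpoly = g.charpoly := by
  have hGu : IsUnit G.det := isUnit_iff_ne_zero.mpr hGdet
  have hginv : g⁻¹ = G⁻¹ * gᵀ * G := by
    apply Matrix.inv_eq_left_inv
    rw [Matrix.mul_assoc, Matrix.mul_assoc, ← Matrix.mul_assoc gᵀ, hg, nonsing_inv_mul G hGu]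
  have hGidet : IsUnit (G⁻¹).det := by
    rw [det_nonsing_inv]
    exact hGu.ringInverse
  obtain ⟨V, hV⟩ := (Matrix.isUnit_iff_isUnit_det _).2 hGidet
  have h1 : G⁻¹ * gᵀ * G = V.val * gᵀ * (V.val)⁻¹ := by
    rw [hV, Matrix.nonsing_inv_nonsing_inv G hGu]
  rw [hginv, h1, Matrix.charpoly_units_conj, charpoly_transpose]

/-- eigenvalues of an isometry are closed under inversion -/
theorem aeval_inv_charpoly_of_isometry (G g : Matrix ι ι F) (hGdet : G.det ≠ 0)
    (hg : gᵀ * G * g = G) (α : K) (hα : aeval α g.charpoly = 0) :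
    aeval α⁻¹ g.charpoly = 0 := by
  have hdetu : IsUnit g.det := isUnit_det_of_isometry G g hGdet hg
  have hunit : IsUnit g := (Matrix.isUnit_iff_isUnit_det g).mpr hdetu
  have hdet0 : g.det ≠ 0 := hdetu.ne_zero
  have h3 : g.charpoly = (-1) ^ Fintype.card ι * C (Ring.inverse g.det) *
      g.charpoly.reverse := by
    conv_lhs => rw [← charpoly_inv_of_isometry G g hGdet hg]
    rw [Matrix.charpoly_inv g hunit, Matrix.reverse_charpoly]
  have hα0 : α ≠ 0 := by
    rintro rfl
    rw [← Polynomial.coeff_zero_eq_aeval_zero'] at hα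
    have h4 := Matrix.det_eq_sign_charpoly_coeff g
    have h4' : g.charpoly.coeff 0 = 0 := by
      apply (algebraMap F K).injective
      rw [hα, map_zero]
    rw [h4', mul_zero] at h4
    exact hdet0 h4
  have h5 : aeval α⁻¹ g.charpoly.reverse = 0 := by
    have : Invertible α := invertibleOfNonzero hα0
    have := (Polynomial.eval₂_reverse_eq_zero_iff (algebraMap F K) α g.charpoly).mpr hα
    rw [invOf_eq_inv] at this
    exact this
  rw [h3, map_mul, h5, mul_zero]

theorem roots_map_inv_of_isometry {K : Type*} [Field K] (G g : Matrix ι ι K) (hGdet : G.det ≠ 0)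
    (hg : gᵀ * G * g = G) (hs : g.charpoly.Splits) :
    g.charpoly.roots.map (fun y => y⁻¹) = g.charpoly.roots := by
  have hdetu : IsUnit g.det := isUnit_det_of_isometry G g hGdet hg
  have hunit : IsUnit g := (Matrix.isUnit_iff_isUnit_det g).mpr hdetu
  have hdet0 : g.det ≠ 0 := hdetu.ne_zero
  have h0 : ∀ y ∈ g.charpoly.roots, y ≠ 0 := ne_zero_of_mem_roots_charpoly' g hdet0
  have h1 : g.charpoly = (-1) ^ Fintype.card ι * C (Ring.inverse g.det) *
      g.charpoly.reverse := by
    conv_lhs => rw [← charpoly_inv_of_isometry G g hGdet hg]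
    rw [Matrix.charpoly_inv g hunit, Matrix.reverse_charpoly]
  have hc : ((-1 : K) ^ Fintype.card ι * Ring.inverse g.det) ≠ 0 := by
    apply mul_ne_zero (pow_ne_zero _ (neg_ne_zero.mpr one_ne_zero))
    rw [Ring.inverse_eq_inv']
    exact inv_ne_zero hdet0
  have e1 : ((-1 : K[X]) ^ Fintype.card ι * C (Ring.inverse g.det)) =
      C ((-1 : K) ^ Fintype.card ι * Ring.inverse g.det) := by
    rw [C_mul, C_pow, C_neg, C_1]
  conv_rhs => rw [h1, e1, roots_C_mul _ hc, roots_reverse_of_splits _ hs h0]

end iso

section blocksize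
variable {F : Type*} [Field F] [Fintype F]

theorem not_dvd_card_of_orderOf_pos {r : ℕ} (hr : r.Prime) {q : ℕ}
    (h : 0 < orderOf ((q : ℕ) : ZMod r)) : ¬ r ∣ q := by
  intro hd
  have : Fact r.Prime := ⟨hr⟩
  have h0 : ((q : ℕ) : ZMod r) = 0 := (ZMod.natCast_eq_zero_iff q r).mpr hd
  rw [h0] at h
  have h1 : (0 : ZMod r) ^ orderOf (0 : ZMod r) = 1 := pow_orderOf_eq_one _
  rw [zero_pow h.ne'] at h1
  exact zero_ne_one h1

/-- an isometry of prime order `r` without fixed vectors needs dimension at least `2 m` -/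
theorem two_mul_le_of_isometry_of_ppd (p : ℕ) [Fact p.Prime] [CharP F p] {k m r : ℕ}
    (hr : r.Prime) (hr2 : r ≠ 2) (hm : 1 ≤ m)
    (hord : orderOf ((Fintype.card F : ℕ) : ZMod r) = 2 * m ∨
      (orderOf ((Fintype.card F : ℕ) : ZMod r) = m ∧ Odd m))
    (G X : Matrix (Fin k) (Fin k) F) (hGdet : G.det ≠ 0) (hX : Xᵀ * G * X = G)
    (hXr : X ^ r = 1) (hX1 : (X - 1).det ≠ 0) (hk : 1 ≤ k) : 2 * m ≤ k := by
  classical
  have hpp : p.Prime := Fact.out
  have : Fact r.Prime := ⟨hr⟩
  have : CharP (AlgebraicClosure F) p :=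
    charP_of_injective_algebraMap (algebraMap F (AlgebraicClosure F)).injective p
  have hk0 : 0 < orderOf ((Fintype.card F : ℕ) : ZMod r) := by
    rcases hord with h | ⟨h, -⟩ <;> omega
  have hrq : ¬ r ∣ Fintype.card F := not_dvd_card_of_orderOf_pos hr hk0
  have hrp : r ≠ p := by
    rintro rfl
    obtain ⟨e, -, he⟩ := FiniteField.card F r
    apply hrq
    rw [he]
    exact dvd_pow_self r e.ne_zero
  have hrK : (r : AlgebraicClosure F) ≠ 0 := by
    intro h0
    have h1 := (CharP.cast_eq_zero_iff (AlgebraicClosure F) p r).mp h0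
    exact hrp ((Nat.prime_dvd_prime_iff_eq hpp hr).mp h1).symm
  have hXne : X ≠ 1 := by
    rintro rfl
    apply hX1
    rw [sub_self]
    have : Nonempty (Fin k) := ⟨⟨0, hk⟩⟩
    exact Matrix.det_zero
  obtain ⟨ν, hνroot, hνr, hν1⟩ := exists_root_charpoly_of_pow (K := AlgebraicClosure F) X r 1 hrK
    (by rw [one_mul]; exact hXr) (by rw [pow_one]; exact hXne)
  rw [one_mul] at hνr
  rw [pow_one] at hν1
  have hν0 : ν ≠ 0 := by
    rintro rfl
    rw [zero_pow hr.ne_zero] at hνr
    exact zero_ne_one hνr
  have hordν : orderOf (Units.mk0 ν hν0) = r := by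
    apply orderOf_eq_prime
    · apply Units.ext
      rw [Units.val_pow_eq_pow_val, Units.val_mk0, hνr, Units.val_one]
    · intro h
      apply hν1
      have := congrArg Units.val h
      rw [Units.val_mk0, Units.val_one] at this
      exact this
  have hηk : (Odd (orderOf ((Fintype.card F : ℕ) : ZMod r)) ∧
      m = orderOf ((Fintype.card F : ℕ) : ZMod r)) ∨
      (Even (orderOf ((Fintype.card F : ℕ) : ZMod r)) ∧
        2 * m = orderOf ((Fintype.card F : ℕ) : ZMod r)) := by
    rcases hord with h | ⟨h, hodd⟩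
    · right
      rw [h]
      exact ⟨even_two_mul m, rfl⟩
    · left
      rw [h]
      exact ⟨hodd, rfl⟩
  obtain ⟨s, hs, hcard⟩ := exists_finset_two_eta
    {x : (AlgebraicClosure F)ˣ | aeval (x : AlgebraicClosure F) X.charpoly = 0} (Fintype.card F)
    (by
      intro x hx
      show aeval ((x ^ Fintype.card F : (AlgebraicClosure F)ˣ) : AlgebraicClosure F) X.charpoly = 0
      rw [Units.val_pow_eq_pow_val]
      exact aeval_pow_card_eq_zero X.charpoly (x : AlgebraicClosure F) hx)
    (by
      intro x hx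
      show aeval ((x⁻¹ : (AlgebraicClosure F)ˣ) : AlgebraicClosure F) X.charpoly = 0
      rw [Units.val_inv_eq_inv_val]
      exact aeval_inv_charpoly_of_isometry G X hGdet hX (x : AlgebraicClosure F) hx)
    (Units.mk0 ν hν0) (by
      show aeval ((Units.mk0 ν hν0 : (AlgebraicClosure F)ˣ) : AlgebraicClosure F) X.charpoly = 0
      rw [Units.val_mk0]
      exact hνroot) r hr hr2 hordν _ m hk0 rfl hηk
  set Z : Finset (AlgebraicClosure F) := s.map ⟨Units.val, Units.val_injective⟩ with hZ
  have hZroot : ∀ z ∈ Z, aeval z X.charpoly = 0 := by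
    intro z hz
    obtain ⟨x, hx, rfl⟩ := Finset.mem_map.mp hz
    exact (hs x hx).1
  have hZcard : Z.card = s.card := Finset.card_map _
  have h2n := card_le_of_roots_charpoly X Z hZroot
  rw [Fintype.card_fin] at h2n
  omega

end blocksize

section commute
variable {F : Type*} [Field F] {K : Type*} [Field K] [Algebra F K]
  {ι : Type*} [Fintype ι] [DecidableEq ι]

/-- a matrix of `p`-power order commuting with a matrix with simple spectrum is trivial -/
theorem eq_one_of_commute_of_nodup_roots (p : ℕ) [Fact p.Prime] [CharP F p]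
    (X Y : Matrix ι ι F) (hs : (X.charpoly.map (algebraMap F K)).Splits)
    (hnd : (X.charpoly.map (algebraMap F K)).roots.Nodup) (hc : X * Y = Y * X)
    (hY : Y ^ p = 1) : Y = 1 := by
  classical
  rcases isEmpty_or_nonempty ι with hι | hι
  · exact Subsingleton.elim _ _
  set R := (X.charpoly.map (algebraMap F K)).roots with hR
  set Z : Finset K := R.toFinset with hZ
  have hZcard : Z.card = Fintype.card ι := by
    rw [hZ, Multiset.toFinset_card_of_nodup hnd, hR, ← hs.natDegree_eq_card_roots,
      Polynomial.natDegree_map, Matrix.charpoly_natDegree_eq_dim]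
  have hinj : Function.Injective ((algebraMap F K).mapMatrix (m := ι)) := by
    intro A B hAB
    exact Matrix.map_injective (algebraMap F K).injective hAB
  have hN : (algebraMap F K).mapMatrix (Y - 1) = 0 := by
    apply eq_zero_of_commute_of_card_roots ((algebraMap F K).mapMatrix X) _ Z
    · intro z hz
      rw [hZ, Multiset.mem_toFinset, hR] at hz
      have := (mem_roots'.mp hz).2
      rw [RingHom.mapMatrix_apply, Matrix.charpoly_map]
      exact this
    · rw [hZcard]
    · rw [← map_mul, ← map_mul]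
      congr 1
      rw [mul_sub, sub_mul, mul_one, one_mul, hc]
    · refine ⟨p, ?_⟩
      rw [← map_pow]
      rw [sub_pow_char_of_commute p (Commute.one_right Y), hY, one_pow, sub_self, map_zero]
  have := hinj (hN.trans (map_zero _).symm)
  exact sub_eq_zero.mp this

end commute

section blockalg
variable {R : Type*} [CommRing R] {m n : Type*} [Fintype m] [DecidableEq m] [Fintype n]
  [DecidableEq n]

theorem fromBlocks_diag_pow (A : Matrix m m R) (D : Matrix n n R) (k : ℕ) :
    (fromBlocks A 0 0 D) ^ k = fromBlocks (A ^ k) 0 0 (D ^ k) := by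
  induction k with
  | zero => rw [pow_zero, pow_zero, pow_zero, fromBlocks_one]
  | succ k ih =>
    rw [pow_succ, ih, fromBlocks_multiply, pow_succ, pow_succ]
    simp

theorem conj_pow_of_inv {ι κ : Type*} [Fintype ι] [DecidableEq ι] [Fintype κ] [DecidableEq κ]
    (T : Matrix κ ι R) (T' : Matrix ι κ R) (hTT' : T * T' = 1) (hT'T : T' * T = 1)
    (y : Matrix ι ι R) (k : ℕ) : T * y ^ k * T' = (T * y * T') ^ k := by
  induction k with
  | zero => rw [pow_zero, pow_zero, Matrix.mul_one, hTT']
  | succ k ih =>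
    rw [pow_succ, pow_succ, ← ih]
    have h1 : T * (y ^ k * y) * T' = T * y ^ k * (T' * T) * (y * T') := by
      rw [hT'T, Matrix.mul_one]
      simp only [Matrix.mul_assoc]
    rw [h1]
    simp only [Matrix.mul_assoc]

end blockalg

end Cfsg.Agent.Lib.Helper40
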