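import Mathlib
import Cfsg.Agent.Lib.Helper40.OrthBlock
import Cfsg.Agent.Lib.Helper99.Zsigmondy

/-!
# Preparations for S2362 (helper40): Zsigmondy primes, averaging idempotents
-/

set_option autoImplicit false
set_option linter.unusedSectionVars false

namespace Cfsg.Agent.Lib.Helper40

open Matrix Polynomial

section ppd

theorem natCast_pow_eq_one_iff_dvd (q r k : ℕ) (hq : 1 ≤ q) :
    ((q : ℕ) : ZMod r) ^ k = 1 ↔ r ∣ q ^ k - 1 := by
  have h1 : 1 ≤ q ^ k := Nat.one_le_pow _ _ hq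
  rw [← ZMod.natCast_eq_zero_iff, Nat.cast_sub h1, Nat.cast_pow, Nat.cast_one, sub_eq_zero]

theorem orderOf_eq_of_ppd (q r n : ℕ) (hq : 1 ≤ q) (hn : 0 < n) (h1 : r ∣ q ^ n - 1)
    (h2 : ∀ k : ℕ, 0 < k → k < n → ¬ r ∣ q ^ k - 1) : orderOf ((q : ℕ) : ZMod r) = n := by
  rw [orderOf_eq_iff hn]
  refine ⟨(natCast_pow_eq_one_iff_dvd q r n hq).mpr h1, ?_⟩
  intro k hkn hk0 h
  exact h2 k hk0 hkn ((natCast_pow_eq_one_iff_dvd q r k hq).mp h)

/-- a primitive prime divisor of `q ^ (2 m) - 1` -/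
theorem exists_ppd_even (q m : ℕ) (hq : Odd q) (hq1 : 1 < q) (hm : 2 ≤ m) :
    ∃ r : ℕ, r.Prime ∧ r ≠ 2 ∧ orderOf ((q : ℕ) : ZMod r) = 2 * m ∧ r ∣ q ^ m + 1 := by
  obtain ⟨r, hr, hdvd, hno⟩ := Cfsg.Agent.Lib.Helper99.zsigmondy q (2 * m) hq1 (by omega)
    (by rintro ⟨rfl, -⟩; exact absurd hq (by decide)) (by rintro ⟨h, -⟩; omega)
  refine ⟨r, hr, ?_, orderOf_eq_of_ppd q r (2 * m) (by omega) (by omega) hdvd hno, ?_⟩
  · rintro rfl
    apply hno 1 (by omega) (by omega)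
    rw [pow_one]
    obtain ⟨t, ht⟩ := hq
    exact ⟨t, by omega⟩
  · have h1 : q ^ (2 * m) - 1 = (q ^ m - 1) * (q ^ m + 1) := by
      have h1 : 1 ≤ q ^ m := Nat.one_le_pow _ _ (by omega)
      obtain ⟨c, hc⟩ : ∃ c, q ^ m = c + 1 := ⟨q ^ m - 1, by omega⟩
      rw [mul_comm 2 m, pow_mul, hc]
      have : (c + 1) ^ 2 - 1 = c * (c + 1 + 1) := by
        have : (c + 1) ^ 2 = c * (c + 1 + 1) + 1 := by ring
        omega
      rw [this, Nat.add_sub_cancel]
    rw [h1] at hdvd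
    rcases (Nat.Prime.dvd_mul hr).mp hdvd with h | h
    · exact absurd h (hno m (by omega) (by omega))
    · exact h

/-- a primitive prime divisor of `q ^ m - 1` -/
theorem exists_ppd_odd (q m : ℕ) (hq : Odd q) (hq1 : 1 < q) (hm : 3 ≤ m) :
    ∃ r : ℕ, r.Prime ∧ r ≠ 2 ∧ orderOf ((q : ℕ) : ZMod r) = m ∧ r ∣ q ^ m - 1 := by
  obtain ⟨r, hr, hdvd, hno⟩ := Cfsg.Agent.Lib.Helper99.zsigmondy q m hq1 (by omega)
    (by rintro ⟨rfl, -⟩; exact absurd hq (by decide)) (by rintro ⟨h, -⟩; omega)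
  refine ⟨r, hr, ?_, orderOf_eq_of_ppd q r m (by omega) (by omega) hdvd hno, hdvd⟩
  rintro rfl
  apply hno 1 (by omega) (by omega)
  rw [pow_one]
  obtain ⟨t, ht⟩ := hq
  exact ⟨t, by omega⟩

end ppd

section avg
variable {F : Type*} [Field F] {ι : Type*} [Fintype ι] [DecidableEq ι]

theorem isometry_pow (B A : Matrix ι ι F) (hA : Aᵀ * B * A = B) (j : ℕ) :
    (A ^ j)ᵀ * B * A ^ j = B := by
  induction j with
  | zero => simp
  | succ j ih =>
    rw [pow_succ, Matrix.transpose_mul]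
    calc Aᵀ * (A ^ j)ᵀ * B * (A ^ j * A) = Aᵀ * ((A ^ j)ᵀ * B * A ^ j) * A := by
          simp only [Matrix.mul_assoc]
      _ = B := by rw [ih, hA]

/-- the adjoint of a power of an isometry of finite order -/
theorem transpose_pow_mul_of_isometry (B x : Matrix ι ι F) (hx : xᵀ * B * x = B) (r : ℕ)
    (hxr : x ^ r = 1) (i : ℕ) (hi : i ≤ r) : (x ^ i)ᵀ * B = B * x ^ (r - i) := by
  have h1 := isometry_pow B x hx i
  calc (x ^ i)ᵀ * B = (x ^ i)ᵀ * B * (x ^ i * x ^ (r - i)) := by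
        rw [← pow_add, Nat.add_sub_cancel' hi, hxr, Matrix.mul_one]
    _ = ((x ^ i)ᵀ * B * x ^ i) * x ^ (r - i) := by simp only [Matrix.mul_assoc]
    _ = B * x ^ (r - i) := by rw [h1]

theorem geom_sum_mul_self_of_pow_eq_one (x : Matrix ι ι F) (r : ℕ) (hxr : x ^ r = 1) :
    x * ∑ i ∈ Finset.range r, x ^ i = ∑ i ∈ Finset.range r, x ^ i := by
  have h := mul_geom_sum x r
  rw [hxr, sub_self, sub_mul, one_mul, sub_eq_zero] at h
  exact h

theorem pow_mul_geom_sum_of_pow_eq_one (x : Matrix ι ι F) (r : ℕ) (hxr : x ^ r = 1) (i : ℕ) :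
    x ^ i * ∑ i ∈ Finset.range r, x ^ i = ∑ i ∈ Finset.range r, x ^ i := by
  induction i with
  | zero => rw [pow_zero, Matrix.one_mul]
  | succ i ih => rw [pow_succ, Matrix.mul_assoc, geom_sum_mul_self_of_pow_eq_one x r hxr, ih]

/-- the averaging idempotent of an isometry of order prime to the characteristic -/
theorem avg_idem_props (B x : Matrix ι ι F) (hx : xᵀ * B * x = B) (r : ℕ) (hrF : (r : F) ≠ 0)
    (hxr : x ^ r = 1) :
    ∃ e : Matrix ι ι F, e * e = e ∧ x * e = e ∧ eᵀ * B = B * e ∧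
      (r : F) • e = ∑ i ∈ Finset.range r, x ^ i ∧
      ∀ y : Matrix ι ι F, y * x = x * y → y * e = e * y := by
  set s := ∑ i ∈ Finset.range r, x ^ i with hs
  have hxs : x * s = s := geom_sum_mul_self_of_pow_eq_one x r hxr
  have hss : s * s = (r : F) • s := by
    conv_lhs => rw [hs, Finset.sum_mul]
    rw [Finset.sum_congr rfl (fun i _ => pow_mul_geom_sum_of_pow_eq_one x r hxr i), Finset.sum_const,
      Finset.card_range, ← hs, Nat.cast_smul_eq_nsmul]
  have hsB : sᵀ * B = B * s := by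
    rw [hs, Matrix.transpose_sum, Finset.sum_mul]
    rw [Finset.sum_congr rfl (fun i hi => transpose_pow_mul_of_isometry B x hx r hxr i
      (le_of_lt (Finset.mem_range.mp hi))), ← Finset.mul_sum]
    congr 1
    have h1 : ∑ i ∈ Finset.range r, x ^ (r - i) = x * ∑ i ∈ Finset.range r, x ^ (r - 1 - i) := by
      rw [Finset.mul_sum]
      apply Finset.sum_congr rfl
      intro i hi
      have hi' := Finset.mem_range.mp hi
      rw [← pow_succ']
      congr 1
      omega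
    rw [h1, Finset.sum_range_reflect (fun i => x ^ i) r]
    exact hxs
  refine ⟨(r : F)⁻¹ • s, ?_, ?_, ?_, ?_, ?_⟩
  · rw [Matrix.smul_mul, Matrix.mul_smul, hss, smul_smul, smul_smul, mul_assoc, inv_mul_cancel₀ hrF, mul_one]
  · rw [Matrix.mul_smul, hxs]
  · rw [Matrix.transpose_smul, Matrix.smul_mul, Matrix.mul_smul, hsB]
  · rw [smul_smul, mul_inv_cancel₀ hrF, one_smul]
  · intro y hy
    have hc : Commute y s := by
      rw [hs]
      apply Commute.sum_right
      intro i _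
      exact Commute.pow_right hy i
    rw [Matrix.mul_smul, Matrix.smul_mul, hc.eq]

/-- if the geometric sum of `X` vanishes, `X - 1` is invertible -/
theorem det_sub_one_ne_zero_of_geom_sum_eq_zero {κ : Type*} [Fintype κ] [DecidableEq κ]
    (X : Matrix κ κ F) (r : ℕ) (hrF : (r : F) ≠ 0) (hsum : ∑ i ∈ Finset.range r, X ^ i = 0) :
    (X - 1).det ≠ 0 := by
  have h1 : (X - 1) * ∑ i ∈ Finset.range r, ∑ j ∈ Finset.range i, X ^ j =
      ∑ i ∈ Finset.range r, X ^ i - (r : F) • (1 : Matrix κ κ F) := by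
    rw [Finset.mul_sum, Finset.sum_congr rfl (fun i _ => mul_geom_sum X i), Finset.sum_sub_distrib,
      Finset.sum_const, Finset.card_range, Nat.cast_smul_eq_nsmul]
  rw [hsum, zero_sub] at h1
  intro h0
  have h2 := congrArg Matrix.det h1
  rw [Matrix.det_mul, h0, zero_mul, Matrix.det_neg, Matrix.det_smul, Matrix.det_one, mul_one] at h2
  have h3 : (-1 : F) ^ Fintype.card κ * (r : F) ^ Fintype.card κ ≠ 0 :=
    mul_ne_zero (pow_ne_zero _ (neg_ne_zero.mpr one_ne_zero)) (pow_ne_zero _ hrF)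
  exact h3 h2.symm

end avg

end Cfsg.Agent.Lib.Helper40
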