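import Mathlib
import Cfsg.Agent.Lib.Helper40.OrthBlock
import Cfsg.Agent.Lib.Helper67.S2362NT
import Cfsg.Agent.Lib.Helper15.S2362Orbit
import Cfsg.Agent.Lib.Helper77.CayleyDisc

/-!
# The discriminant of the support of an isometry of Zsigmondy prime order (helper40, for S2362)
-/

set_option autoImplicit false
set_option linter.unusedSectionVars false

namespace Cfsg.Agent.Lib.Helper40

open Matrix Polynomial

section W

theorem pow_eq_one_of_mem_roots_charpoly {K : Type*} [Field K] {ι : Type*} [Fintype ι]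
    [DecidableEq ι] (A : Matrix ι ι K) (k : ℕ) (hA : A ^ k = 1) (y : K)
    (hy : y ∈ A.charpoly.roots) : y ^ k = 1 := by
  have h1 : A.charpoly.IsRoot y := (mem_roots'.mp hy).2
  rw [IsRoot, Matrix.eval_charpoly] at h1
  obtain ⟨v, hv, hv0⟩ := Matrix.exists_mulVec_eq_zero_iff.mpr h1
  have h2 : A *ᵥ v = y • v := by
    have h3 : (Matrix.scalar ι y - A) *ᵥ v = y • v - A *ᵥ v := by
      rw [Matrix.sub_mulVec]
      congr 1
      ext i
      simp [Matrix.mulVec, dotProduct, Matrix.scalar_apply, Matrix.diagonal_apply]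
    rw [h3] at hv0
    exact (sub_eq_zero.mp hv0).symm
  have h4 : ∀ i : ℕ, (A ^ i) *ᵥ v = y ^ i • v := by
    intro i
    induction i with
    | zero => simp
    | succ i ih =>
      rw [pow_succ, ← Matrix.mulVec_mulVec, h2, Matrix.mulVec_smul, ih, smul_smul, pow_succ']
  have h5 := h4 k
  rw [hA, Matrix.one_mulVec] at h5
  have h6 : (y ^ k - 1) • v = 0 := by
    rw [sub_smul, one_smul, ← h5, sub_self]
  rcases smul_eq_zero.mp h6 with h | h
  · exact sub_eq_zero.mp h
  · exact absurd h hv

variable {F : Type*} [Field F] [Fintype F]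

theorem structure_of_ppd_isometry (p : ℕ) [Fact p.Prime] [CharP F p] (hp2 : p ≠ 2) {k m r : ℕ}
    (hr : r.Prime) (hr2 : r ≠ 2) (hm : 1 ≤ m)
    (hord : orderOf ((Fintype.card F : ℕ) : ZMod r) = 2 * m ∨
      (orderOf ((Fintype.card F : ℕ) : ZMod r) = m ∧ Odd m))
    (hk1 : 1 ≤ k) (hk4 : k < 4 * m)
    (hA : orderOf ((Fintype.card F : ℕ) : ZMod r) = 2 * m → Fintype.card F ^ m % 4 = 1)
    (hB : orderOf ((Fintype.card F : ℕ) : ZMod r) = m → Fintype.card F ^ m % 4 = 3)
    (G X : Matrix (Fin k) (Fin k) F) (hGs : Gᵀ = G) (hGdet : G.det ≠ 0) (hX : Xᵀ * G * X = G)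
    (hXr : X ^ r = 1) (hX1 : (X - 1).det ≠ 0) :
    k = 2 * m ∧ (X.charpoly.map (algebraMap F (AlgebraicClosure F))).roots.Nodup ∧
      ¬ IsSquare G.det := by
  classical
  have hpp : p.Prime := Fact.out
  have : CharP (AlgebraicClosure F) p :=
    charP_of_injective_algebraMap (algebraMap F (AlgebraicClosure F)).injective p
  obtain ⟨a, -, hqa⟩ := FiniteField.card F p
  have ha : 1 ≤ (a : ℕ) := a.pos
  have h2F : (2 : F) ≠ 0 := by
    intro h
    have h1 : ((2 : ℕ) : F) = 0 := by exact_mod_cast h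
    rw [CharP.cast_eq_zero_iff F p] at h1
    exact hp2 ((Nat.prime_dvd_prime_iff_eq hpp Nat.prime_two).mp h1)
  have h2K : (2 : AlgebraicClosure F) ≠ 0 := by
    intro h
    have h1 : ((2 : ℕ) : AlgebraicClosure F) = 0 := by exact_mod_cast h
    rw [CharP.cast_eq_zero_iff (AlgebraicClosure F) p] at h1
    exact hp2 ((Nat.prime_dvd_prime_iff_eq hpp Nat.prime_two).mp h1)
  have hqodd : Odd (Fintype.card F) := by
    rw [hqa]
    exact (hpp.odd_of_ne_two hp2).pow
  set φ := algebraMap F (AlgebraicClosure F) with hφ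
  set f := X.charpoly.map φ with hf
  have hsplit : f.Splits := IsAlgClosed.splits f
  have hmonic : f.Monic := (Matrix.charpoly_monic X).map φ
  set XK := X.map φ with hXK
  have hχ : XK.charpoly = f := Matrix.charpoly_map X _
  set R := f.roots with hR
  have hcardR : Multiset.card R = k := by
    rw [hR, ← hsplit.natDegree_eq_card_roots, hf, natDegree_map, Matrix.charpoly_natDegree_eq_dim,
      Fintype.card_fin]
  have hXKr : XK ^ r = 1 := by
    rw [hXK, ← RingHom.mapMatrix_apply, ← map_pow, hXr, map_one]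
  have hdet1 : (1 - X).det ≠ 0 := by
    have : (1 - X) = -(X - 1) := by rw [neg_sub]
    rw [this, Matrix.det_neg]
    exact mul_ne_zero (pow_ne_zero _ (neg_ne_zero.mpr one_ne_zero)) hX1
  have hev : ∀ t : F, φ (X.charpoly.eval t) = (R.map (fun μ => φ t - μ)).prod := by
    intro t
    rw [← Polynomial.eval_map_apply, ← hf]
    conv_lhs => rw [hsplit.eq_prod_roots_of_monic hmonic]
    rw [Polynomial.eval_multiset_prod, Multiset.map_map]
    congr 1
    apply Multiset.map_congr rfl
    intro μ _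
    simp
  have heval1 : X.charpoly.eval 1 = (1 - X).det := by
    rw [Matrix.eval_charpoly, map_one]
  have hR1 : ∀ μ ∈ R, μ ^ r = 1 ∧ μ ≠ 1 := by
    intro μ hμ
    refine ⟨pow_eq_one_of_mem_roots_charpoly XK r hXKr μ (by rw [hχ]; exact hμ), ?_⟩
    rintro rfl
    have h1 : f.IsRoot 1 := (mem_roots'.mp hμ).2
    rw [IsRoot, hf, ← map_one φ, Polynomial.eval_map_apply, heval1] at h1
    exact hdet1 (φ.injective (h1.trans (map_zero φ).symm))
  have hR2 : R.map (fun y => y ^ Fintype.card F) = R :=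
    roots_map_frob_of_base X.charpoly hsplit
  have hR3 : R.map (fun y => y⁻¹) = R := by
    have hGK : (G.map φ).det ≠ 0 := by
      rw [← RingHom.mapMatrix_apply, ← RingHom.map_det]
      intro h
      exact hGdet (φ.injective (h.trans (map_zero φ).symm))
    have hXK' : XKᵀ * G.map φ * XK = G.map φ := by
      have h1 := congrArg (fun M => M.map φ) hX
      simp only [Matrix.map_mul] at h1
      rw [Matrix.transpose_map] at h1
      exact h1
    have := roots_map_inv_of_isometry (G.map φ) XK hGK hXK' (by rw [hχ]; exact hsplit)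
    rw [hχ] at this
    exact this
  have hne : R ≠ 0 := by
    intro h
    rw [h, Multiset.card_zero] at hcardR
    omega
  obtain ⟨hnd, lam, hlam, hlam1, hcases⟩ := Cfsg.Agent.Lib.Helper15.S2362Orbit.orbit_structure (Fintype.card F) r m hr hr2 hm
    hord R hR1 hR2 hR3 hne (by rw [hcardR]; exact hk4)
  have hk : k = 2 * m := by
    rcases hcases with ⟨-, hRe⟩ | ⟨-, -, hRe⟩
    · rw [← hcardR, hRe, Multiset.card_map, Multiset.card_range]
    · rw [← hcardR, hRe, Multiset.card_add, Multiset.card_map, Multiset.card_map,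
        Multiset.card_range]
      ring
  refine ⟨hk, hnd, ?_⟩
  have hΔ : (R.map (fun μ => μ ^ 2 - 1)).prod ^ ((Fintype.card F - 1) / 2) = -1 := by
    rcases hcases with ⟨ho, hRe⟩ | ⟨ho, hodd, hRe⟩
    · have h1 := Cfsg.Agent.Lib.Helper67.S2362NT.prod_orbit_pow_eq_neg_one_A (K := AlgebraicClosure F) p hp2 a ha m r hm
        hr hr2 (by rw [← hqa]; exact ho) (by rw [← hqa]; exact hA ho) lam hlam hlam1
      rw [← hqa] at h1
      rw [hRe]
      exact h1
    · have h1 := Cfsg.Agent.Lib.Helper67.S2362NT.prod_orbit_pow_eq_neg_one_B (K := AlgebraicClosure F) p hp2 a ha m r hm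
        hr hr2 (by rw [← hqa]; exact ho) (by rw [← hqa]; exact hB ho) lam hlam hlam1
      rw [← hqa] at h1
      rw [hRe]
      exact h1
  have hrodd : Odd r := hr.odd_of_ne_two hr2
  have hkeven : Even k := by rw [hk]; exact even_two_mul m
  have h1X : (1 + X).det ≠ 0 := by
    intro h0
    have h1 : X.charpoly.eval (-1) = 0 := by
      rw [Matrix.eval_charpoly, map_neg, map_one]
      have : (-1 - X) = -(1 + X) := by rw [neg_add, sub_eq_add_neg]
      rw [this, Matrix.det_neg, h0, mul_zero]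
    have h3 : f.IsRoot (-1) := by
      rw [IsRoot, hf, ← map_one φ, ← map_neg φ, Polynomial.eval_map_apply, h1, map_zero]
    have h4 : (-1 : AlgebraicClosure F) ∈ R := by
      rw [hR, mem_roots hmonic.ne_zero]
      exact h3
    have h5 := (hR1 _ h4).1
    rw [hrodd.neg_one_pow] at h5
    apply h2K
    linear_combination -h5
  have hevalneg : X.charpoly.eval (-1) = (1 + X).det := by
    rw [Matrix.eval_charpoly, map_neg, map_one]
    have : (-1 - X) = -(1 + X) := by rw [neg_add, sub_eq_add_neg]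
    rw [this, Matrix.det_neg, Fintype.card_fin, hkeven.neg_one_pow, one_mul]
  have hE : φ ((1 - X).det * (1 + X).det) = (R.map (fun μ => μ ^ 2 - 1)).prod := by
    rw [map_mul, ← heval1, ← hevalneg, hev, hev, ← Multiset.prod_map_mul]
    congr 1
    apply Multiset.map_congr rfl
    intro μ _
    rw [map_neg, map_one]
    ring
  obtain ⟨c, hc⟩ := Cfsg.Agent.Lib.Helper77.isSquare_det_mul_of_isometry h2F G X hGs hX h1X
  rintro ⟨d, hd⟩
  have hd0 : d ≠ 0 := by
    rintro rfl
    rw [mul_zero] at hd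
    exact hGdet hd
  have hEsq : (1 - X).det * (1 + X).det = (c / d) * (c / d) := by
    field_simp
    rw [hd] at hc
    linear_combination hc
  have hcd0 : c / d ≠ 0 := by
    intro h
    rw [h, mul_zero] at hEsq
    rcases mul_eq_zero.mp hEsq with h' | h'
    · exact hdet1 h'
    · exact h1X h'
  have hpow : (c / d) ^ (Fintype.card F - 1) = 1 := FiniteField.pow_card_sub_one_eq_one _ hcd0
  have hhalf : (Fintype.card F - 1) / 2 * 2 = Fintype.card F - 1 := by
    obtain ⟨t, ht⟩ := hqodd
    omega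
  have h7 : (R.map (fun μ => μ ^ 2 - 1)).prod ^ ((Fintype.card F - 1) / 2) = 1 := by
    rw [← hE, hEsq, ← map_pow, ← sq, ← pow_mul, mul_comm, hhalf, hpow, map_one]
  rw [h7] at hΔ
  apply h2K
  linear_combination hΔ

end W

end Cfsg.Agent.Lib.Helper40
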