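import Mathlib
import Cfsg.Agent.Lib.Helper40.OrthMainA
import Cfsg.Agent.Lib.Helper40.OrthW
import Cfsg.Agent.Lib.Helper99.OrthSplit2
import Cfsg.Agent.Lib.Helper13.Orth
import Cfsg.Agent.Lib.Helper39.S2362Spinor

/-!
# No element of order `p (q^m ∓ 1)` in `Ω_{2m+3}(q)` (helper40, for S2362)
-/

set_option autoImplicit false
set_option linter.unusedSectionVars false

namespace Cfsg.Agent.Lib.Helper40

open Matrix Polynomial

section main
variable {F : Type*} [Field F] [Fintype F] {ι : Type} [Fintype ι] [DecidableEq ι]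

theorem conj_eq_iff {κ : Type*} [Fintype κ] [DecidableEq κ] (T : Matrix κ ι F) (T' : Matrix ι κ F)
    (hTT' : T * T' = 1) (hT'T : T' * T = 1) (y : Matrix ι ι F) (Y : Matrix κ κ F) :
    T * y * T' = Y ↔ y = T' * Y * T := by
  constructor
  · intro h
    rw [← h]
    calc y = (T' * T) * y * (T' * T) := by rw [hT'T, Matrix.one_mul, Matrix.mul_one]
      _ = T' * (T * y * T') * T := by simp only [Matrix.mul_assoc]
  · intro h
    rw [h]
    calc T * (T' * Y * T) * T' = (T * T') * Y * (T * T') := by simp only [Matrix.mul_assoc]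
      _ = Y := by rw [hTT', Matrix.one_mul, Matrix.mul_one]

theorem orderOf_ne_of_mem_Omega (p : ℕ) [Fact p.Prime] [CharP F p] (hp2 : p ≠ 2)
    (Q : QuadraticForm F (ι → F)) (hQ : (QuadraticMap.polarBilin Q).Nondegenerate)
    {m r M : ℕ} (hm : 2 ≤ m) (hcard : Fintype.card ι = 2 * m + 3)
    (hr : r.Prime) (hr2 : r ≠ 2)
    (hord : orderOf ((Fintype.card F : ℕ) : ZMod r) = 2 * m ∨
      (orderOf ((Fintype.card F : ℕ) : ZMod r) = m ∧ Odd m))
    (hA : orderOf ((Fintype.card F : ℕ) : ZMod r) = 2 * m → Fintype.card F ^ m % 4 = 1)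
    (hB : orderOf ((Fintype.card F : ℕ) : ZMod r) = m → Fintype.card F ^ m % 4 = 3)
    (hrM : r ∣ M) (hM4 : M % 4 = 2)
    (g : ↥(Cfsg.isometryGroup F ⇑Q)) (hg : g ∈ Cfsg.Omega F ⇑Q) : orderOf g ≠ p * M := by
  classical
  intro hN
  have hpp : p.Prime := Fact.out
  have hp3 : 3 ≤ p := by
    have := hpp.two_le
    omega
  have h2F : (2 : F) ≠ 0 := by
    intro h
    have h1 : ((2 : ℕ) : F) = 0 := by exact_mod_cast h
    rw [CharP.cast_eq_zero_iff F p] at h1
    exact hp2 ((Nat.prime_dvd_prime_iff_eq hpp Nat.prime_two).mp h1)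
  have hk0 : 0 < orderOf ((Fintype.card F : ℕ) : ZMod r) := by
    rcases hord with h | ⟨h, -⟩ <;> omega
  have hrq : ¬ r ∣ Fintype.card F := not_dvd_card_of_orderOf_pos hr hk0
  have hrp : r ≠ p := by
    rintro rfl
    obtain ⟨e, -, he⟩ := FiniteField.card F r
    apply hrq
    rw [he]
    exact dvd_pow_self r e.ne_zero
  have hrF : (r : F) ≠ 0 := by
    intro h0
    have h1 := (CharP.cast_eq_zero_iff F p r).mp h0
    exact hrp ((Nat.prime_dvd_prime_iff_eq hpp hr).mp h1).symm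
  have hM0 : 0 < M := by omega
  have hMeven : Even M := ⟨M / 2, by omega⟩
  obtain ⟨M', hM'⟩ : ∃ M', M = 2 * M' := ⟨M / 2, by omega⟩
  have hM'odd : Odd M' := by
    rw [Nat.odd_iff]
    omega
  set N := p * M with hNdef
  have hN0 : 0 < N := Nat.mul_pos hpp.pos hM0
  have hrN : r ∣ N := Dvd.dvd.mul_left hrM p
  have hhalf : p * M / 2 = p * M' := by
    rw [hM', ← mul_assoc, mul_comm p 2, mul_assoc, Nat.mul_div_cancel_left _ (by norm_num)]
  -- the matrix of `g`
  set A : Matrix ι ι F := ((g : Matrix.GeneralLinearGroup ι F) : Matrix ι ι F) with hAdef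
  have hApow : ∀ j : ℕ, A ^ j =
      (((g ^ j : ↥(Cfsg.isometryGroup F ⇑Q)) : Matrix.GeneralLinearGroup ι F) : Matrix ι ι F) := by
    intro j
    rw [hAdef, SubgroupClass.coe_pow, Units.val_pow_eq_pow_val]
  have hA1 : ∀ j : ℕ, A ^ j = 1 ↔ N ∣ j := by
    intro j
    rw [← hN, orderOf_dvd_iff_pow_eq_one, hApow]
    constructor
    · intro h
      apply Subtype.ext
      apply Units.ext
      rw [h]
      rfl
    · intro h
      rw [h]
      rfl
  have hgiso : ∀ u : ι → F, Q (A *ᵥ u) = Q u :=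
    (Cfsg.Agent.Lib.Helper13.mem_isometryGroup_iff (⇑Q) (g : Matrix.GeneralLinearGroup ι F)).mp g.2
  set Bf : LinearMap.BilinForm F (ι → F) := QuadraticMap.polarBilin Q with hBf
  set B : Matrix ι ι F := LinearMap.BilinForm.toMatrix' Bf with hBdef
  have hBdet : B.det ≠ 0 := by
    rw [← Matrix.nondegenerate_iff_det_ne_zero]
    exact LinearMap.BilinForm.nondegenerate_toMatrix'_iff.mpr hQ
  have hBs : Bᵀ = B := by
    ext i j
    rw [Matrix.transpose_apply, hBdef, LinearMap.BilinForm.toMatrix'_apply,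
      LinearMap.BilinForm.toMatrix'_apply]
    exact QuadraticMap.polar_comm _ _ _
  have hAiso : Aᵀ * B * A = B := by
    have hcomp : Bf.comp (Matrix.toLin' A) (Matrix.toLin' A) = Bf := by
      refine LinearMap.ext fun x => LinearMap.ext fun y => ?_
      rw [LinearMap.BilinForm.comp_apply, Matrix.toLin'_apply, Matrix.toLin'_apply]
      exact Cfsg.Agent.Lib.Helper13.polar_mulVec_of_isometry Q A hgiso _ _
    have hM := congrArg LinearMap.BilinForm.toMatrix' hcomp
    rw [LinearMap.BilinForm.toMatrix'_comp, LinearMap.toMatrix'_toLin'] at hM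
    exact hM
  have hAdet : A.det = 1 := by
    have h1 := Abelianization.commutator_subset_ker
      ((Matrix.GeneralLinearGroup.det (n := ι) (R := F)).comp
        (Cfsg.isometryGroup F (⇑Q)).subtype) hg
    have := congrArg Units.val (MonoidHom.mem_ker.1 h1)
    simpa using this
  -- the element of order `r` and its averaging idempotent
  set x := A ^ (N / r) with hxdef
  have hxr : x ^ r = 1 := by
    rw [hxdef, ← pow_mul, Nat.div_mul_cancel hrN]
    exact (hA1 N).mpr dvd_rfl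
  have hx1 : x ≠ 1 := by
    intro h
    have h1 := (hA1 (N / r)).mp h
    have h2 : 0 < N / r := Nat.div_pos (Nat.le_of_dvd hN0 hrN) hr.pos
    have h3 : N / r < N := Nat.div_lt_self hN0 hr.one_lt
    exact absurd (Nat.le_of_dvd h2 h1) (by omega)
  have hxiso : xᵀ * B * x = B := isometry_pow B A hAiso _
  obtain ⟨e, hee, hxe, heB, hre, hecomm⟩ := avg_idem_props B x hxiso r hrF hxr
  have hAe : A * e = e * A := by
    apply hecomm
    rw [hxdef, ← pow_succ', ← pow_succ]
  -- the splitting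
  obtain ⟨k₁, k₂, T, T', G₁, G₂, hk, hTT', hT'T, hTe, hTB, hG₁s, hG₂s, hG₁d, hG₂d, hblk⟩ :=
    Cfsg.Agent.Lib.Helper99.OrthSplit.exists_orth_split B e hBs hBdet hee heB
  obtain ⟨A₁, A₂, hTA, hAiso'⟩ := hblk A hAe
  obtain ⟨hA₁iso, hA₂iso⟩ := hAiso' hAiso
  have hTpow : ∀ j : ℕ, T * A ^ j * T' = fromBlocks (A₁ ^ j) 0 0 (A₂ ^ j) := by
    intro j
    rw [conj_pow_of_inv T T' hTT' hT'T, hTA, fromBlocks_diag_pow]
  have hpow1 : ∀ j : ℕ, A ^ j = 1 ↔ (A₁ ^ j = 1 ∧ A₂ ^ j = 1) := by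
    intro j
    constructor
    · intro h
      have h1 := hTpow j
      rw [h, Matrix.mul_one, hTT', ← fromBlocks_one, fromBlocks_inj] at h1
      exact ⟨h1.1.symm, h1.2.2.2.symm⟩
    · rintro ⟨h1, h2⟩
      have h3 := hTpow j
      rw [h1, h2, fromBlocks_one, conj_eq_iff T T' hTT' hT'T] at h3
      rw [h3, Matrix.mul_one, hT'T]
  have hAN : A₁ ^ N = 1 ∧ A₂ ^ N = 1 := (hpow1 N).mp ((hA1 N).mpr dvd_rfl)
  set X := A₂ ^ (N / r) with hXdef
  have hXr : X ^ r = 1 := by
    rw [hXdef, ← pow_mul, Nat.div_mul_cancel hrN]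
    exact hAN.2
  have hTx : T * x * T' = fromBlocks (A₁ ^ (N / r)) 0 0 X := hTpow (N / r)
  have hx₁ : A₁ ^ (N / r) = 1 := by
    have h1 : T * (x * e) * T' = (T * x * T') * (T * e * T') := by
      have h0 : (T * x * T') * (T * e * T') = T * x * (T' * T) * (e * T') := by
        simp only [Matrix.mul_assoc]
      rw [h0, hT'T, Matrix.mul_one]
      simp only [Matrix.mul_assoc]
    rw [hxe, hTe, hTx, fromBlocks_multiply, fromBlocks_inj] at h1
    simp at h1
    exact h1.symm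
  have hXsum : ∑ i ∈ Finset.range r, X ^ i = 0 := by
    have h1 : T * ((r : F) • e) * T' = ∑ i ∈ Finset.range r, T * x ^ i * T' := by
      rw [hre, Matrix.mul_sum, Matrix.sum_mul]
    have h2 : ∀ i : ℕ, T * x ^ i * T' = fromBlocks ((A₁ ^ (N / r)) ^ i) 0 0 (X ^ i) := by
      intro i
      rw [conj_pow_of_inv T T' hTT' hT'T, hTx, fromBlocks_diag_pow]
    rw [Matrix.mul_smul, Matrix.smul_mul, hTe, Finset.sum_congr rfl (fun i _ => h2 i)] at h1
    have h4 : ∀ a b : Fin k₂, (∑ i ∈ Finset.range r, X ^ i) a b = 0 := by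
      intro a b
      have := congrFun (congrFun h1 (Sum.inr a)) (Sum.inr b)
      simp only [Matrix.smul_apply, Matrix.fromBlocks_apply₂₂, Matrix.zero_apply,
        smul_zero, Matrix.sum_apply] at this
      rw [Matrix.sum_apply]
      exact this.symm
    ext a b
    exact h4 a b
  have hX1 : (X - 1).det ≠ 0 := det_sub_one_ne_zero_of_geom_sum_eq_zero X r hrF hXsum
  have hXne : X ≠ 1 := by
    intro h
    apply hx1
    rw [hx₁, h, fromBlocks_one, conj_eq_iff T T' hTT' hT'T] at hTx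
    rw [hTx, Matrix.mul_one, hT'T]
  have hk₂pos : 1 ≤ k₂ := by
    by_contra hlt
    have h0 : k₂ = 0 := by omega
    subst h0
    exact hXne (Subsingleton.elim _ _)
  have hk₂4 : k₂ < 4 * m := by omega
  have hXiso : Xᵀ * G₂ * X = G₂ := isometry_pow G₂ A₂ hA₂iso _
  obtain ⟨hk₂, hnd, hnsq⟩ := structure_of_ppd_isometry p hp2 hr hr2 (by omega) hord hk₂pos hk₂4 hA hB
    G₂ X hG₂s hG₂d hXiso hXr hX1
  obtain rfl : k₁ = 3 := by omega
  -- the unipotent part lives on `U`
  have hY : A₂ ^ M = 1 := by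
    apply eq_one_of_commute_of_nodup_roots (K := AlgebraicClosure F) p X (A₂ ^ M)
      (IsAlgClosed.splits _) hnd
    · rw [hXdef, ← pow_add, ← pow_add, add_comm]
    · rw [← pow_mul, mul_comm]
      exact hAN.2
  have hAM : A ^ M ≠ 1 := by
    intro h
    have h1 := (hA1 M).mp h
    have h2 : M < N := by
      rw [hNdef]
      nlinarith
    exact absurd (Nat.le_of_dvd hM0 h1) (by omega)
  have hA₁M : A₁ ^ M ≠ 1 := by
    intro h
    exact hAM ((hpow1 M).mpr ⟨h, hY⟩)
  have h3 := Cfsg.Agent.Lib.Helper99.OrthSplit.pow_half_eq_pm_one_of_three p hp2 G₁ A₁ hG₁s hG₁d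
    hA₁iso M hMeven hAN.1 hA₁M
  -- the involution on `W`
  have hblock : ∀ (k' : ℕ) (G' X' : Matrix (Fin k') (Fin k') F), G'.det ≠ 0 →
      X'ᵀ * G' * X' = G' → X' ^ r = 1 → (X' - 1).det ≠ 0 → 1 ≤ k' → 2 * m ≤ k' :=
    fun k' G' X' a b c d e => two_mul_le_of_isometry_of_ppd p hr hr2 (by omega) hord G' X' a b c d e
  have h4 := Cfsg.Agent.Lib.Helper99.OrthSplit.eq_one_or_neg_one_of_commute_of_ppd_aux h2F hk₂4
    hblock G₂ X hG₂s hG₂d hXiso hXr hX1 (A₂ ^ (p * M / 2))
    (by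
      rw [← pow_add, hhalf, ← two_mul, ← mul_assoc, mul_comm 2 p, mul_assoc, ← hM']
      exact hAN.2)
    (by rw [hXdef, ← pow_add, ← pow_add, add_comm])
    (isometry_pow G₂ A₂ hA₂iso _)
  -- determinants
  have hzdet : (A ^ (p * M / 2)).det = 1 := by rw [Matrix.det_pow, hAdet, one_pow]
  have hTz := hTpow (p * M / 2)
  have hdetz : (A₁ ^ (p * M / 2)).det * (A₂ ^ (p * M / 2)).det = 1 := by
    rw [← Matrix.det_fromBlocks_zero₂₁, ← hTz, Matrix.det_conj_of_mul_eq_one hTT' hT'T, hzdet]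
  have hhalfpos : 0 < p * M / 2 := by
    rw [hhalf]
    exact Nat.mul_pos hpp.pos hM'odd.pos
  have hhalflt : p * M / 2 < N := by
    rw [hNdef]
    exact Nat.div_lt_self hN0 (by norm_num)
  have hdetneg : ∀ k : ℕ, Even k → ((-1 : Matrix (Fin k) (Fin k) F)).det = 1 := by
    intro k hk
    rw [Matrix.det_neg, Matrix.det_one, Fintype.card_fin, hk.neg_one_pow, one_mul]
  have hk₂even : Even k₂ := by rw [hk₂]; exact even_two_mul m
  rcases h3 with h3 | h3
  · rcases h4 with h4 | h4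
    · have h5 := (hpow1 (p * M / 2)).mpr ⟨h3, h4⟩
      have h6 := (hA1 _).mp h5
      exact absurd (Nat.le_of_dvd hhalfpos h6) (by omega)
    · -- the main case
      have hzm : (((g ^ (p * M / 2) : ↥(Cfsg.isometryGroup F ⇑Q)) : Matrix.GeneralLinearGroup ι F) :
          Matrix ι ι F) = T' * (fromBlocks 1 0 0 (-1) :
            Matrix (Fin 3 ⊕ Fin k₂) (Fin 3 ⊕ Fin k₂) F) * T := by
        rw [← hApow, ← conj_eq_iff T T' hTT' hT'T, hTz, h3, h4]
      have hsq := Cfsg.Agent.Lib.Helper39.S2362Spinor.isSquare_det_of_neg_block_mem_Omega h2F Q hQ (by omega) hk₂even T T' hTT'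
        hT'T G₁ G₂ hTB (g ^ (p * M / 2)) (Subgroup.pow_mem _ hg _) hzm
      exact hnsq hsq
  · have h5 : (A₁ ^ (p * M / 2)).det = -1 := by
      rw [h3, Matrix.det_neg, Matrix.det_one, Fintype.card_fin]
      norm_num
    have h6 : (A₂ ^ (p * M / 2)).det = 1 := by
      rcases h4 with h4 | h4
      · rw [h4, Matrix.det_one]
      · rw [h4]
        exact hdetneg k₂ hk₂even
    rw [h5, h6] at hdetz
    apply h2F
    linear_combination -hdetz

end main

end Cfsg.Agent.Lib.Helper40
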