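import Mathlib
import Cfsg.Agent.Lib.Helper40.OrthMainB

/-!
# Elements of order `2 r` in `Ω_{2n+1}(q)`: the spinor norm obstruction (helper40, for S2474)
-/

set_option autoImplicit false
set_option linter.unusedSectionVars false

namespace Cfsg.Agent.Lib.Helper40

open Matrix Polynomial

section bridge
variable {F : Type*} [Field F] {ι : Type} [Fintype ι] [DecidableEq ι]

/-- the matrix of an isometry, with the Gram matrix of the polar form -/
theorem isometry_matrix_props (Q : QuadraticForm F (ι → F))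
    (hQ : (QuadraticMap.polarBilin Q).Nondegenerate) (g : ↥(Cfsg.isometryGroup F ⇑Q)) :
    (LinearMap.BilinForm.toMatrix' (QuadraticMap.polarBilin Q))ᵀ =
        LinearMap.BilinForm.toMatrix' (QuadraticMap.polarBilin Q) ∧
      (LinearMap.BilinForm.toMatrix' (QuadraticMap.polarBilin Q)).det ≠ 0 ∧
      ((g : Matrix.GeneralLinearGroup ι F) : Matrix ι ι F)ᵀ *
          LinearMap.BilinForm.toMatrix' (QuadraticMap.polarBilin Q) *
          ((g : Matrix.GeneralLinearGroup ι F) : Matrix ι ι F) =
        LinearMap.BilinForm.toMatrix' (QuadraticMap.polarBilin Q) ∧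
      (∀ j : ℕ, ((g : Matrix.GeneralLinearGroup ι F) : Matrix ι ι F) ^ j =
        (((g ^ j : ↥(Cfsg.isometryGroup F ⇑Q)) : Matrix.GeneralLinearGroup ι F) : Matrix ι ι F)) ∧
      (∀ j : ℕ, ((g : Matrix.GeneralLinearGroup ι F) : Matrix ι ι F) ^ j = 1 ↔ g ^ j = 1) := by
  set A : Matrix ι ι F := ((g : Matrix.GeneralLinearGroup ι F) : Matrix ι ι F) with hAdef
  have hApow : ∀ j : ℕ, A ^ j =
      (((g ^ j : ↥(Cfsg.isometryGroup F ⇑Q)) : Matrix.GeneralLinearGroup ι F) : Matrix ι ι F) := by
    intro j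
    rw [hAdef, SubgroupClass.coe_pow, Units.val_pow_eq_pow_val]
  have hgiso : ∀ u : ι → F, Q (A *ᵥ u) = Q u :=
    (Cfsg.Agent.Lib.Helper13.mem_isometryGroup_iff (⇑Q) (g : Matrix.GeneralLinearGroup ι F)).mp g.2
  set Bf : LinearMap.BilinForm F (ι → F) := QuadraticMap.polarBilin Q with hBf
  set B : Matrix ι ι F := LinearMap.BilinForm.toMatrix' Bf with hBdef
  refine ⟨?_, ?_, ?_, hApow, ?_⟩
  · ext i j
    rw [Matrix.transpose_apply, hBdef, LinearMap.BilinForm.toMatrix'_apply,
      LinearMap.BilinForm.toMatrix'_apply]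
    exact QuadraticMap.polar_comm _ _ _
  · rw [← Matrix.nondegenerate_iff_det_ne_zero]
    exact LinearMap.BilinForm.nondegenerate_toMatrix'_iff.mpr hQ
  · have hcomp : Bf.comp (Matrix.toLin' A) (Matrix.toLin' A) = Bf := by
      refine LinearMap.ext fun x => LinearMap.ext fun y => ?_
      rw [LinearMap.BilinForm.comp_apply, Matrix.toLin'_apply, Matrix.toLin'_apply]
      exact Cfsg.Agent.Lib.Helper13.polar_mulVec_of_isometry Q A hgiso _ _
    have hM := congrArg LinearMap.BilinForm.toMatrix' hcomp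
    rw [LinearMap.BilinForm.toMatrix'_comp, LinearMap.toMatrix'_toLin'] at hM
    exact hM
  · intro j
    rw [hApow]
    constructor
    · intro h
      apply Subtype.ext
      apply Units.ext
      rw [h]
      rfl
    · intro h
      rw [h]
      rfl

theorem det_eq_one_of_mem_Omega (Q : QuadraticForm F (ι → F)) (g : ↥(Cfsg.isometryGroup F ⇑Q))
    (hg : g ∈ Cfsg.Omega F ⇑Q) :
    (((g : Matrix.GeneralLinearGroup ι F) : Matrix ι ι F)).det = 1 := by
  have h1 := Abelianization.commutator_subset_ker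
    ((Matrix.GeneralLinearGroup.det (n := ι) (R := F)).comp
      (Cfsg.isometryGroup F (⇑Q)).subtype) hg
  have := congrArg Units.val (MonoidHom.mem_ker.1 h1)
  simpa using this

end bridge

section dims
variable {F : Type*} [Field F] [Fintype F] {ι : Type*} [Fintype ι] [DecidableEq ι]

/-- an isometry of odd prime order `r ≠ p` needs dimension at least `2 η(k)` -/
theorem two_eta_le_card_of_isometry (p : ℕ) [Fact p.Prime] [CharP F p] {r : ℕ}
    (hr : r.Prime) (hr2 : r ≠ 2) (hrp : r ≠ p)
    (G X : Matrix ι ι F) (hGdet : G.det ≠ 0) (hX : Xᵀ * G * X = G)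
    (hXr : X ^ r = 1) (hXne : X ≠ 1)
    (k ηk : ℕ) (hk : orderOf ((Fintype.card F : ℕ) : ZMod r) = k)
    (hηk : (Odd k ∧ ηk = k) ∨ (Even k ∧ 2 * ηk = k)) : 2 * ηk ≤ Fintype.card ι := by
  classical
  have hpp : p.Prime := Fact.out
  have : Fact r.Prime := ⟨hr⟩
  have : CharP (AlgebraicClosure F) p :=
    charP_of_injective_algebraMap (algebraMap F (AlgebraicClosure F)).injective p
  have hrq : ¬ r ∣ Fintype.card F := by
    intro h
    obtain ⟨e, he⟩ := FiniteField.card F p
    rw [he.2] at h
    exact hrp ((Nat.prime_dvd_prime_iff_eq hr hpp).mp (hr.dvd_of_dvd_pow h))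
  have hk0 : 0 < k := by
    rw [← hk]
    exact order_pos hrq
  have hrK : (r : AlgebraicClosure F) ≠ 0 := by
    intro h0
    have h1 := (CharP.cast_eq_zero_iff (AlgebraicClosure F) p r).mp h0
    exact hrp ((Nat.prime_dvd_prime_iff_eq hpp hr).mp h1).symm
  obtain ⟨ν, hνroot, hνr, hν1⟩ := exists_root_charpoly_of_pow (K := AlgebraicClosure F) X r 1 hrK
    (by rw [one_mul]; exact hXr) (by rw [pow_one]; exact hXne)
  rw [one_mul] at hνr
  rw [pow_one] at hν1
  have hν0 : ν ≠ 0 := by
    rintro rfl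
    rw [zero_pow hr.ne_zero] at hνr
    exact zero_ne_one hνr
  have hordν : orderOf (Units.mk0 ν hν0) = r := by
    apply orderOf_eq_prime
    · apply Units.ext
      rw [Units.val_pow_eq_pow_val, Units.val_mk0, hνr, Units.val_one]
    · intro h
      apply hν1
      have := congrArg Units.val h
      rw [Units.val_mk0, Units.val_one] at this
      exact this
  obtain ⟨s, hs, hcard⟩ := exists_finset_two_eta
    {x : (AlgebraicClosure F)ˣ | aeval (x : AlgebraicClosure F) X.charpoly = 0} (Fintype.card F)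
    (by
      intro x hx
      show aeval ((x ^ Fintype.card F : (AlgebraicClosure F)ˣ) : AlgebraicClosure F) X.charpoly = 0
      rw [Units.val_pow_eq_pow_val]
      exact aeval_pow_card_eq_zero X.charpoly (x : AlgebraicClosure F) hx)
    (by
      intro x hx
      show aeval ((x⁻¹ : (AlgebraicClosure F)ˣ) : AlgebraicClosure F) X.charpoly = 0
      rw [Units.val_inv_eq_inv_val]
      exact aeval_inv_charpoly_of_isometry G X hGdet hX (x : AlgebraicClosure F) hx)
    (Units.mk0 ν hν0) (by
      show aeval ((Units.mk0 ν hν0 : (AlgebraicClosure F)ˣ) : AlgebraicClosure F) X.charpoly = 0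
      rw [Units.val_mk0]
      exact hνroot) r hr hr2 hordν k ηk hk0 hk hηk
  set Z : Finset (AlgebraicClosure F) := s.map ⟨Units.val, Units.val_injective⟩ with hZ
  have hZroot : ∀ z ∈ Z, aeval z X.charpoly = 0 := by
    intro z hz
    obtain ⟨x, hx, rfl⟩ := Finset.mem_map.mp hz
    exact (hs x hx).1
  have hZcard : Z.card = s.card := Finset.card_map _
  have h2n := card_le_of_roots_charpoly X Z hZroot
  omega

end dims

end Cfsg.Agent.Lib.Helper40
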