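import Mathlib
import Cfsg.Agent.Lib.Helper40.OrthMainB

/-!
# No element of order `2 r` in `Ω_{2n+1}(q)` when the spinor norm obstructs
(helper40, for S2474)
-/

set_option autoImplicit false
set_option linter.unusedSectionVars false

namespace Cfsg.Agent.Lib.Helper40

open Matrix Polynomial

section main
variable {F : Type*} [Field F] [Fintype F] {ι : Type} [Fintype ι] [DecidableEq ι]

/-- a `1 × 1` isometry is `±1` -/
theorem eq_one_or_neg_one_of_isometry_one (G₁ A₁ : Matrix (Fin 1) (Fin 1) F) (hG₁d : G₁.det ≠ 0)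
    (hA₁ : A₁ᵀ * G₁ * A₁ = G₁) : A₁ = 1 ∨ A₁ = -1 := by
  have hg : G₁ 0 0 ≠ 0 := by
    rw [Matrix.det_fin_one] at hG₁d
    exact hG₁d
  have h1 := congrFun (congrFun hA₁ 0) 0
  simp only [Matrix.mul_apply, Fin.sum_univ_one, Matrix.transpose_apply, Fin.isValue] at h1
  have h2 : (A₁ 0 0 - 1) * (A₁ 0 0 + 1) = 0 := by
    have h3 : G₁ 0 0 * ((A₁ 0 0 - 1) * (A₁ 0 0 + 1)) = 0 := by linear_combination h1
    exact (mul_eq_zero.mp h3).resolve_left hg
  rcases mul_eq_zero.mp h2 with h | h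
  · left
    ext i j
    rw [Subsingleton.elim i 0, Subsingleton.elim j 0, Matrix.one_apply_eq]
    linear_combination h
  · right
    ext i j
    rw [Subsingleton.elim i 0, Subsingleton.elim j 0, Matrix.neg_apply, Matrix.one_apply_eq]
    linear_combination h

theorem orderOf_ne_two_mul_prime_of_mem_Omega (p : ℕ) [Fact p.Prime] [CharP F p] (hp2 : p ≠ 2)
    (Q : QuadraticForm F (ι → F)) (hQ : (QuadraticMap.polarBilin Q).Nondegenerate)
    {n r : ℕ} (hn : 1 ≤ n) (hcard : Fintype.card ι = 2 * n + 1)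
    (hr : r.Prime) (hr2 : r ≠ 2)
    (hord : orderOf ((Fintype.card F : ℕ) : ZMod r) = 2 * n ∨
      (orderOf ((Fintype.card F : ℕ) : ZMod r) = n ∧ Odd n))
    (hA : orderOf ((Fintype.card F : ℕ) : ZMod r) = 2 * n → Fintype.card F ^ n % 4 = 1)
    (hB : orderOf ((Fintype.card F : ℕ) : ZMod r) = n → Fintype.card F ^ n % 4 = 3)
    (g : ↥(Cfsg.isometryGroup F ⇑Q)) (hg : g ∈ Cfsg.Omega F ⇑Q) : orderOf g ≠ 2 * r := by
  classical
  intro hN
  have hpp : p.Prime := Fact.out
  have h2F : (2 : F) ≠ 0 := by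
    intro h
    have h1 : ((2 : ℕ) : F) = 0 := by exact_mod_cast h
    rw [CharP.cast_eq_zero_iff F p] at h1
    exact hp2 ((Nat.prime_dvd_prime_iff_eq hpp Nat.prime_two).mp h1)
  have hk0 : 0 < orderOf ((Fintype.card F : ℕ) : ZMod r) := by
    rcases hord with h | ⟨h, -⟩ <;> omega
  have hrq : ¬ r ∣ Fintype.card F := not_dvd_card_of_orderOf_pos hr hk0
  have hrp : r ≠ p := by
    rintro rfl
    obtain ⟨e, -, he⟩ := FiniteField.card F r
    apply hrq
    rw [he]
    exact dvd_pow_self r e.ne_zero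
  have hrF : (r : F) ≠ 0 := by
    intro h0
    have h1 := (CharP.cast_eq_zero_iff F p r).mp h0
    exact hrp ((Nat.prime_dvd_prime_iff_eq hpp hr).mp h1).symm
  have hr3 : 3 ≤ r := by
    have := hr.two_le
    omega
  have hrodd : Odd r := hr.odd_of_ne_two hr2
  set N := 2 * r with hNdef
  have hN0 : 0 < N := by omega
  have hNr : N / r = 2 := by
    rw [hNdef, Nat.mul_div_cancel _ hr.pos]
  -- the matrix of `g`
  set A : Matrix ι ι F := ((g : Matrix.GeneralLinearGroup ι F) : Matrix ι ι F) with hAdef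
  have hApow : ∀ j : ℕ, A ^ j =
      (((g ^ j : ↥(Cfsg.isometryGroup F ⇑Q)) : Matrix.GeneralLinearGroup ι F) : Matrix ι ι F) := by
    intro j
    rw [hAdef, SubgroupClass.coe_pow, Units.val_pow_eq_pow_val]
  have hA1 : ∀ j : ℕ, A ^ j = 1 ↔ N ∣ j := by
    intro j
    rw [← hN, orderOf_dvd_iff_pow_eq_one, hApow]
    constructor
    · intro h
      apply Subtype.ext
      apply Units.ext
      rw [h]
      rfl
    · intro h
      rw [h]
      rfl
  have hgiso : ∀ u : ι → F, Q (A *ᵥ u) = Q u :=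
    (Cfsg.Agent.Lib.Helper13.mem_isometryGroup_iff (⇑Q) (g : Matrix.GeneralLinearGroup ι F)).mp g.2
  set Bf : LinearMap.BilinForm F (ι → F) := QuadraticMap.polarBilin Q with hBf
  set B : Matrix ι ι F := LinearMap.BilinForm.toMatrix' Bf with hBdef
  have hBdet : B.det ≠ 0 := by
    rw [← Matrix.nondegenerate_iff_det_ne_zero]
    exact LinearMap.BilinForm.nondegenerate_toMatrix'_iff.mpr hQ
  have hBs : Bᵀ = B := by
    ext i j
    rw [Matrix.transpose_apply, hBdef, LinearMap.BilinForm.toMatrix'_apply,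
      LinearMap.BilinForm.toMatrix'_apply]
    exact QuadraticMap.polar_comm _ _ _
  have hAiso : Aᵀ * B * A = B := by
    have hcomp : Bf.comp (Matrix.toLin' A) (Matrix.toLin' A) = Bf := by
      refine LinearMap.ext fun x => LinearMap.ext fun y => ?_
      rw [LinearMap.BilinForm.comp_apply, Matrix.toLin'_apply, Matrix.toLin'_apply]
      exact Cfsg.Agent.Lib.Helper13.polar_mulVec_of_isometry Q A hgiso _ _
    have hM := congrArg LinearMap.BilinForm.toMatrix' hcomp
    rw [LinearMap.BilinForm.toMatrix'_comp, LinearMap.toMatrix'_toLin'] at hM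
    exact hM
  have hAdet : A.det = 1 := by
    have h1 := Abelianization.commutator_subset_ker
      ((Matrix.GeneralLinearGroup.det (n := ι) (R := F)).comp
        (Cfsg.isometryGroup F (⇑Q)).subtype) hg
    have := congrArg Units.val (MonoidHom.mem_ker.1 h1)
    simpa using this
  -- the element of order `r` and its averaging idempotent
  set x := A ^ 2 with hxdef
  have hxr : x ^ r = 1 := by
    rw [hxdef, ← pow_mul]
    exact (hA1 N).mpr dvd_rfl
  have hx1 : x ≠ 1 := by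
    intro h
    have h1 := (hA1 2).mp h
    exact absurd (Nat.le_of_dvd (by norm_num) h1) (by omega)
  have hxiso : xᵀ * B * x = B := isometry_pow B A hAiso _
  obtain ⟨e, hee, hxe, heB, hre, hecomm⟩ := avg_idem_props B x hxiso r hrF hxr
  have hAe : A * e = e * A := by
    apply hecomm
    rw [hxdef, ← pow_succ', ← pow_succ]
  -- the splitting
  obtain ⟨k₁, k₂, T, T', G₁, G₂, hk, hTT', hT'T, hTe, hTB, hG₁s, hG₂s, hG₁d, hG₂d, hblk⟩ :=
    Cfsg.Agent.Lib.Helper99.OrthSplit.exists_orth_split B e hBs hBdet hee heB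
  obtain ⟨A₁, A₂, hTA, hAiso'⟩ := hblk A hAe
  obtain ⟨hA₁iso, hA₂iso⟩ := hAiso' hAiso
  have hTpow : ∀ j : ℕ, T * A ^ j * T' = fromBlocks (A₁ ^ j) 0 0 (A₂ ^ j) := by
    intro j
    rw [conj_pow_of_inv T T' hTT' hT'T, hTA, fromBlocks_diag_pow]
  have hpow1 : ∀ j : ℕ, A ^ j = 1 ↔ (A₁ ^ j = 1 ∧ A₂ ^ j = 1) := by
    intro j
    constructor
    · intro h
      have h1 := hTpow j
      rw [h, Matrix.mul_one, hTT', ← fromBlocks_one, fromBlocks_inj] at h1
      exact ⟨h1.1.symm, h1.2.2.2.symm⟩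
    · rintro ⟨h1, h2⟩
      have h3 := hTpow j
      rw [h1, h2, fromBlocks_one, conj_eq_iff T T' hTT' hT'T] at h3
      rw [h3, Matrix.mul_one, hT'T]
  have hAN : A₁ ^ N = 1 ∧ A₂ ^ N = 1 := (hpow1 N).mp ((hA1 N).mpr dvd_rfl)
  set X := A₂ ^ 2 with hXdef
  have hXr : X ^ r = 1 := by
    rw [hXdef, ← pow_mul]
    exact hAN.2
  have hTx : T * x * T' = fromBlocks (A₁ ^ 2) 0 0 X := hTpow 2
  have hx₁ : A₁ ^ 2 = 1 := by
    have h1 : T * (x * e) * T' = (T * x * T') * (T * e * T') := by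
      have h0 : (T * x * T') * (T * e * T') = T * x * (T' * T) * (e * T') := by
        simp only [Matrix.mul_assoc]
      rw [h0, hT'T, Matrix.mul_one]
      simp only [Matrix.mul_assoc]
    rw [hxe, hTe, hTx, fromBlocks_multiply, fromBlocks_inj] at h1
    simp at h1
    exact h1.symm
  have hXsum : ∑ i ∈ Finset.range r, X ^ i = 0 := by
    have h1 : T * ((r : F) • e) * T' = ∑ i ∈ Finset.range r, T * x ^ i * T' := by
      rw [hre, Matrix.mul_sum, Matrix.sum_mul]
    have h2 : ∀ i : ℕ, T * x ^ i * T' = fromBlocks ((A₁ ^ 2) ^ i) 0 0 (X ^ i) := by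
      intro i
      rw [conj_pow_of_inv T T' hTT' hT'T, hTx, fromBlocks_diag_pow]
    rw [Matrix.mul_smul, Matrix.smul_mul, hTe, Finset.sum_congr rfl (fun i _ => h2 i)] at h1
    have h4 : ∀ a b : Fin k₂, (∑ i ∈ Finset.range r, X ^ i) a b = 0 := by
      intro a b
      have := congrFun (congrFun h1 (Sum.inr a)) (Sum.inr b)
      simp only [Matrix.smul_apply, Matrix.fromBlocks_apply₂₂, Matrix.zero_apply,
        smul_zero, Matrix.sum_apply] at this
      rw [Matrix.sum_apply]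
      exact this.symm
    ext a b
    exact h4 a b
  have hX1 : (X - 1).det ≠ 0 := det_sub_one_ne_zero_of_geom_sum_eq_zero X r hrF hXsum
  have hXne : X ≠ 1 := by
    intro h
    apply hx1
    rw [hx₁, h, fromBlocks_one, conj_eq_iff T T' hTT' hT'T] at hTx
    rw [hTx, Matrix.mul_one, hT'T]
  have hk₂pos : 1 ≤ k₂ := by
    by_contra hlt
    have h0 : k₂ = 0 := by omega
    subst h0
    exact hXne (Subsingleton.elim _ _)
  have hk₂4 : k₂ < 4 * n := by omega
  have hXiso : Xᵀ * G₂ * X = G₂ := isometry_pow G₂ A₂ hA₂iso _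
  obtain ⟨hk₂, hnd, hnsq⟩ := structure_of_ppd_isometry p hp2 hr hr2 hn hord hk₂pos hk₂4 hA hB
    G₂ X hG₂s hG₂d hXiso hXr hX1
  obtain rfl : k₁ = 1 := by omega
  -- the `1 × 1` block
  have h3 : A₁ ^ r = 1 ∨ A₁ ^ r = -1 := by
    rcases eq_one_or_neg_one_of_isometry_one G₁ A₁ hG₁d hA₁iso with h | h
    · left
      rw [h, one_pow]
    · right
      rw [h, hrodd.neg_one_pow]
  -- the involution on `W`
  have hblock : ∀ (k' : ℕ) (G' X' : Matrix (Fin k') (Fin k') F), G'.det ≠ 0 →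
      X'ᵀ * G' * X' = G' → X' ^ r = 1 → (X' - 1).det ≠ 0 → 1 ≤ k' → 2 * n ≤ k' :=
    fun k' G' X' a b c d e => two_mul_le_of_isometry_of_ppd p hr hr2 hn hord G' X' a b c d e
  have h4 := Cfsg.Agent.Lib.Helper99.OrthSplit.eq_one_or_neg_one_of_commute_of_ppd_aux h2F hk₂4
    hblock G₂ X hG₂s hG₂d hXiso hXr hX1 (A₂ ^ r)
    (by
      rw [← pow_add, ← two_mul]
      exact hAN.2)
    (by rw [hXdef, ← pow_add, ← pow_add, add_comm])
    (isometry_pow G₂ A₂ hA₂iso _)
  -- determinants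
  have hzdet : (A ^ r).det = 1 := by rw [Matrix.det_pow, hAdet, one_pow]
  have hTz := hTpow r
  have hdetz : (A₁ ^ r).det * (A₂ ^ r).det = 1 := by
    rw [← Matrix.det_fromBlocks_zero₂₁, ← hTz, Matrix.det_conj_of_mul_eq_one hTT' hT'T, hzdet]
  have hdetneg : ∀ k : ℕ, Even k → ((-1 : Matrix (Fin k) (Fin k) F)).det = 1 := by
    intro k hk
    rw [Matrix.det_neg, Matrix.det_one, Fintype.card_fin, hk.neg_one_pow, one_mul]
  have hk₂even : Even k₂ := by rw [hk₂]; exact even_two_mul n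
  rcases h3 with h3 | h3
  · rcases h4 with h4 | h4
    · have h5 := (hpow1 r).mpr ⟨h3, h4⟩
      have h6 := (hA1 _).mp h5
      exact absurd (Nat.le_of_dvd hr.pos h6) (by omega)
    · -- the main case
      have hzm : (((g ^ r : ↥(Cfsg.isometryGroup F ⇑Q)) : Matrix.GeneralLinearGroup ι F) :
          Matrix ι ι F) = T' * (fromBlocks 1 0 0 (-1) :
            Matrix (Fin 1 ⊕ Fin k₂) (Fin 1 ⊕ Fin k₂) F) * T := by
        rw [← hApow, ← conj_eq_iff T T' hTT' hT'T, hTz, h3, h4]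
      have hsq := Cfsg.Agent.Lib.Helper39.S2362Spinor.isSquare_det_of_neg_block_mem_Omega h2F Q hQ
        (by omega) hk₂even T T' hTT'
        hT'T G₁ G₂ hTB (g ^ r) (Subgroup.pow_mem _ hg _) hzm
      exact hnsq hsq
  · have h5 : (A₁ ^ r).det = -1 := by
      rw [h3, Matrix.det_neg, Matrix.det_one, Fintype.card_fin]
      norm_num
    have h6 : (A₂ ^ r).det = 1 := by
      rcases h4 with h4 | h4
      · rw [h4, Matrix.det_one]
      · rw [h4]
        exact hdetneg k₂ hk₂even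
    rw [h5, h6] at hdetz
    apply h2F
    linear_combination -hdetz

end main

end Cfsg.Agent.Lib.Helper40
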