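import Mathlib
import Cfsg.Prelude.Def_Classical
import Cfsg.Agent.Lib.Helper40.OrthModel
import Cfsg.Agent.Lib.Helper40.OrthBlock
import Cfsg.Agent.Lib.Helper43.OddClass
import Cfsg.Agent.Lib.Helper13.Orth

/-!
# Transfer of an orthogonal matrix model to the standard odd form (helper40, for S2474)
-/

set_option autoImplicit false
set_option linter.unusedSectionVars false

namespace Cfsg.Agent.Lib.Helper40

open Matrix Polynomial

section transfer
variable {F : Type*} [Field F]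

/-- the polar form of a quadratic form on `ι → F` through its standard Gram matrix -/
theorem polar_eq_dotProduct_gramStd {ι : Type} [Fintype ι] [DecidableEq ι]
    (Q : QuadraticForm F (ι → F)) (x y : ι → F) :
    QuadraticMap.polar (⇑Q) x y = x ⬝ᵥ (Cfsg.Agent.Lib.Helper44.gramStd (⇑Q)) *ᵥ y := by
  have h1 : LinearMap.BilinForm.toMatrix' (QuadraticMap.polarBilin Q) =
      Cfsg.Agent.Lib.Helper44.gramStd (⇑Q) := by
    ext i j
    rw [LinearMap.BilinForm.toMatrix'_apply]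
    rfl
  rw [← h1, ← Matrix.toBilin'_apply', Matrix.toBilin'_toMatrix']
  rfl

/-- a matrix preserving the Gram matrix of the polar form preserves the quadratic form
(characteristic not 2) -/
theorem isometry_of_gramStd {ι : Type} [Fintype ι] [DecidableEq ι] (h2 : (2 : F) ≠ 0)
    (Q : QuadraticForm F (ι → F)) (A : Matrix ι ι F)
    (hA : Aᵀ * Cfsg.Agent.Lib.Helper44.gramStd (⇑Q) * A = Cfsg.Agent.Lib.Helper44.gramStd (⇑Q))
    (u : ι → F) : Q (A *ᵥ u) = Q u := by
  have hself : ∀ x : ι → F, Q x = 2⁻¹ * QuadraticMap.polar (⇑Q) x x := by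
    intro x
    rw [QuadraticMap.polar_self]
    have h3 : (2 : ℕ) • Q x = 2 * Q x := by rw [two_nsmul, two_mul]
    rw [h3, ← mul_assoc, inv_mul_cancel₀ h2, one_mul]
  rw [hself (A *ᵥ u), hself u, polar_eq_dotProduct_gramStd, polar_eq_dotProduct_gramStd]
  congr 1
  conv_rhs => rw [← hA]
  rw [← Matrix.mulVec_mulVec, ← Matrix.mulVec_mulVec, Matrix.dotProduct_mulVec u Aᵀ,
    Matrix.vecMul_transpose]

end transfer

/-- MODULE TRANSFER: an orthogonal model in dimension `2n+1` gives an isometry of the standard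
odd quadratic form with the same order. -/
theorem exists_isometry_of_orthModel {F : Type*} [Field F] [Fintype F] (h2 : (2 : F) ≠ 0)
    (n N : ℕ) (h : OrthModel F (2 * n + 1) N) :
    ∃ g : ↥(Cfsg.isometryGroup F (Cfsg.quadFormOdd n F)), orderOf g = N := by
  classical
  obtain ⟨B₀, M₀, hB₀s, hB₀det, hM₀, hord₀⟩ := h
  have hcard : Fintype.card (Fin (2 * n + 1)) = Fintype.card (Unit ⊕ (Fin n ⊕ Fin n)) := by
    simp only [Fintype.card_fin, Fintype.card_sum, Fintype.card_unit]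
    ring
  let e : Fin (2 * n + 1) ≃ Unit ⊕ (Fin n ⊕ Fin n) := Fintype.equivOfCardEq hcard
  set B : Matrix (Unit ⊕ (Fin n ⊕ Fin n)) (Unit ⊕ (Fin n ⊕ Fin n)) F := Matrix.reindex e e B₀
    with hBdef
  set M : Matrix (Unit ⊕ (Fin n ⊕ Fin n)) (Unit ⊕ (Fin n ⊕ Fin n)) F := Matrix.reindex e e M₀
    with hMdef
  have hBs : Bᵀ = B := by
    ext i j
    simp only [hBdef, Matrix.reindex_apply, Matrix.submatrix_apply, Matrix.transpose_apply]
    exact congrFun (congrFun hB₀s (e.symm i)) (e.symm j)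
  have hBdet : B.det ≠ 0 := by
    rw [hBdef, Matrix.det_reindex_self]
    exact hB₀det
  have hM : Mᵀ * B * M = B := by
    have h1 : (Matrix.reindex e e M₀)ᵀ = Matrix.reindex e e M₀ᵀ := by
      ext i j
      simp [Matrix.reindex_apply]
    rw [hMdef, hBdef, h1, Matrix.reindex_apply, Matrix.reindex_apply, Matrix.reindex_apply,
      Matrix.submatrix_mul_equiv, Matrix.submatrix_mul_equiv, hM₀]
  have hord : orderOf M = N := by
    rw [← hord₀]
    exact orderOf_injective (Matrix.reindexAlgEquiv F F e).toRingEquiv.toMonoidHom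
      (Matrix.reindexAlgEquiv F F e).injective M₀
  -- classification of the form
  obtain ⟨C, d, hd0, hC⟩ := Cfsg.Agent.Lib.Helper43.exists_congr_oddGram (m := n) h2 B hBs hBdet
  set G : Matrix (Unit ⊕ (Fin n ⊕ Fin n)) (Unit ⊕ (Fin n ⊕ Fin n)) F :=
    Cfsg.Agent.Lib.Helper43.oddGram n F with hGdef
  have hGgram : Cfsg.Agent.Lib.Helper44.gramStd (⇑(Cfsg.Agent.Lib.Helper44.oddQF n F)) = G := by
    rw [Cfsg.Agent.Lib.Helper44.oddQF_coe]
    exact Cfsg.Agent.Lib.Helper43.gramStd_quadFormOdd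
  have hGdet : G.det ≠ 0 := by
    rw [← hGgram]
    exact (Cfsg.Agent.Lib.Helper44.nondeg_iff_gramStd_det_ne_zero
      (Cfsg.Agent.Lib.Helper44.oddQF n F)).mp (Cfsg.Agent.Lib.Helper44.oddQF_nondeg n F h2)
  have hCdet : C.det ≠ 0 := by
    intro h0
    have h1 := congrArg Matrix.det hC
    rw [Matrix.det_mul, Matrix.det_mul, h0, mul_zero, Matrix.det_smul] at h1
    exact mul_ne_zero (pow_ne_zero _ hd0) hGdet h1.symm
  have hCu : IsUnit C.det := isUnit_iff_ne_zero.mpr hCdet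
  have hCC' : C * C⁻¹ = 1 := Matrix.mul_nonsing_inv C hCu
  have hC'C : C⁻¹ * C = 1 := Matrix.nonsing_inv_mul C hCu
  set A : Matrix (Unit ⊕ (Fin n ⊕ Fin n)) (Unit ⊕ (Fin n ⊕ Fin n)) F := C⁻¹ * M * C with hAdef
  have hApow : ∀ j : ℕ, A ^ j = C⁻¹ * M ^ j * C := by
    intro j
    rw [hAdef]
    exact (conj_pow_of_inv C⁻¹ C hC'C hCC' M j).symm
  have hAone : ∀ j : ℕ, A ^ j = 1 ↔ M ^ j = 1 := by
    intro j
    rw [hApow]
    constructor
    · intro h
      have h1 : C * (C⁻¹ * M ^ j * C) * C⁻¹ = C * 1 * C⁻¹ := by rw [h]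
      rw [Matrix.mul_one, hCC'] at h1
      rw [← h1]
      have h3 : C * (C⁻¹ * M ^ j * C) * C⁻¹ = (C * C⁻¹) * M ^ j * (C * C⁻¹) := by
        simp only [Matrix.mul_assoc]
      rw [h3, hCC', Matrix.one_mul, Matrix.mul_one]
    · intro h
      rw [h, Matrix.mul_one, hC'C]
  have hAG : Aᵀ * G * A = G := by
    have h1 : d • (Aᵀ * G * A) = d • G := by
      have hT : (C⁻¹ * M * C)ᵀ = Cᵀ * Mᵀ * (C⁻¹)ᵀ := by
        rw [Matrix.transpose_mul, Matrix.transpose_mul, Matrix.mul_assoc]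
      have hT2 : (C⁻¹)ᵀ * Cᵀ = 1 := by
        rw [← Matrix.transpose_mul, hCC', Matrix.transpose_one]
      calc d • (Aᵀ * G * A) = Aᵀ * (d • G) * A := by
            rw [Matrix.mul_smul, Matrix.smul_mul]
        _ = (C⁻¹ * M * C)ᵀ * (Cᵀ * B * C) * (C⁻¹ * M * C) := by rw [← hC]
        _ = Cᵀ * Mᵀ * ((C⁻¹)ᵀ * Cᵀ) * B * (C * C⁻¹) * M * C := by
            rw [hT]; simp only [Matrix.mul_assoc]
        _ = Cᵀ * (Mᵀ * B * M) * C := by
            rw [hT2, hCC']; simp only [Matrix.mul_assoc, Matrix.mul_one]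
        _ = Cᵀ * B * C := by rw [hM]
        _ = d • G := hC
    have h3 := congrArg (fun X => d⁻¹ • X) h1
    simp only [smul_smul, inv_mul_cancel₀ hd0, one_smul] at h3
    exact h3
  have hAdet : A.det ≠ 0 := by
    rw [hAdef, Matrix.det_mul, Matrix.det_mul]
    have hMu : IsUnit M.det := isUnit_det_of_isometry B M hBdet hM
    refine mul_ne_zero (mul_ne_zero ?_ hMu.ne_zero) hCdet
    intro h0
    have := congrArg Matrix.det hC'C
    rw [Matrix.det_mul, h0, zero_mul, Matrix.det_one] at this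
    exact zero_ne_one this
  set gGL : Matrix.GeneralLinearGroup (Unit ⊕ (Fin n ⊕ Fin n)) F :=
    Matrix.GeneralLinearGroup.mkOfDetNeZero A hAdet with hgGL
  have hgval : (gGL : Matrix (Unit ⊕ (Fin n ⊕ Fin n)) (Unit ⊕ (Fin n ⊕ Fin n)) F) = A := rfl
  have hmem : gGL ∈ Cfsg.isometryGroup F (Cfsg.quadFormOdd n F) := by
    rw [Cfsg.Agent.Lib.Helper13.mem_isometryGroup_iff]
    intro u
    rw [hgval, ← Cfsg.Agent.Lib.Helper44.oddQF_coe]
    exact isometry_of_gramStd h2 (Cfsg.Agent.Lib.Helper44.oddQF n F) A (by rw [hGgram]; exact hAG) u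
  refine ⟨⟨gGL, hmem⟩, ?_⟩
  rw [← hord]
  rw [orderOf_eq_orderOf_iff]
  intro j
  rw [← hAone j]
  constructor
  · intro h
    have h1 := congrArg (fun x : ↥(Cfsg.isometryGroup F (Cfsg.quadFormOdd n F)) =>
      ((x : Matrix.GeneralLinearGroup (Unit ⊕ (Fin n ⊕ Fin n)) F) :
        Matrix (Unit ⊕ (Fin n ⊕ Fin n)) (Unit ⊕ (Fin n ⊕ Fin n)) F)) h
    simp only [SubgroupClass.coe_pow, Units.val_pow_eq_pow_val, OneMemClass.coe_one,
      Units.val_one] at h1
    exact h1
  · intro h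
    apply Subtype.ext
    apply Units.ext
    rw [SubgroupClass.coe_pow, Units.val_pow_eq_pow_val]
    exact h

end Cfsg.Agent.Lib.Helper40
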