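import Mathlib
import Cfsg.Agent.Lib.Helper13.SympSplit
import Cfsg.Agent.Lib.Helper40.PSLOrders

/-!
# The Coxeter torus of `Sp_{2m}(q)` (helper40)

`exists_orderOf_Sp_of_dvd_pow_add_one`: `Sp_{2m}(q)` has an element of every order dividing
`q ^ m + 1`: multiplication by an element of norm one of `E = F_{q^{2m}}` preserves the
alternating form `Tr_{E/F}(θ x y^{q^m})`, where `θ^{q^m} = -θ`.
-/

set_option autoImplicit false
set_option linter.unusedSectionVars false

namespace Cfsg.Agent.Lib.Helper40

open Matrix Module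

section torus

theorem pow_natCard_eq {K : Type*} [Field K] [Finite K] (x : K) : x ^ Nat.card K = x := by
  have := Fintype.ofFinite K
  rw [← Fintype.card_eq_nat_card]
  exact FiniteField.pow_card x

theorem sq_sub_one_eq (Q : ℕ) (hQ : 1 ≤ Q) : Q * Q - 1 = (Q - 1) * (Q + 1) := by
  obtain ⟨Q', rfl⟩ := Nat.exists_eq_add_of_le hQ
  rw [Nat.add_sub_cancel_left]
  have : (1 + Q') * (1 + Q') = Q' * (1 + Q' + 1) + 1 := by ring
  rw [this, Nat.add_sub_cancel]

variable {F : Type*} [Field F] [Fintype F]

/-- the trace of an element negated by the involution `x ↦ x ^ (q ^ m)` of `F_{q^{2m}}` vanishes -/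
theorem trace_eq_zero_of_pow_eq_neg {K : Type*} [Field K] [Finite K] [Algebra F K] (p : ℕ)
    [Fact p.Prime] [CharP F p] (m : ℕ) (hfr : finrank F K = m + m) (w : K)
    (hw : w ^ (Fintype.card F ^ m) = -w) : Algebra.trace F K w = 0 := by
  have : CharP K p := charP_of_injective_algebraMap (algebraMap F K).injective p
  obtain ⟨e, hep, heq⟩ := FiniteField.card F p
  apply (algebraMap F K).injective
  rw [map_zero, FiniteField.algebraMap_trace_eq_sum_pow, hfr, Finset.sum_range_add,
    ← Finset.sum_add_distrib]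
  apply Finset.sum_eq_zero
  intro i _
  rw [Nat.card_eq_fintype_card, pow_add, pow_mul, hw, neg_pow, heq, ← pow_mul,
    neg_one_pow_char_pow, neg_one_mul, add_neg_cancel]

/-- `Sp_{2m}(q)` contains elements of every order dividing `q ^ m + 1` -/
theorem exists_orderOf_Sp_of_dvd_pow_add_one (p : ℕ) [Fact p.Prime] [CharP F p] (m : ℕ)
    (hm : 1 ≤ m) (d : ℕ) (hd : d ∣ Fintype.card F ^ m + 1) :
    ∃ g : Matrix.symplecticGroup (Fin m) F, orderOf g = d := by
  classical
  have hpp : p.Prime := Fact.out
  have : NeZero (2 * m) := ⟨by omega⟩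
  obtain ⟨e, hep, heq⟩ := FiniteField.card F p
  have hq2 : 2 ≤ Fintype.card F := Fintype.one_lt_card
  have hfr : finrank F (FiniteField.Extension F p (2 * m)) = 2 * m :=
    FiniteField.finrank_extension F p (2 * m)
  have : CharP (FiniteField.Extension F p (2 * m)) p :=
    charP_of_injective_algebraMap (algebraMap F (FiniteField.Extension F p (2 * m))).injective p
  have hcardE : Nat.card (FiniteField.Extension F p (2 * m)) = Fintype.card F ^ (2 * m) := by
    rw [FiniteField.natCard_extension, Nat.card_eq_fintype_card]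
  obtain ⟨Q, hQ⟩ : ∃ Q : ℕ, Q = Fintype.card F ^ m := ⟨_, rfl⟩
  have hQp : Q = p ^ ((e : ℕ) * m) := by rw [hQ, heq, pow_mul]
  have hQ1 : 1 ≤ Q := by rw [hQ]; exact Nat.one_le_pow _ _ (by omega)
  have hQ2 : 2 ≤ Q := by
    rw [hQ]
    calc 2 ≤ Fintype.card F := hq2
      _ = Fintype.card F ^ 1 := (pow_one _).symm
      _ ≤ Fintype.card F ^ m := Nat.pow_le_pow_right (by omega) hm
  have hQsq : Fintype.card F ^ (2 * m) = Q * Q := by rw [hQ, ← pow_add, two_mul]
  have hQQ : ∀ x : FiniteField.Extension F p (2 * m), (x ^ Q) ^ Q = x := by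
    intro x
    rw [← pow_mul, ← hQsq, ← hcardE]
    exact pow_natCard_eq x
  have hQadd : ∀ x y : FiniteField.Extension F p (2 * m), (x + y) ^ Q = x ^ Q + y ^ Q := by
    intro x y
    rw [hQp, add_pow_char_pow]
  have hQsub : ∀ x y : FiniteField.Extension F p (2 * m), (x - y) ^ Q = x ^ Q - y ^ Q := by
    intro x y
    rw [hQp, sub_pow_char_pow]
  have hQF : ∀ a : F, (algebraMap F (FiniteField.Extension F p (2 * m)) a) ^ Q =
      algebraMap F (FiniteField.Extension F p (2 * m)) a := by
    intro a
    rw [← map_pow, hQ, FiniteField.pow_card_pow]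
  -- an element not fixed by `x ↦ x ^ Q`
  obtain ⟨u, hu⟩ := exists_orderOf_units_extension (F := F) p (2 * m)
    (Fintype.card F ^ (2 * m) - 1) dvd_rfl
  have hy : (u : FiniteField.Extension F p (2 * m)) ^ Q ≠ (u : FiniteField.Extension F p (2 * m)) := by
    intro h
    have h1 : u ^ (Q - 1) = 1 := by
      apply Units.ext
      rw [Units.val_pow_eq_pow_val, Units.val_one]
      have h2 : (u : FiniteField.Extension F p (2 * m)) ^ (Q - 1) *
          (u : FiniteField.Extension F p (2 * m)) = 1 * (u : FiniteField.Extension F p (2 * m)) := by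
        rw [← pow_succ, Nat.sub_add_cancel hQ1, h, one_mul]
      exact mul_right_cancel₀ u.ne_zero h2
    have h3 := orderOf_dvd_of_pow_eq_one h1
    rw [hu, hQsq] at h3
    have h5 := Nat.le_of_dvd (by omega) h3
    have : Q * 2 ≤ Q * Q := Nat.mul_le_mul_left Q hQ2
    omega
  obtain ⟨θ, hθ⟩ : ∃ θ : FiniteField.Extension F p (2 * m),
      θ = (u : FiniteField.Extension F p (2 * m)) - (u : FiniteField.Extension F p (2 * m)) ^ Q :=
    ⟨_, rfl⟩
  have hθ0 : θ ≠ 0 := by
    rw [hθ]
    exact sub_ne_zero.mpr (Ne.symm hy)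
  have hθQ : θ ^ Q = -θ := by
    rw [hθ, hQsub, hQQ]
    ring
  -- the form
  let B : LinearMap.BilinForm F (FiniteField.Extension F p (2 * m)) :=
    LinearMap.mk₂ F (fun x y => Algebra.trace F (FiniteField.Extension F p (2 * m)) (θ * x * y ^ Q))
      (by intro x x' y; rw [mul_add, add_mul, map_add])
      (by intro a x y; rw [mul_smul_comm, smul_mul_assoc, map_smul])
      (by intro x y y'; rw [hQadd, mul_add, map_add])
      (by intro a x y; rw [Algebra.smul_def, mul_pow, hQF, ← Algebra.smul_def, mul_smul_comm,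
        map_smul])
  have hBdef : ∀ x y, B x y =
      Algebra.trace F (FiniteField.Extension F p (2 * m)) (θ * x * y ^ Q) := fun x y => rfl
  have htr0 : ∀ w : FiniteField.Extension F p (2 * m), w ^ Q = -w →
      Algebra.trace F (FiniteField.Extension F p (2 * m)) w = 0 := by
    intro w hw
    apply trace_eq_zero_of_pow_eq_neg p m (by rw [hfr, two_mul]) w
    rw [← hQ]
    exact hw
  have hA : B.IsAlt := by
    intro x
    rw [hBdef]
    apply htr0
    rw [mul_pow, mul_pow, hθQ, hQQ]
    ring
  have hnd : ∀ x, (∀ y, B x y = 0) → x = 0 := by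
    intro x hx
    have h1 := (traceForm_nondegenerate F (FiniteField.Extension F p (2 * m))).1 (θ * x)
      (fun z => by
        rw [Algebra.traceForm_apply]
        have := hx (z ^ Q)
        rw [hBdef, hQQ] at this
        exact this)
    rcases mul_eq_zero.mp h1 with h | h
    · exact absurd h hθ0
    · exact h
  obtain ⟨ι, hι⟩ := Cfsg.Agent.Lib.Helper13.exists_symp_coords B hA hnd m hfr
  -- the element
  have hd' : d ∣ Fintype.card F ^ (2 * m) - 1 := by
    rw [hQsq, sq_sub_one_eq Q hQ1]
    rw [← hQ] at hd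
    exact Dvd.dvd.mul_left hd _
  obtain ⟨c, hc⟩ := exists_orderOf_units_extension (F := F) p (2 * m) d hd'
  have hcQ : (c : FiniteField.Extension F p (2 * m)) *
      (c : FiniteField.Extension F p (2 * m)) ^ Q = 1 := by
    have h1 : c ^ (Q + 1) = 1 := by
      apply orderOf_dvd_iff_pow_eq_one.mp
      rw [hc, hQ]
      exact hd
    have h2 := congrArg Units.val h1
    rw [Units.val_pow_eq_pow_val, Units.val_one, pow_succ'] at h2
    exact h2
  let b : Basis (Fin m ⊕ Fin m) F (FiniteField.Extension F p (2 * m)) := Basis.ofEquivFun ι.symm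
  have hbrepr : ∀ y : FiniteField.Extension F p (2 * m),
      (b.repr y : Fin m ⊕ Fin m → F) = ι.symm y := by
    intro y
    funext i
    exact Basis.ofEquivFun_repr_apply ι.symm y i
  obtain ⟨A, hAdef⟩ : ∃ A : Matrix (Fin m ⊕ Fin m) (Fin m ⊕ Fin m) F,
      A = Algebra.leftMulMatrix b (c : FiniteField.Extension F p (2 * m)) := ⟨_, rfl⟩
  have hAmul : ∀ a, A *ᵥ a = ι.symm ((c : FiniteField.Extension F p (2 * m)) * ι a) := by
    intro a
    have := Algebra.leftMulMatrix_mulVec_repr b (c : FiniteField.Extension F p (2 * m)) (ι a)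
    rw [hbrepr, hbrepr, LinearEquiv.symm_apply_apply, ← hAdef] at this
    exact this
  have hAmem : A ∈ symplecticGroup (Fin m) F := by
    rw [Cfsg.Agent.Lib.Helper13.mem_symplecticGroup_iff]
    intro a a'
    rw [hAmul, hAmul, ← hι, ← hι, LinearEquiv.apply_symm_apply, LinearEquiv.apply_symm_apply,
      hBdef, hBdef]
    congr 1
    rw [mul_pow]
    linear_combination (θ * ι a * (ι a') ^ Q) * hcQ
  refine ⟨⟨A, hAmem⟩, ?_⟩
  have h1 : orderOf (⟨A, hAmem⟩ : symplecticGroup (Fin m) F) = orderOf A :=
    (orderOf_injective (symplecticGroup (Fin m) F).subtype Subtype.val_injective _).symm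
  have h2 := orderOf_injective (Algebra.leftMulMatrix b).toRingHom.toMonoidHom
    (Algebra.leftMulMatrix_injective b) (c : FiniteField.Extension F p (2 * m))
  rw [h1, hAdef]
  rw [orderOf_units, hc] at h2
  exact h2

end torus

end Cfsg.Agent.Lib.Helper40
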