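import Mathlib
import Cfsg.Agent.Lib.Helper40.OrthGraphA
import Cfsg.Agent.Lib.Helper40.OrthGraphB
import Cfsg.Agent.Lib.Helper40.OrthTransfer
import Cfsg.Agent.Lib.Helper40.SylowTorus
import Cfsg.Agent.Lib.Helper14.OddTransport
import Cfsg.Agent.Lib.Helper44.OddQF
import Cfsg.Agent.Lib.Helper73.OrthTorus
import Cfsg.Agent.Lib.Helper73.OrthUnip
import Cfsg.Agent.Lib.Helper89.OrthTorusMinus
import Cfsg.Agent.Lib.Helper39.OrthSq
import Cfsg.Agent.Lib.Helper43.OrthNonex1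
import Cfsg.Agent.Lib.Helper43.OrthNonex2

/-!
# The prime graph of `PΩ_{2n+1}(q)`, `q` odd: bridges and models (helper40, for S2474)
-/

set_option autoImplicit false
set_option linter.unusedSectionVars false

namespace Cfsg.Agent.Lib.Helper40

open Matrix Polynomial

section nt

theorem dvd_pow_eta_sub_one_of_odd {r : ℕ} [Fact r.Prime] {q : ℕ} (hq : 1 ≤ q) (k ηk : ℕ)
    (hk : orderOf (q : ZMod r) = k) (hη : ηk = k) : r ∣ q ^ ηk - 1 := by
  rw [dvd_pow_sub_one_iff hq, hk, hη]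

theorem dvd_pow_eta_add_one_of_even {r : ℕ} [Fact r.Prime] {q : ℕ} (hq : 1 ≤ q) (k ηk : ℕ)
    (hη1 : 1 ≤ ηk) (hk : orderOf (q : ZMod r) = k) (h2 : 2 * ηk = k) : r ∣ q ^ ηk + 1 := by
  have hu : r.Prime := Fact.out
  have h1 : r ∣ q ^ (2 * ηk) - 1 := by
    rw [dvd_pow_sub_one_iff hq, hk, h2]
  have hQ1 : 1 ≤ q ^ ηk := Nat.one_le_pow _ _ hq
  have h3 : q ^ (2 * ηk) - 1 = (q ^ ηk - 1) * (q ^ ηk + 1) := by
    rw [two_mul, pow_add]
    obtain ⟨m, hm⟩ : ∃ m, q ^ ηk = m + 1 := ⟨q ^ ηk - 1, by omega⟩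
    rw [hm, Nat.add_sub_cancel]
    apply Nat.sub_eq_of_eq_add
    ring
  rw [h3] at h1
  rcases (Nat.Prime.dvd_mul hu).mp h1 with h | h
  · exfalso
    rw [dvd_pow_sub_one_iff hq, hk] at h
    have := Nat.le_of_dvd (by omega) h
    omega
  · exact h

end nt

section models
variable {F : Type*} [Field F] [Fintype F]

/-- the cyclic torus of dimension `2 η(k)` contains an isometry of order `r` -/
theorem orthModel_torus_prime (r : ℕ) [Fact r.Prime] (k ηk : ℕ)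
    (hk : orderOf ((Fintype.card F : ℕ) : ZMod r) = k)
    (hηk : (Odd k ∧ ηk = k) ∨ (Even k ∧ 2 * ηk = k)) (hη1 : 1 ≤ ηk) :
    OrthModel F (2 * ηk) r := by
  rcases hηk with ⟨_, h⟩ | ⟨_, h⟩
  · exact Cfsg.Agent.Lib.Helper73.OrthTorus.orthModel_torus_plus ηk hη1 r
      (dvd_pow_eta_sub_one_of_odd Fintype.card_pos k ηk hk h)
  · exact Cfsg.Agent.Lib.Helper89.OrthTorusMinus.orthModel_torus_minus ηk hη1 r
      (dvd_pow_eta_add_one_of_even Fintype.card_pos k ηk hη1 hk h)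

/-- the cyclic torus of dimension `2 η(l)` contains an isometry of order `r s` if `l / k` is an
odd integer -/
theorem orthModel_torus_mul (r s : ℕ) [Fact r.Prime] [Fact s.Prime] (hrs : r ≠ s)
    (k l ηk ηl : ℕ) (hk0 : 0 < k) (hk : orderOf ((Fintype.card F : ℕ) : ZMod r) = k)
    (hl : orderOf ((Fintype.card F : ℕ) : ZMod s) = l)
    (hηk : (Odd k ∧ ηk = k) ∨ (Even k ∧ 2 * ηk = k))
    (hηl : (Odd l ∧ ηl = l) ∨ (Even l ∧ 2 * ηl = l)) (t : ℕ) (ht : Odd t) (hlt : l = k * t) :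
    OrthModel F (2 * ηl) (r * s) := by
  have hr : r.Prime := Fact.out
  have hs : s.Prime := Fact.out
  have hq1 : 1 ≤ Fintype.card F := Fintype.card_pos
  have hcop : r.Coprime s := (Nat.coprime_primes hr hs).mpr hrs
  have hl0 : 0 < l := by
    rw [hlt]
    exact Nat.mul_pos hk0 ht.pos
  rcases hηl with ⟨hlodd, hηl⟩ | ⟨hleven, hηl⟩
  · rw [hηl]
    apply Cfsg.Agent.Lib.Helper73.OrthTorus.orthModel_torus_plus l hl0
    apply Nat.Coprime.mul_dvd_of_dvd_of_dvd hcop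
    · rw [dvd_pow_sub_one_iff hq1, hk, hlt]
      exact Dvd.intro _ rfl
    · rw [dvd_pow_sub_one_iff hq1, hl]
  · have hkeven : Even k := by
      rw [hlt, Nat.even_mul] at hleven
      rcases hleven with h | h
      · exact h
      · exact absurd h (Nat.not_even_iff_odd.mpr ht)
    have h2k : 2 * ηk = k := by
      rcases hηk with ⟨ho, _⟩ | ⟨_, h⟩
      · exact absurd hkeven (Nat.not_even_iff_odd.mpr ho)
      · exact h
    have hηl1 : 1 ≤ ηl := by omega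
    have hηk1 : 1 ≤ ηk := by omega
    have hηlt : ηl = ηk * t := by
      have : 2 * ηl = 2 * (ηk * t) := by rw [hηl, hlt, ← h2k]; ring
      omega
    apply Cfsg.Agent.Lib.Helper89.OrthTorusMinus.orthModel_torus_minus ηl hηl1
    apply Nat.Coprime.mul_dvd_of_dvd_of_dvd hcop
    · have h1 := dvd_pow_eta_add_one_of_even hq1 k ηk hηk1 hk h2k
      refine h1.trans ?_
      rw [hηlt, pow_mul]
      have := Odd.nat_add_dvd_pow_add_pow (Fintype.card F ^ ηk) 1 ht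
      rw [one_pow] at this
      exact this
    · exact dvd_pow_eta_add_one_of_even hq1 l ηl hηl1 hl hηl

/-- the cyclic torus of dimension `2 η(k)` contains an isometry of order `4 r` under the
congruence condition -/
theorem orthModel_torus_four_mul (r : ℕ) [Fact r.Prime] (hr2 : r ≠ 2) (k ηk : ℕ)
    (hk : orderOf ((Fintype.card F : ℕ) : ZMod r) = k)
    (hηk : (Odd k ∧ ηk = k) ∨ (Even k ∧ 2 * ηk = k)) (hη1 : 1 ≤ ηk)
    (h4 : (Even k ∧ 4 ∣ Fintype.card F ^ ηk + 1) ∨ (Odd k ∧ 4 ∣ Fintype.card F ^ ηk - 1)) :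
    OrthModel F (2 * ηk) (4 * r) := by
  have hr : r.Prime := Fact.out
  have hq1 : 1 ≤ Fintype.card F := Fintype.card_pos
  have hcop : Nat.Coprime 4 r := by
    have h1 : Nat.Coprime 2 r := (Nat.coprime_primes Nat.prime_two hr).mpr (Ne.symm hr2)
    exact Nat.Coprime.pow_left 2 h1
  rcases h4 with ⟨hev, h4⟩ | ⟨hodd, h4⟩
  · have h2k : 2 * ηk = k := by
      rcases hηk with ⟨ho, _⟩ | ⟨_, h⟩
      · exact absurd hev (Nat.not_even_iff_odd.mpr ho)
      · exact h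
    apply Cfsg.Agent.Lib.Helper89.OrthTorusMinus.orthModel_torus_minus ηk hη1
    exact Nat.Coprime.mul_dvd_of_dvd_of_dvd hcop h4
      (dvd_pow_eta_add_one_of_even hq1 k ηk hη1 hk h2k)
  · have hkk : ηk = k := by
      rcases hηk with ⟨_, h⟩ | ⟨he, _⟩
      · exact h
      · exact absurd he (Nat.not_even_iff_odd.mpr hodd)
    apply Cfsg.Agent.Lib.Helper73.OrthTorus.orthModel_torus_plus ηk hη1
    exact Nat.Coprime.mul_dvd_of_dvd_of_dvd hcop h4
      (dvd_pow_eta_sub_one_of_odd hq1 k ηk hk hkk)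

end models

section bridge
variable {F : Type*} [Field F] [Fintype F]

theorem mk_POmega_odd_injective (h2 : (2 : F) ≠ 0) (n : ℕ) (hn : 2 ≤ n) :
    Function.Injective
      (QuotientGroup.mk' (Subgroup.center ↥(Cfsg.Omega F (Cfsg.quadFormOdd n F)))) := by
  rw [← MonoidHom.ker_eq_bot_iff, QuotientGroup.ker_mk',
    Cfsg.Agent.Lib.Helper14.center_Omega_quadFormOdd n F h2 hn]

/-- element orders of `PΩ_{2n+1}(q)` are the orders of the elements of `Ω` -/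
theorem mem_range_orderOf_POmega_odd_iff (h2 : (2 : F) ≠ 0) (n : ℕ) (hn : 2 ≤ n) (N : ℕ) :
    N ∈ Set.range (orderOf : Cfsg.POmega F (Cfsg.quadFormOdd n F) → ℕ) ↔
      ∃ g : ↥(Cfsg.isometryGroup F (Cfsg.quadFormOdd n F)),
        g ∈ Cfsg.Omega F (Cfsg.quadFormOdd n F) ∧ orderOf g = N := by
  have hinj := mk_POmega_odd_injective h2 n hn
  constructor
  · rintro ⟨y, hy⟩
    obtain ⟨g, rfl⟩ := QuotientGroup.mk_surjective y
    refine ⟨(g : ↥(Cfsg.isometryGroup F (Cfsg.quadFormOdd n F))), g.2, ?_⟩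
    rw [← hy, Subgroup.orderOf_coe]
    exact (orderOf_injective _ hinj g).symm
  · rintro ⟨g, hg, hN⟩
    refine ⟨QuotientGroup.mk' _ ⟨g, hg⟩, ?_⟩
    rw [orderOf_injective _ hinj, ← hN]
    exact (Subgroup.orderOf_coe (⟨g, hg⟩ : ↥(Cfsg.Omega F (Cfsg.quadFormOdd n F)))).symm

/-- a model in dimension `2n+1` gives an element of `PΩ_{2n+1}(q)` (via the square) -/
theorem mem_range_POmega_of_orthModel (h2 : (2 : F) ≠ 0) (n : ℕ) (hn : 2 ≤ n) (N : ℕ)
    (h : OrthModel F (2 * n + 1) N) :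
    N / Nat.gcd N 2 ∈ Set.range (orderOf : Cfsg.POmega F (Cfsg.quadFormOdd n F) → ℕ) := by
  obtain ⟨g, hg⟩ := exists_isometry_of_orthModel h2 n N h
  rw [mem_range_orderOf_POmega_odd_iff h2 n hn]
  refine ⟨g ^ 2, Cfsg.Agent.Lib.Helper39.OrthSq.sq_mem_Omega_quadFormOdd h2 n (by omega) g, ?_⟩
  rw [orderOf_pow' g (by norm_num), hg]

/-- matrix data of an element of `PΩ_{2n+1}(q)` of order `N` -/
theorem exists_matrix_of_mem_range_POmega_odd (h2 : (2 : F) ≠ 0) (n : ℕ) (hn : 2 ≤ n) (N : ℕ)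
    (hN : N ∈ Set.range (orderOf : Cfsg.POmega F (Cfsg.quadFormOdd n F) → ℕ)) :
    ∃ B A : Matrix (Unit ⊕ (Fin n ⊕ Fin n)) (Unit ⊕ (Fin n ⊕ Fin n)) F,
      Bᵀ = B ∧ B.det ≠ 0 ∧ Aᵀ * B * A = B ∧ ∀ j : ℕ, A ^ j = 1 ↔ N ∣ j := by
  obtain ⟨g, -, hg⟩ := (mem_range_orderOf_POmega_odd_iff h2 n hn N).mp hN
  have key : ∀ (Qf : (Unit ⊕ (Fin n ⊕ Fin n) → F) → F)
      (Q : QuadraticForm F (Unit ⊕ (Fin n ⊕ Fin n) → F)) (_ : ⇑Q = Qf)
      (_ : (QuadraticMap.polarBilin Q).Nondegenerate)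
      (g : ↥(Cfsg.isometryGroup F Qf)), orderOf g = N →
      ∃ B A : Matrix (Unit ⊕ (Fin n ⊕ Fin n)) (Unit ⊕ (Fin n ⊕ Fin n)) F,
        Bᵀ = B ∧ B.det ≠ 0 ∧ Aᵀ * B * A = B ∧ ∀ j : ℕ, A ^ j = 1 ↔ N ∣ j := by
    intro Qf Q hQf hQ g hg
    subst hQf
    obtain ⟨h1, h2', h3, -, h5⟩ := isometry_matrix_props Q hQ g
    refine ⟨_, _, h1, h2', h3, ?_⟩
    intro j
    rw [h5 j, ← hg, orderOf_dvd_iff_pow_eq_one]
  exact key _ (Cfsg.Agent.Lib.Helper44.oddQF n F) (Cfsg.Agent.Lib.Helper44.oddQF_coe n F)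
    (Cfsg.Agent.Lib.Helper44.oddQF_nondeg n F h2) g hg

/-- the spinor norm obstruction for `PΩ_{2n+1}(q)` -/
theorem two_mul_prime_not_mem_range_POmega_odd (p : ℕ) [Fact p.Prime] [CharP F p] (hp2 : p ≠ 2)
    (n : ℕ) (hn : 2 ≤ n) {r : ℕ} (hr : r.Prime) (hr2 : r ≠ 2)
    (hord : orderOf ((Fintype.card F : ℕ) : ZMod r) = 2 * n ∨
      (orderOf ((Fintype.card F : ℕ) : ZMod r) = n ∧ Odd n))
    (hA : orderOf ((Fintype.card F : ℕ) : ZMod r) = 2 * n → Fintype.card F ^ n % 4 = 1)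
    (hB : orderOf ((Fintype.card F : ℕ) : ZMod r) = n → Fintype.card F ^ n % 4 = 3) :
    2 * r ∉ Set.range (orderOf : Cfsg.POmega F (Cfsg.quadFormOdd n F) → ℕ) := by
  have hpp : p.Prime := Fact.out
  have h2 : (2 : F) ≠ 0 := by
    intro h
    have h1 : ((2 : ℕ) : F) = 0 := by exact_mod_cast h
    rw [CharP.cast_eq_zero_iff F p] at h1
    exact hp2 ((Nat.prime_dvd_prime_iff_eq hpp Nat.prime_two).mp h1)
  intro hN
  obtain ⟨g, hgΩ, hg⟩ := (mem_range_orderOf_POmega_odd_iff h2 n hn _).mp hN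
  have hcardι : Fintype.card (Unit ⊕ (Fin n ⊕ Fin n)) = 2 * n + 1 := by
    simp only [Fintype.card_sum, Fintype.card_fin, Fintype.card_unit]
    ring
  have key : ∀ (Qf : (Unit ⊕ (Fin n ⊕ Fin n) → F) → F)
      (Q : QuadraticForm F (Unit ⊕ (Fin n ⊕ Fin n) → F)) (_ : ⇑Q = Qf)
      (_ : (QuadraticMap.polarBilin Q).Nondegenerate)
      (g : ↥(Cfsg.isometryGroup F Qf)) (_ : g ∈ Cfsg.Omega F Qf), orderOf g ≠ 2 * r := by
    intro Qf Q hQf hQ g hg
    subst hQf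
    exact orderOf_ne_two_mul_prime_of_mem_Omega p hp2 Q hQ (by omega) hcardι hr hr2 hord hA hB g hg
  exact key _ (Cfsg.Agent.Lib.Helper44.oddQF n F) (Cfsg.Agent.Lib.Helper44.oddQF_coe n F)
    (Cfsg.Agent.Lib.Helper44.oddQF_nondeg n F h2) g hgΩ hg

end bridge

end Cfsg.Agent.Lib.Helper40
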