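import Mathlib
import Cfsg.Agent.Lib.Helper40.OrthGraphC

/-!
# The prime graph of `PΩ_{2n+1}(q)`, `q` odd: adjacency criteria (helper40, for S2474)
-/

set_option autoImplicit false
set_option linter.unusedSectionVars false

namespace Cfsg.Agent.Lib.Helper40

open Matrix Polynomial

section main
variable {F : Type*} [Field F] [Fintype F]

theorem card_odd_index' (n : ℕ) : Fintype.card (Unit ⊕ (Fin n ⊕ Fin n)) = 2 * n + 1 := by
  simp only [Fintype.card_sum, Fintype.card_fin, Fintype.card_unit]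
  ring

theorem two_ne_zero_of_char_ne_two (p : ℕ) [Fact p.Prime] [CharP F p] (hp2 : p ≠ 2) :
    (2 : F) ≠ 0 := by
  have hpp : p.Prime := Fact.out
  intro h
  have h1 : ((2 : ℕ) : F) = 0 := by exact_mod_cast h
  rw [CharP.cast_eq_zero_iff F p] at h1
  exact hp2 ((Nat.prime_dvd_prime_iff_eq hpp Nat.prime_two).mp h1)

theorem not_dvd_card_of_ne_char (p : ℕ) [Fact p.Prime] [CharP F p] {r : ℕ} (hr : r.Prime)
    (hrp : r ≠ p) : ¬ r ∣ Fintype.card F := by
  have hpp : p.Prime := Fact.out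
  intro h
  obtain ⟨e, he⟩ := FiniteField.card F p
  rw [he.2] at h
  exact hrp ((Nat.prime_dvd_prime_iff_eq hr hpp).mp (hr.dvd_of_dvd_pow h))

/-- two odd primes different from the characteristic -/
theorem omega_graph_A (p : ℕ) [Fact p.Prime] [CharP F p] (hp2 : p ≠ 2) (n : ℕ) (hn : 2 ≤ n)
    (r s : ℕ) (hr : r.Prime) (hs : s.Prime) (hr2 : r ≠ 2) (hs2 : s ≠ 2) (hrp : r ≠ p) (hsp : s ≠ p)
    (hrs : r ≠ s)
    (k l ηk ηl : ℕ) (hk1 : orderOf ((Fintype.card F : ℕ) : ZMod r) = k)
    (hl1 : orderOf ((Fintype.card F : ℕ) : ZMod s) = l)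
    (hηk : (Odd k ∧ ηk = k) ∨ (Even k ∧ 2 * ηk = k))
    (hηl : (Odd l ∧ ηl = l) ∨ (Even l ∧ 2 * ηl = l)) (hkl : ηk ≤ ηl) :
    (r * s ∈ Set.range (orderOf : Cfsg.POmega F (Cfsg.quadFormOdd n F) → ℕ)) ↔
      (ηk + ηl ≤ n ∨ (ηl ≤ n ∧ ∃ t : ℕ, Odd t ∧ l = k * t)) := by
  classical
  have hpp : p.Prime := Fact.out
  have : Fact r.Prime := ⟨hr⟩
  have : Fact s.Prime := ⟨hs⟩
  have h2F : (2 : F) ≠ 0 := two_ne_zero_of_char_ne_two p hp2
  have hrq : ¬ r ∣ Fintype.card F := not_dvd_card_of_ne_char p hr hrp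
  have hsq : ¬ s ∣ Fintype.card F := not_dvd_card_of_ne_char p hs hsp
  have hk0 : 1 ≤ k := by
    rw [← hk1]
    exact order_pos hrq
  have hl0 : 1 ≤ l := by
    rw [← hl1]
    exact order_pos hsq
  have hrodd : Odd r := hr.odd_of_ne_two hr2
  have hsodd : Odd s := hs.odd_of_ne_two hs2
  have hcop : r.Coprime s := (Nat.coprime_primes hr hs).mpr hrs
  have hηk1 : 1 ≤ ηk := by
    rcases hηk with ⟨_, h⟩ | ⟨_, h⟩ <;> omega
  have hηl1 : 1 ≤ ηl := by
    rcases hηl with ⟨_, h⟩ | ⟨_, h⟩ <;> omega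
  have hcardι := card_odd_index' n
  have hgcd : Nat.gcd (r * s) 2 = 1 := Nat.coprime_two_right.mpr (hrodd.mul hsodd)
  constructor
  · intro hN
    obtain ⟨B, A, hBs, hBdet, hA, hA1⟩ := exists_matrix_of_mem_range_POmega_odd h2F n hn _ hN
    have hTrs : A ^ (r * s) = 1 := (hA1 _).mpr dvd_rfl
    have hTr : A ^ r ≠ 1 := by
      intro h
      have h1 := Nat.le_of_dvd hr.pos ((hA1 r).mp h)
      have := hs.two_le
      nlinarith [hr.pos]
    have hTs : A ^ s ≠ 1 := by
      intro h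
      have h1 := Nat.le_of_dvd hs.pos ((hA1 s).mp h)
      have := hr.two_le
      nlinarith [hs.pos]
    have hηln : ηl ≤ n := by
      have hX : (A ^ r)ᵀ * B * (A ^ r) = B := isometry_pow B A hA r
      have hXs : (A ^ r) ^ s = 1 := by rw [← pow_mul]; exact hTrs
      have h1 := two_eta_le_card_of_isometry p hs hs2 hsp B (A ^ r) hBdet hX hXs hTr l ηl hl1 hηl
      rw [hcardι] at h1
      omega
    rcases Cfsg.Agent.Lib.Helper43.orth_eta_add_le_or_of_order_mul p r s hr hs hr2 hs2 hrp hsp hrs (n := n)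
      (le_of_eq hcardι) B A hBdet hA hTrs hTr hTs k l ηk ηl hk1 hl1 hηk hηl hkl with h | h
    · exact Or.inl h
    · exact Or.inr ⟨hηln, h⟩
  · rintro (hsum | ⟨hηln, t, ht, hlt⟩)
    · have m1 := orthModel_torus_prime (F := F) r k ηk hk1 hηk hηk1
      have m2 := orthModel_torus_prime (F := F) s l ηl hl1 hηl hηl1
      have m3 := orthModel_pad (orthModel_sum m1 m2) (2 * n + 1) (by omega)
      have h4 := mem_range_POmega_of_orthModel h2F n hn _ m3
      rw [hcop.lcm_eq_mul, hgcd, Nat.div_one] at h4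
      exact h4
    · have m1 := orthModel_torus_mul (F := F) r s hrs k l ηk ηl (by omega) hk1 hl1 hηk hηl t ht hlt
      have m3 := orthModel_pad m1 (2 * n + 1) (by omega)
      have h4 := mem_range_POmega_of_orthModel h2F n hn _ m3
      rw [hgcd, Nat.div_one] at h4
      exact h4

/-- an odd prime different from the characteristic, and the characteristic -/
theorem omega_graph_B (p : ℕ) [Fact p.Prime] [CharP F p] (hp2 : p ≠ 2) (n : ℕ) (hn : 2 ≤ n)
    (r : ℕ) (hr : r.Prime) (hr2 : r ≠ 2) (hrp : r ≠ p)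
    (k ηk : ℕ) (hk1 : orderOf ((Fintype.card F : ℕ) : ZMod r) = k)
    (hηk : (Odd k ∧ ηk = k) ∨ (Even k ∧ 2 * ηk = k)) :
    (r * p ∈ Set.range (orderOf : Cfsg.POmega F (Cfsg.quadFormOdd n F) → ℕ)) ↔ ηk + 1 ≤ n := by
  classical
  have hpp : p.Prime := Fact.out
  have : Fact r.Prime := ⟨hr⟩
  have h2F : (2 : F) ≠ 0 := two_ne_zero_of_char_ne_two p hp2
  have hrq : ¬ r ∣ Fintype.card F := not_dvd_card_of_ne_char p hr hrp
  have hk0 : 1 ≤ k := by
    rw [← hk1]
    exact order_pos hrq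
  have hrodd : Odd r := hr.odd_of_ne_two hr2
  have hpodd : Odd p := hpp.odd_of_ne_two hp2
  have hcop : r.Coprime p := (Nat.coprime_primes hr hpp).mpr hrp
  have hηk1 : 1 ≤ ηk := by
    rcases hηk with ⟨_, h⟩ | ⟨_, h⟩ <;> omega
  have hcardι := card_odd_index' n
  have hgcd : Nat.gcd (r * p) 2 = 1 := Nat.coprime_two_right.mpr (hrodd.mul hpodd)
  constructor
  · intro hN
    obtain ⟨B, A, hBs, hBdet, hA, hA1⟩ := exists_matrix_of_mem_range_POmega_odd h2F n hn _ hN
    have hSr : (A ^ p) ^ r = 1 := by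
      rw [← pow_mul, mul_comm]
      exact (hA1 _).mpr dvd_rfl
    have hS1 : A ^ p ≠ 1 := by
      intro h
      have h1 := Nat.le_of_dvd hpp.pos ((hA1 p).mp h)
      have := hr.two_le
      nlinarith [hpp.pos]
    have hUp : (A ^ r) ^ p = 1 := by
      rw [← pow_mul]
      exact (hA1 _).mpr dvd_rfl
    have hU1 : A ^ r ≠ 1 := by
      intro h
      have h1 := Nat.le_of_dvd hr.pos ((hA1 r).mp h)
      have := hpp.two_le
      nlinarith [hr.pos]
    have hSU : A ^ p * A ^ r = A ^ r * A ^ p := by rw [← pow_add, ← pow_add, add_comm]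
    exact Cfsg.Agent.Lib.Helper43.orth_eta_succ_le_of_commuting p hp2 r hr hr2 hrp hcardι B (A ^ p) (A ^ r) hBs
      hBdet (isometry_pow B A hA p) hSr hS1 hUp hU1 hSU k ηk hk1 hηk
  · intro hle
    have m1 := orthModel_torus_prime (F := F) r k ηk hk1 hηk hηk1
    have m2 := Cfsg.Agent.Lib.Helper73.OrthTorus.orthModel_unip (F := F) p hp2
    have m3 := orthModel_pad (orthModel_sum m1 m2) (2 * n + 1) (by omega)
    have h4 := mem_range_POmega_of_orthModel h2F n hn _ m3
    rw [hcop.lcm_eq_mul, hgcd, Nat.div_one] at h4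
    exact h4

/-- the prime `2` and an odd prime different from the characteristic -/
theorem omega_graph_C (p : ℕ) [Fact p.Prime] [CharP F p] (hp2 : p ≠ 2) (n : ℕ) (hn : 2 ≤ n)
    (r : ℕ) (hr : r.Prime) (hr2 : r ≠ 2) (hrp : r ≠ p)
    (k ηk : ℕ) (hk1 : orderOf ((Fintype.card F : ℕ) : ZMod r) = k)
    (hηk : (Odd k ∧ ηk = k) ∨ (Even k ∧ 2 * ηk = k)) :
    (2 * r ∈ Set.range (orderOf : Cfsg.POmega F (Cfsg.quadFormOdd n F) → ℕ)) ↔
      (ηk + 1 ≤ n ∨ (ηk = n ∧ ((Even k ∧ 4 ∣ Fintype.card F ^ n + 1) ∨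
        (Odd k ∧ 4 ∣ Fintype.card F ^ n - 1)))) := by
  classical
  have hpp : p.Prime := Fact.out
  have : Fact r.Prime := ⟨hr⟩
  have h2F : (2 : F) ≠ 0 := two_ne_zero_of_char_ne_two p hp2
  have hrq : ¬ r ∣ Fintype.card F := not_dvd_card_of_ne_char p hr hrp
  have hk0 : 1 ≤ k := by
    rw [← hk1]
    exact order_pos hrq
  have hrodd : Odd r := hr.odd_of_ne_two hr2
  have hpodd : Odd p := hpp.odd_of_ne_two hp2
  have hqodd : Odd (Fintype.card F) := by
    obtain ⟨e, he⟩ := FiniteField.card F p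
    rw [he.2]
    exact hpodd.pow
  have hr3 : 3 ≤ r := by
    have := hr.two_le
    omega
  have hηk1 : 1 ≤ ηk := by
    rcases hηk with ⟨_, h⟩ | ⟨_, h⟩ <;> omega
  have hcardι := card_odd_index' n
  have hcop4 : r.Coprime 4 := by
    have h1 : Nat.Coprime r 2 := (Nat.coprime_primes hr Nat.prime_two).mpr hr2
    exact Nat.Coprime.pow_right 2 h1
  constructor
  · intro hN
    obtain ⟨B, A, hBs, hBdet, hA, hA1⟩ := exists_matrix_of_mem_range_POmega_odd h2F n hn _ hN
    have hXr : (A ^ 2) ^ r = 1 := by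
      rw [← pow_mul]
      exact (hA1 _).mpr dvd_rfl
    have hX1 : A ^ 2 ≠ 1 := by
      intro h
      have h1 := Nat.le_of_dvd (by norm_num) ((hA1 2).mp h)
      omega
    have hle : ηk ≤ n := by
      have h1 := two_eta_le_card_of_isometry p hr hr2 hrp B (A ^ 2) hBdet (isometry_pow B A hA 2)
        hXr hX1 k ηk hk1 hηk
      rw [hcardι] at h1
      omega
    by_cases hlt : ηk + 1 ≤ n
    · exact Or.inl hlt
    · right
      have hηn : ηk = n := by omega
      refine ⟨hηn, ?_⟩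
      by_contra hcon
      have hqn : Odd (Fintype.card F ^ n) := hqodd.pow
      have hmod : Fintype.card F ^ n % 4 = 1 ∨ Fintype.card F ^ n % 4 = 3 := by
        obtain ⟨t, ht⟩ := hqn
        omega
      rcases hηk with ⟨hodd, hkk⟩ | ⟨hev, h2k⟩
      · -- `k = n` odd
        have hkn : k = n := by omega
        have h3 : Fintype.card F ^ n % 4 = 3 := by
          rcases hmod with h | h
          · exfalso
            apply hcon
            right
            exact ⟨hodd, (Nat.modEq_iff_dvd' (Nat.one_le_pow _ _ Fintype.card_pos)).mp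
              (by rw [Nat.ModEq, h])⟩
          · exact h
        refine two_mul_prime_not_mem_range_POmega_odd p hp2 n hn hr hr2
          (Or.inr ⟨hk1.trans hkn, hkn ▸ hodd⟩) (fun h => ?_) (fun _ => h3) hN
        rw [hk1] at h
        omega
      · -- `k = 2 n`
        have hkn : k = 2 * n := by omega
        have h1 : Fintype.card F ^ n % 4 = 1 := by
          rcases hmod with h | h
          · exact h
          · exfalso
            apply hcon
            left
            refine ⟨hev, ?_⟩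
            omega
        refine two_mul_prime_not_mem_range_POmega_odd p hp2 n hn hr hr2
          (Or.inl (hk1.trans hkn)) (fun _ => h1) (fun h => ?_) hN
        rw [hk1] at h
        omega
  · rintro (hle | ⟨hηn, h4⟩)
    · have m1 := orthModel_torus_prime (F := F) r k ηk hk1 hηk hηk1
      have m2 := orthModel_four (F := F) h2F
      have m3 := orthModel_pad (orthModel_sum m1 m2) (2 * n + 1) (by omega)
      have h4 := mem_range_POmega_of_orthModel h2F n hn _ m3
      rw [hcop4.lcm_eq_mul] at h4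
      have h5 : Nat.gcd (r * 4) 2 = 2 := Nat.gcd_eq_right ⟨r * 2, by ring⟩
      rw [h5] at h4
      have h6 : r * 4 / 2 = 2 * r := by omega
      rw [h6] at h4
      exact h4
    · have m1 := orthModel_torus_four_mul (F := F) r hr2 k ηk hk1 hηk hηk1 (by rw [hηn]; exact h4)
      have m3 := orthModel_pad m1 (2 * n + 1) (by omega)
      have h4 := mem_range_POmega_of_orthModel h2F n hn _ m3
      have h5 : Nat.gcd (4 * r) 2 = 2 := Nat.gcd_eq_right ⟨2 * r, by ring⟩
      rw [h5] at h4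
      have h6 : 4 * r / 2 = 2 * r := by omega
      rw [h6] at h4
      exact h4

/-- the prime `2` and the characteristic -/
theorem omega_graph_D (p : ℕ) [Fact p.Prime] [CharP F p] (hp2 : p ≠ 2) (n : ℕ) (hn : 2 ≤ n) :
    2 * p ∈ Set.range (orderOf : Cfsg.POmega F (Cfsg.quadFormOdd n F) → ℕ) := by
  have hpp : p.Prime := Fact.out
  have h2F : (2 : F) ≠ 0 := two_ne_zero_of_char_ne_two p hp2
  have hcop4 : p.Coprime 4 := by
    have h1 : Nat.Coprime p 2 := (Nat.coprime_primes hpp Nat.prime_two).mpr hp2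
    exact Nat.Coprime.pow_right 2 h1
  have m1 := Cfsg.Agent.Lib.Helper73.OrthTorus.orthModel_unip (F := F) p hp2
  have m2 := orthModel_four (F := F) h2F
  have m3 := orthModel_pad (orthModel_sum m1 m2) (2 * n + 1) (by omega)
  have h4 := mem_range_POmega_of_orthModel h2F n hn _ m3
  rw [hcop4.lcm_eq_mul] at h4
  have h5 : Nat.gcd (p * 4) 2 = 2 := Nat.gcd_eq_right ⟨p * 2, by ring⟩
  rw [h5] at h4
  have h6 : p * 4 / 2 = 2 * p := by omega
  rw [h6] at h4
  exact h4

end main

end Cfsg.Agent.Lib.Helper40
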