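import Mathlib
import Cfsg.Agent.S0245
import Cfsg.Agent.Lib.Helper5.SpEmbed
import Cfsg.Agent.Lib.Helper37.SpSylow
import Cfsg.Agent.Lib.Helper40.PSLOrders
import Cfsg.Agent.Lib.Helper40.SpTorus

/-!
# Elements of prescribed order in `Sp_{2n}(q)` (helper40)

* `spBlockHom`: the block embedding `Sp_{2a} × Sp_{2b} → Sp_{2n}`, `a + b = n`.
* `exists_orderOf_Sp_block`: products of elements of coprime orders in the two blocks.
* `prime_dvd_card_Sp`, `char_dvd_card_Sp`, `eta_le_of_dvd_card_Sp`: primes and the order formula.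
* `exists_orderOf_Sp_of_odd_quotient`: elements of order `r * s` in a cyclic torus.
-/

set_option autoImplicit false
set_option linter.unusedSectionVars false

namespace Cfsg.Agent.Lib.Helper40

open Matrix

section block
variable {F : Type*} [Field F]

/-- the block embedding `Sp_{2a} × Sp_{2b} → Sp_{2n}` for `a + b = n` -/
noncomputable def spBlockHom {a b n : ℕ} (h : a + b = n) :
    symplecticGroup (Fin a) F × symplecticGroup (Fin b) F →* symplecticGroup (Fin n) F :=
  (Cfsg.Agent.Lib.Helper5.spReindex (R := F)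
    (finSumFinEquiv.trans (finCongr h))).toMonoidHom.comp Cfsg.Agent.Lib.Helper5.spProd

theorem spBlockHom_injective {a b n : ℕ} (h : a + b = n) :
    Function.Injective (spBlockHom (F := F) h) := by
  unfold spBlockHom
  rw [MonoidHom.coe_comp]
  exact (MulEquiv.injective _).comp Cfsg.Agent.Lib.Helper5.spProd_injective

/-- a product of elements of coprime orders of the two blocks -/
theorem exists_orderOf_Sp_block {a b n : ℕ} (h : a + b = n) (g₁ : symplecticGroup (Fin a) F)
    (g₂ : symplecticGroup (Fin b) F) (hcop : (orderOf g₁).Coprime (orderOf g₂)) :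
    ∃ g : symplecticGroup (Fin n) F, orderOf g = orderOf g₁ * orderOf g₂ := by
  refine ⟨spBlockHom h (g₁, g₂), ?_⟩
  rw [orderOf_injective _ (spBlockHom_injective h), Prod.orderOf]
  exact hcop.lcm_eq_mul

end block

section card
variable {F : Type*} [Field F] [Fintype F]

instance finite_Sp (a : ℕ) : Finite (symplecticGroup (Fin a) F) :=
  Finite.of_injective (fun g => (g : Matrix (Fin a ⊕ Fin a) (Fin a ⊕ Fin a) F))
    Subtype.val_injective

/-- an odd prime `r ≠ p` with `η(k) ≤ a` divides `|Sp_{2a}(q)|` -/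
theorem prime_dvd_card_Sp (r : ℕ) [Fact r.Prime] (a k ηk : ℕ)
    (hk : orderOf ((Fintype.card F : ℕ) : ZMod r) = k)
    (hηk : (Odd k ∧ ηk = k) ∨ (Even k ∧ 2 * ηk = k)) (hη1 : 1 ≤ ηk) (hηa : ηk ≤ a) :
    r ∣ Nat.card (symplecticGroup (Fin a) F) := by
  rw [Cfsg.Agent.S0245.result rfl a]
  apply Dvd.dvd.mul_left
  have hmem : ηk - 1 ∈ Finset.range a := Finset.mem_range.mpr (by omega)
  refine Dvd.dvd.trans ?_ (Finset.dvd_prod_of_mem _ hmem)
  rw [dvd_pow_sub_one_iff Fintype.card_pos, hk]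
  have : 2 * (ηk - 1 + 1) = 2 * ηk := by omega
  rw [this]
  rcases hηk with ⟨_, h⟩ | ⟨_, h⟩
  · rw [h]
    exact Dvd.intro_left 2 rfl
  · rw [h]

/-- the characteristic divides `|Sp_{2b}(q)|` for `b ≥ 1` -/
theorem char_dvd_card_Sp (p : ℕ) [Fact p.Prime] [CharP F p] (b : ℕ) (hb : 1 ≤ b) :
    p ∣ Nat.card (symplecticGroup (Fin b) F) := by
  rw [Cfsg.Agent.S0245.result rfl b]
  apply Dvd.dvd.mul_right
  obtain ⟨e, hep, heq⟩ := FiniteField.card F p
  have h1 : p ∣ Fintype.card F := by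
    rw [heq]
    exact dvd_pow_self p e.ne_zero
  exact h1.trans (dvd_pow_self _ (by positivity))

/-- a prime `s ≠ p` dividing `|Sp_{2n}(q)|` has `η(l) ≤ n` -/
theorem eta_le_of_dvd_card_Sp (s : ℕ) [Fact s.Prime] (hsq : ¬ s ∣ Fintype.card F) (n l ηl : ℕ)
    (hsG : s ∣ Nat.card (symplecticGroup (Fin n) F))
    (hl : orderOf ((Fintype.card F : ℕ) : ZMod s) = l)
    (hηl : (Odd l ∧ ηl = l) ∨ (Even l ∧ 2 * ηl = l)) : ηl ≤ n := by
  have hs : s.Prime := Fact.out
  rw [Cfsg.Agent.S0245.result rfl n] at hsG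
  rcases (Nat.Prime.dvd_mul hs).mp hsG with h | h
  · exact absurd (hs.dvd_of_dvd_pow h) hsq
  · obtain ⟨i, hi, hdvd⟩ := (Prime.dvd_finsetProd_iff hs.prime _).mp h
    rw [dvd_pow_sub_one_iff Fintype.card_pos, hl] at hdvd
    have hin : i + 1 ≤ n := Finset.mem_range.mp hi
    rcases hηl with ⟨hodd, h⟩ | ⟨_, h⟩
    · have h1 : l ∣ i + 1 := Nat.Coprime.dvd_of_dvd_mul_left (Nat.coprime_two_right.mpr hodd) hdvd
      have := Nat.le_of_dvd (by omega) h1
      omega
    · rw [← h] at hdvd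
      have h1 : ηl ∣ i + 1 := (Nat.mul_dvd_mul_iff_left (by norm_num)).mp hdvd
      have := Nat.le_of_dvd (by omega) h1
      omega

end card

section exist
variable {F : Type*} [Field F] [Fintype F]

/-- elements of order dividing `q ^ l - 1` in `Sp_{2l}(q)` (Levi torus) -/
theorem exists_orderOf_Sp_of_dvd_pow_sub_one (p : ℕ) [Fact p.Prime] [CharP F p] (l : ℕ)
    (hl : 1 ≤ l) (d : ℕ) (hd : d ∣ Fintype.card F ^ l - 1) :
    ∃ g : symplecticGroup (Fin l) F, orderOf g = d := by
  obtain ⟨h, hh⟩ := exists_orderOf_GL (F := F) p l l hl le_rfl d hd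
  refine ⟨Cfsg.Agent.Lib.Helper37.SpSylow.leviHom h, ?_⟩
  rw [orderOf_injective _ Cfsg.Agent.Lib.Helper37.SpSylow.leviHom_injective, hh]

/-- embedding a smaller symplectic group -/
theorem exists_orderOf_Sp_of_le {a n : ℕ} (han : a ≤ n) (g : symplecticGroup (Fin a) F) :
    ∃ g' : symplecticGroup (Fin n) F, orderOf g' = orderOf g := by
  obtain ⟨g', hg'⟩ := exists_orderOf_Sp_block (F := F) (Nat.add_sub_cancel' han) g
    (1 : symplecticGroup (Fin (n - a)) F) (by rw [orderOf_one]; exact Nat.coprime_one_right _)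
  refine ⟨g', ?_⟩
  rw [hg', orderOf_one, mul_one]

/-- an element of order `r * s` in a cyclic torus of `Sp_{2η(l)}(q)` when `l / k` is odd -/
theorem exists_orderOf_Sp_of_odd_quotient (p : ℕ) [Fact p.Prime] [CharP F p] (r s : ℕ)
    [Fact r.Prime] [Fact s.Prime] (hrs : r ≠ s)
    (k l ηk ηl : ℕ) (hk0 : 0 < k) (hk : orderOf ((Fintype.card F : ℕ) : ZMod r) = k)
    (hl : orderOf ((Fintype.card F : ℕ) : ZMod s) = l)
    (hηk : (Odd k ∧ ηk = k) ∨ (Even k ∧ 2 * ηk = k))
    (hηl : (Odd l ∧ ηl = l) ∨ (Even l ∧ 2 * ηl = l)) (t : ℕ) (ht : Odd t) (hlt : l = k * t)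
    (n : ℕ) (hηln : ηl ≤ n) : ∃ g : symplecticGroup (Fin n) F, orderOf g = r * s := by
  have hr : r.Prime := Fact.out
  have hs : s.Prime := Fact.out
  have hq1 : 1 ≤ Fintype.card F := Fintype.card_pos
  have hcop : r.Coprime s := (Nat.coprime_primes hr hs).mpr hrs
  have hl0 : 0 < l := by
    rw [hlt]
    exact Nat.mul_pos hk0 ht.pos
  suffices h : ∃ g : symplecticGroup (Fin ηl) F, orderOf g = r * s by
    obtain ⟨g, hg⟩ := h
    obtain ⟨g', hg'⟩ := exists_orderOf_Sp_of_le hηln g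
    exact ⟨g', hg'.trans hg⟩
  rcases hηl with ⟨hlodd, hηl⟩ | ⟨hleven, hηl⟩
  · -- `l` odd: Levi torus
    rw [hηl]
    apply exists_orderOf_Sp_of_dvd_pow_sub_one p l hl0
    apply Nat.Coprime.mul_dvd_of_dvd_of_dvd hcop
    · rw [dvd_pow_sub_one_iff hq1, hk, hlt]
      exact Dvd.intro _ rfl
    · rw [dvd_pow_sub_one_iff hq1, hl]
  · -- `l` even: Coxeter torus
    have hkeven : Even k := by
      rw [hlt, Nat.even_mul] at hleven
      rcases hleven with h | h
      · exact h
      · exact absurd h (Nat.not_even_iff_odd.mpr ht)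
    have h2k : 2 * ηk = k := by
      rcases hηk with ⟨ho, _⟩ | ⟨_, h⟩
      · exact absurd hkeven (Nat.not_even_iff_odd.mpr ho)
      · exact h
    have hηl1 : 1 ≤ ηl := by omega
    have hηk1 : 1 ≤ ηk := by omega
    have hηlt : ηl = ηk * t := by
      have : 2 * ηl = 2 * (ηk * t) := by rw [hηl, hlt, ← h2k]; ring
      omega
    -- a prime of order `2 η` divides `q ^ η + 1`
    have key : ∀ (u : ℕ) [Fact u.Prime] (j η : ℕ), 1 ≤ η →
        orderOf ((Fintype.card F : ℕ) : ZMod u) = j → 2 * η = j → u ∣ Fintype.card F ^ η + 1 := by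
      intro u _ j η hη1 hj h2
      have hu : u.Prime := Fact.out
      have h1 : u ∣ Fintype.card F ^ (2 * η) - 1 := by
        rw [dvd_pow_sub_one_iff hq1, hj, h2]
      have hQ1 : 1 ≤ Fintype.card F ^ η := Nat.one_le_pow _ _ hq1
      have h3 : Fintype.card F ^ (2 * η) - 1 =
          (Fintype.card F ^ η - 1) * (Fintype.card F ^ η + 1) := by
        rw [two_mul, pow_add, sq_sub_one_eq _ hQ1]
      rw [h3] at h1
      rcases (Nat.Prime.dvd_mul hu).mp h1 with h | h
      · exfalso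
        rw [dvd_pow_sub_one_iff hq1, hj] at h
        have := Nat.le_of_dvd (by omega) h
        omega
      · exact h
    apply exists_orderOf_Sp_of_dvd_pow_add_one p ηl hηl1
    apply Nat.Coprime.mul_dvd_of_dvd_of_dvd hcop
    · have h1 := key r k ηk hηk1 hk h2k
      refine h1.trans ?_
      rw [hηlt, pow_mul]
      have := Odd.nat_add_dvd_pow_add_pow (Fintype.card F ^ ηk) 1 ht
      rw [one_pow] at this
      exact this
    · exact key s l ηl hηl1 hl hηl

end exist

end Cfsg.Agent.Lib.Helper40
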