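import Mathlib
import Cfsg.Prelude.Def_Classical
import Cfsg.Agent.S0246

/-!
# Element orders in `PSp_{2n}(q)` versus `Sp_{2n}(q)` (helper40)

* `orderOf_mk_of_coprime'`, `exists_orderOf_of_quotient`: orders coprime to the order of a normal
  subgroup pass to and from the quotient.
* `mem_range_orderOf_PSp_iff`: for `m` coprime to `gcd(2, q - 1)`, `PSp_{2n}(q)` has an element of
  order `m` iff `Sp_{2n}(q)` has.
-/

set_option autoImplicit false
set_option linter.unusedSectionVars false

namespace Cfsg.Agent.Lib.Helper40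

section quot
variable {G : Type*} [Group G] (N : Subgroup G) [N.Normal] [Finite N]

/-- the order of an element coprime to `|N|` is preserved in `G ⧸ N` -/
theorem orderOf_mk_of_coprime' (g : G) (h : (orderOf g).Coprime (Nat.card N)) :
    orderOf (QuotientGroup.mk g : G ⧸ N) = orderOf g := by
  apply Nat.dvd_antisymm
  · apply orderOf_dvd_of_pow_eq_one
    rw [← QuotientGroup.mk_pow, pow_orderOf_eq_one, QuotientGroup.mk_one]
  · have h1 : (QuotientGroup.mk g : G ⧸ N) ^ orderOf (QuotientGroup.mk g : G ⧸ N) = 1 :=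
      pow_orderOf_eq_one _
    rw [← QuotientGroup.mk_pow, QuotientGroup.eq_one_iff] at h1
    have h2 : (g ^ orderOf (QuotientGroup.mk g : G ⧸ N)) ^ Nat.card N = 1 := by
      have := pow_card_eq_one' (G := N) (x := ⟨_, h1⟩)
      exact congrArg Subtype.val this
    rw [← pow_mul] at h2
    have h3 := orderOf_dvd_of_pow_eq_one h2
    exact h.dvd_of_dvd_mul_right h3

/-- an element of order `m` coprime to `|N|` of `G ⧸ N` lifts to an element of order `m` -/
theorem exists_orderOf_of_quotient (x : G ⧸ N) (m : ℕ) (hx : orderOf x = m)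
    (h : m.Coprime (Nat.card N)) : ∃ g : G, orderOf g = m := by
  obtain ⟨g0, rfl⟩ := QuotientGroup.mk_surjective x
  refine ⟨g0 ^ Nat.card N, ?_⟩
  apply Nat.dvd_antisymm
  · apply orderOf_dvd_of_pow_eq_one
    have h1 : g0 ^ m ∈ N := by
      rw [← QuotientGroup.eq_one_iff, QuotientGroup.mk_pow, ← hx, pow_orderOf_eq_one]
    rw [← pow_mul, mul_comm, pow_mul]
    have := pow_card_eq_one' (G := N) (x := ⟨_, h1⟩)
    exact congrArg Subtype.val this
  · have h2 : orderOf ((QuotientGroup.mk g0 : G ⧸ N) ^ Nat.card N) = m := by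
      rw [Nat.Coprime.orderOf_pow (hx ▸ h), hx]
    rw [← h2, ← QuotientGroup.mk_pow]
    apply orderOf_dvd_of_pow_eq_one
    rw [← QuotientGroup.mk_pow, pow_orderOf_eq_one, QuotientGroup.mk_one]

end quot

section psp
variable {F : Type*} [Field F] [Fintype F]

/-- for `m` coprime to `gcd(2, q - 1)`, `PSp_{2n}(q)` has an element of order `m` iff
`Sp_{2n}(q)` has -/
theorem mem_range_orderOf_PSp_iff (n : ℕ) (hn : 1 ≤ n) (m : ℕ)
    (hm : m.Coprime (Nat.gcd 2 (Fintype.card F - 1))) :
    (m ∈ Set.range (orderOf : Cfsg.PSp n F → ℕ)) ↔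
      ∃ g : Matrix.symplecticGroup (Fin n) F, orderOf g = m := by
  have hcard : Nat.card (Subgroup.center (Matrix.symplecticGroup (Fin n) F)) =
      Nat.gcd 2 (Fintype.card F - 1) := Cfsg.Agent.S0246.result rfl n hn
  have : Finite (Subgroup.center (Matrix.symplecticGroup (Fin n) F)) := by
    apply Nat.finite_of_card_ne_zero
    rw [hcard]
    exact Nat.gcd_ne_zero_left (by norm_num)
  constructor
  · rintro ⟨x, hx⟩
    exact exists_orderOf_of_quotient _ x m hx (hcard ▸ hm)
  · rintro ⟨g, hg⟩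
    refine ⟨QuotientGroup.mk g, ?_⟩
    rw [orderOf_mk_of_coprime' _ g (by rw [hg, hcard]; exact hm), hg]

/-- odd numbers are coprime to `gcd(2, x)` -/
theorem coprime_gcd_two_of_odd (m x : ℕ) (hm : Odd m) : m.Coprime (Nat.gcd 2 x) :=
  Nat.Coprime.coprime_dvd_right (Nat.gcd_dvd_left 2 x) (Nat.coprime_two_right.mpr hm)

/-- `r * p` is coprime to `gcd(2, q - 1)` for odd `r` and `p` the characteristic -/
theorem coprime_gcd_two_of_char (p : ℕ) [Fact p.Prime] [CharP F p] (r : ℕ) (hr : Odd r) :
    (r * p).Coprime (Nat.gcd 2 (Fintype.card F - 1)) := by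
  have hpp : p.Prime := Fact.out
  rcases hpp.eq_two_or_odd' with h2 | hodd
  · have hq : Even (Fintype.card F) := by
      obtain ⟨e, he⟩ := FiniteField.card F p
      rw [he.2, h2]
      exact (Nat.even_pow.mpr ⟨even_two, e.ne_zero⟩)
    have hq1 : Odd (Fintype.card F - 1) :=
      Nat.Even.sub_odd Fintype.card_pos hq odd_one
    have : Nat.gcd 2 (Fintype.card F - 1) = 1 := Nat.coprime_two_left.mpr hq1
    rw [this]
    exact Nat.coprime_one_right _
  · exact coprime_gcd_two_of_odd _ _ (hr.mul hodd)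

end psp

end Cfsg.Agent.Lib.Helper40
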