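import Mathlib
import Cfsg.Agent.Lib.Helper40.SpNonex
import Cfsg.Agent.Lib.Helper40.SpLift
import Cfsg.Agent.Lib.Helper40.SpExist

/-!
# Prime graph of `PSp(2n,q)`: odd primes, and an odd prime with the characteristic
(helper40, for S2474; reworked from S2469 and S2472)
-/

set_option autoImplicit false
set_option linter.unusedSectionVars false

namespace Cfsg.Agent.Lib.Helper40

open Cfsg

theorem psp_graph_A {F : Type*} [Field F] [Fintype F] (p : ℕ) [Fact p.Prime] [CharP F p] (n : ℕ)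
    (hn : 2 ≤ n)
    (r s : ℕ) (hr : r.Prime) (hs : s.Prime) (hr2 : r ≠ 2) (hs2 : s ≠ 2) (hrp : r ≠ p) (hsp : s ≠ p)
    (hrs : r ≠ s)
    (k l ηk ηl : ℕ) (hk1 : orderOf ((Fintype.card F : ℕ) : ZMod r) = k)
    (hl1 : orderOf ((Fintype.card F : ℕ) : ZMod s) = l)
    (hηk : (Odd k ∧ ηk = k) ∨ (Even k ∧ 2 * ηk = k))
    (hηl : (Odd l ∧ ηl = l) ∨ (Even l ∧ 2 * ηl = l)) (hkl : ηk ≤ ηl) :
    (r * s ∈ Set.range (orderOf : Cfsg.PSp n F → ℕ)) ↔
      (ηk + ηl ≤ n ∨ (ηl ≤ n ∧ ∃ t : ℕ, Odd t ∧ l = k * t)) := by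
  classical
  have hpp : p.Prime := Fact.out
  have : Fact r.Prime := ⟨hr⟩
  have : Fact s.Prime := ⟨hs⟩
  have hrq : ¬ r ∣ Fintype.card F := by
    intro h
    obtain ⟨e, he⟩ := FiniteField.card F p
    rw [he.2] at h
    exact hrp ((Nat.prime_dvd_prime_iff_eq hr hpp).mp (hr.dvd_of_dvd_pow h))
  have hsq : ¬ s ∣ Fintype.card F := by
    intro h
    obtain ⟨e, he⟩ := FiniteField.card F p
    rw [he.2] at h
    exact hsp ((Nat.prime_dvd_prime_iff_eq hs hpp).mp (hs.dvd_of_dvd_pow h))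
  have hk0 : 1 ≤ k := by
    rw [← hk1]
    exact order_pos hrq
  have hl0 : 1 ≤ l := by
    rw [← hl1]
    exact order_pos hsq
  have hrodd : Odd r := hr.odd_of_ne_two hr2
  have hsodd : Odd s := hs.odd_of_ne_two hs2
  have hcop : r.Coprime s := (Nat.coprime_primes hr hs).mpr hrs
  have hηk1 : 1 ≤ ηk := by
    rcases hηk with ⟨_, h⟩ | ⟨_, h⟩ <;> omega
  have hηl1 : 1 ≤ ηl := by
    rcases hηl with ⟨_, h⟩ | ⟨_, h⟩ <;> omega
  rw [mem_range_orderOf_PSp_iff n (by omega) (r * s)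
    (coprime_gcd_two_of_odd _ _ (hrodd.mul hsodd))]
  constructor
  · -- necessity
    rintro ⟨g, hg⟩
    have hsG' : s ∣ Nat.card (Matrix.symplecticGroup (Fin n) F) := by
      have h1 : orderOf g ∣ Nat.card (Matrix.symplecticGroup (Fin n) F) := orderOf_dvd_natCard g
      rw [hg] at h1
      exact (Dvd.intro_left r rfl).trans h1
    have hηln : ηl ≤ n := eta_le_of_dvd_card_Sp s hsq n l ηl hsG' hl1 hηl
    have hTrs : (g : Matrix (Fin n ⊕ Fin n) (Fin n ⊕ Fin n) F) ^ (r * s) = 1 := by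
      have h1 : g ^ (r * s) = 1 := by
        rw [← hg]
        exact pow_orderOf_eq_one g
      exact congrArg Subtype.val h1
    have hTr : (g : Matrix (Fin n ⊕ Fin n) (Fin n ⊕ Fin n) F) ^ r ≠ 1 := by
      intro h
      have h1 : g ^ r = 1 := Subtype.ext h
      have h2 := orderOf_dvd_of_pow_eq_one h1
      rw [hg] at h2
      have h3 := Nat.le_of_dvd hr.pos h2
      have := hs.two_le
      nlinarith [hr.pos]
    have hTs : (g : Matrix (Fin n ⊕ Fin n) (Fin n ⊕ Fin n) F) ^ s ≠ 1 := by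
      intro h
      have h1 : g ^ s = 1 := Subtype.ext h
      have h2 := orderOf_dvd_of_pow_eq_one h1
      rw [hg] at h2
      have h3 := Nat.le_of_dvd hs.pos h2
      have := hr.two_le
      nlinarith [hs.pos]
    rcases eta_add_le_or_of_order_mul p r s hr hs hr2 hs2 hrp hsp hrs _ g.2 hTrs hTr hTs
      k l ηk ηl hk1 hl1 hηk hηl hkl with h | h
    · exact Or.inl h
    · exact Or.inr ⟨hηln, h⟩
  · -- existence
    rintro (hsum | ⟨hηln, t, ht, hlt⟩)
    · have hrC : r ∣ Nat.card (Matrix.symplecticGroup (Fin ηk) F) :=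
        prime_dvd_card_Sp r ηk k ηk hk1 hηk hηk1 le_rfl
      obtain ⟨g₁, hg₁⟩ := exists_prime_orderOf_dvd_card' r hrC
      have hsC : s ∣ Nat.card (Matrix.symplecticGroup (Fin (n - ηk)) F) :=
        prime_dvd_card_Sp s (n - ηk) l ηl hl1 hηl hηl1 (by omega)
      obtain ⟨g₂, hg₂⟩ := exists_prime_orderOf_dvd_card' s hsC
      obtain ⟨g, hg⟩ := exists_orderOf_Sp_block (F := F) (show ηk + (n - ηk) = n by omega) g₁ g₂
        (by rw [hg₁, hg₂]; exact hcop)
      exact ⟨g, by rw [hg, hg₁, hg₂]⟩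
    · exact exists_orderOf_Sp_of_odd_quotient p r s hrs k l ηk ηl hk0 hk1 hl1 hηk hηl t ht hlt n
        hηln

theorem psp_graph_B {F : Type*} [Field F] [Fintype F] (p : ℕ) [Fact p.Prime] [CharP F p] (n : ℕ)
    (hn : 2 ≤ n)
    (r : ℕ) (hr : r.Prime) (hr2 : r ≠ 2) (hrp : r ≠ p)
    (k ηk : ℕ) (hk1 : orderOf ((Fintype.card F : ℕ) : ZMod r) = k)
    (hηk : (Odd k ∧ ηk = k) ∨ (Even k ∧ 2 * ηk = k)) :
    (r * p ∈ Set.range (orderOf : Cfsg.PSp n F → ℕ)) ↔ ηk + 1 ≤ n := by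
  classical
  have hpp : p.Prime := Fact.out
  have : Fact r.Prime := ⟨hr⟩
  have hrq : ¬ r ∣ Fintype.card F := by
    intro h
    obtain ⟨e, he⟩ := FiniteField.card F p
    rw [he.2] at h
    exact hrp ((Nat.prime_dvd_prime_iff_eq hr hpp).mp (hr.dvd_of_dvd_pow h))
  have hk0 : 1 ≤ k := by
    rw [← hk1]
    exact order_pos hrq
  have hrodd : Odd r := hr.odd_of_ne_two hr2
  have hcopr : r.Coprime p := (Nat.coprime_primes hr hpp).mpr hrp
  rw [mem_range_orderOf_PSp_iff n (by omega) (r * p) (coprime_gcd_two_of_char p r hrodd)]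
  constructor
  · -- necessity
    rintro ⟨g, hg⟩
    have hSr : ((g ^ p : Matrix.symplecticGroup (Fin n) F) :
        Matrix (Fin n ⊕ Fin n) (Fin n ⊕ Fin n) F) ^ r = 1 := by
      have h1 : (g ^ p) ^ r = 1 := by
        rw [← pow_mul, mul_comm, ← hg]
        exact pow_orderOf_eq_one g
      exact congrArg Subtype.val h1
    have hS1 : ((g ^ p : Matrix.symplecticGroup (Fin n) F) :
        Matrix (Fin n ⊕ Fin n) (Fin n ⊕ Fin n) F) ≠ 1 := by
      intro h
      have h1 : g ^ p = 1 := Subtype.ext h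
      have h2 := orderOf_dvd_of_pow_eq_one h1
      rw [hg] at h2
      have h3 := Nat.le_of_dvd hpp.pos h2
      have := hr.two_le
      nlinarith [hpp.pos]
    have hUp : ((g ^ r : Matrix.symplecticGroup (Fin n) F) :
        Matrix (Fin n ⊕ Fin n) (Fin n ⊕ Fin n) F) ^ p = 1 := by
      have h1 : (g ^ r) ^ p = 1 := by
        rw [← pow_mul, ← hg]
        exact pow_orderOf_eq_one g
      exact congrArg Subtype.val h1
    have hU1 : ((g ^ r : Matrix.symplecticGroup (Fin n) F) :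
        Matrix (Fin n ⊕ Fin n) (Fin n ⊕ Fin n) F) ≠ 1 := by
      intro h
      have h1 : g ^ r = 1 := Subtype.ext h
      have h2 := orderOf_dvd_of_pow_eq_one h1
      rw [hg] at h2
      have h3 := Nat.le_of_dvd hr.pos h2
      have := hpp.two_le
      nlinarith [hr.pos]
    have hSU : ((g ^ p : Matrix.symplecticGroup (Fin n) F) :
        Matrix (Fin n ⊕ Fin n) (Fin n ⊕ Fin n) F) * ((g ^ r : Matrix.symplecticGroup (Fin n) F) :
        Matrix (Fin n ⊕ Fin n) (Fin n ⊕ Fin n) F) = ((g ^ r : Matrix.symplecticGroup (Fin n) F) :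
        Matrix (Fin n ⊕ Fin n) (Fin n ⊕ Fin n) F) * ((g ^ p : Matrix.symplecticGroup (Fin n) F) :
        Matrix (Fin n ⊕ Fin n) (Fin n ⊕ Fin n) F) := by
      have h1 : g ^ p * g ^ r = g ^ r * g ^ p := by rw [← pow_add, ← pow_add, add_comm]
      exact congrArg Subtype.val h1
    exact eta_succ_le_of_commuting p r hr hr2 hrp (by omega) _ _ (g ^ p).2 hSr hS1 hUp hU1 hSU
      k ηk hk1 hηk
  · -- existence
    intro hcon
    have hη1 : 1 ≤ ηk := by
      rcases hηk with ⟨_, h⟩ | ⟨_, h⟩ <;> omega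
    have hrC : r ∣ Nat.card (Matrix.symplecticGroup (Fin (n - 1)) F) :=
      prime_dvd_card_Sp r (n - 1) k ηk hk1 hηk hη1 (by omega)
    obtain ⟨g₁, hg₁⟩ := exists_prime_orderOf_dvd_card' r hrC
    have hpC : p ∣ Nat.card (Matrix.symplecticGroup (Fin 1) F) := char_dvd_card_Sp p 1 le_rfl
    obtain ⟨g₂, hg₂⟩ := exists_prime_orderOf_dvd_card' p hpC
    obtain ⟨g, hg⟩ := exists_orderOf_Sp_block (F := F) (show (n - 1) + 1 = n by omega) g₁ g₂
      (by rw [hg₁, hg₂]; exact hcopr)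
    exact ⟨g, by rw [hg, hg₁, hg₂]⟩

end Cfsg.Agent.Lib.Helper40
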