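import Mathlib
import Cfsg.Prelude.Def_Classical
import Cfsg.Agent.Lib.Helper5.SymplecticCenter
import Cfsg.Agent.Lib.Helper40.SpLift

/-!
# Basic tools for element orders of `PSp_2n(q)` (helper40, for S2512)
-/

set_option autoImplicit false
set_option linter.unusedSectionVars false

namespace Cfsg.Agent.Lib.Helper40

open Matrix

section idem
variable {F : Type*} [Field F] {n : ℕ}

/-- a non-trivial self-adjoint idempotent commuting with `A` gives a non-central symplectic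
involution commuting with `A` -/
theorem exists_symplectic_invol_of_idem (h2 : (2 : F) ≠ 0)
    (A π : Matrix (Fin n ⊕ Fin n) (Fin n ⊕ Fin n) F) (hπ : π * π = π) (h0 : π ≠ 0) (h1 : π ≠ 1)
    (hcomm : π * A = A * π) (hs : πᵀ * J (Fin n) F = J (Fin n) F * π) :
    ∃ Z ∈ symplecticGroup (Fin n) F, Z * Z = 1 ∧ Z ≠ 1 ∧ Z ≠ -1 ∧ Z * A = A * Z := by
  set Jm := J (Fin n) F with hJ
  have hJJ : Jm * Jm = -1 := Matrix.J_squared (Fin n) F
  have hs' : Jm * πᵀ = π * Jm := by
    have h3 : Jm * (πᵀ * Jm) * Jm = Jm * (Jm * π) * Jm := by rw [hs]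
    have h4 : Jm * (πᵀ * Jm) * Jm = -(Jm * πᵀ) := by
      rw [Matrix.mul_assoc, Matrix.mul_assoc, hJJ, Matrix.mul_neg, Matrix.mul_one,
        Matrix.mul_neg]
    have h5 : Jm * (Jm * π) * Jm = -(π * Jm) := by
      rw [← Matrix.mul_assoc, hJJ, Matrix.neg_mul, Matrix.one_mul, Matrix.neg_mul]
    rw [h4, h5] at h3
    exact neg_injective h3
  have hZZ : ((2 : F) • π - 1) * ((2 : F) • π - 1) = 1 := by
    rw [Matrix.sub_mul, Matrix.mul_sub, Matrix.mul_sub, Matrix.smul_mul, Matrix.mul_smul, hπ,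
      Matrix.mul_one, Matrix.one_mul, Matrix.mul_one, smul_smul]
    have : ((2 : F) * 2) • π = (2 : F) • π + (2 : F) • π := by
      rw [← add_smul]
      norm_num
    rw [this]
    abel
  refine ⟨(2 : F) • π - 1, ?_, hZZ, ?_, ?_, ?_⟩
  · rw [SymplecticGroup.mem_iff, Matrix.transpose_sub, Matrix.transpose_smul, Matrix.transpose_one]
    have h3 : Jm * ((2 : F) • πᵀ - 1) = ((2 : F) • π - 1) * Jm := by
      rw [Matrix.mul_sub, Matrix.mul_smul, hs', Matrix.sub_mul, Matrix.smul_mul, Matrix.mul_one,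
        Matrix.one_mul]
    rw [Matrix.mul_assoc, h3, ← Matrix.mul_assoc, hZZ, Matrix.one_mul]
  · intro h
    apply h1
    have h3 : (2 : F) • π = (2 : F) • (1 : Matrix (Fin n ⊕ Fin n) (Fin n ⊕ Fin n) F) := by
      have : (2 : F) • π = ((2 : F) • π - 1) + 1 := by abel
      rw [this, h, two_smul]
    have := congrArg (fun M => (2 : F)⁻¹ • M) h3
    simpa [smul_smul, inv_mul_cancel₀ h2] using this
  · intro h
    apply h0
    have h3 : (2 : F) • π = 0 := by
      have : (2 : F) • π = ((2 : F) • π - 1) + 1 := by abel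
      rw [this, h]
      abel
    have := congrArg (fun M => (2 : F)⁻¹ • M) h3
    simpa [smul_smul, inv_mul_cancel₀ h2] using this
  · rw [Matrix.sub_mul, Matrix.mul_sub, Matrix.smul_mul, Matrix.mul_smul, hcomm, Matrix.one_mul,
      Matrix.mul_one]

end idem

section mk
variable {F : Type*} [Field F] {n : ℕ}

theorem mk_eq_one_iff_PSp (hn : 1 ≤ n) (g : symplecticGroup (Fin n) F) :
    (QuotientGroup.mk g : Cfsg.PSp n F) = 1 ↔
      (g : Matrix (Fin n ⊕ Fin n) (Fin n ⊕ Fin n) F) = 1 ∨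
        (g : Matrix (Fin n ⊕ Fin n) (Fin n ⊕ Fin n) F) = -1 := by
  have : Nonempty (Fin n) := ⟨⟨0, hn⟩⟩
  rw [QuotientGroup.eq_one_iff]
  constructor
  · exact Cfsg.Agent.Lib.Helper5.symplecticGroup_center_eq_one_or_neg_one g
  · intro h
    rw [Subgroup.mem_center_iff]
    intro x
    apply Subtype.ext
    rw [Submonoid.coe_mul, Submonoid.coe_mul]
    rcases h with h | h
    · rw [h, Matrix.mul_one, Matrix.one_mul]
    · rw [h, Matrix.mul_neg, Matrix.neg_mul, Matrix.mul_one, Matrix.one_mul]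

theorem mk_pow_eq_one_iff_PSp (hn : 1 ≤ n) (g : symplecticGroup (Fin n) F) (i : ℕ) :
    (QuotientGroup.mk g : Cfsg.PSp n F) ^ i = 1 ↔
      (g : Matrix (Fin n ⊕ Fin n) (Fin n ⊕ Fin n) F) ^ i = 1 ∨
        (g : Matrix (Fin n ⊕ Fin n) (Fin n ⊕ Fin n) F) ^ i = -1 := by
  rw [← QuotientGroup.mk_pow, mk_eq_one_iff_PSp hn, SubmonoidClass.coe_pow]

/-- the order of the image in `PSp` -/
theorem orderOf_mk_PSp (hn : 1 ≤ n) (g : symplecticGroup (Fin n) F) :
    orderOf (QuotientGroup.mk g : Cfsg.PSp n F) ∣ orderOf g ∧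
      orderOf g ∣ 2 * orderOf (QuotientGroup.mk g : Cfsg.PSp n F) := by
  constructor
  · apply orderOf_dvd_of_pow_eq_one
    rw [← QuotientGroup.mk_pow, pow_orderOf_eq_one, QuotientGroup.mk_one]
  · apply orderOf_dvd_of_pow_eq_one
    have h1 := pow_orderOf_eq_one (QuotientGroup.mk g : Cfsg.PSp n F)
    rw [mk_pow_eq_one_iff_PSp hn] at h1
    apply Subtype.ext
    rw [SubmonoidClass.coe_pow, mul_comm, pow_mul]
    rcases h1 with h1 | h1
    · rw [h1, one_pow]
      rfl
    · rw [h1, neg_pow, one_pow, mul_one]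
      norm_num

end mk

end Cfsg.Agent.Lib.Helper40
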