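import Mathlib
import Cfsg.Agent.Lib.Helper40.SpExist

/-!
# Rank of `x - 1` for a block-embedded symplectic matrix (helper40)

`rank_spBlockHom_sub_one_le`: for `g ∈ Sp_{2a}` embedded as `g ⊕ 1` in `Sp_{2n}`, the matrix
`(g ⊕ 1) - 1` has rank at most `2 * a`.
-/

set_option autoImplicit false

namespace Cfsg.Agent.Lib.Helper40

open Matrix

section
variable {F : Type*} [Field F]

theorem rank_fromBlocks_zero_le {α β : Type*} [Fintype α] [Fintype β] [DecidableEq α]
    [DecidableEq β] (M : Matrix α α F) :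
    (fromBlocks M 0 0 (0 : Matrix β β F)).rank ≤ Fintype.card α := by
  classical
  have h := Matrix.rank_le_card_of_support_subset (fromBlocks M 0 0 (0 : Matrix β β F))
    (Finset.univ.image Sum.inl) ?_
  · refine h.trans ?_
    exact Finset.card_image_le.trans (le_of_eq Finset.card_univ)
  · intro c hc
    rcases c with i | k
    · simp
    · exfalso
      apply hc
      funext c'
      rcases c' with i' | k' <;> rfl

theorem spBlockHom_coe_eq {a b n : ℕ} (h : a + b = n) (g : symplecticGroup (Fin a) F)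
    (g' : symplecticGroup (Fin b) F) :
    ((spBlockHom h (g, g')).1) =
      ((fromBlocks g.1 0 0 g'.1).submatrix (Equiv.sumSumSumComm (Fin a) (Fin b) (Fin a) (Fin b))
        (Equiv.sumSumSumComm (Fin a) (Fin b) (Fin a) (Fin b))).submatrix
        (((finSumFinEquiv.trans (finCongr h)).symm).sumCongr ((finSumFinEquiv.trans (finCongr h)).symm))
        (((finSumFinEquiv.trans (finCongr h)).symm).sumCongr ((finSumFinEquiv.trans (finCongr h)).symm)) :=
  rfl

/-- `(g ⊕ 1) - 1` has rank at most `2 * a` -/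
theorem rank_spBlockHom_sub_one_le {a b n : ℕ} (h : a + b = n) (g : symplecticGroup (Fin a) F) :
    ((spBlockHom h (g, (1 : symplecticGroup (Fin b) F))).1 - 1).rank ≤ 2 * a := by
  rw [spBlockHom_coe_eq]
  have h1 : (1 : Matrix (Fin n ⊕ Fin n) (Fin n ⊕ Fin n) F) =
      ((1 : Matrix ((Fin a ⊕ Fin a) ⊕ (Fin b ⊕ Fin b)) ((Fin a ⊕ Fin a) ⊕ (Fin b ⊕ Fin b)) F).submatrix
        (Equiv.sumSumSumComm (Fin a) (Fin b) (Fin a) (Fin b))
        (Equiv.sumSumSumComm (Fin a) (Fin b) (Fin a) (Fin b))).submatrix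
        (((finSumFinEquiv.trans (finCongr h)).symm).sumCongr ((finSumFinEquiv.trans (finCongr h)).symm))
        (((finSumFinEquiv.trans (finCongr h)).symm).sumCongr ((finSumFinEquiv.trans (finCongr h)).symm)) := by
    rw [Matrix.submatrix_one_equiv, Matrix.submatrix_one_equiv]
  have hsub : ∀ {α β : Type} (A B : Matrix α α F) (f : β → α),
      A.submatrix f f - B.submatrix f f = (A - B).submatrix f f := fun _ _ _ => rfl
  rw [h1, hsub, hsub, Matrix.rank_submatrix, Matrix.rank_submatrix]
  have h2 : fromBlocks g.1 0 0 ((1 : symplecticGroup (Fin b) F)).1 - 1 =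
      fromBlocks (g.1 - 1) 0 0 (0 : Matrix (Fin b ⊕ Fin b) (Fin b ⊕ Fin b) F) := by
    ext i j
    rcases i with i | i <;> rcases j with j | j <;>
      simp [Matrix.one_apply, Matrix.sub_apply]
  rw [h2]
  refine (rank_fromBlocks_zero_le (β := Fin b ⊕ Fin b) (g.1 - 1)).trans ?_
  rw [Fintype.card_sum, Fintype.card_fin]
  omega

end

end Cfsg.Agent.Lib.Helper40
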