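import Mathlib
import Cfsg.Agent.Lib.Helper40.SpCubeA
import Cfsg.Agent.Lib.Helper40.SpTorus
import Cfsg.Agent.Lib.Helper40.SpExist
import Cfsg.Agent.Lib.Helper40.SpBlockRank
import Cfsg.Agent.Lib.Helper40.CubeAbsorbGen

/-!
# Ingredients of S2512 for `PSp_2n(q)`, `q` odd (helper40)
-/

set_option autoImplicit false
set_option linter.unusedSectionVars false

namespace Cfsg.Agent.Lib.Helper40

open Matrix

section unip
variable {F : Type*} [Field F] {ι : Type*} [Fintype ι] [DecidableEq ι]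

theorem orderOf_unip' [Nonempty ι] (p : ℕ) [Fact p.Prime] [CharP F p] (e : ℕ)
    (X : Matrix ι ι F) (hX : ∀ j : ℕ, (X - 1) ^ j = 0 ↔ e ≤ j) :
    orderOf X = p ^ Nat.clog p e := by
  have hp : p.Prime := Fact.out
  have hiff : ∀ j : ℕ, X ^ p ^ j = 1 ↔ e ≤ p ^ j := by
    intro j
    rw [← hX, sub_pow_char_pow_of_commute p j (Commute.one_right X), one_pow, sub_eq_zero]
  have h1 : X ^ p ^ Nat.clog p e = 1 := (hiff _).mpr (Nat.le_pow_clog hp.one_lt e)
  obtain ⟨j1, hj1, hord⟩ := (Nat.dvd_prime_pow hp).mp (orderOf_dvd_of_pow_eq_one h1)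
  have h2 : X ^ p ^ j1 = 1 := by rw [← hord]; exact pow_orderOf_eq_one _
  have h3 : e ≤ p ^ j1 := (hiff _).mp h2
  have h4 : Nat.clog p e ≤ j1 := Nat.clog_le_of_le_pow h3
  rw [hord, le_antisymm hj1 h4]

end unip

section neg
variable {F : Type*} [Field F] {n : ℕ}

/-- the central element `-1` of `Sp_2n` -/
def spNegOne (n : ℕ) (F : Type*) [Field F] : symplecticGroup (Fin n) F :=
  ⟨-1, Cfsg.Agent.Lib.Helper5.neg_one_mem_symplecticGroup⟩

theorem spNegOne_coe : ((spNegOne n F : symplecticGroup (Fin n) F) :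
    Matrix (Fin n ⊕ Fin n) (Fin n ⊕ Fin n) F) = -1 := rfl

theorem spNegOne_mul_self : spNegOne n F * spNegOne n F = 1 := by
  apply Subtype.ext
  rw [Submonoid.coe_mul, spNegOne_coe]
  simp

theorem spNegOne_ne_one (h2 : (2 : F) ≠ 0) (hn : 1 ≤ n) : spNegOne n F ≠ 1 := by
  intro h
  have h1 := congrArg (fun g : symplecticGroup (Fin n) F =>
    (g : Matrix (Fin n ⊕ Fin n) (Fin n ⊕ Fin n) F) (Sum.inl ⟨0, hn⟩) (Sum.inl ⟨0, hn⟩)) h
  simp only [spNegOne_coe, Submonoid.coe_one, Matrix.neg_apply, Matrix.one_apply_eq] at h1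
  apply h2
  have : (2 : F) = 1 - (-1) := by norm_num
  rw [this, h1, sub_self]

theorem spNegOne_commute (g : symplecticGroup (Fin n) F) : Commute (spNegOne n F) g := by
  apply Subtype.ext
  rw [Submonoid.coe_mul, Submonoid.coe_mul, spNegOne_coe]
  simp

theorem orderOf_spNegOne (h2 : (2 : F) ≠ 0) (hn : 1 ≤ n) : orderOf (spNegOne n F) = 2 := by
  apply orderOf_eq_prime
  · rw [pow_two]
    exact spNegOne_mul_self
  · exact spNegOne_ne_one h2 hn

theorem spNegOne_pow_odd (k : ℕ) (hk : Odd k) : spNegOne n F ^ k = spNegOne n F := by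
  obtain ⟨s, rfl⟩ := hk
  rw [pow_succ, pow_mul, pow_two, spNegOne_mul_self, one_pow, one_mul]

theorem spBlockHom_neg_one {a b : ℕ} (h : a + b = n) :
    spBlockHom (F := F) h (spNegOne a F, spNegOne b F) = spNegOne n F := by
  apply Subtype.ext
  rw [spBlockHom_coe_eq, spNegOne_coe, spNegOne_coe, spNegOne_coe]
  have h1 : -(1 : Matrix ((Fin a ⊕ Fin a) ⊕ (Fin b ⊕ Fin b)) ((Fin a ⊕ Fin a) ⊕ (Fin b ⊕ Fin b)) F) =
      fromBlocks (-1 : Matrix (Fin a ⊕ Fin a) (Fin a ⊕ Fin a) F) 0 0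
      (-1 : Matrix (Fin b ⊕ Fin b) (Fin b ⊕ Fin b) F) := by
    conv_lhs => rw [← Matrix.fromBlocks_one]
    rw [Matrix.fromBlocks_neg, neg_zero, neg_zero]
  rw [← h1]
  simp only [Matrix.submatrix_neg, Pi.neg_apply, Matrix.submatrix_one_equiv]

theorem mk_spNegOne (hn : 1 ≤ n) : (QuotientGroup.mk (spNegOne n F) : Cfsg.PSp n F) = 1 := by
  rw [mk_eq_one_iff_PSp hn]
  exact Or.inr rfl

end neg

section lift
variable {F : Type*} [Field F] {n : ℕ}

/-- odd-order elements of `PSp` lift to elements of `Sp` of the same order -/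
theorem exists_sp_lift_of_odd (hn : 1 ≤ n) (x : Cfsg.PSp n F) (hx : Odd (orderOf x)) :
    ∃ g : symplecticGroup (Fin n) F, (QuotientGroup.mk g : Cfsg.PSp n F) = x ∧
      orderOf g = orderOf x := by
  obtain ⟨g0, rfl⟩ := QuotientGroup.mk_surjective x
  set k := orderOf (QuotientGroup.mk g0 : Cfsg.PSp n F) with hk
  have h1 := pow_orderOf_eq_one (QuotientGroup.mk g0 : Cfsg.PSp n F)
  rw [← hk, mk_pow_eq_one_iff_PSp hn] at h1
  have hfin : ∀ g : symplecticGroup (Fin n) F,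
      (QuotientGroup.mk g : Cfsg.PSp n F) = QuotientGroup.mk g0 → g ^ k = 1 →
      orderOf g = k := by
    intro g hg hgk
    apply Nat.dvd_antisymm (orderOf_dvd_of_pow_eq_one hgk)
    rw [hk, ← hg]
    exact (orderOf_mk_PSp hn g).1
  rcases h1 with h1 | h1
  · refine ⟨g0, rfl, hfin g0 rfl ?_⟩
    apply Subtype.ext
    rw [SubmonoidClass.coe_pow, h1]
    rfl
  · refine ⟨spNegOne n F * g0, ?_, hfin _ ?_ ?_⟩
    · rw [QuotientGroup.mk_mul, mk_spNegOne hn, one_mul]
    · rw [QuotientGroup.mk_mul, mk_spNegOne hn, one_mul]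
    · rw [(spNegOne_commute g0).mul_pow, spNegOne_pow_odd k hx]
      apply Subtype.ext
      rw [Submonoid.coe_mul, SubmonoidClass.coe_pow, h1, spNegOne_coe]
      simp

end lift

end Cfsg.Agent.Lib.Helper40
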