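import Mathlib
import Cfsg.Agent.Lib.Helper43.SympJordan
import Cfsg.Agent.Lib.Helper43.JordanBlockAlt
import Cfsg.Agent.Lib.Helper43.RegularNilpotent

/-!
# A regular unipotent element of `Sp_2m(F)` (helper40, for S2512)
-/

set_option autoImplicit false
set_option linter.unusedSectionVars false

namespace Cfsg.Agent.Lib.Helper40

open Matrix Module

section regu
variable {F : Type*} [Field F]

theorem spUnipMat_sub_one_pow_eq_zero_iff (m : ℕ) (hm : 1 ≤ m) (j : ℕ) :
    (Cfsg.Agent.Lib.Helper43.spUnipMat m F - 1) ^ j = 0 ↔ 2 * m ≤ j := by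
  classical
  set T := Cfsg.Agent.Lib.Helper43.spUnipMat m F with hT
  constructor
  · intro h
    by_contra hlt
    have hj : j ≤ 2 * m := by omega
    set N : Module.End F (Fin m ⊕ Fin m → F) := Matrix.mulVecLin (T - 1) with hN
    have hfin : finrank F (Fin m ⊕ Fin m → F) = 2 * m := by
      rw [Module.finrank_fintype_fun_eq_card, Fintype.card_sum, Fintype.card_fin]
      ring
    have hpow : ∀ i : ℕ, N ^ i = Matrix.mulVecLin ((T - 1) ^ i) := by
      intro i
      induction i with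
      | zero =>
        rw [pow_zero, pow_zero, Matrix.mulVecLin_one]
        rfl
      | succ i ih =>
        rw [pow_succ, pow_succ, ih, hN, Matrix.mulVecLin_mul]
        rfl
    have h1 : finrank F (LinearMap.ker N) ≤ 1 := Cfsg.Agent.Lib.Helper43.spUnipMat_ker hm
    have hnil : N ^ finrank F (Fin m ⊕ Fin m → F) = 0 := by
      rw [hfin, hpow, Cfsg.Agent.Lib.Helper43.spUnipMat_sub_one_pow]
      exact Matrix.mulVecLin_zero
    have h2 := Cfsg.Agent.Lib.Helper43.finrank_ker_pow_eq N h1 hnil j (by rw [hfin]; exact hj)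
    rw [hpow, h, Matrix.mulVecLin_zero, LinearMap.ker_zero, finrank_top, hfin] at h2
    omega
  · intro h
    obtain ⟨d, rfl⟩ := Nat.exists_eq_add_of_le h
    rw [pow_add, Cfsg.Agent.Lib.Helper43.spUnipMat_sub_one_pow, zero_mul]

theorem exists_symplectic_regular_unipotent (m : ℕ) (hm : 1 ≤ m) :
    ∃ u : symplecticGroup (Fin m) F, ∀ j : ℕ,
      ((u : Matrix (Fin m ⊕ Fin m) (Fin m ⊕ Fin m) F) - 1) ^ j = 0 ↔ 2 * m ≤ j := by
  classical
  have hcard : Fintype.card (Fin m ⊕ Fin m) = 2 * m := by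
    rw [Fintype.card_sum, Fintype.card_fin]
    ring
  obtain ⟨e, A, hconj⟩ := Cfsg.Agent.Lib.Helper43.exists_isConj_symplectic hcard
    (Cfsg.Agent.Lib.Helper43.spUnipForm m F) (Cfsg.Agent.Lib.Helper43.spUnipMat m F)
    Cfsg.Agent.Lib.Helper43.spUnipForm_formInv
  refine ⟨A, ?_⟩
  intro j
  rw [← spUnipMat_sub_one_pow_eq_zero_iff (F := F) m hm j]
  obtain ⟨c, hc⟩ := hconj
  set T := Cfsg.Agent.Lib.Helper43.spUnipMat m F with hT
  set R := Matrix.reindexAlgEquiv F F e with hR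
  have hRT : Matrix.reindex e e T = R T := rfl
  set cm : Matrix (Fin m ⊕ Fin m) (Fin m ⊕ Fin m) F := (c : Matrix (Fin m ⊕ Fin m) (Fin m ⊕ Fin m) F)
    with hcm
  set ci : Matrix (Fin m ⊕ Fin m) (Fin m ⊕ Fin m) F :=
    ((c⁻¹ : (Matrix (Fin m ⊕ Fin m) (Fin m ⊕ Fin m) F)ˣ) : Matrix (Fin m ⊕ Fin m) (Fin m ⊕ Fin m) F)
    with hci
  have hcc : cm * ci = 1 := Units.mul_inv c
  have hcc' : ci * cm = 1 := Units.inv_mul c
  have h0 : cm * R T = (A : Matrix (Fin m ⊕ Fin m) (Fin m ⊕ Fin m) F) * cm := hc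
  have hA : (A : Matrix (Fin m ⊕ Fin m) (Fin m ⊕ Fin m) F) = cm * R T * ci := by
    rw [h0, mul_assoc, hcc, mul_one]
  have h2 : (A : Matrix (Fin m ⊕ Fin m) (Fin m ⊕ Fin m) F) - 1 = cm * R (T - 1) * ci := by
    rw [hA, map_sub, map_one, mul_sub, sub_mul, mul_one, hcc]
  have h1 : ∀ i : ℕ, ((A : Matrix (Fin m ⊕ Fin m) (Fin m ⊕ Fin m) F) - 1) ^ i =
      cm * R ((T - 1) ^ i) * ci := by
    intro i
    induction i with
    | zero => rw [pow_zero, pow_zero, map_one, mul_one, hcc]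
    | succ i ih =>
      rw [pow_succ, ih, h2, pow_succ, map_mul]
      calc cm * R ((T - 1) ^ i) * ci * (cm * R (T - 1) * ci)
          = cm * R ((T - 1) ^ i) * (ci * cm) * R (T - 1) * ci := by simp only [mul_assoc]
        _ = cm * (R ((T - 1) ^ i) * R (T - 1)) * ci := by rw [hcc', mul_one, mul_assoc cm]
  rw [h1]
  constructor
  · intro h
    have h3 : R ((T - 1) ^ j) = 0 := by
      have := congrArg (fun M => ci * M * cm) h
      simp only [mul_zero, zero_mul] at this
      rw [← mul_assoc, ← mul_assoc, hcc', one_mul, mul_assoc, hcc', mul_one] at this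
      exact this
    exact (map_eq_zero_iff R R.injective).mp h3
  · intro h
    rw [h, map_zero, mul_zero, zero_mul]

end regu

end Cfsg.Agent.Lib.Helper40
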