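import Mathlib
import Cfsg.Agent.Lib.Helper40.SpCubeB
import Cfsg.Agent.Lib.Helper40.SpRegU

/-!
# Elements and the key dichotomy of S2512 for `PSp_2n(q)`, `q` odd (helper40)
-/

set_option autoImplicit false
set_option linter.unusedSectionVars false

namespace Cfsg.Agent.Lib.Helper40

open Matrix

section elements
variable {F : Type*} [Field F] [Fintype F]

theorem two_ne_zero_of_char_ne_two (p : ℕ) [Fact p.Prime] [CharP F p] (hp2 : p ≠ 2) :
    (2 : F) ≠ 0 := by
  have hp : p.Prime := Fact.out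
  intro h
  have h1 : ((2 : ℕ) : F) = 0 := by exact_mod_cast h
  rw [CharP.cast_eq_zero_iff F p] at h1
  exact hp2 ((Nat.prime_dvd_prime_iff_eq hp Nat.prime_two).mp h1)

/-- a regular unipotent element of `Sp_2m(q)` and its order -/
theorem exists_sp_regUnip (p : ℕ) [Fact p.Prime] [CharP F p] (hp2 : p ≠ 2) (m : ℕ) (hm : 1 ≤ m) :
    ∃ u : symplecticGroup (Fin m) F, orderOf u = p ^ Nat.clog p (2 * m) := by
  have : Nonempty (Fin m ⊕ Fin m) := ⟨Sum.inl ⟨0, hm⟩⟩
  obtain ⟨u, hu⟩ := exists_symplectic_regular_unipotent (F := F) m hm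
  refine ⟨u, ?_⟩
  rw [← orderOf_unip' p (2 * m) (u : Matrix (Fin m ⊕ Fin m) (Fin m ⊕ Fin m) F) hu]
  exact (orderOf_submonoid u).symm

theorem coprime_char_of_dvd_pow_pm (p : ℕ) [Fact p.Prime] [CharP F p] (d t : ℕ) (hd : 1 ≤ d)
    (htq : t ∣ Fintype.card F ^ d - 1 ∨ t ∣ Fintype.card F ^ d + 1) : t.Coprime p := by
  have hp : p.Prime := Fact.out
  obtain ⟨a, -, hqa⟩ := FiniteField.card F p
  rw [Nat.coprime_comm, Nat.Prime.coprime_iff_not_dvd hp]
  intro hpt
  have hpq : p ∣ Fintype.card F ^ d := by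
    rw [hqa, ← pow_mul]
    exact dvd_pow_self p (Nat.mul_ne_zero a.ne_zero (by omega))
  have hq1 : 1 ≤ Fintype.card F ^ d := Nat.one_le_pow _ _ Fintype.card_pos
  rcases htq with h | h
  · have h1 : p ∣ Fintype.card F ^ d - 1 := dvd_trans hpt h
    have h2 : p ∣ 1 := by
      have := Nat.dvd_sub hpq h1
      rwa [Nat.sub_sub_self hq1] at this
    exact hp.one_lt.ne' (Nat.dvd_one.mp h2)
  · have h1 : p ∣ Fintype.card F ^ d + 1 := dvd_trans hpt h
    have h2 : p ∣ 1 := by
      have := Nat.dvd_sub h1 hpq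
      rwa [Nat.add_sub_cancel_left] at this
    exact hp.one_lt.ne' (Nat.dvd_one.mp h2)

/-- the mixed elements `s ⊕ (-u)` -/
theorem exists_psp_mixed (p : ℕ) [Fact p.Prime] [CharP F p] (hp2 : p ≠ 2) {n d : ℕ} (hd : 1 ≤ d)
    (hdn : d < n) (t : ℕ) (ht : Odd t)
    (htq : t ∣ Fintype.card F ^ d - 1 ∨ t ∣ Fintype.card F ^ d + 1) :
    ∃ y : Cfsg.PSp n F, 2 * (t * p ^ Nat.clog p (2 * (n - d))) ∣ orderOf y := by
  have hp : p.Prime := Fact.out
  have h2F : (2 : F) ≠ 0 := two_ne_zero_of_char_ne_two (F := F) p hp2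
  have hpodd : Odd p := hp.odd_of_ne_two hp2
  have hn : 1 ≤ n := by omega
  have hnd : 1 ≤ n - d := by omega
  have hsum : d + (n - d) = n := by omega
  obtain ⟨s0, hs0⟩ : ∃ s0 : symplecticGroup (Fin d) F, orderOf s0 = t := by
    rcases htq with h | h
    · exact exists_orderOf_Sp_of_dvd_pow_sub_one p d hd t h
    · exact exists_orderOf_Sp_of_dvd_pow_add_one p d hd t h
  obtain ⟨u, hu⟩ := exists_sp_regUnip (F := F) p hp2 (n - d) hnd
  set P' := p ^ Nat.clog p (2 * (n - d)) with hP'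
  have hP'odd : Odd P' := hpodd.pow
  set w := spNegOne (n - d) F * u with hw
  have hword : orderOf w = 2 * P' := by
    rw [hw, (spNegOne_commute u).orderOf_mul_eq_mul_orderOf_of_coprime, orderOf_spNegOne h2F hnd, hu]
    rw [orderOf_spNegOne h2F hnd, hu]
    exact Nat.Coprime.pow_right _ ((Nat.coprime_primes Nat.prime_two hp).mpr (Ne.symm hp2))
  set g := spBlockHom (F := F) hsum (s0, w) with hg
  have hgord : orderOf g = Nat.lcm t (2 * P') := by
    rw [hg, orderOf_injective _ (spBlockHom_injective hsum), Prod.orderOf, hs0, hword]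
  have htp : t.Coprime p := coprime_char_of_dvd_pow_pm (F := F) p d t hd htq
  have htP' : t.Coprime P' := Nat.Coprime.pow_right _ htp
  have ht2P' : t.Coprime (2 * P') :=
    Nat.Coprime.mul_right (Nat.coprime_two_right.mpr ht) htP'
  rw [ht2P'.lcm_eq_mul] at hgord
  refine ⟨QuotientGroup.mk g, ?_⟩
  set o := orderOf (QuotientGroup.mk g : Cfsg.PSp n F) with ho
  obtain ⟨-, hdvd⟩ := orderOf_mk_PSp hn g
  rw [hgord, ← ho] at hdvd
  have h1 : t * P' ∣ o := by
    have : 2 * (t * P') ∣ 2 * o := by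
      have e : t * (2 * P') = 2 * (t * P') := by ring
      rw [← e]
      exact hdvd
    exact (Nat.mul_dvd_mul_iff_left (by norm_num)).mp this
  have h2 : 2 ∣ o := by
    by_contra hodd
    have hoodd : Odd o := Nat.not_even_iff_odd.mp (fun h => hodd (even_iff_two_dvd.mp h))
    have h3 := pow_orderOf_eq_one (QuotientGroup.mk g : Cfsg.PSp n F)
    rw [← ho, mk_pow_eq_one_iff_PSp hn] at h3
    rcases h3 with h3 | h3
    · have h4 : g ^ o = 1 := by
        apply Subtype.ext
        rw [SubmonoidClass.coe_pow, h3]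
        rfl
      have h5 : t * (2 * P') ∣ o := by
        rw [← hgord]
        exact orderOf_dvd_of_pow_eq_one h4
      exact hodd (dvd_trans (Dvd.intro_left _ (by ring : t * P' * 2 = t * (2 * P'))) h5)
    · have h4 : g ^ o = spNegOne n F := by
        apply Subtype.ext
        rw [SubmonoidClass.coe_pow, h3]
        rfl
      rw [hg, ← map_pow, Prod.pow_mk, ← spBlockHom_neg_one hsum] at h4
      have h5 := spBlockHom_injective hsum h4
      have h6 : s0 ^ o = spNegOne d F := (Prod.mk.inj h5).1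
      have h7 : (s0 ^ o) ^ t = 1 := by
        rw [← pow_mul, mul_comm, pow_mul, ← hs0, pow_orderOf_eq_one, one_pow]
      rw [h6, spNegOne_pow_odd t ht] at h7
      exact spNegOne_ne_one h2F hd h7
  have hcop : Nat.Coprime 2 (t * P') := Nat.coprime_two_left.mpr (ht.mul hP'odd)
  exact hcop.mul_dvd_of_dvd_of_dvd h2 h1

/-- the images of the two cyclic maximal tori -/
theorem exists_psp_torus (p : ℕ) [Fact p.Prime] [CharP F p] {n : ℕ} (hn : 1 ≤ n) (N : ℕ)
    (hN : N = Fintype.card F ^ n - 1 ∨ N = Fintype.card F ^ n + 1) :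
    ∃ y : Cfsg.PSp n F, orderOf y ∣ N ∧ N ∣ 2 * orderOf y := by
  obtain ⟨g, hg⟩ : ∃ g : symplecticGroup (Fin n) F, orderOf g = N := by
    rcases hN with h | h
    · exact exists_orderOf_Sp_of_dvd_pow_sub_one p n hn N (by rw [h])
    · exact exists_orderOf_Sp_of_dvd_pow_add_one p n hn N (by rw [h])
  refine ⟨QuotientGroup.mk g, ?_⟩
  rw [← hg]
  exact orderOf_mk_PSp hn g

theorem exists_psp_regUnip (p : ℕ) [Fact p.Prime] [CharP F p] (hp2 : p ≠ 2) {n : ℕ}
    (hn : 1 ≤ n) : ∃ y : Cfsg.PSp n F, orderOf y = p ^ Nat.clog p (2 * n) := by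
  have hp : p.Prime := Fact.out
  obtain ⟨u, hu⟩ := exists_sp_regUnip (F := F) p hp2 n hn
  have hodd : Odd (p ^ Nat.clog p (2 * n)) := (hp.odd_of_ne_two hp2).pow
  exact (mem_range_orderOf_PSp_iff n hn _ (coprime_gcd_two_of_odd _ _ hodd)).mpr ⟨u, hu⟩

end elements

end Cfsg.Agent.Lib.Helper40
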