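import Mathlib
import Cfsg.Agent.Lib.Helper40.SpCubeC

/-!
# An element of order `p (q^m ± 1)` in `PSp_{2(m+1)}(q)` (helper40, for S2362)
-/

set_option autoImplicit false
set_option linter.unusedSectionVars false

namespace Cfsg.Agent.Lib.Helper40

open Matrix

section elements
variable {F : Type*} [Field F] [Fintype F]

theorem exists_psp_orderOf_p_mul' (p : ℕ) [Fact p.Prime] [CharP F p] (hp2 : p ≠ 2) {m : ℕ}
    (hm : 1 ≤ m) (M : ℕ)
    (hM : M = Fintype.card F ^ m - 1 ∨ M = Fintype.card F ^ m + 1) :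
    ∃ y : Cfsg.PSp (m + 1) F, orderOf y = p * M := by
  have hp : p.Prime := Fact.out
  have h2F : (2 : F) ≠ 0 := two_ne_zero_of_char_ne_two (F := F) p hp2
  have hpodd : Odd p := hp.odd_of_ne_two hp2
  have hn : 1 ≤ m + 1 := by omega
  have hsum : m + 1 = m + 1 := rfl
  have htq : M ∣ Fintype.card F ^ m - 1 ∨ M ∣ Fintype.card F ^ m + 1 := by
    rcases hM with h | h
    · left; rw [h]
    · right; rw [h]
  obtain ⟨s0, hs0⟩ : ∃ s0 : symplecticGroup (Fin m) F, orderOf s0 = M := by
    rcases htq with h | h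
    · exact exists_orderOf_Sp_of_dvd_pow_sub_one p m hm M h
    · exact exists_orderOf_Sp_of_dvd_pow_add_one p m hm M h
  obtain ⟨u, hu⟩ := exists_sp_regUnip (F := F) p hp2 1 le_rfl
  have hclog : Nat.clog p (2 * 1) = 1 := Nat.clog_eq_one (by norm_num) (by
    have := hp.two_le
    omega)
  rw [hclog, pow_one] at hu
  set g := spBlockHom (F := F) hsum (s0, u) with hg
  have htp : M.Coprime p := coprime_char_of_dvd_pow_pm (F := F) p m M hm htq
  have hgord : orderOf g = p * M := by
    rw [hg, orderOf_injective _ (spBlockHom_injective hsum), Prod.orderOf, hs0, hu,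
      htp.lcm_eq_mul, mul_comm]
  refine ⟨QuotientGroup.mk g, ?_⟩
  rw [← hgord]
  apply Nat.dvd_antisymm
  · exact (orderOf_mk_PSp hn g).1
  · set o := orderOf (QuotientGroup.mk g : Cfsg.PSp (m + 1) F) with ho
    have h3 := pow_orderOf_eq_one (QuotientGroup.mk g : Cfsg.PSp (m + 1) F)
    rw [← ho, mk_pow_eq_one_iff_PSp hn] at h3
    rcases h3 with h3 | h3
    · have h4 : g ^ o = 1 := by
        apply Subtype.ext
        rw [SubmonoidClass.coe_pow, h3]
        rfl
      exact orderOf_dvd_of_pow_eq_one h4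
    · exfalso
      have h4 : g ^ o = spNegOne (m + 1) F := by
        apply Subtype.ext
        rw [SubmonoidClass.coe_pow, h3]
        rfl
      rw [hg, ← map_pow, Prod.pow_mk, ← spBlockHom_neg_one hsum] at h4
      have h5 := spBlockHom_injective hsum h4
      have h6 : u ^ o = spNegOne 1 F := (Prod.mk.inj h5).2
      have h7 : (u ^ o) ^ p = 1 := by
        rw [← pow_mul, mul_comm, pow_mul, ← hu, pow_orderOf_eq_one, one_pow]
      rw [h6, spNegOne_pow_odd p hpodd] at h7
      exact spNegOne_ne_one h2F le_rfl h7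

end elements

end Cfsg.Agent.Lib.Helper40
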