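import Mathlib
import Cfsg.Agent.Lib.Helper40.SpCubeA
import Cfsg.Agent.Lib.Helper29.SpTwoPrimeNec
import Cfsg.Agent.Lib.Helper66.PSpTwoMul

/-!
# Prime graph of `PSp(2n,q)`, `q` odd: the prime `2` (helper40, for S2474)
-/

set_option autoImplicit false
set_option linter.unusedSectionVars false

namespace Cfsg.Agent.Lib.Helper40

open Cfsg Matrix

theorem psp_graph_C {F : Type*} [Field F] [Fintype F] (p : ℕ) [Fact p.Prime] [CharP F p]
    (hp2 : p ≠ 2) (n : ℕ) (hn : 2 ≤ n)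
    (r : ℕ) (hr : r.Prime) (hr2 : r ≠ 2) (hrp : r ≠ p)
    (k ηk : ℕ) (hk1 : orderOf ((Fintype.card F : ℕ) : ZMod r) = k)
    (hηk : (Odd k ∧ ηk = k) ∨ (Even k ∧ 2 * ηk = k)) :
    (2 * r ∈ Set.range (orderOf : Cfsg.PSp n F → ℕ)) ↔
      (ηk + 1 ≤ n ∨ (ηk = n ∧ ((Even k ∧ 4 ∣ Fintype.card F ^ n + 1) ∨
        (Odd k ∧ 4 ∣ Fintype.card F ^ n - 1)))) := by
  classical
  have hr3 : 3 ≤ r := by
    have := hr.two_le
    omega
  have hn1 : 1 ≤ n := by omega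
  constructor
  · rintro ⟨y, hy⟩
    obtain ⟨g, rfl⟩ := QuotientGroup.mk_surjective y
    have h1 : (QuotientGroup.mk g : Cfsg.PSp n F) ^ (2 * r) = 1 := by
      rw [← hy]
      exact pow_orderOf_eq_one _
    have h2 : (QuotientGroup.mk g : Cfsg.PSp n F) ^ r ≠ 1 := by
      intro h
      have h3 := orderOf_dvd_of_pow_eq_one h
      rw [hy] at h3
      have := Nat.le_of_dvd hr.pos h3
      omega
    have h3 : (QuotientGroup.mk g : Cfsg.PSp n F) ^ 2 ≠ 1 := by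
      intro h
      have h3 := orderOf_dvd_of_pow_eq_one h
      rw [hy] at h3
      have := Nat.le_of_dvd (by norm_num) h3
      omega
    rw [mk_pow_eq_one_iff_PSp hn1] at h1
    rw [Ne, mk_pow_eq_one_iff_PSp hn1, not_or] at h2 h3
    obtain ⟨hle, himp⟩ := Cfsg.Agent.Lib.Helper29.SpTwoPrimeNec.sp_two_mul_prime_nec p hp2 r hr hr2 hrp hn1
      (g : Matrix (Fin n ⊕ Fin n) (Fin n ⊕ Fin n) F) g.2 h1 h2 h3 k ηk hk1 hηk
    by_cases hlt : ηk + 1 ≤ n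
    · exact Or.inl hlt
    · have hηn : ηk = n := by omega
      exact Or.inr ⟨hηn, himp hηn⟩
  · intro h
    obtain ⟨y, hy⟩ := Cfsg.Agent.Lib.Helper66.PSpTwoMul.exists_psp_two_mul_prime p hp2 r hr hr2 hrp hn k ηk hk1 hηk h
    exact ⟨y, hy⟩

theorem psp_graph_D {F : Type*} [Field F] [Fintype F] (p : ℕ) [Fact p.Prime] [CharP F p]
    (hp2 : p ≠ 2) (n : ℕ) (hn : 2 ≤ n) :
    2 * p ∈ Set.range (orderOf : Cfsg.PSp n F → ℕ) := by
  obtain ⟨y, hy⟩ := Cfsg.Agent.Lib.Helper66.PSpTwoMul.exists_psp_two_mul_char (F := F) p hp2 hn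
  exact ⟨y, hy⟩

end Cfsg.Agent.Lib.Helper40
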