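import Mathlib
import Cfsg.Agent.Lib.Helper40.PSLOrders

/-!
# Elements of prime power order in `GL(W)` over a finite field (helper40)

* `dvd_card_of_free`: a permutation with `π ^ N = 1` all of whose point periods are multiples of `N`
  acts on a set of size divisible by `N`.
* `dvd_pow_finrank_sub_one`: `y ^ (r ^ k) = 1` with `y ^ (r ^ (k - 1))` fixed point free gives
  `r ^ k ∣ q ^ dim - 1`.
* `exists_dvd_pow_sub_one_of_pow_prime_pow`: an element of order `r ^ k` (`r` not the characteristic)
  gives `r ^ k ∣ q ^ j - 1` for some `1 ≤ j ≤ dim`.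
* `pi_orderOf_dvd_iff`: orders in finite direct powers.
-/

set_option autoImplicit false
set_option linter.style.haveILetI false

namespace Cfsg.Agent.Lib.Helper40

open Module

/-- a permutation all of whose point periods are multiples of `N` moves a multiple of `N` points -/
theorem dvd_card_of_free {X : Type*} [Finite X] (π : Equiv.Perm X) (N : ℕ) (hN : 0 < N)
    (hπ : π ^ N = 1) (hfree : ∀ (x : X) (m : ℕ), (π ^ m) x = x → N ∣ m) : N ∣ Nat.card X := by
  classical
  rcases isEmpty_or_nonempty X with hX | ⟨⟨x0⟩⟩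
  · rw [Nat.card_of_isEmpty]
    exact dvd_zero N
  have hord : orderOf π = N := by
    apply Nat.dvd_antisymm (orderOf_dvd_of_pow_eq_one hπ)
    apply hfree x0
    rw [pow_orderOf_eq_one]
    rfl
  have hstab : ∀ b : X, MulAction.stabilizer (Subgroup.zpowers π) b = ⊥ := by
    intro b
    rw [eq_bot_iff]
    rintro ⟨g, hg⟩ hgb
    rw [MulAction.mem_stabilizer_iff] at hgb
    have hfin : IsOfFinOrder π := isOfFinOrder_iff_pow_eq_one.mpr ⟨N, hN, hπ⟩
    obtain ⟨m, rfl⟩ := (hfin.mem_powers_iff_mem_zpowers.mpr hg)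
    have h1 : (π ^ m) b = b := hgb
    have h2 := hfree b m h1
    rw [Subgroup.mem_bot]
    apply Subtype.ext
    show π ^ m = 1
    obtain ⟨c, rfl⟩ := h2
    rw [pow_mul, hπ, one_pow]
  have e := MulAction.selfEquivOrbitsQuotientProd hstab
  rw [Nat.card_congr e, Nat.card_prod, Nat.card_zpowers, hord]
  exact dvd_mul_left N _

section lin
variable {F : Type*} [Field F] [Fintype F] {U : Type*} [AddCommGroup U] [Module F U]
  [FiniteDimensional F U]

/-- an element of prime power order `r ^ k` whose power of order `r` is fixed point free -/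
theorem dvd_pow_finrank_sub_one (y : Module.End F U) (r k : ℕ) (hr : r.Prime) (hk : 1 ≤ k)
    (hy : y ^ (r ^ k) = 1) (hfree : ∀ w : U, (y ^ (r ^ (k - 1))) w = w → w = 0) :
    r ^ k ∣ Fintype.card F ^ (finrank F U) - 1 := by
  classical
  haveI : Finite U := Module.finite_of_finite F
  have hpos : 0 < r ^ k := pow_pos hr.pos k
  have hy1 : y ^ (r ^ k - 1) * y = 1 := by
    rw [← pow_succ, Nat.sub_add_cancel hpos, hy]
  have hy2 : y * y ^ (r ^ k - 1) = 1 := by
    rw [← pow_succ', Nat.sub_add_cancel hpos, hy]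
  let σ : Equiv.Perm U :=
    { toFun := fun w => y w
      invFun := fun w => (y ^ (r ^ k - 1)) w
      left_inv := fun w => by
        show (y ^ (r ^ k - 1)) (y w) = w
        rw [← Module.End.mul_apply, hy1, Module.End.one_apply]
      right_inv := fun w => by
        show y ((y ^ (r ^ k - 1)) w) = w
        rw [← Module.End.mul_apply, hy2, Module.End.one_apply] }
  have hσpow : ∀ (m : ℕ) (w : U), (σ ^ m) w = (y ^ m) w := by
    intro m
    induction m with
    | zero => intro w; rfl
    | succ m ih =>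
      intro w
      rw [pow_succ, pow_succ, Equiv.Perm.mul_apply, Module.End.mul_apply, ih]
      rfl
  have hσ0 : ∀ w : U, σ w ≠ 0 ↔ w ≠ 0 := by
    intro w
    constructor
    · intro h hw
      apply h
      show y w = 0
      rw [hw, map_zero]
    · intro h hw
      apply h
      have h1 := σ.left_inv w
      rw [← h1]
      show (y ^ (r ^ k - 1)) (σ w) = 0
      rw [hw, map_zero]
  let π : Equiv.Perm {w : U // w ≠ 0} := σ.subtypePerm hσ0
  have hπpow : ∀ (m : ℕ) (x : {w : U // w ≠ 0}), ((π ^ m) x : U) = (y ^ m) x.1 := by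
    intro m x
    show ((σ.subtypePerm hσ0 ^ m) x : U) = _
    rw [Equiv.Perm.subtypePerm_pow, Equiv.Perm.subtypePerm_apply]
    exact hσpow m x.1
  have key := dvd_card_of_free π (r ^ k) hpos ?_ ?_
  · have hc : Nat.card {w : U // w ≠ 0} = Fintype.card F ^ (finrank F U) - 1 := by
      haveI : Fintype U := Fintype.ofFinite U
      have h1 := Set.card_ne_eq (0 : U)
      have h2 : Fintype.card U = Fintype.card F ^ (finrank F U) :=
        Module.card_eq_pow_finrank (K := F) (V := U)
      rw [← h2, ← h1, Nat.card_eq_fintype_card]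
      rfl
    rw [hc] at key
    exact key
  · apply Equiv.ext
    intro x
    apply Subtype.ext
    rw [hπpow, hy]
    rfl
  · intro x m hm
    have h1 : (y ^ m) x.1 = x.1 := by
      rw [← hπpow, hm]
    have h2 : (y ^ (r ^ k)) x.1 = x.1 := by rw [hy]; rfl
    have h3 : Function.IsPeriodicPt (⇑y) m x.1 := by
      show (⇑y)^[m] x.1 = x.1
      rw [← Module.End.pow_apply]
      exact h1
    have h4 : Function.IsPeriodicPt (⇑y) (r ^ k) x.1 := by
      show (⇑y)^[r ^ k] x.1 = x.1
      rw [← Module.End.pow_apply]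
      exact h2
    have h5 := h3.gcd h4
    have h6 : Nat.gcd m (r ^ k) ∣ r ^ k := Nat.gcd_dvd_right _ _
    obtain ⟨j, hj, hj'⟩ := (Nat.dvd_prime_pow hr).mp h6
    rcases Nat.lt_or_ge j k with hjk | hjk
    · exfalso
      apply x.2
      apply hfree
      have h7 : Function.IsPeriodicPt (⇑y) (r ^ (k - 1)) x.1 := by
        apply h5.trans_dvd
        rw [hj']
        exact pow_dvd_pow r (by omega)
      have h8 : (⇑y)^[r ^ (k - 1)] x.1 = x.1 := h7
      rw [← Module.End.pow_apply] at h8
      exact h8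
    · have h7 : j = k := le_antisymm hj hjk
      rw [h7] at hj'
      rw [← hj']
      exact Nat.gcd_dvd_left _ _

/-- an element of order `r ^ k` in `GL(W)` forces `r ^ k ∣ q ^ j - 1` for some `1 ≤ j ≤ dim W` -/
theorem exists_dvd_pow_sub_one_of_pow_prime_pow (y : Module.End F U) (r k : ℕ) (hr : r.Prime)
    (hk : 1 ≤ k) (hy : y ^ (r ^ k) = 1) (hz : y ^ (r ^ (k - 1)) ≠ 1) (hrF : (r : F) ≠ 0) :
    ∃ j, 1 ≤ j ∧ j ≤ finrank F U ∧ r ^ k ∣ Fintype.card F ^ j - 1 := by
  set z := y ^ (r ^ (k - 1)) with hzdef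
  have hzr : z ^ r = 1 := by
    rw [hzdef, ← pow_mul, ← pow_succ, Nat.sub_add_cancel hk, hy]
  have hcomm : Commute y (z - 1) := by
    apply Commute.sub_right _ (Commute.one_right _)
    exact (Commute.refl y).pow_right _
  set R := LinearMap.range (z - 1) with hR
  have hyR : ∀ v ∈ R, y v ∈ R := by
    rintro v ⟨w, rfl⟩
    refine ⟨y w, ?_⟩
    rw [← Module.End.mul_apply, ← Module.End.mul_apply, hcomm.eq]
  have hR0 : finrank F R ≠ 0 := by
    intro h
    have h1 : R = ⊥ := Submodule.finrank_eq_zero.mp h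
    apply hz
    have h2 : z - 1 = 0 := LinearMap.range_eq_bot.mp h1
    exact sub_eq_zero.mp h2
  refine ⟨finrank F R, by omega, Submodule.finrank_le R, ?_⟩
  apply dvd_pow_finrank_sub_one (y.restrict hyR) r k hr hk
  · rw [Module.End.pow_restrict _ hyR]
    apply LinearMap.ext
    intro v
    apply Subtype.ext
    rw [LinearMap.restrict_apply]
    simp only [hy, Module.End.one_apply]
  · intro w hw
    rw [Module.End.pow_restrict _ hyR] at hw
    have h1 : z w.1 = w.1 := congrArg Subtype.val hw
    have h2 : w.1 ∈ LinearMap.ker (z - 1) := by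
      rw [LinearMap.mem_ker, LinearMap.sub_apply, Module.End.one_apply, h1, sub_self]
    apply Subtype.ext
    exact Submodule.disjoint_def.mp (disjoint_ker_range r hrF z hzr) w.1 h2 w.2

end lin


/-- orders in a direct power -/
theorem pi_orderOf_dvd_iff {G : Type*} [Group G] {k : ℕ} (f : Fin k → G) (m : ℕ) :
    orderOf f ∣ m ↔ ∀ i, orderOf (f i) ∣ m := by
  rw [orderOf_dvd_iff_pow_eq_one, funext_iff]
  refine forall_congr' (fun i => ?_)
  rw [Pi.pow_apply, Pi.one_apply, orderOf_dvd_iff_pow_eq_one]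

end Cfsg.Agent.Lib.Helper40
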