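import Mathlib
import Cfsg.Agent.Lib.Helper58.RU.Defs
import Cfsg.Agent.Lib.Helper75.Clifford

/-!
# RU-[S] (project S4751, owner helper58): the Sylow dichotomy

`sylow_or_two`: in the situation of the Clifford core (`Core Q χ`), with `Q` of exponent `p` and the
twisted Parseval identity `hA`, either `Q` is a Sylow `p`-subgroup or `p = 2`, `|Q| = 4`, `|P| = 8`.
-/

set_option autoImplicit false

open Cfsg Cfsg.Agent.Lib.Helper58.RU
open scoped ComplexConjugate

universe u

namespace Cfsg.Agent.Lib.Helper40.RU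

variable {G : Type u} [Group G]

/-- arithmetic core of the Sylow dichotomy -/
theorem arith_core {p q r : ℕ} (hp : p.Prime) {n k : ℕ} (hq : q = p ^ n) (hr : r = p ^ k)
    (N : ℕ) (h : ((q : ℤ) * r) * N = ((q : ℤ) - 1) ^ 2 + (q : ℤ) * r - 1) (hq2 : q ≠ 2) :
    r = 1 ∨ (p = 2 ∧ r = 2 ∧ 4 ≤ q) := by
  have hq0 : (q : ℤ) ≠ 0 := by
    rw [hq]; exact_mod_cast (pow_pos hp.pos n).ne'
  have h1 : (r : ℤ) * ((N : ℤ) - 1) = (q : ℤ) - 2 := by
    apply mul_left_cancel₀ hq0
    linear_combination h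
  have hdvd : (r : ℤ) ∣ (q : ℤ) - 2 := ⟨_, h1.symm⟩
  rcases Nat.eq_zero_or_pos k with hk | hk
  · left; rw [hr, hk, pow_zero]
  right
  have hpr : (p : ℤ) ∣ (r : ℤ) := by
    rw [hr]; exact_mod_cast dvd_pow_self p hk.ne'
  have hpq2 : (p : ℤ) ∣ (q : ℤ) - 2 := hpr.trans hdvd
  rcases Nat.eq_zero_or_pos n with hn | hn
  · exfalso
    have hq1 : q = 1 := by rw [hq, hn, pow_zero]
    rw [hq1] at hdvd
    have : (r : ℤ) ∣ 1 := by
      have : ((1 : ℕ) : ℤ) - 2 = -1 := by norm_num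
      rw [this] at hdvd
      exact (dvd_neg.mp hdvd)
    have hr1 : r = 1 := by
      have := Int.eq_one_of_dvd_one (by positivity) this
      exact_mod_cast this
    rw [hr] at hr1
    have : p ^ k ≠ 1 := by
      have := Nat.one_lt_pow hk.ne' hp.one_lt
      omega
    exact this hr1
  have hpq : (p : ℤ) ∣ (q : ℤ) := by
    rw [hq]; exact_mod_cast dvd_pow_self p hn.ne'
  have hp2 : (p : ℤ) ∣ 2 := by
    have := dvd_sub hpq hpq2
    simp at this
    exact this
  have hp2' : p = 2 := by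
    have : p ∣ 2 := by exact_mod_cast hp2
    exact (Nat.prime_dvd_prime_iff_eq hp Nat.prime_two).mp this
  subst hp2'
  have hn2 : 2 ≤ n := by
    rcases Nat.lt_or_ge n 2 with hlt | hge
    · exfalso
      have : n = 1 := by omega
      rw [this, pow_one] at hq
      exact hq2 hq
    · exact hge
  have h4q : 4 ∣ q := by
    rw [hq]
    exact (show (4 : ℕ) = 2 ^ 2 by norm_num) ▸ pow_dvd_pow 2 hn2
  have hq4 : 4 ≤ q := Nat.le_of_dvd (by rw [hq]; positivity) h4q
  refine ⟨rfl, ?_, hq4⟩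
  rcases Nat.lt_or_ge k 2 with hlt | hge
  · have : k = 1 := by omega
    rw [hr, this, pow_one]
  · exfalso
    have h4r : (4 : ℤ) ∣ (r : ℤ) := by
      rw [hr]
      exact_mod_cast (show (4 : ℕ) = 2 ^ 2 by norm_num) ▸ pow_dvd_pow 2 hge
    have h4q' : (4 : ℤ) ∣ (q : ℤ) := by exact_mod_cast h4q
    have h42 : (4 : ℤ) ∣ (q : ℤ) - ((q : ℤ) - 2) := dvd_sub h4q' (h4r.trans hdvd)
    rw [sub_sub_cancel] at h42
    norm_num at h42

/-- the norm square of a restricted character is a natural number -/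
theorem exists_nat_classInner_self {H : Type u} [Group H] [Fintype H] {ψ : H → ℂ}
    (hψ : IsCharacter H ψ) : ∃ n : ℕ, classInner ψ ψ = n := by
  rw [Cfsg.Agent.Lib.Helper78.classInner_eq_sum_mul_conj ψ
    (Cfsg.Agent.Lib.Helper78.IsCharacter.isClassFunction hψ)]
  choose a ha using fun φ => Cfsg.Agent.Lib.Helper78.IsCharacter.exists_nat_classInner hψ φ
  refine ⟨∑ φ, a φ * a φ, ?_⟩
  simp [ha]

/-- the dual group of a finite group in which all elements commute has the same order -/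
theorem card_dual_of_comm {H : Type u} [Group H] [Finite H] (hc : ∀ a b : H, a * b = b * a) :
    Nat.card (H →* ℂˣ) = Nat.card H := by
  let _i : CommGroup H := { (inferInstance : Group H) with mul_comm := hc }
  have hne : NeZero ((Monoid.exponent H : ℕ) : ℂ) :=
    ⟨by exact_mod_cast Monoid.exponent_ne_zero_of_finite⟩
  exact CommGroup.card_monoidHom_of_hasEnoughRootsOfUnity H ℂ

/-- the dual-group argument: a conjugation of order at most two on the dual of an elementary abelian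
2-group with exactly one nontrivial fixed point forces `|Q| ≤ 4`. -/
theorem card_le_four_of_fixed [Finite G] (Q : Subgroup G) [Q.Normal]
    (hcomm : ∀ x ∈ Q, ∀ y ∈ Q, x * y = y * x) (hexp : ∀ x ∈ Q, x ^ 2 = 1) (y : G)
    (hy2 : y * y ∈ Q) (hfix : (fixedHoms Q y).ncard = 1) : Nat.card Q ≤ 4 := by
  classical
  have hcardL : Nat.card (Q →* ℂˣ) = Nat.card Q :=
    card_dual_of_comm (fun a b => Subtype.ext (hcomm a a.2 b b.2))
  have hfinL : Finite (Q →* ℂˣ) :=
    Nat.finite_of_card_ne_zero (by rw [hcardL]; exact Nat.card_pos.ne')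
  -- σ as a monoid hom of the dual group
  let σ : (Q →* ℂˣ) →* (Q →* ℂˣ) :=
    { toFun := conjHom Q y
      map_one' := by ext x; simp
      map_mul' := fun φ ψ => by ext x; simp }
  have hσ : ∀ φ, σ φ = conjHom Q y φ := fun _ => rfl
  have hσσ : ∀ φ, σ (σ φ) = φ := by
    intro φ
    ext x
    rw [hσ, hσ, conjHom_apply, conjHom_apply]
    congr 2
    apply Subtype.ext
    show y * (y * (x : G) * y⁻¹) * y⁻¹ = x
    have h1 := hcomm _ hy2 _ x.2
    calc y * (y * (x : G) * y⁻¹) * y⁻¹ = (y * y * x) * (y⁻¹ * y⁻¹) := by group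
      _ = (x * (y * y)) * (y⁻¹ * y⁻¹) := by rw [h1]
      _ = x := by group
  have hsq : ∀ φ : Q →* ℂˣ, φ * φ = 1 := by
    intro φ
    ext x
    rw [MonoidHom.mul_apply, ← map_mul, MonoidHom.one_apply]
    have : x * x = 1 := by
      apply Subtype.ext
      have := hexp x x.2
      rw [pow_two] at this
      exact this
    rw [this, map_one]
  -- the fixed subgroup
  let F : Subgroup (Q →* ℂˣ) := MonoidHom.eqLocus σ (MonoidHom.id _)
  have hF : ∀ φ, φ ∈ F ↔ σ φ = φ := fun φ => Iff.rfl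
  have hFset : (F : Set (Q →* ℂˣ)) = insert 1 (fixedHoms Q y) := by
    ext φ
    rw [SetLike.mem_coe, hF, Set.mem_insert_iff]
    constructor
    · intro h
      by_cases h1 : φ = 1
      · exact Or.inl h1
      · exact Or.inr ⟨h1, h⟩
    · rintro (h | h)
      · rw [h]; exact map_one σ
      · exact h.2
  have hfin : (fixedHoms Q y).Finite := Set.toFinite _
  have hFcard : Nat.card F = 2 := by
    have h1 : Nat.card F = (F : Set (Q →* ℂˣ)).ncard := Nat.card_coe_set_eq _
    rw [h1, hFset, Set.ncard_insert_of_notMem (fun h => h.1 rfl) hfin, hfix]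
  -- τ = id * σ
  let τ : (Q →* ℂˣ) →* (Q →* ℂˣ) := MonoidHom.id _ * σ
  have hτ : ∀ φ, τ φ = φ * σ φ := fun _ => rfl
  have hker : τ.ker ≤ F := by
    intro φ hφ
    rw [MonoidHom.mem_ker, hτ] at hφ
    rw [hF]
    have h1 : φ * σ φ = φ * φ := by rw [hφ, hsq]
    exact mul_left_cancel (a := φ) h1
  have hrange : τ.range ≤ F := by
    rintro _ ⟨φ, rfl⟩
    rw [hF, hτ, map_mul, hσσ]
    exact mul_comm (σ φ) φ
  have h1 : Nat.card τ.ker * Nat.card τ.range = Nat.card (Q →* ℂˣ) := by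
    rw [← Subgroup.index_ker, Subgroup.card_mul_index]
  have h2 : Nat.card τ.ker ≤ 2 := hFcard ▸ Subgroup.card_le_of_le hker
  have h3 : Nat.card τ.range ≤ 2 := hFcard ▸ Subgroup.card_le_of_le hrange
  rw [← hcardL, ← h1]
  calc Nat.card τ.ker * Nat.card τ.range ≤ 2 * 2 := Nat.mul_le_mul h2 h3
    _ = 4 := by norm_num

/-- nonidentity elements of a `p`-subgroup have order divisible by `p` -/
theorem dvd_orderOf_of_mem_pGroup {p : ℕ} (hp : p.Prime) {P : Subgroup G} (hP : IsPGroup p P)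
    {g : G} (hg : g ∈ P) (hg1 : g ≠ 1) : p ∣ orderOf g := by
  obtain ⟨k, hk⟩ := hP ⟨g, hg⟩
  have hk' : g ^ p ^ k = 1 := by
    have := congrArg Subtype.val hk
    simpa using this
  have hd : orderOf g ∣ p ^ k := orderOf_dvd_of_pow_eq_one hk'
  obtain ⟨j, -, hj⟩ := (Nat.dvd_prime_pow hp).mp hd
  rcases Nat.eq_zero_or_pos j with h0 | h0
  · exfalso
    rw [h0, pow_zero, orderOf_eq_one_iff] at hj
    exact hg1 hj
  · rw [hj]; exact dvd_pow_self p h0.ne'

/-- **RU-[S]**: the Sylow dichotomy. -/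
theorem sylow_or_two [Finite G] {p : ℕ} [Fact p.Prime] (Q : Subgroup G) [Q.Normal] [Fintype Q]
    (hQp : IsPGroup p Q) {χ : G → ℂ} (hχ : IsIrrCharacter G χ) (hnl : χ 1 ≠ 1)
    (hroot : ∀ g : G, p ∣ orderOf g → ‖χ g‖ = 1) (hcore : Core Q χ)
    (hexp : ∀ x ∈ Q, x ^ p = 1)
    (hA : ∀ y : G, ∑ x : Q, ‖χ (y * x)‖ ^ 2 = (Nat.card Q : ℝ) * ((fixedHoms Q y).ncard : ℝ))
    (P : Sylow p G) (hQP : Q ≤ (P : Subgroup G)) :
    Nat.card Q = Nat.card (P : Subgroup G) ∨
      (p = 2 ∧ Nat.card Q = 4 ∧ Nat.card (P : Subgroup G) = 8) := by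
  classical
  have hp : p.Prime := Fact.out
  have : Fintype (P : Subgroup G) := Fintype.ofFinite _
  -- orders
  obtain ⟨n, hn⟩ := (IsPGroup.iff_card.mp hQp)
  obtain ⟨a, ha⟩ := (IsPGroup.iff_card.mp P.2)
  have hdvd : Nat.card Q ∣ Nat.card (P : Subgroup G) := Subgroup.card_dvd_of_le hQP
  have hna : n ≤ a := by
    rw [hn, ha] at hdvd
    exact (Nat.pow_dvd_pow_iff_le_right hp.one_lt).mp hdvd
  have hPqr : Nat.card (P : Subgroup G) = Nat.card Q * p ^ (a - n) := by
    rw [ha, hn, ← pow_add]; congr 1; omega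
  have hq0 : Nat.card Q ≠ 0 := Nat.card_pos.ne'
  -- the degree
  have hdeg := hcore.deg
  have hq2 : Nat.card Q ≠ 2 := by
    intro h2
    apply hnl
    rw [hdeg, h2]; norm_num
  -- character of P
  have hψ : IsCharacter (P : Subgroup G) (fun h : (P : Subgroup G) => χ h) :=
    Cfsg.Agent.Lib.Helper75.isCharacter_res _
      (Cfsg.Agent.Lib.Helper78.IsIrrCharacter.isCharacter hχ)
  obtain ⟨N, hN⟩ := exists_nat_classInner_self hψ
  -- values on P
  have hval : ∀ g : (P : Subgroup G), g ≠ 1 → χ g * conj (χ g) = 1 := by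
    intro g hg
    have hg1 : (g : G) ≠ 1 := fun h => hg (Subtype.ext h)
    have h1 := hroot g (dvd_orderOf_of_mem_pGroup hp P.2 g.2 hg1)
    rw [Complex.mul_conj, Complex.normSq_eq_norm_sq, h1]; norm_num
  have hval1 : χ ((1 : (P : Subgroup G)) : G) * conj (χ ((1 : (P : Subgroup G)) : G)) =
      ((Nat.card Q : ℂ) - 1) ^ 2 := by
    rw [Subgroup.coe_one, hdeg, map_sub, map_one, Complex.conj_natCast, sq]
  have hsum : ∑ g : (P : Subgroup G), χ g * conj (χ g) =
      ((Nat.card Q : ℂ) - 1) ^ 2 + ((Nat.card (P : Subgroup G) : ℂ) - 1) := by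
    rw [← Finset.add_sum_erase Finset.univ _ (Finset.mem_univ (1 : (P : Subgroup G))), hval1]
    congr 1
    rw [Finset.sum_congr rfl (fun g hg => hval g (Finset.ne_of_mem_erase hg)), Finset.sum_const,
      Finset.card_erase_of_mem (Finset.mem_univ _), Finset.card_univ, ← Nat.card_eq_fintype_card,
      nsmul_eq_mul, mul_one, Nat.cast_sub Nat.card_pos, Nat.cast_one]
  have hmainC : ((Nat.card (P : Subgroup G) : ℂ)) * (N : ℂ) =
      ((Nat.card Q : ℂ) - 1) ^ 2 + ((Nat.card (P : Subgroup G) : ℂ) - 1) := by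
    rw [← hN, ← hsum]
    unfold classInner
    have : (Nat.card (P : Subgroup G) : ℂ) ≠ 0 := by exact_mod_cast Nat.card_pos.ne'
    field_simp
  have hmain : ((Nat.card Q : ℤ) * (p ^ (a - n) : ℕ)) * N =
      ((Nat.card Q : ℤ) - 1) ^ 2 + (Nat.card Q : ℤ) * (p ^ (a - n) : ℕ) - 1 := by
    have h := hmainC
    rw [hPqr] at h
    have h' : (((Nat.card Q : ℤ) * (p ^ (a - n) : ℕ)) * N : ℂ) =
        ((((Nat.card Q : ℤ) - 1) ^ 2 + (Nat.card Q : ℤ) * (p ^ (a - n) : ℕ) - 1 : ℤ) : ℂ) := by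
      push_cast
      push_cast at h
      linear_combination h
    exact_mod_cast h'
  rcases arith_core hp hn rfl N hmain hq2 with hr1 | ⟨hp2, hr2, hq4⟩
  · left
    rw [hPqr, hr1, mul_one]
  right
  subst hp2
  have hP2q : Nat.card (P : Subgroup G) = Nat.card Q * 2 := by rw [hPqr, hr2]
  -- an element of P outside Q
  have hex : ∃ y, y ∈ (P : Subgroup G) ∧ y ∉ Q := by
    by_contra hcon
    push Not at hcon
    have hle : (P : Subgroup G) ≤ Q := fun y hy => hcon y hy
    have heq : (P : Subgroup G) = Q := le_antisymm hle hQP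
    rw [heq] at hP2q
    omega
  obtain ⟨y, hyP, hyQ⟩ := hex
  -- exactly one fixed nontrivial hom
  have hfix : (fixedHoms Q y).ncard = 1 := by
    have h1 : ∀ x : Q, ‖χ (y * x)‖ ^ 2 = 1 := by
      intro x
      have hmem : y * (x : G) ∈ (P : Subgroup G) := mul_mem hyP (hQP x.2)
      have hne : y * (x : G) ≠ 1 := by
        intro h
        apply hyQ
        have : y = (x : G)⁻¹ := eq_inv_of_mul_eq_one_left h
        rw [this]
        exact inv_mem x.2
      rw [hroot _ (dvd_orderOf_of_mem_pGroup hp P.2 hmem hne)]; norm_num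
    have h2 := hA y
    rw [Finset.sum_congr rfl (fun x _ => h1 x), Finset.sum_const, Finset.card_univ,
      ← Nat.card_eq_fintype_card, nsmul_eq_mul, mul_one] at h2
    have hq0' : (Nat.card Q : ℝ) ≠ 0 := by exact_mod_cast hq0
    have h3 : ((fixedHoms Q y).ncard : ℝ) = 1 := by
      apply mul_left_cancel₀ hq0'
      rw [← h2, mul_one]
    exact_mod_cast h3
  -- y² ∈ Q
  have hy2 : y * y ∈ Q := by
    have hidx : (Q.subgroupOf (P : Subgroup G)).index = 2 := by
      have h1 := Subgroup.card_mul_index (Q.subgroupOf (P : Subgroup G))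
      rw [Nat.card_congr (Subgroup.subgroupOfEquivOfLe hQP).toEquiv, hP2q] at h1
      exact Nat.eq_of_mul_eq_mul_left (Nat.pos_of_ne_zero hq0) h1
    have := Subgroup.mul_self_mem_of_index_two hidx (⟨y, hyP⟩ : (P : Subgroup G))
    rw [Subgroup.mem_subgroupOf] at this
    exact this
  have hq4' : Nat.card Q ≤ 4 :=
    card_le_four_of_fixed Q hcore.comm hexp y hy2 hfix
  have hq4eq : Nat.card Q = 4 := le_antisymm hq4' hq4
  refine ⟨rfl, hq4eq, ?_⟩
  rw [hP2q, hq4eq]

end Cfsg.Agent.Lib.Helper40.RU
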