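import Mathlib
import Cfsg.Agent.Lib.Helper40.UnitaryBasic
import Cfsg.Agent.Lib.Helper40.SU3Center

/-!
# Explicit elements of `SU_3(q)`, `q` odd (helper40)

Matrices `X` with `det X = 1`, `Xᵀ * X.map (· ^ q) = 1` of orders divisible by `q + 1` (modulo
scalars), `p (q + 1)`, `q² - 1`, and the passage to element orders of `PSU_3(q)`.
-/

set_option autoImplicit false
set_option linter.unusedSimpArgs false
set_option linter.unusedSectionVars false

namespace Cfsg.Agent.Lib.Helper40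

open Matrix

section elts
variable {F : Type*} [Field F] [Fintype F]

/-- an element whose `m`-th power is `-1` -/
theorem exists_pow_eq_neg_one (m : ℕ) (hm : 1 ≤ m) (h : 2 * m ∣ Fintype.card F - 1) :
    ∃ b : F, b ≠ 0 ∧ b ^ m = -1 := by
  obtain ⟨b, hb0, hb⟩ := exists_orderOf_eq_of_dvd_card_sub_one (F := F) (2 * m) h
  refine ⟨b, hb0, ?_⟩
  have h1 : (b ^ m - 1) * (b ^ m + 1) = 0 := by
    have : b ^ (2 * m) = 1 := (hb _).mpr dvd_rfl
    rw [two_mul, pow_add] at this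
    linear_combination this
  rcases mul_eq_zero.mp h1 with h2 | h2
  · exfalso
    have h3 := (hb m).mp (sub_eq_zero.mp h2)
    have := Nat.le_of_dvd (by omega) h3
    omega
  · exact eq_neg_of_add_eq_zero_left h2

/-- parity facts for odd `q` -/
theorem two_mul_dvd_sq_sub_one (q : ℕ) (hq : Odd q) :
    2 * (q + 1) ∣ q ^ 2 - 1 ∧ 2 * (q - 1) ∣ q ^ 2 - 1 := by
  obtain ⟨t, rfl⟩ := hq
  have e : (2 * t + 1) ^ 2 - 1 = (2 * t + 1 + 1) * (2 * t + 1 - 1) := sq_sub_one_eq' _ (by omega)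
  rw [e]
  constructor
  · rw [mul_comm 2]
    exact Nat.mul_dvd_mul_left _ ⟨t, by omega⟩
  · exact Nat.mul_dvd_mul ⟨t + 1, by omega⟩ (dvd_refl _)

/-- the basic field data for `SU_3(q)`, `q` odd -/
theorem exists_unitary_data (p : ℕ) [Fact p.Prime] [CharP F p] (hp3 : 3 ≤ p) (k : ℕ) (hk : 1 ≤ k)
    (hF : Fintype.card F = (p ^ k) ^ 2) :
    ∃ (σ : F →+* F) (a ε E t : F), (fun x : F => x ^ (p ^ k)) = ⇑σ ∧ (∀ x, σ (σ x) = x) ∧
      a ≠ 0 ∧ (∀ i : ℕ, a ^ i = 1 ↔ (p ^ k + 1) ∣ i) ∧ σ a = a⁻¹ ∧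
      ε ≠ 0 ∧ E * ε = -1 ∧ σ ε = E ∧ σ E = ε ∧ t ≠ 0 ∧ σ t = -t ∧ ((p ^ k : ℕ) : F) = 0 := by
  have hpp : p.Prime := Fact.out
  have hq1 : 1 ≤ p ^ k := Nat.one_le_pow _ _ hpp.pos
  have hq3 : 3 ≤ p ^ k := by
    calc 3 ≤ p := hp3
      _ = p ^ 1 := (pow_one p).symm
      _ ≤ p ^ k := Nat.pow_le_pow_right hpp.pos hk
  have hodd : Odd (p ^ k) := by
    apply Odd.pow
    rcases hpp.eq_two_or_odd' with h | h
    · omega
    · exact h
  obtain ⟨hd1, hd2⟩ := two_mul_dvd_sq_sub_one (p ^ k) hodd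
  have hc2 : ∀ c : F, c ^ ((p ^ k) ^ 2) = c := by
    intro c
    rw [← hF]
    exact FiniteField.pow_card c
  have hσ : ∀ c, iterateFrobenius F p k c = c ^ (p ^ k) := fun c => by rw [iterateFrobenius_def]
  obtain ⟨a, ha0, ha⟩ := exists_orderOf_eq_of_dvd_card_sub_one (F := F) (p ^ k + 1) (by
    rw [hF, sq_sub_one_eq' _ hq1]
    exact Dvd.intro _ rfl)
  obtain ⟨ε, hε0, hε⟩ := exists_pow_eq_neg_one (F := F) (p ^ k + 1) (by omega) (by rw [hF]; exact hd1)
  obtain ⟨t, ht0, ht⟩ := exists_pow_eq_neg_one (F := F) (p ^ k - 1) (by omega) (by rw [hF]; exact hd2)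
  refine ⟨iterateFrobenius F p k, a, ε, ε ^ (p ^ k), t, ?_, ?_, ha0, ha, ?_, hε0, ?_, hσ ε, ?_, ht0, ?_, ?_⟩
  · funext x
    rw [hσ]
  · intro x
    rw [hσ, hσ, ← pow_mul, ← sq, hc2]
  · rw [hσ]
    apply eq_inv_of_mul_eq_one_left
    rw [← pow_succ]
    exact (ha _).mpr dvd_rfl
  · rw [← pow_succ]
    exact hε
  · rw [hσ, ← pow_mul, ← sq, hc2]
  · rw [hσ]
    have : t ^ (p ^ k) = t ^ (p ^ k - 1) * t := by
      rw [← pow_succ, Nat.sub_add_cancel hq1]
    rw [this, ht, neg_one_mul]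
  · rw [CharP.cast_eq_zero_iff F p]
    exact dvd_pow_self p (by omega)


/-- powers of the mixed (unipotent times central torus) element -/
theorem mixed_pow (a ε E t : F) (hE : E * ε = -1) (i : ℕ) :
    (!![a * (1 + t), a * t * E, 0; a * t * ε, a * (1 - t), 0; 0, 0, (a ^ 2)⁻¹] :
      Matrix (Fin 3) (Fin 3) F) ^ i =
    !![a ^ i * (1 + i * t), a ^ i * (i * t) * E, 0; a ^ i * (i * t) * ε, a ^ i * (1 - i * t), 0;
      0, 0, ((a ^ 2)⁻¹) ^ i] := by
  induction i with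
  | zero =>
    ext k l
    fin_cases k <;> fin_cases l <;> simp
  | succ i ih =>
    rw [pow_succ, ih]
    ext k l
    fin_cases k <;> fin_cases l
    · simp [Matrix.mul_apply, Fin.sum_univ_three]
      linear_combination (a ^ (i + 1) * i * t ^ 2) * hE
    · simp [Matrix.mul_apply, Fin.sum_univ_three]
      ring
    · simp [Matrix.mul_apply, Fin.sum_univ_three]
    · simp [Matrix.mul_apply, Fin.sum_univ_three]
      ring
    · simp [Matrix.mul_apply, Fin.sum_univ_three]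
      linear_combination (a ^ (i + 1) * i * t ^ 2) * hE
    · simp [Matrix.mul_apply, Fin.sum_univ_three]
    · simp [Matrix.mul_apply, Fin.sum_univ_three]
    · simp [Matrix.mul_apply, Fin.sum_univ_three]
    · simp [Matrix.mul_apply, Fin.sum_univ_three, pow_succ]


/-- an element of order divisible by `p (q + 1)` in `SU_3(q)` (matrix form) -/
theorem exists_SU3_mixed (p : ℕ) [Fact p.Prime] [CharP F p] (hp3 : 3 ≤ p) (k : ℕ) (hk : 1 ≤ k)
    (hF : Fintype.card F = (p ^ k) ^ 2) :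
    ∃ X : Matrix (Fin 3) (Fin 3) F, X.det = 1 ∧ Xᵀ * X.map (· ^ (p ^ k)) = 1 ∧
      ∀ i, X ^ i = 1 → p * (p ^ k + 1) ∣ i := by
  have hpp : p.Prime := Fact.out
  obtain ⟨σ, a, ε, E, t, hσfun, hσ2, ha0, ha, hσa, hε0, hE, hσε, hσE, ht0, hσt, hq0⟩ :=
    exists_unitary_data (F := F) p hp3 k hk hF
  have ha2 : a ^ 2 * (a ^ 2)⁻¹ = 1 := mul_inv_cancel₀ (pow_ne_zero 2 ha0)
  have haa : a * a⁻¹ = 1 := mul_inv_cancel₀ ha0
  refine ⟨!![a * (1 + t), a * t * E, 0; a * t * ε, a * (1 - t), 0; 0, 0, (a ^ 2)⁻¹], ?_, ?_, ?_⟩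
  · rw [Matrix.det_fin_three]
    simp
    linear_combination (1 - t ^ 2 - t ^ 2 * E * ε) * ha2 - t ^ 2 * hE
  · rw [hσfun]
    ext i j
    fin_cases i <;> fin_cases j
    · simp [Matrix.mul_apply, Fin.sum_univ_three, hσa, hσε, hσE, hσt]
      linear_combination (1 - t ^ 2 - t ^ 2 * ε * E) * haa - t ^ 2 * hE
    · simp [Matrix.mul_apply, Fin.sum_univ_three, hσa, hσε, hσE, hσt]
      ring
    · simp [Matrix.mul_apply, Fin.sum_univ_three, hσa, hσε, hσE, hσt]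
    · simp [Matrix.mul_apply, Fin.sum_univ_three, hσa, hσε, hσE, hσt]
      ring
    · simp [Matrix.mul_apply, Fin.sum_univ_three, hσa, hσε, hσE, hσt]
      linear_combination (1 - t ^ 2 - t ^ 2 * ε * E) * haa - t ^ 2 * hE
    · simp [Matrix.mul_apply, Fin.sum_univ_three, hσa, hσε, hσE, hσt]
    · simp [Matrix.mul_apply, Fin.sum_univ_three, hσa, hσε, hσE, hσt]
    · simp [Matrix.mul_apply, Fin.sum_univ_three, hσa, hσε, hσE, hσt]
    · simp [Matrix.mul_apply, Fin.sum_univ_three, hσa, hσε, hσE, hσt]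
      linear_combination ha2
  · intro i hi
    rw [mixed_pow a ε E t hE] at hi
    have h00 := congrFun (congrFun hi 0) 0
    have h10 := congrFun (congrFun hi 1) 0
    simp at h00 h10
    have hi0 : (i : F) = 0 := by
      rcases h10 with (⟨h, _⟩ | h | h) | h
      · exact absurd h ha0
      · exact h
      · exact absurd h ht0
      · exact absurd h hε0
    rw [hi0, zero_mul, add_zero, mul_one] at h00
    have h1 : p ∣ i := (CharP.cast_eq_zero_iff F p i).mp hi0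
    have h2 : p ^ k + 1 ∣ i := (ha i).mp h00
    have hk0 : k ≠ 0 := by omega
    have hcop : Nat.Coprime p (p ^ k + 1) := by
      rw [Nat.Prime.coprime_iff_not_dvd hpp]
      intro h
      have := (Nat.dvd_add_right (dvd_pow_self p hk0)).mp h
      exact hpp.one_lt.ne' (Nat.dvd_one.mp this)
    exact hcop.mul_dvd_of_dvd_of_dvd h1 h2


/-- powers act on eigenvectors by powers of the eigenvalue -/
theorem pow_mulVec_eigen {n : ℕ} (M : Matrix (Fin n) (Fin n) F) (w : Fin n → F) (c : F)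
    (h : M *ᵥ w = c • w) (i : ℕ) : (M ^ i) *ᵥ w = c ^ i • w := by
  induction i with
  | zero => simp
  | succ i ih =>
    rw [pow_succ, ← Matrix.mulVec_mulVec, h, Matrix.mulVec_smul, ih, smul_smul, pow_succ, mul_comm]

/-- an element of order divisible by `q² - 1` in `SU_3(q)` (matrix form) -/
theorem exists_SU3_torus2 (p : ℕ) [Fact p.Prime] [CharP F p] (hp3 : 3 ≤ p) (k : ℕ) (hk : 1 ≤ k)
    (hF : Fintype.card F = (p ^ k) ^ 2) :
    ∃ X : Matrix (Fin 3) (Fin 3) F, X.det = 1 ∧ Xᵀ * X.map (· ^ (p ^ k)) = 1 ∧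
      ∀ i, X ^ i = 1 → (p ^ k) ^ 2 - 1 ∣ i := by
  have hpp : p.Prime := Fact.out
  obtain ⟨σ, a, ε, E, t, hσfun, hσ2, ha0, ha, hσa, hε0, hE, hσε, hσE, ht0, hσt, hq0⟩ :=
    exists_unitary_data (F := F) p hp3 k hk hF
  obtain ⟨μ, hμ0, hμ⟩ := exists_orderOf_eq_of_dvd_card_sub_one (F := F) ((p ^ k) ^ 2 - 1) (by rw [hF])
  have h2 : (2 : F) ≠ 0 := by
    intro h
    have h' : ((2 : ℕ) : F) = 0 := by exact_mod_cast h
    have := Nat.le_of_dvd (by norm_num) ((CharP.cast_eq_zero_iff F p 2).mp h')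
    omega
  have hσμ0 : σ μ ≠ 0 := by
    rw [Ne, map_eq_zero]
    exact hμ0
  set ν : F := (σ μ)⁻¹ with hν
  have hν0 : ν ≠ 0 := inv_ne_zero hσμ0
  have hσμ : σ μ = ν⁻¹ := by rw [hν, inv_inv]
  have hσν : σ ν = μ⁻¹ := by rw [hν, map_inv₀, hσ2]
  have hσε' : σ ε = -ε⁻¹ := by
    rw [hσε]
    field_simp
    exact hE
  have hσtwo : σ 2 = 2 := map_ofNat σ 2
  refine ⟨!![(μ + ν) / 2, (μ - ν) / (2 * ε), 0; ε * (μ - ν) / 2, (μ + ν) / 2, 0; 0, 0, (μ * ν)⁻¹],
    ?_, ?_, ?_⟩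
  · rw [Matrix.det_fin_three]
    simp
    field_simp
    ring
  · rw [hσfun]
    ext i j
    fin_cases i <;> fin_cases j
    · simp [Matrix.mul_apply, Fin.sum_univ_three, hσμ, hσν, hσε', hσtwo]
      field_simp
      ring
    · simp [Matrix.mul_apply, Fin.sum_univ_three, hσμ, hσν, hσε', hσtwo]
      field_simp
      ring
    · simp [Matrix.mul_apply, Fin.sum_univ_three, hσμ, hσν, hσε', hσtwo]
    · simp [Matrix.mul_apply, Fin.sum_univ_three, hσμ, hσν, hσε', hσtwo]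
      field_simp
      ring
    · simp [Matrix.mul_apply, Fin.sum_univ_three, hσμ, hσν, hσε', hσtwo]
      field_simp
      ring
    · simp [Matrix.mul_apply, Fin.sum_univ_three, hσμ, hσν, hσε', hσtwo]
    · simp [Matrix.mul_apply, Fin.sum_univ_three, hσμ, hσν, hσε', hσtwo]
    · simp [Matrix.mul_apply, Fin.sum_univ_three, hσμ, hσν, hσε', hσtwo]
    · simp [Matrix.mul_apply, Fin.sum_univ_three, hσμ, hσν, hσε', hσtwo]
      field_simp
  · intro i hi
    have hw : (!![(μ + ν) / 2, (μ - ν) / (2 * ε), 0; ε * (μ - ν) / 2, (μ + ν) / 2, 0;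
        0, 0, (μ * ν)⁻¹] : Matrix (Fin 3) (Fin 3) F) *ᵥ ![1, ε, 0] = μ • ![1, ε, 0] := by
      ext j
      fin_cases j
      · simp [Matrix.mulVec, dotProduct, Fin.sum_univ_three]
        field_simp
        ring
      · simp [Matrix.mulVec, dotProduct, Fin.sum_univ_three]
        field_simp
        ring
      · simp [Matrix.mulVec, dotProduct, Fin.sum_univ_three]
    have h1 := pow_mulVec_eigen _ _ _ hw i
    rw [hi, Matrix.one_mulVec] at h1
    have h3 := congrFun h1 0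
    simp at h3
    exact (hμ i).mp h3.symm


/-- a diagonal element of `SU_3(q)` of order `q + 1` modulo scalars (matrix form) -/
theorem exists_SU3_diag (p : ℕ) [Fact p.Prime] [CharP F p] (hp3 : 3 ≤ p) (k : ℕ) (hk : 1 ≤ k)
    (hF : Fintype.card F = (p ^ k) ^ 2) :
    ∃ X : Matrix (Fin 3) (Fin 3) F, X.det = 1 ∧ Xᵀ * X.map (· ^ (p ^ k)) = 1 ∧
      ∀ (i : ℕ) (c : F), X ^ i = c • 1 → p ^ k + 1 ∣ i := by
  obtain ⟨σ, a, ε, E, t, hσfun, hσ2, ha0, ha, hσa, hε0, hE, hσε, hσE, ht0, hσt, hq0⟩ :=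
    exists_unitary_data (F := F) p hp3 k hk hF
  have haa : a * a⁻¹ = 1 := mul_inv_cancel₀ ha0
  refine ⟨Matrix.diagonal ![a, a⁻¹, 1], ?_, ?_, ?_⟩
  · rw [Matrix.det_diagonal, Fin.prod_univ_three]
    simp [haa]
  · rw [hσfun, Matrix.diagonal_transpose, Matrix.diagonal_map (map_zero σ),
      Matrix.diagonal_mul_diagonal, ← Matrix.diagonal_one]
    congr 1
    funext j
    fin_cases j
    · simp [hσa, haa]
    · simp [hσa, ha0]
    · simp
  · intro i c hi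
    rw [Matrix.diagonal_pow] at hi
    have h0 := congrFun (congrFun hi 0) 0
    have h2 := congrFun (congrFun hi 2) 2
    simp [Matrix.smul_apply] at h0 h2
    rw [← h2] at h0
    exact (ha i).mp h0

end elts

section psu
variable {F : Type*} [Field F] [Fintype F]

/-- the element of `SU_3(q)` defined by a matrix -/
noncomputable def su3OfMatrix (p : ℕ) [Fact p.Prime] [CharP F p] (k : ℕ)
    (M : Matrix (Fin 3) (Fin 3) F) (hdet : M.det = 1) (hU : Mᵀ * M.map (· ^ (p ^ k)) = 1) :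
    ↥(Cfsg.SU 3 F (p ^ k)) :=
  ⟨⟨M, hdet⟩, mem_SU_of_transpose_mul_map p k _ hU⟩

theorem su3OfMatrix_pow (p : ℕ) [Fact p.Prime] [CharP F p] (k : ℕ)
    (M : Matrix (Fin 3) (Fin 3) F) (hdet : M.det = 1) (hU : Mᵀ * M.map (· ^ (p ^ k)) = 1) (i : ℕ) :
    ((((su3OfMatrix p k M hdet hU) ^ i : ↥(Cfsg.SU 3 F (p ^ k))) :
      Matrix.SpecialLinearGroup (Fin 3) F) : Matrix (Fin 3) (Fin 3) F) = M ^ i := by
  rw [Subgroup.coe_pow, Matrix.SpecialLinearGroup.coe_pow]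
  rfl

instance finite_PSU3 (q : ℕ) : Finite (Cfsg.PSU 3 F q) := by
  unfold Cfsg.PSU
  infer_instance

/-- element orders of `PSU_3(q)` from matrices whose order is divisible by `N d` -/
theorem exists_PSU3_of_matrix (p : ℕ) [Fact p.Prime] [CharP F p] (k : ℕ) (hk : 1 ≤ k)
    (hF : Fintype.card F = (p ^ k) ^ 2)
    (M : Matrix (Fin 3) (Fin 3) F) (hdet : M.det = 1) (hU : Mᵀ * M.map (· ^ (p ^ k)) = 1)
    (N : ℕ) (hN : ∀ i, M ^ i = 1 → N * Nat.gcd 3 (p ^ k + 1) ∣ i) (s : ℕ) (hs : s ∣ N) :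
    ∃ x : Cfsg.PSU 3 F (p ^ k), orderOf x = s := by
  have h1 : N * Nat.gcd 3 (p ^ k + 1) ∣ orderOf (su3OfMatrix p k M hdet hU) := by
    apply hN
    rw [← su3OfMatrix_pow p k M hdet hU, pow_orderOf_eq_one]
    rfl
  have h2 := dvd_orderOf_mk_PSU3 p k hk hF _ N h1
  exact ⟨_, orderOf_pow_orderOf_div (orderOf_pos _).ne' (hs.trans h2)⟩

/-- element orders of `PSU_3(q)` from matrices whose order modulo scalars is divisible by `N` -/
theorem exists_PSU3_of_matrix' (p : ℕ) [Fact p.Prime] [CharP F p] (k : ℕ) (hk : 1 ≤ k)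
    (hF : Fintype.card F = (p ^ k) ^ 2)
    (M : Matrix (Fin 3) (Fin 3) F) (hdet : M.det = 1) (hU : Mᵀ * M.map (· ^ (p ^ k)) = 1)
    (N : ℕ) (hN : ∀ (i : ℕ) (c : F), M ^ i = c • 1 → N ∣ i) (s : ℕ) (hs : s ∣ N) :
    ∃ x : Cfsg.PSU 3 F (p ^ k), orderOf x = s := by
  set X := su3OfMatrix p k M hdet hU with hX
  set o := orderOf (QuotientGroup.mk X : Cfsg.PSU 3 F (p ^ k)) with ho
  have h1 : (QuotientGroup.mk X : Cfsg.PSU 3 F (p ^ k)) ^ o = 1 := pow_orderOf_eq_one _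
  rw [← QuotientGroup.mk_pow, QuotientGroup.eq_one_iff] at h1
  obtain ⟨c, hc⟩ := exists_scalar_of_mem_center_SU3 p k hk hF (X ^ o) h1
  rw [hX, su3OfMatrix_pow] at hc
  have h2 : N ∣ o := hN o c hc
  exact ⟨_, orderOf_pow_orderOf_div (orderOf_pos _).ne' (hs.trans h2)⟩

end psu

end Cfsg.Agent.Lib.Helper40
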