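import Mathlib

/-!
# Diagonal similitudes of alternating forms: eigenvalue pairing (helper40)

`card_eigen_le_of_similitude`: if the diagonal matrix `diagonal d` is a similitude with multiplier
`c` of a (left) nondegenerate bilinear form, then for every `α` the number of `i` with `d i = α`
is at most the number of `j` with `α * d j = c`.
-/

set_option autoImplicit false
set_option linter.unusedSectionVars false

namespace Cfsg.Agent.Lib.Helper40

open Matrix Module

section pairing
variable {F : Type*} [Field F] {ι : Type*} [Fintype ι] [DecidableEq ι]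

theorem card_eigen_le_of_similitude (d : ι → F) (B : (ι → F) →ₗ[F] (ι → F) →ₗ[F] F) (c : F)
    (hnd : ∀ u, (∀ v, B u v = 0) → u = 0)
    (hsim : ∀ u v, B (Matrix.diagonal d *ᵥ u) (Matrix.diagonal d *ᵥ v) = c * B u v) (α : F) :
    Nat.card {i : ι // d i = α} ≤ Nat.card {j : ι // α * d j = c} := by
  classical
  -- Gram relations
  have hG : ∀ k j, (d k * d j - c) * B (Pi.single k 1) (Pi.single j 1) = 0 := by
    intro k j
    have h := hsim (Pi.single k 1) (Pi.single j 1)
    rw [Matrix.diagonal_mulVec_single, Matrix.diagonal_mulVec_single, mul_one, mul_one] at h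
    have e1 : ∀ (i : ι) (a : F), (Pi.single i a : ι → F) = a • Pi.single i 1 := by
      intro i a
      rw [← Pi.single_smul, smul_eq_mul, mul_one]
    rw [e1 k, e1 j, map_smul, map_smul, LinearMap.smul_apply, smul_eq_mul, smul_eq_mul] at h
    linear_combination h
  -- extension by zero
  let ext : ({i : ι // d i = α} → F) →ₗ[F] (ι → F) :=
    LinearMap.pi (fun k => if h : d k = α then LinearMap.proj ⟨k, h⟩ else 0)
  have hext : ∀ (a : {i : ι // d i = α} → F) (k : ι),
      ext a k = if h : d k = α then a ⟨k, h⟩ else 0 := by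
    intro a k
    change (if h : d k = α then LinearMap.proj ⟨k, h⟩ else (0 : _ →ₗ[F] F)) a = _
    split_ifs with h
    · rfl
    · rfl
  let Φ : ({i : ι // d i = α} → F) →ₗ[F] ({j : ι // α * d j = c} → F) :=
    LinearMap.pi (fun j => (B.flip (Pi.single j.1 1)).comp ext)
  have hΦ : ∀ a j, Φ a j = B (ext a) (Pi.single j.1 1) := fun a j => rfl
  have hinj : Function.Injective Φ := by
    rw [← LinearMap.ker_eq_bot, eq_bot_iff]
    intro a ha
    rw [LinearMap.mem_ker] at ha
    rw [Submodule.mem_bot]
    have h1 : ∀ j : ι, B (ext a) (Pi.single j 1) = 0 := by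
      intro j
      by_cases hj : α * d j = c
      · have := congrFun ha ⟨j, hj⟩
        rw [hΦ] at this
        exact this
      · have h2 := LinearMap.pi_apply_eq_sum_univ (B.flip (Pi.single j 1)) (ext a)
        rw [LinearMap.flip_apply] at h2
        rw [h2]
        apply Finset.sum_eq_zero
        intro k _
        rw [hext]
        split_ifs with hk
        · have h3 := hG k j
          rw [hk] at h3
          have h4 : α * d j - c ≠ 0 := sub_ne_zero.mpr hj
          have h5 := (mul_eq_zero.mp h3).resolve_left h4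
          have e2 : (fun j' => if k = j' then (1 : F) else 0) = Pi.single k 1 := by
            funext j'
            rw [Pi.single_apply]
            simp only [eq_comm]
          rw [e2, LinearMap.flip_apply, h5, smul_zero]
        · rw [zero_smul]
    have h2 : ext a = 0 := by
      apply hnd
      intro v
      have h3 := LinearMap.pi_apply_eq_sum_univ (B (ext a)) v
      rw [h3]
      apply Finset.sum_eq_zero
      intro j _
      have e2 : (fun j' => if j = j' then (1 : F) else 0) = Pi.single j 1 := by
        funext j'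
        rw [Pi.single_apply]
        simp only [eq_comm]
      rw [e2, h1 j, smul_zero]
    funext i
    have h3 := congrFun h2 i.1
    rw [hext, dif_pos i.2] at h3
    exact h3
  have h1 := LinearMap.finrank_le_finrank_of_injective hinj
  rw [Module.finrank_fintype_fun_eq_card, Module.finrank_fintype_fun_eq_card] at h1
  rw [Nat.card_eq_fintype_card, Nat.card_eq_fintype_card]
  exact h1

end pairing

section diag3
variable {F : Type*} [Field F] [DecidableEq F] {κ : Type*} [Fintype κ] [DecidableEq κ]

/-- the diagonal entries `(l, l, l⁻², 1, …, 1)` -/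
def dThree (l : F) : Fin 3 ⊕ κ → F :=
  Sum.elim (fun a : Fin 3 => if a = 2 then (l ^ 2)⁻¹ else l) (fun _ => 1)

theorem card_dThree_eq (l α : F) :
    Nat.card {i : Fin 3 ⊕ κ // dThree (κ := κ) l i = α} =
      (if l = α then 2 else 0) + (if (l ^ 2)⁻¹ = α then 1 else 0) +
        (if (1 : F) = α then Nat.card κ else 0) := by
  classical
  rw [Nat.card_congr (Equiv.subtypeSum (p := fun i : Fin 3 ⊕ κ => dThree (κ := κ) l i = α)),
    Nat.card_sum]
  congr 1
  · rw [Nat.card_eq_fintype_card, Fintype.card_subtype, Finset.card_filter, Fin.sum_univ_three]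
    have h0 : ((0 : Fin 3) = 2) = False := by simp
    have h1 : ((1 : Fin 3) = 2) = False := by simp
    simp only [dThree, Sum.elim_inl, h0, h1, if_false, if_true]
    split_ifs <;> rfl
  · by_cases h : (1 : F) = α
    · rw [if_pos h]
      apply Nat.card_congr
      exact
        { toFun := fun k => k.1
          invFun := fun k => ⟨k, h⟩
          left_inv := fun k => rfl
          right_inv := fun k => rfl }
    · rw [if_neg h]
      have : IsEmpty {b : κ // dThree (κ := κ) l (Sum.inr b) = α} := ⟨fun b => h b.2⟩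
      exact Nat.card_of_isEmpty

/-- `diag (l, l, l⁻², 1, …, 1)`, `l` of odd prime order `r`, is a similitude of no nondegenerate
bilinear form, provided the number `m` of ones is odd and `(r, m) ≠ (3, 3)` -/
theorem diagonal_dThree_not_similitude (l : F) (r : ℕ) (hr : r.Prime) (hr2 : r ≠ 2)
    (hl : orderOf l = r) (hm : Odd (Nat.card κ)) (hgap : ¬ (r = 3 ∧ Nat.card κ = 3))
    (B : (Fin 3 ⊕ κ → F) →ₗ[F] (Fin 3 ⊕ κ → F) →ₗ[F] F) (c : F)
    (hnd : ∀ u, (∀ v, B u v = 0) → u = 0)
    (hsim : ∀ u v, B (Matrix.diagonal (dThree (κ := κ) l) *ᵥ u)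
      (Matrix.diagonal (dThree (κ := κ) l) *ᵥ v) = c * B u v) : False := by
  classical
  have hpowne : ∀ k : ℕ, ¬ r ∣ k → l ^ k ≠ 1 := by
    intro k hk h
    apply hk
    rw [← hl]
    exact orderOf_dvd_of_pow_eq_one h
  have hr5 : r = 3 ∨ 5 ≤ r := by
    have h2 := hr.two_le
    by_contra hcon
    rw [not_or] at hcon
    have h4 : r = 4 := by omega
    rw [h4] at hr
    exact absurd hr (by norm_num)
  have hl0 : l ≠ 0 := by
    intro h
    have h1 : l ^ r = 1 := by rw [← hl]; exact pow_orderOf_eq_one l
    rw [h, zero_pow hr.ne_zero] at h1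
    exact zero_ne_one h1
  have hl1 : l ≠ 1 := by
    intro h
    have := hpowne 1 (by intro h1; exact hr.one_lt.ne' (Nat.dvd_one.mp h1))
    rw [pow_one] at this
    exact this h
  have hl2 : l ^ 2 ≠ 1 := hpowne 2 (by
    intro h
    exact hr2 ((Nat.prime_dvd_prime_iff_eq hr Nat.prime_two).mp h))
  have hl4 : l ^ 4 ≠ 1 := hpowne 4 (by
    intro h
    have h1 : r ∣ 2 ^ 2 := by norm_num; exact h
    exact hr2 ((Nat.prime_dvd_prime_iff_eq hr Nat.prime_two).mp (hr.dvd_of_dvd_pow h1)))
  have hmu1 : (l ^ 2)⁻¹ ≠ 1 := by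
    intro h
    exact hl2 (inv_eq_one.mp h)
  -- pairing in the convenient form
  have pair : ∀ α : F, α ≠ 0 →
      Nat.card {i : Fin 3 ⊕ κ // dThree (κ := κ) l i = α} ≤
        Nat.card {i : Fin 3 ⊕ κ // dThree (κ := κ) l i = c / α} := by
    intro α hα
    have h1 := card_eigen_le_of_similitude (dThree (κ := κ) l) B c hnd hsim α
    refine h1.trans (le_of_eq ?_)
    apply Nat.card_congr
    apply Equiv.subtypeEquivRight
    intro j
    rw [eq_div_iff hα, mul_comm]
  have hm1 : 1 ≤ Nat.card κ := by
    obtain ⟨k, hk⟩ := hm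
    omega
  rcases hr5 with h3 | h5
  · -- `r = 3`
    have hl3 : l ^ 3 = 1 := by rw [← h3, ← hl]; exact pow_orderOf_eq_one l
    have hmu : (l ^ 2)⁻¹ = l := by
      rw [inv_eq_iff_eq_inv]
      apply eq_inv_of_mul_eq_one_left
      rw [← hl3]
      ring
    have hm3 : Nat.card κ ≠ 3 := fun h => hgap ⟨h3, h⟩
    have cl : Nat.card {i : Fin 3 ⊕ κ // dThree (κ := κ) l i = l} = 3 := by
      rw [card_dThree_eq, if_pos rfl, if_pos hmu, if_neg (Ne.symm hl1)]
    have c1 : Nat.card {i : Fin 3 ⊕ κ // dThree (κ := κ) l i = 1} = Nat.card κ := by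
      rw [card_dThree_eq, if_neg hl1, if_neg hmu1, if_pos rfl, zero_add, zero_add]
    have hp1 := pair l hl0
    rw [cl, card_dThree_eq] at hp1
    by_cases hc1 : l = c / l
    · -- `c = l ^ 2`
      have hc : c = l ^ 2 := by
        rw [eq_div_iff hl0] at hc1
        rw [← hc1]
        ring
      have hp2 := pair 1 one_ne_zero
      rw [c1, div_one, card_dThree_eq, hc] at hp2
      have e1 : ¬ l = l ^ 2 := by
        intro h
        apply hl1
        have : l * (l - 1) = 0 := by linear_combination -h
        rcases mul_eq_zero.mp this with h | h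
        · exact absurd h hl0
        · exact sub_eq_zero.mp h
      have e2 : ¬ (l ^ 2)⁻¹ = l ^ 2 := by
        rw [hmu]
        exact e1
      have e3 : ¬ (1 : F) = l ^ 2 := fun h => hl2 h.symm
      rw [if_neg e1, if_neg e2, if_neg e3] at hp2
      omega
    · rw [if_neg hc1, hmu, if_neg hc1] at hp1
      by_cases hc2 : (1 : F) = c / l
      · rw [if_pos hc2] at hp1
        have hc : c = l := by
          rw [eq_div_iff hl0, one_mul] at hc2
          exact hc2.symm
        have hp2 := pair 1 one_ne_zero
        rw [c1, div_one, hc, cl] at hp2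
        omega
      · rw [if_neg hc2] at hp1
        omega
  · -- `r ≥ 5`
    have hl3 : l ^ 3 ≠ 1 := hpowne 3 (by
      intro h
      have := Nat.le_of_dvd (by norm_num) h
      omega)
    have hl6 : l ^ 6 ≠ 1 := hpowne 6 (by
      intro h
      have h1 : r ∣ 2 * 3 := by norm_num; exact h
      rcases (Nat.Prime.dvd_mul hr).mp h1 with h2 | h2
      · have := Nat.le_of_dvd (by norm_num) h2
        omega
      · have := Nat.le_of_dvd (by norm_num) h2
        omega)
    have hmul : (l ^ 2)⁻¹ ≠ l := by
      intro h
      apply hl3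
      have h1 : l ^ 2 * (l ^ 2)⁻¹ = 1 := mul_inv_cancel₀ (pow_ne_zero 2 hl0)
      rw [h] at h1
      rw [← h1]
      ring
    have cl : Nat.card {i : Fin 3 ⊕ κ // dThree (κ := κ) l i = l} = 2 := by
      rw [card_dThree_eq, if_pos rfl, if_neg hmul, if_neg (Ne.symm hl1)]
    have c1 : Nat.card {i : Fin 3 ⊕ κ // dThree (κ := κ) l i = 1} = Nat.card κ := by
      rw [card_dThree_eq, if_neg hl1, if_neg hmu1, if_pos rfl, zero_add, zero_add]
    have cmu : Nat.card {i : Fin 3 ⊕ κ // dThree (κ := κ) l i = (l ^ 2)⁻¹} = 1 := by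
      rw [card_dThree_eq, if_neg (Ne.symm hmul), if_pos rfl, if_neg (Ne.symm hmu1)]
    have hp1 := pair l hl0
    rw [cl, card_dThree_eq] at hp1
    by_cases hc1 : l = c / l
    · have hc : c = l ^ 2 := by
        rw [eq_div_iff hl0] at hc1
        rw [← hc1]
        ring
      have hmu0 : (l ^ 2)⁻¹ ≠ 0 := inv_ne_zero (pow_ne_zero 2 hl0)
      have hp2 := pair ((l ^ 2)⁻¹) hmu0
      have e0 : c / (l ^ 2)⁻¹ = l ^ 4 := by
        rw [hc, div_inv_eq_mul]
        ring
      rw [cmu, e0, card_dThree_eq] at hp2
      have e1 : ¬ l = l ^ 4 := by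
        intro h
        apply hl3
        have : l * (l ^ 3 - 1) = 0 := by linear_combination -h
        rcases mul_eq_zero.mp this with h | h
        · exact absurd h hl0
        · exact sub_eq_zero.mp h
      have e2 : ¬ (l ^ 2)⁻¹ = l ^ 4 := by
        intro h
        apply hl6
        have h1 : l ^ 2 * (l ^ 2)⁻¹ = 1 := mul_inv_cancel₀ (pow_ne_zero 2 hl0)
        rw [h] at h1
        rw [← h1]
        ring
      have e3 : ¬ (1 : F) = l ^ 4 := fun h => hl4 h.symm
      rw [if_neg e1, if_neg e2, if_neg e3] at hp2
      omega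
    · rw [if_neg hc1] at hp1
      by_cases hc2 : (1 : F) = c / l
      · rw [if_pos hc2] at hp1
        have hc : c = l := by
          rw [eq_div_iff hl0, one_mul] at hc2
          exact hc2.symm
        have hp2 := pair 1 one_ne_zero
        rw [c1, div_one, hc, cl] at hp2
        obtain ⟨k, hk⟩ := hm
        have hne : ¬ (l ^ 2)⁻¹ = c / l := by
          rw [← hc2]
          exact hmu1
        rw [if_neg hne] at hp1
        omega
      · rw [if_neg hc2] at hp1
        split_ifs at hp1 <;> omega

end diag3

end Cfsg.Agent.Lib.Helper40
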