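import Mathlib
import Cfsg.Prelude.Def_GeometricClasses
import Cfsg.Agent.Lib.Helper94.SympSLBridge

/-!
# Matrices that are similitudes of no symplectic form (helper40)

`NoSim x`: `x` preserves no nondegenerate alternating bilinear form up to a scalar.  Such an `x` of
determinant one has no `SL`-conjugate in the similarity group of any symplectic form
(`not_conj_mem_of_noSim`); `NoSim` is invariant under reindexing (`NoSim.submatrix`).
-/

set_option autoImplicit false

namespace Cfsg.Agent.Lib.Helper40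

open Matrix

section
variable {F : Type*} [Field F]

/-- `x` is a similitude of no nondegenerate alternating bilinear form -/
def NoSim {ι : Type*} [Fintype ι] [DecidableEq ι] (x : Matrix ι ι F) : Prop :=
  ∀ (B : (ι → F) →ₗ[F] (ι → F) →ₗ[F] F) (c : F), (∀ v, B v v = 0) →
    (∀ u, (∀ v, B u v = 0) → u = 0) → (∀ u v, B (x *ᵥ u) (x *ᵥ v) = c * B u v) → False

theorem NoSim.submatrix {ι ι' : Type*} [Fintype ι] [DecidableEq ι] [Fintype ι'] [DecidableEq ι']
    (ε : ι' ≃ ι) {x : Matrix ι ι F} (h : NoSim x) : NoSim (x.submatrix ε ε) := by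
  intro B' c halt hnd hsim
  let L : (ι → F) ≃ₗ[F] (ι' → F) := LinearEquiv.funCongrLeft F F ε
  have hL : ∀ u, L u = u ∘ ε := fun u => rfl
  have hLx : ∀ u, L (x *ᵥ u) = (x.submatrix ε ε) *ᵥ (L u) := by
    intro u
    rw [hL, hL, Matrix.submatrix_mulVec_equiv]
    congr 2
    funext i
    simp
  apply h (B'.compl₁₂ (L : (ι → F) →ₗ[F] (ι' → F)) (L : (ι → F) →ₗ[F] (ι' → F))) c
  · intro v
    rw [LinearMap.compl₁₂_apply]
    exact halt _
  · intro u hu
    have h1 : L u = 0 := by
      apply hnd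
      intro w
      have h2 := hu (L.symm w)
      rw [LinearMap.compl₁₂_apply] at h2
      simpa using h2
    exact L.map_eq_zero_iff.mp h1
  · intro u v
    rw [LinearMap.compl₁₂_apply, LinearMap.compl₁₂_apply]
    change B' (L (x *ᵥ u)) (L (x *ᵥ v)) = c * B' (L u) (L v)
    rw [hLx, hLx, hsim]

/-- a determinant-one matrix with `NoSim` has no conjugate in the similarity group of a
symplectic form -/
theorem not_conj_mem_of_noSim {n : ℕ} (f : (Fin n → F) → (Fin n → F) → F)
    (hf : Cfsg.Geo.IsSymplecticForm f) (x : SpecialLinearGroup (Fin n) F)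
    (h : NoSim (x : Matrix (Fin n) (Fin n) F))
    (P : SpecialLinearGroup (Fin n) F) :
    P⁻¹ * x * P ∉ (Cfsg.Geo.similarityGroup f).comap
      (SpecialLinearGroup.toGL : SpecialLinearGroup (Fin n) F →* GL (Fin n) F) := by
  intro hmem
  rw [Subgroup.mem_comap] at hmem
  obtain ⟨c, hc⟩ := hmem
  obtain ⟨Q, hQ⟩ : ∃ Q : Matrix (Fin n) (Fin n) F,
      Q = ((P⁻¹ : SpecialLinearGroup (Fin n) F) : Matrix (Fin n) (Fin n) F) := ⟨_, rfl⟩
  obtain ⟨X, hX⟩ : ∃ X : Matrix (Fin n) (Fin n) F,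
      X = (x : Matrix (Fin n) (Fin n) F) := ⟨_, rfl⟩
  obtain ⟨R, hR⟩ : ∃ R : Matrix (Fin n) (Fin n) F,
      R = (P : Matrix (Fin n) (Fin n) F) := ⟨_, rfl⟩
  have hPQ : R * Q = 1 := by
    have h1 := congrArg (fun A : SpecialLinearGroup (Fin n) F => (A : Matrix (Fin n) (Fin n) F))
      (mul_inv_cancel P)
    simp only [Matrix.SpecialLinearGroup.coe_mul, Matrix.SpecialLinearGroup.coe_one] at h1
    rw [hR, hQ]
    exact h1
  have hQP : Q * R = 1 := by
    have h1 := congrArg (fun A : SpecialLinearGroup (Fin n) F => (A : Matrix (Fin n) (Fin n) F))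
      (inv_mul_cancel P)
    simp only [Matrix.SpecialLinearGroup.coe_mul, Matrix.SpecialLinearGroup.coe_one] at h1
    rw [hR, hQ]
    exact h1
  have hc' : ∀ u v, f ((Q * X * R) *ᵥ u) ((Q * X * R) *ᵥ v) = (c : F) * f u v := by
    intro u v
    have h1 := hc u v
    have h2 : ((SpecialLinearGroup.toGL (P⁻¹ * x * P) : GL (Fin n) F) : Matrix (Fin n) (Fin n) F) =
        Q * X * R := by
      change ((P⁻¹ * x * P : SpecialLinearGroup (Fin n) F) : Matrix (Fin n) (Fin n) F) = _
      simp only [Matrix.SpecialLinearGroup.coe_mul]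
      rw [hQ, hX, hR]
    rw [h2] at h1
    exact h1
  set B := Cfsg.Agent.Lib.Helper94.bilinOfSymp hf with hB
  have hS := Cfsg.Agent.Lib.Helper94.sympData_bilinOfSymp hf
  rw [← hX] at h
  apply h (B.compl₁₂ (Matrix.toLin' Q) (Matrix.toLin' Q)) (c : F)
  · intro v
    rw [LinearMap.compl₁₂_apply]
    exact hS.alt _
  · intro u hu
    have h1 : Q *ᵥ u = 0 := by
      apply hS.nondeg
      intro w
      have h2 := hu (R *ᵥ w)
      rw [LinearMap.compl₁₂_apply, Matrix.toLin'_apply, Matrix.toLin'_apply,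
        Matrix.mulVec_mulVec, hQP, Matrix.one_mulVec] at h2
      exact h2
    have h3 : u = R *ᵥ (Q *ᵥ u) := by
      rw [Matrix.mulVec_mulVec, hPQ, Matrix.one_mulVec]
    rw [h3, h1, Matrix.mulVec_zero]
  · intro u v
    rw [LinearMap.compl₁₂_apply, LinearMap.compl₁₂_apply, Matrix.toLin'_apply, Matrix.toLin'_apply,
      Matrix.toLin'_apply, Matrix.toLin'_apply]
    have h1 := hc' (Q *ᵥ u) (Q *ᵥ v)
    have e : ∀ w, (Q * X * R) *ᵥ (Q *ᵥ w) = Q *ᵥ (X *ᵥ w) := by
      intro w
      rw [Matrix.mulVec_mulVec, Matrix.mul_assoc, Matrix.mul_assoc, hPQ, Matrix.mul_one,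
        Matrix.mulVec_mulVec]
    rw [e, e] at h1
    exact h1

end

end Cfsg.Agent.Lib.Helper40
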