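import Mathlib
import Cfsg.Agent.S0752
import Cfsg.Agent.Lib.Helper40.FixCount

/-!
# Semisimple elements of odd commutator rank are similitudes of no symplectic form (helper40)

* `even_finrank_of_alt_nondeg`: a nondegenerate alternating form lives in even dimension.
* `not_isometry_of_odd_rank`: an isometry `f` of a nondegenerate alternating form over a finite
  field with `f ^ r = 1` (`r` a prime different from the characteristic) has `rank (f - 1)` even.
* `not_similitude_of_rank_le_order`: `x ^ r = 1`, `x ≠ 1`, `rank (x - 1) ≤ e = ord_r(q)`, `e` odd,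
  `e ≠ 1`: `x` is a similitude of no nondegenerate alternating form.
-/

set_option autoImplicit false

namespace Cfsg.Agent.Lib.Helper40

open Matrix Module

section parity
variable {F : Type*} [Field F] {V : Type*} [AddCommGroup V] [Module F V] [FiniteDimensional F V]

theorem even_finrank_of_alt_nondeg (B : LinearMap.BilinForm F V) (hA : B.IsAlt)
    (hnd : ∀ u, (∀ v, B u v = 0) → u = 0) : Even (finrank F V) := by
  classical
  obtain ⟨m, k, b, -, -, -, h4⟩ := Cfsg.Agent.S0752.result B hA
  have hk : k = 0 := by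
    by_contra hne
    have hpos : 0 < k := Nat.pos_of_ne_zero hne
    exact b.ne_zero (Sum.inr ⟨0, hpos⟩) (hnd _ (h4 ⟨0, hpos⟩))
  subst hk
  rw [Module.finrank_eq_card_basis b]
  simp only [Fintype.card_sum, Fintype.card_fin, add_zero]
  exact ⟨m, rfl⟩

end parity

section isometry
variable {F : Type*} [Field F] {V : Type*} [AddCommGroup V] [Module F V] [FiniteDimensional F V]

/-- for an isometry `f` with `f ^ r = 1`, `r` invertible in `F`, the space `range (f - 1)` is
nondegenerate, hence even-dimensional -/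
theorem even_finrank_range_sub_one (B : LinearMap.BilinForm F V) (hA : B.IsAlt)
    (hnd : ∀ u, (∀ v, B u v = 0) → u = 0) (f : V →ₗ[F] V) (r : ℕ) (hr : (r : F) ≠ 0)
    (hf : f ^ r = 1) (hBf : ∀ u v, B (f u) (f v) = B u v) :
    Even (finrank F (LinearMap.range (f - 1))) := by
  set C := LinearMap.ker (f - 1) with hC
  set R := LinearMap.range (f - 1) with hR
  have hCmem : ∀ v, v ∈ C ↔ f v = v := by
    intro v
    rw [hC, LinearMap.mem_ker, LinearMap.sub_apply, Module.End.one_apply, sub_eq_zero]
  -- `C ⊓ R = ⊥`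
  have hCR : C ⊓ R = ⊥ := by
    rw [eq_bot_iff]
    intro v hv
    obtain ⟨hvC, hvR⟩ := Submodule.mem_inf.mp hv
    obtain ⟨u, hu⟩ := LinearMap.mem_range.mp hvR
    rw [LinearMap.sub_apply, Module.End.one_apply] at hu
    have hfv : f v = v := (hCmem v).mp hvC
    have hk : ∀ k : ℕ, (f ^ k) u = u + (k : F) • v := by
      intro k
      induction k with
      | zero => simp
      | succ k ih =>
        rw [pow_succ', Module.End.mul_apply, ih, map_add, map_smul, hfv]
        have : f u = u + v := by rw [← hu]; abel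
        rw [this]
        push_cast
        module
    have h1 := hk r
    rw [hf, Module.End.one_apply] at h1
    have h2 : (r : F) • v = 0 := by
      have := h1.symm
      rwa [add_eq_left] at this
    rw [Submodule.mem_bot]
    exact (smul_eq_zero.mp h2).resolve_left hr
  -- `C ⊔ R = ⊤`
  have hsup : C ⊔ R = ⊤ := by
    apply Submodule.eq_top_of_finrank_eq
    have h1 := Submodule.finrank_sup_add_finrank_inf_eq C R
    rw [hCR, finrank_bot, add_zero] at h1
    have h2 : finrank F R + finrank F C = finrank F V :=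
      LinearMap.finrank_range_add_finrank_ker (f - 1)
    omega
  -- `R ⊆ C^⊥`
  have hperp : ∀ ρ ∈ R, ∀ c ∈ C, B ρ c = 0 := by
    intro ρ hρ c hc
    obtain ⟨w, rfl⟩ := LinearMap.mem_range.mp hρ
    have hfc : f c = c := (hCmem c).mp hc
    rw [LinearMap.sub_apply, Module.End.one_apply, map_sub, LinearMap.sub_apply]
    nth_rewrite 1 [← hfc]
    rw [hBf, sub_self]
  -- restricted form
  have hAR : (B.restrict R).IsAlt := fun v => hA v.1
  apply even_finrank_of_alt_nondeg (B.restrict R) hAR
  intro ρ hρ
  apply Subtype.ext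
  apply hnd
  intro v
  have hv : v ∈ C ⊔ R := by rw [hsup]; exact Submodule.mem_top
  obtain ⟨c, hc, ρ', hρ', rfl⟩ := Submodule.mem_sup.mp hv
  rw [map_add, hperp ρ.1 ρ.2 c hc, zero_add]
  exact hρ ⟨ρ', hρ'⟩

end isometry

section main
variable {F : Type*} [Field F] [Fintype F] {ι : Type*} [Fintype ι] [DecidableEq ι]

/-- `x ^ r = 1`, `x ≠ 1`, `rank (x - 1) ≤ e = ord_r(q)` with `e` odd and `e ≠ 1`: `x` is a
similitude of no nondegenerate alternating form -/
theorem not_similitude_of_rank_le_order (p : ℕ) [Fact p.Prime] [CharP F p] (r : ℕ)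
    [Fact r.Prime] (hrp : r ≠ p) (he : Odd (orderOf ((Fintype.card F : ℕ) : ZMod r)))
    (he1 : orderOf ((Fintype.card F : ℕ) : ZMod r) ≠ 1)
    (x : Matrix ι ι F) (hxr : x ^ r = 1) (hx1 : x ≠ 1)
    (hrank : (x - 1).rank ≤ orderOf ((Fintype.card F : ℕ) : ZMod r))
    (B : (ι → F) →ₗ[F] (ι → F) →ₗ[F] F) (c : F) (halt : ∀ v, B v v = 0)
    (hnd : ∀ u, (∀ v, B u v = 0) → u = 0)
    (hsim : ∀ u v, B (x *ᵥ u) (x *ᵥ v) = c * B u v) : False := by
  classical
  have hr : r.Prime := Fact.out
  have hp : p.Prime := Fact.out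
  have hrq : ¬ r ∣ Fintype.card F := by
    obtain ⟨k, -, hk⟩ := FiniteField.card F p
    intro h
    rw [hk] at h
    exact hrp ((Nat.prime_dvd_prime_iff_eq hr hp).mp (hr.dvd_of_dvd_pow h))
  have hrF : (r : F) ≠ 0 := by
    intro h
    have h1 := (CharP.cast_eq_zero_iff F p r).mp h
    exact hrp ((Nat.prime_dvd_prime_iff_eq hp hr).mp h1).symm
  -- `c = 1`
  have hpow : ∀ k : ℕ, ∀ u v, B ((x ^ k) *ᵥ u) ((x ^ k) *ᵥ v) = c ^ k * B u v := by
    intro k
    induction k with
    | zero => intro u v; simp
    | succ k ih =>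
      intro u v
      rw [pow_succ', ← Matrix.mulVec_mulVec, ← Matrix.mulVec_mulVec, hsim, ih, pow_succ]
      ring
  have hne : ∃ u : ι → F, u ≠ 0 := by
    by_contra hcon
    simp only [not_exists, not_not] at hcon
    apply hx1
    ext i j
    have h1 := congrFun (hcon (Pi.single j 1)) j
    simp at h1
  obtain ⟨u0, hu0⟩ := hne
  obtain ⟨v0, hv0⟩ : ∃ v, B u0 v ≠ 0 := by
    by_contra hcon
    simp only [not_exists, not_not] at hcon
    exact hu0 (hnd _ hcon)
  have hcr : c ^ r = 1 := by
    have h1 := hpow r u0 v0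
    rw [hxr, Matrix.one_mulVec, Matrix.one_mulVec] at h1
    have h3 : (c ^ r - 1) * B u0 v0 = 0 := by linear_combination -h1
    rcases mul_eq_zero.mp h3 with h4 | h4
    · exact sub_eq_zero.mp h4
    · exact absurd h4 hv0
  have hc0 : c ≠ 0 := by
    intro h
    rw [h, zero_pow hr.ne_zero] at hcr
    exact zero_ne_one hcr
  have hc1 : c = 1 := by
    have hcq : c ^ (Fintype.card F - 1) = 1 := FiniteField.pow_card_sub_one_eq_one c hc0
    rcases (Nat.dvd_prime hr).mp (orderOf_dvd_of_pow_eq_one hcr) with h | h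
    · exact orderOf_eq_one_iff.mp h
    · exfalso
      have h1 : r ∣ Fintype.card F - 1 := by
        rw [← h]
        exact orderOf_dvd_of_pow_eq_one hcq
      apply he1
      have h2 : ((Fintype.card F : ℕ) : ZMod r) = 1 := by
        have h3 : Fintype.card F = (Fintype.card F - 1) + 1 := by
          have := Fintype.card_pos (α := F)
          omega
        rw [h3]
        push_cast
        rw [(ZMod.natCast_eq_zero_iff _ r).mpr h1, zero_add]
      rw [h2, orderOf_one]
  -- the linear map
  obtain ⟨f, hf⟩ : ∃ f : (ι → F) →ₗ[F] (ι → F), f = Matrix.toLin' x := ⟨_, rfl⟩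
  have hfr : f ^ r = 1 := by
    rw [hf, ← Matrix.toLin'_pow, hxr, Matrix.toLin'_one]
    rfl
  have hf1 : f ≠ 1 := by
    intro h
    apply hx1
    apply Matrix.toLin'.injective
    rw [← hf, h, Matrix.toLin'_one]
    rfl
  have hBf : ∀ u v, B (f u) (f v) = B u v := by
    intro u v
    rw [hf, Matrix.toLin'_apply, Matrix.toLin'_apply, hsim, hc1, one_mul]
  have hrk : finrank F (LinearMap.range (f - 1)) = (x - 1).rank := by
    have h1 : f - 1 = Matrix.toLin' (x - 1) := by
      rw [map_sub, Matrix.toLin'_one, hf]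
      rfl
    rw [h1, Matrix.toLin'_apply']
    rfl
  -- `e ∣ rank`
  have hdvd := orderOf_dvd_finrank_sub r hrq f hfr ⊤ (fun v _ => Submodule.mem_top)
  rw [top_inf_eq, finrank_top] at hdvd
  have hrn : finrank F (LinearMap.range (f - 1)) + finrank F (LinearMap.ker (f - 1)) =
      finrank F (ι → F) := LinearMap.finrank_range_add_finrank_ker (f - 1)
  have hpos : 0 < finrank F (LinearMap.range (f - 1)) := by
    rw [Nat.pos_iff_ne_zero]
    intro h0
    apply hf1
    have h1 : LinearMap.range (f - 1) = ⊥ := Submodule.finrank_eq_zero.mp h0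
    have h2 : f - 1 = 0 := LinearMap.range_eq_bot.mp h1
    exact sub_eq_zero.mp h2
  have hdvd' : orderOf ((Fintype.card F : ℕ) : ZMod r) ∣ finrank F (LinearMap.range (f - 1)) := by
    have : finrank F (ι → F) - finrank F (LinearMap.ker (f - 1)) =
        finrank F (LinearMap.range (f - 1)) := by omega
    rw [← this]
    exact hdvd
  have heq : finrank F (LinearMap.range (f - 1)) = orderOf ((Fintype.card F : ℕ) : ZMod r) := by
    apply le_antisymm
    · rw [hrk]
      exact hrank
    · exact Nat.le_of_dvd hpos hdvd'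
  have heven := even_finrank_range_sub_one B halt hnd f r hrF hfr hBf
  rw [heq] at heven
  exact (Nat.not_even_iff_odd.mpr he) heven

end main

end Cfsg.Agent.Lib.Helper40
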