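import Mathlib

/-!
# A unipotent matrix that is a similitude of no symplectic form (helper40)

`jThree i0 i1 i2 = 1 + E_{i0 i1} + E_{i1 i2}` (a Jordan block of size 3 plus an identity).  In odd
characteristic `p` it has order `p`, determinant `1`, and preserves no nondegenerate alternating
bilinear form up to a scalar (`jThree_not_similitude`).
-/

set_option autoImplicit false
set_option linter.unusedSimpArgs false
set_option linter.unusedSectionVars false

namespace Cfsg.Agent.Lib.Helper40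

open Matrix

section selfadjoint
variable {F : Type*} [Field F] {V : Type*} [AddCommGroup V] [Module F V]

/-- if `1 + N` is an isometry of `B` and `N ^ 3 = 0` then `N ^ 2` is self-adjoint -/
theorem sq_selfAdjoint_of_isometry (B : V →ₗ[F] V →ₗ[F] F) (N : V →ₗ[F] V)
    (hN : ∀ v, N (N (N v)) = 0) (hiso : ∀ u v, B (u + N u) (v + N v) = B u v) (u v : V) :
    B (N (N u)) v = B u (N (N v)) := by
  have E1 : ∀ u v, B (N u) v + B u (N v) + B (N u) (N v) = 0 := by
    intro u v
    have h := hiso u v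
    simp only [map_add, LinearMap.add_apply] at h
    linear_combination h
  have hc1 : ∀ u v, B (N (N u)) (N v) = 0 := by
    intro u v
    have h := E1 (N (N u)) v
    rw [hN] at h
    simpa using h
  have hc2 : ∀ u v, B (N u) (N (N v)) = 0 := by
    intro u v
    have h := E1 u (N (N v))
    rw [hN] at h
    simpa using h
  have E2 := E1 (N u) v
  have E3 := E1 u (N v)
  linear_combination E2 - E3 - hc1 u v + hc2 u v

end selfadjoint

section jthree
variable {F : Type*} [Field F] {ι : Type*} [Fintype ι] [DecidableEq ι]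

/-- the nilpotent part `E_{i0 i1} + E_{i1 i2}` -/
def nThree (F : Type*) [Field F] (i0 i1 i2 : ι) : Matrix ι ι F :=
  Matrix.single i0 i1 1 + Matrix.single i1 i2 1

/-- `1 + E_{i0 i1} + E_{i1 i2}` -/
def jThree (F : Type*) [Field F] (i0 i1 i2 : ι) : Matrix ι ι F := 1 + nThree F i0 i1 i2

theorem nThree_sq {i0 i1 i2 : ι} (h01 : i0 ≠ i1) (h12 : i1 ≠ i2) (h02 : i0 ≠ i2) :
    nThree F i0 i1 i2 * nThree F i0 i1 i2 = Matrix.single i0 i2 1 := by
  unfold nThree
  simp [Matrix.add_mul, Matrix.mul_add, h01, h01.symm, h12, h12.symm, h02, h02.symm]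

theorem nThree_cube {i0 i1 i2 : ι} (h01 : i0 ≠ i1) (h12 : i1 ≠ i2) (h02 : i0 ≠ i2) :
    nThree F i0 i1 i2 * nThree F i0 i1 i2 * nThree F i0 i1 i2 = 0 := by
  rw [nThree_sq h01 h12 h02]
  unfold nThree
  simp [Matrix.mul_add, h01, h01.symm, h12, h12.symm, h02, h02.symm]

theorem jThree_pow_char (p : ℕ) [Fact p.Prime] [CharP F p] (hp3 : 3 ≤ p) {i0 i1 i2 : ι}
    (h01 : i0 ≠ i1) (h12 : i1 ≠ i2) (h02 : i0 ≠ i2) : jThree F i0 i1 i2 ^ p = 1 := by
  have : Nonempty ι := ⟨i0⟩
  unfold jThree
  rw [add_pow_char_of_commute p (Commute.one_left _), one_pow]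
  have h3 : nThree F i0 i1 i2 ^ p = 0 := by
    have : p = 3 + (p - 3) := by omega
    rw [this, pow_add, pow_succ, pow_two, nThree_cube h01 h12 h02, zero_mul]
  rw [h3, add_zero]

theorem jThree_det (p : ℕ) [Fact p.Prime] [CharP F p] (hp3 : 3 ≤ p) {i0 i1 i2 : ι}
    (h01 : i0 ≠ i1) (h12 : i1 ≠ i2) (h02 : i0 ≠ i2) : (jThree F i0 i1 i2).det = 1 := by
  have h1 : (jThree F i0 i1 i2).det ^ p = 1 := by
    rw [← Matrix.det_pow, jThree_pow_char p hp3 h01 h12 h02, Matrix.det_one]
  have h2 : ((jThree F i0 i1 i2).det - 1) ^ p = 0 := by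
    rw [sub_pow_char, h1, one_pow, sub_self]
  exact sub_eq_zero.mp (pow_eq_zero_iff (Nat.Prime.ne_zero Fact.out) |>.mp h2)

theorem jThree_ne_smul {i0 i1 i2 : ι} (h01 : i0 ≠ i1) (h12 : i1 ≠ i2) (z : F) :
    jThree F i0 i1 i2 ≠ z • (1 : Matrix ι ι F) := by
  intro h
  have h1 := congrFun (congrFun h i0) i1
  unfold jThree nThree at h1
  simp [Matrix.one_apply, h01, Matrix.single_apply, h12.symm, h12] at h1

/-- `jThree` is a similitude of no nondegenerate alternating bilinear form (odd characteristic) -/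
theorem jThree_not_similitude (p : ℕ) [Fact p.Prime] [CharP F p] (hp3 : 3 ≤ p) {i0 i1 i2 : ι}
    (h01 : i0 ≠ i1) (h12 : i1 ≠ i2) (h02 : i0 ≠ i2)
    (B : (ι → F) →ₗ[F] (ι → F) →ₗ[F] F) (c : F) (halt : ∀ v, B v v = 0)
    (hnd : ∀ u, (∀ v, B u v = 0) → u = 0)
    (hsim : ∀ u v, B (jThree F i0 i1 i2 *ᵥ u) (jThree F i0 i1 i2 *ᵥ v) = c * B u v) : False := by
  have hp : p.Prime := Fact.out
  have hskew : ∀ u v, B u v = -B v u := by
    intro u v
    have h := halt (u + v)
    simp only [map_add, LinearMap.add_apply, halt, zero_add, add_zero] at h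
    linear_combination h
  -- `c = 1`
  have hpow : ∀ k : ℕ, ∀ u v, B ((jThree F i0 i1 i2 ^ k) *ᵥ u) ((jThree F i0 i1 i2 ^ k) *ᵥ v) =
      c ^ k * B u v := by
    intro k
    induction k with
    | zero => intro u v; simp
    | succ k ih =>
      intro u v
      rw [pow_succ', ← Matrix.mulVec_mulVec, ← Matrix.mulVec_mulVec, hsim, ih, pow_succ]
      ring
  have he0 : (Pi.single i0 1 : ι → F) ≠ 0 := by
    intro h
    have := congrFun h i0
    simp at this
  obtain ⟨v0, hv0⟩ : ∃ v, B (Pi.single i0 1) v ≠ 0 := by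
    by_contra hcon
    simp only [not_exists, not_not] at hcon
    exact he0 (hnd _ hcon)
  have hc1 : c = 1 := by
    have h1 := hpow p (Pi.single i0 1) v0
    rw [jThree_pow_char p hp3 h01 h12 h02, Matrix.one_mulVec, Matrix.one_mulVec] at h1
    have h2 : c ^ p = 1 := by
      have h3 : (c ^ p - 1) * B (Pi.single i0 1) v0 = 0 := by linear_combination -h1
      rcases mul_eq_zero.mp h3 with h4 | h4
      · exact sub_eq_zero.mp h4
      · exact absurd h4 hv0
    have h5 : (c - 1) ^ p = 0 := by rw [sub_pow_char, h2, one_pow, sub_self]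
    exact sub_eq_zero.mp ((pow_eq_zero_iff hp.ne_zero).mp h5)
  -- self-adjointness of `N ^ 2`
  set N : (ι → F) →ₗ[F] (ι → F) := Matrix.toLin' (nThree F i0 i1 i2) with hN
  have hNN : ∀ v, N (N v) = v i2 • Pi.single i0 (1 : F) := by
    intro v
    rw [hN, Matrix.toLin'_apply, Matrix.toLin'_apply, Matrix.mulVec_mulVec,
      nThree_sq h01 h12 h02, Matrix.single_mulVec_eq, one_mul]
  have hN3 : ∀ v, N (N (N v)) = 0 := by
    intro v
    rw [hN, Matrix.toLin'_apply, Matrix.toLin'_apply, Matrix.toLin'_apply, Matrix.mulVec_mulVec,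
      Matrix.mulVec_mulVec, nThree_cube h01 h12 h02, Matrix.zero_mulVec]
  have hiso : ∀ u v, B (u + N u) (v + N v) = B u v := by
    intro u v
    have h := hsim u v
    rw [hc1, one_mul] at h
    unfold jThree at h
    rw [Matrix.add_mulVec, Matrix.add_mulVec, Matrix.one_mulVec, Matrix.one_mulVec] at h
    rw [hN, Matrix.toLin'_apply, Matrix.toLin'_apply]
    exact h
  have hsa := sq_selfAdjoint_of_isometry B N hN3 hiso
  -- `B (e_{i0}, v) = v_{i2} * κ`
  have h2F : (2 : F) ≠ 0 := by
    intro h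
    have h2 : ((2 : ℕ) : F) = 0 := by exact_mod_cast h
    have h3 := (CharP.cast_eq_zero_iff F p 2).mp h2
    have := Nat.le_of_dvd (by norm_num) h3
    omega
  have hF1 : ∀ v, B (Pi.single i0 1) v = v i2 * B (Pi.single i2 1) (Pi.single i0 1) := by
    intro v
    have h := hsa (Pi.single i2 1) v
    rw [hNN, hNN] at h
    simp only [Pi.single_eq_same, one_smul, map_smul, smul_eq_mul] at h
    exact h
  have hk : B (Pi.single i0 1) (Pi.single i2 1) = 0 := by
    have h := hF1 (Pi.single i2 1)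
    rw [Pi.single_eq_same, one_mul, hskew (Pi.single i2 1) (Pi.single i0 1)] at h
    have h3 : (2 : F) * B (Pi.single i0 1) (Pi.single i2 1) = 0 := by linear_combination h
    rcases mul_eq_zero.mp h3 with h4 | h4
    · exact absurd h4 h2F
    · exact h4
  apply he0
  apply hnd
  intro v
  rw [hF1 v, hskew, hk, neg_zero, mul_zero]

end jthree

end Cfsg.Agent.Lib.Helper40
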