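import Mathlib
import Cfsg.Agent.Lib.Helper40.PSLCharAdj
import Cfsg.Agent.Lib.Helper40.SylowTorus
import Cfsg.Agent.Lib.Helper40.SpBlockRank
import Cfsg.Agent.Lib.Helper40.SimUnip
import Cfsg.Agent.Lib.Helper40.SimTorus
import Cfsg.Agent.Lib.Helper40.SimDiag
import Cfsg.Agent.Lib.Helper40.SimReduce

/-!
# Elements of prime order of `SL_n(q)` that are similitudes of no symplectic form (helper40)

Three constructions of a matrix `X` with `det X = 1`, `X ^ r = 1`, `X` not scalar and `NoSim X`: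

* `exists_noSim_unip`: `r = p` odd, `n ≥ 3` (a Jordan block of size three);
* `exists_noSim_diag`: `r ∣ q - 1` odd, `n ≥ 4` even, `(n, r) ≠ (6, 3)` (`diag (l, l, l⁻², 1, …)`);
* `exists_noSim_torus`: `r ≠ p`, `e = ord_r(q)` odd, `1 < e < n` (an element of order `r` of
  `GL_e(q)` extended by the identity).
-/

set_option autoImplicit false
set_option linter.unusedSectionVars false

namespace Cfsg.Agent.Lib.Helper40

open Matrix

section
variable {F : Type*} [Field F]

theorem rank_blockMat_sub_one_le {c d n : ℕ} (h : c + d = n) (C : Matrix (Fin c) (Fin c) F) :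
    (blockMat h C (1 : Matrix (Fin d) (Fin d) F) - 1).rank ≤ c := by
  have h1 : (1 : Matrix (Fin n) (Fin n) F) =
      blockMat h (1 : Matrix (Fin c) (Fin c) F) (1 : Matrix (Fin d) (Fin d) F) :=
    (blockMat_one h).symm
  rw [h1]
  unfold blockMat
  rw [Matrix.reindex_apply, Matrix.reindex_apply]
  have hsub : ∀ {α β : Type} (A B : Matrix α α F) (f : β → α),
      A.submatrix f f - B.submatrix f f = (A - B).submatrix f f := fun _ _ _ => rfl
  rw [hsub, Matrix.rank_submatrix]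
  have h2 : fromBlocks C 0 0 (1 : Matrix (Fin d) (Fin d) F) -
      fromBlocks (1 : Matrix (Fin c) (Fin c) F) 0 0 (1 : Matrix (Fin d) (Fin d) F) =
      fromBlocks (C - 1) 0 0 (0 : Matrix (Fin d) (Fin d) F) := by
    ext i j
    rcases i with i | i <;> rcases j with j | j <;>
      simp only [Matrix.sub_apply, Matrix.fromBlocks_apply₁₁, Matrix.fromBlocks_apply₁₂,
        Matrix.fromBlocks_apply₂₁, Matrix.fromBlocks_apply₂₂, Matrix.zero_apply, sub_self]
  rw [h2]
  exact (rank_fromBlocks_zero_le _).trans (le_of_eq (Fintype.card_fin c))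

/-- the unipotent element -/
theorem exists_noSim_unip (p : ℕ) [Fact p.Prime] [CharP F p] (hp3 : 3 ≤ p) (n : ℕ) (hn : 3 ≤ n) :
    ∃ X : Matrix (Fin n) (Fin n) F, X.det = 1 ∧ X ^ p = 1 ∧ (∀ z : F, X ≠ z • 1) ∧ NoSim X := by
  have h01 : (⟨0, by omega⟩ : Fin n) ≠ ⟨1, by omega⟩ := by simp [Fin.ext_iff]
  have h12 : (⟨1, by omega⟩ : Fin n) ≠ ⟨2, by omega⟩ := by simp [Fin.ext_iff]
  have h02 : (⟨0, by omega⟩ : Fin n) ≠ ⟨2, by omega⟩ := by simp [Fin.ext_iff]
  refine ⟨jThree F ⟨0, by omega⟩ ⟨1, by omega⟩ ⟨2, by omega⟩, jThree_det p hp3 h01 h12 h02,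
    jThree_pow_char p hp3 h01 h12 h02, jThree_ne_smul h01 h12, ?_⟩
  intro B c halt hnd hsim
  exact jThree_not_similitude p hp3 h01 h12 h02 B c halt hnd hsim

end

section finite
variable {F : Type*} [Field F] [Fintype F]

/-- the diagonal element -/
theorem exists_noSim_diag (r : ℕ) (hr : r.Prime) (hr2 : r ≠ 2)
    (hdvd : r ∣ Fintype.card F - 1) (n : ℕ) (hn : 4 ≤ n) (he : Even n)
    (hgap : ¬ (n = 6 ∧ r = 3)) :
    ∃ X : Matrix (Fin n) (Fin n) F, X.det = 1 ∧ X ^ r = 1 ∧ (∀ z : F, X ≠ z • 1) ∧ NoSim X := by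
  classical
  have : Fact r.Prime := ⟨hr⟩
  have hcard : Fintype.card Fˣ = Fintype.card F - 1 := Fintype.card_units F
  obtain ⟨u, hu⟩ := exists_prime_orderOf_dvd_card (G := Fˣ) r (by rw [hcard]; exact hdvd)
  have hl : orderOf (u : F) = r := by rw [orderOf_units]; exact hu
  have hl0 : (u : F) ≠ 0 := u.ne_zero
  have hlr : (u : F) ^ r = 1 := by rw [← hl]; exact pow_orderOf_eq_one _
  have hl1 : (u : F) ≠ 1 := by
    intro h
    rw [h, orderOf_one] at hl
    exact hr.one_lt.ne hl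
  obtain ⟨m, hm⟩ : ∃ m, 3 + m = n := ⟨n - 3, by omega⟩
  obtain ⟨ε, hε⟩ : ∃ ε : Fin n ≃ Fin 3 ⊕ Fin m, ε = (finSumFinEquiv.trans (finCongr hm)).symm :=
    ⟨_, rfl⟩
  have hX : (Matrix.diagonal (dThree (κ := Fin m) (u : F))).submatrix ε ε =
      Matrix.diagonal (dThree (κ := Fin m) (u : F) ∘ ε) := Matrix.submatrix_diagonal_equiv _ _
  refine ⟨Matrix.diagonal (dThree (κ := Fin m) (u : F) ∘ ε), ?_, ?_, ?_, ?_⟩
  · rw [Matrix.det_diagonal]
    have h1 : ∏ i, (dThree (κ := Fin m) (u : F) ∘ ε) i = ∏ j, dThree (κ := Fin m) (u : F) j :=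
      Equiv.prod_comp ε _
    rw [h1, Fintype.prod_sum_type, Fin.prod_univ_three]
    have h0 : ((0 : Fin 3) = 2) = False := by simp
    have h1' : ((1 : Fin 3) = 2) = False := by simp
    simp only [dThree, Sum.elim_inl, Sum.elim_inr, h0, h1', if_false, if_true, Finset.prod_const_one,
      mul_one]
    field_simp
  · rw [Matrix.diagonal_pow]
    rw [← Matrix.diagonal_one]
    congr 1
    funext i
    rw [Pi.pow_apply, Function.comp_apply]
    rcases ε i with a | b
    · simp only [dThree, Sum.elim_inl]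
      split_ifs
      · rw [inv_pow, ← pow_mul, mul_comm, pow_mul, hlr, one_pow, inv_one]
      · rw [hlr]
    · simp only [dThree, Sum.elim_inr, one_pow]
  · intro z hz
    have hmpos : 0 < m := by omega
    have e1 := congrFun (congrFun hz (ε.symm (Sum.inl 0))) (ε.symm (Sum.inl 0))
    have e2 := congrFun (congrFun hz (ε.symm (Sum.inr ⟨0, hmpos⟩))) (ε.symm (Sum.inr ⟨0, hmpos⟩))
    rw [Matrix.diagonal_apply_eq, Function.comp_apply, Equiv.apply_symm_apply, Matrix.smul_apply,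
      Matrix.one_apply_eq, smul_eq_mul, mul_one] at e1 e2
    have h0 : ((0 : Fin 3) = 2) = False := by simp
    simp only [dThree, Sum.elim_inl, Sum.elim_inr, h0, if_false] at e1 e2
    exact hl1 (e1.trans e2.symm)
  · rw [← hX]
    apply NoSim.submatrix ε
    intro B c _ hnd hsim
    have hodd : Odd (Nat.card (Fin m)) := by
      rw [Nat.card_eq_fintype_card, Fintype.card_fin]
      obtain ⟨k, hk⟩ := he
      exact ⟨k - 2, by omega⟩
    have hgap' : ¬ (r = 3 ∧ Nat.card (Fin m) = 3) := by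
      rw [Nat.card_eq_fintype_card, Fintype.card_fin]
      rintro ⟨h3, hm3⟩
      exact hgap ⟨by omega, h3⟩
    exact diagonal_dThree_not_similitude (κ := Fin m) (u : F) r hr hr2 hl hodd hgap' B c hnd hsim

/-- the torus element -/
theorem exists_noSim_torus (p : ℕ) [Fact p.Prime] [CharP F p] (r : ℕ) [Fact r.Prime]
    (hrp : r ≠ p) (he : Odd (orderOf ((Fintype.card F : ℕ) : ZMod r)))
    (he1 : orderOf ((Fintype.card F : ℕ) : ZMod r) ≠ 1) (n : ℕ)
    (hlt : orderOf ((Fintype.card F : ℕ) : ZMod r) < n) :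
    ∃ X : Matrix (Fin n) (Fin n) F, X.det = 1 ∧ X ^ r = 1 ∧ (∀ z : F, X ≠ z • 1) ∧ NoSim X := by
  classical
  have hr : r.Prime := Fact.out
  have hq1 : 1 ≤ Fintype.card F := Fintype.card_pos
  obtain ⟨e, hedef⟩ : ∃ e, e = orderOf ((Fintype.card F : ℕ) : ZMod r) := ⟨_, rfl⟩
  rw [← hedef] at he he1 hlt
  have hepos : 1 ≤ e := Odd.pos he
  have hdvd : r ∣ Fintype.card F ^ e - 1 := by
    rw [dvd_pow_sub_one_iff hq1 e, ← hedef]
  obtain ⟨g, hg⟩ := exists_orderOf_GL (F := F) p e e hepos le_rfl r hdvd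
  have hndvd : ¬ r ∣ Fintype.card F - 1 := by
    intro h
    have h1 : r ∣ Fintype.card F ^ 1 - 1 := by rw [pow_one]; exact h
    rw [dvd_pow_sub_one_iff hq1 1, ← hedef] at h1
    exact he1 (Nat.dvd_one.mp h1)
  have hgr : g ^ r = 1 := by rw [← hg]; exact pow_orderOf_eq_one g
  have hg1 : g ≠ 1 := by
    intro h
    rw [h, orderOf_one] at hg
    exact hr.one_lt.ne hg
  have hdet : (g : Matrix (Fin e) (Fin e) F).det = 1 := by
    have h1 : (Matrix.GeneralLinearGroup.det g) ^ r = 1 := by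
      rw [← map_pow, hgr, map_one]
    have h2 : (Matrix.GeneralLinearGroup.det g) ^ (Fintype.card F - 1) = 1 := by
      rw [← Fintype.card_units]
      exact pow_card_eq_one
    have h3 : Nat.Coprime r (Fintype.card F - 1) := (Nat.Prime.coprime_iff_not_dvd hr).2 hndvd
    have h4 : orderOf (Matrix.GeneralLinearGroup.det g) ∣ 1 := by
      rw [← Nat.Coprime.gcd_eq_one h3]
      exact Nat.dvd_gcd (orderOf_dvd_of_pow_eq_one h1) (orderOf_dvd_of_pow_eq_one h2)
    have h5 : Matrix.GeneralLinearGroup.det g = 1 := orderOf_eq_one_iff.mp (Nat.dvd_one.mp h4)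
    have h6 := congrArg Units.val h5
    simpa using h6
  obtain ⟨d, hd⟩ : ∃ d, e + d = n := ⟨n - e, by omega⟩
  have hdpos : 0 < d := by omega
  have hXr : blockMat hd (g : Matrix (Fin e) (Fin e) F) (1 : Matrix (Fin d) (Fin d) F) ^ r = 1 := by
    rw [blockMat_pow, one_pow]
    have h1 : (g : Matrix (Fin e) (Fin e) F) ^ r = 1 := by
      have := congrArg (fun a : GL (Fin e) F => (a : Matrix (Fin e) (Fin e) F)) hgr
      simpa using this
    rw [h1, blockMat_one]
  have hgm1 : (g : Matrix (Fin e) (Fin e) F) ≠ 1 := by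
    intro h
    apply hg1
    apply Units.ext
    simpa using h
  have hX1 : blockMat hd (g : Matrix (Fin e) (Fin e) F) (1 : Matrix (Fin d) (Fin d) F) ≠ 1 := by
    intro h
    rw [← blockMat_one hd] at h
    exact hgm1 (blockMat_inj hd _ _ _ _ h).1
  refine ⟨blockMat hd (g : Matrix (Fin e) (Fin e) F) (1 : Matrix (Fin d) (Fin d) F), ?_, hXr, ?_, ?_⟩
  · rw [blockMat_det, hdet, Matrix.det_one, mul_one]
  · intro z hz
    rw [← blockMat_smul_one hd z] at hz
    obtain ⟨h1, h2⟩ := blockMat_inj hd _ _ _ _ hz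
    have h3 := congrFun (congrFun h2 ⟨0, hdpos⟩) ⟨0, hdpos⟩
    rw [Matrix.one_apply_eq, Matrix.smul_apply, Matrix.one_apply_eq, smul_eq_mul, mul_one] at h3
    rw [← h3, one_smul] at h1
    exact hgm1 h1
  · intro B c halt hnd hsim
    refine not_similitude_of_rank_le_order p r hrp (by rw [← hedef]; exact he)
      (by rw [← hedef]; exact he1) _ hXr hX1 ?_ B c halt hnd hsim
    rw [← hedef]
    exact rank_blockMat_sub_one_le hd _

end finite

end Cfsg.Agent.Lib.Helper40
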