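import Mathlib
import Cfsg.Prelude.Def_GeometricClasses
import Cfsg.Agent.S0245
import Cfsg.Agent.Lib.Helper13.Symp
import Cfsg.Agent.Lib.Helper13.SympSplit
import Cfsg.Agent.Lib.Helper57.CardSL
import Cfsg.Agent.Lib.Helper94.SympSLBridge

/-!
# The index of the symplectic-type subgroup of `SL_n(q)` (helper40)

For a nondegenerate alternating form `f` on `F^(k+k)` the subgroup `H` of `SL_{2k}(F)` of
similitudes of `f` contains a copy of `Sp_{2k}(F)` (`card_Sp_dvd_card_simSL`), so a prime dividing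
the index of `H` is the characteristic or divides some `q ^ (2 j + 3) - 1`, `j + 1 < k`
(`prime_dvd_index_simSL`).
-/

set_option autoImplicit false

namespace Cfsg.Agent.Lib.Helper40

open Matrix

section arith

/-- `∏ i < d, (q ^ d - q ^ i)` -/
def glProd (q d : ℕ) : ℕ := ∏ i : Fin d, (q ^ d - q ^ (i : ℕ))

theorem glProd_succ (q d : ℕ) : glProd q (d + 1) = (q ^ (d + 1) - 1) * (q ^ d * glProd q d) := by
  unfold glProd
  rw [Fin.prod_univ_succ]
  simp only [Fin.val_zero, pow_zero, Fin.val_succ]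
  congr 1
  have : ∀ i : Fin d, q ^ (d + 1) - q ^ ((i : ℕ) + 1) = q * (q ^ d - q ^ (i : ℕ)) := by
    intro i
    rw [Nat.mul_sub, ← pow_succ', ← pow_succ']
  simp only [this]
  rw [Finset.prod_mul_distrib, Finset.prod_const, Finset.card_univ, Fintype.card_fin]

theorem gl_sp_arith (q : ℕ) : ∀ k : ℕ, ∃ a : ℕ, glProd q (k + k) =
    (q ^ (k ^ 2) * ∏ i ∈ Finset.range k, (q ^ (2 * (i + 1)) - 1)) * q ^ a *
      ∏ j ∈ Finset.range k, (q ^ (2 * j + 1) - 1) := by
  intro k
  induction k with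
  | zero => exact ⟨0, by simp [glProd]⟩
  | succ k ih =>
    obtain ⟨a, ha⟩ := ih
    refine ⟨a + 2 * k, ?_⟩
    have e0 : k + 1 + (k + 1) = k + k + 1 + 1 := by ring
    rw [e0, glProd_succ, glProd_succ, ha, Finset.prod_range_succ, Finset.prod_range_succ]
    have e1 : q ^ ((k + 1) ^ 2) = q ^ (k ^ 2) * q ^ (2 * k + 1) := by
      rw [← pow_add]
      congr 1
      ring
    have e2 : k + k + 1 + 1 = 2 * (k + 1) := by ring
    have e3 : k + k + 1 = 2 * k + 1 := by ring
    have e4 : k + k = 2 * k := by ring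
    have e5 : q ^ (a + 2 * k) = q ^ a * q ^ (2 * k) := pow_add _ _ _
    rw [e1, e2, e3, e4, e5]
    ring

end arith

section embed
variable {F : Type*} [Field F] {k : ℕ}

/-- `Sp_{2k}(F)` embeds into the group of determinant-one similitudes of any nondegenerate
alternating form on `F^(k+k)` -/
theorem exists_Sp_hom_simSL (f : (Fin (k + k) → F) → (Fin (k + k) → F) → F)
    (hf : Cfsg.Geo.IsSymplecticForm f) :
    ∃ ρ : symplecticGroup (Fin k) F →* SpecialLinearGroup (Fin (k + k)) F,
      Function.Injective ρ ∧ ρ.range ≤ (Cfsg.Geo.similarityGroup f).comap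
        (SpecialLinearGroup.toGL : SpecialLinearGroup (Fin (k + k)) F →* GL (Fin (k + k)) F) := by
  classical
  set B := Cfsg.Agent.Lib.Helper94.bilinOfSymp hf with hB
  have hS := Cfsg.Agent.Lib.Helper94.sympData_bilinOfSymp hf
  have hfr : Module.finrank F (Fin (k + k) → F) = 2 * k := by
    rw [Module.finrank_fintype_fun_eq_card, Fintype.card_fin]
    ring
  obtain ⟨ι, hι⟩ := Cfsg.Agent.Lib.Helper13.exists_symp_coords B hS.alt hS.nondeg k hfr
  set M := LinearMap.toMatrix' (ι : (Fin k ⊕ Fin k → F) →ₗ[F] (Fin (k + k) → F)) with hM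
  set M' := LinearMap.toMatrix' (ι.symm : (Fin (k + k) → F) →ₗ[F] (Fin k ⊕ Fin k → F)) with hM'
  have h1 : M * M' = 1 := by
    rw [hM, hM', ← LinearMap.toMatrix'_comp, ← LinearMap.toMatrix'_id]
    congr 1
    ext v : 1
    simp
  have h2 : M' * M = 1 := by
    rw [hM, hM', ← LinearMap.toMatrix'_comp, ← LinearMap.toMatrix'_id]
    congr 1
    ext v : 1
    simp
  have hMv : ∀ a, M *ᵥ a = ι a := fun a => LinearMap.toMatrix'_mulVec _ a
  have hM'v : ∀ u, M' *ᵥ u = ι.symm u := fun u => LinearMap.toMatrix'_mulVec _ u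
  have hdet : ∀ A : symplecticGroup (Fin k) F, (M * A.1 * M').det = 1 := by
    intro A
    rw [Matrix.det_conj_of_mul_eq_one h1 h2, SymplecticGroup.det_eq_one A.2]
  let ρ : symplecticGroup (Fin k) F →* SpecialLinearGroup (Fin (k + k)) F :=
    MonoidHom.mk' (fun A => ⟨M * A.1 * M', hdet A⟩) (by
      intro A A'
      apply Subtype.ext
      change M * (A.1 * A'.1) * M' = (M * A.1 * M') * (M * A'.1 * M')
      have e : (M * A.1 * M') * (M * A'.1 * M') = M * A.1 * (M' * M) * A'.1 * M' := by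
        simp only [Matrix.mul_assoc]
      rw [e, h2, Matrix.mul_one]
      simp only [Matrix.mul_assoc])
  have hρ : ∀ A, (ρ A).1 = M * A.1 * M' := fun A => rfl
  refine ⟨ρ, ?_, ?_⟩
  · intro A A' hAA
    have h3 : M * A.1 * M' = M * A'.1 * M' := by
      rw [← hρ, ← hρ, hAA]
    apply Subtype.ext
    calc A.1 = (M' * M) * A.1 * (M' * M) := by rw [h2, Matrix.one_mul, Matrix.mul_one]
      _ = M' * (M * A.1 * M') * M := by simp only [Matrix.mul_assoc]
      _ = M' * (M * A'.1 * M') * M := by rw [h3]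
      _ = (M' * M) * A'.1 * (M' * M) := by simp only [Matrix.mul_assoc]
      _ = A'.1 := by rw [h2, Matrix.one_mul, Matrix.mul_one]
  · rintro _ ⟨A, rfl⟩
    rw [Subgroup.mem_comap]
    refine ⟨1, ?_⟩
    intro u v
    change f ((M * A.1 * M') *ᵥ u) ((M * A.1 * M') *ᵥ v) = (1 : F) * f u v
    rw [one_mul, ← Matrix.mulVec_mulVec, ← Matrix.mulVec_mulVec, ← Matrix.mulVec_mulVec,
      ← Matrix.mulVec_mulVec, hMv, hMv, hM'v, hM'v]
    have h4 := hι (A.1 *ᵥ ι.symm u) (A.1 *ᵥ ι.symm v)
    rw [Cfsg.Agent.Lib.Helper13.sympForm_mulVec_of_mem A.2, ← hι] at h4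
    rw [Cfsg.Agent.Lib.Helper94.bilinOfSymp_apply, Cfsg.Agent.Lib.Helper94.bilinOfSymp_apply,
      LinearEquiv.apply_symm_apply, LinearEquiv.apply_symm_apply] at h4
    exact h4

end embed

section index
variable {F : Type*} [Field F] [Fintype F] {k : ℕ}

/-- a prime dividing the index of the symplectic-type subgroup of `SL_{2k}(q)` divides `q` or some
`q ^ (2 j + 3) - 1` with `j + 1 < k` -/
theorem prime_dvd_index_simSL (f : (Fin (k + k) → F) → (Fin (k + k) → F) → F)
    (hf : Cfsg.Geo.IsSymplecticForm f) (r : ℕ) (hr : r.Prime)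
    (hΩ : r ∣ ((Cfsg.Geo.similarityGroup f).comap
      (SpecialLinearGroup.toGL : SpecialLinearGroup (Fin (k + k)) F →* GL (Fin (k + k)) F)).index) :
    r ∣ Fintype.card F ∨ ∃ j, j + 1 < k ∧ r ∣ Fintype.card F ^ (2 * (j + 1) + 1) - 1 := by
  classical
  obtain ⟨ρ, hinj, hle⟩ := exists_Sp_hom_simSL f hf
  set H := (Cfsg.Geo.similarityGroup f).comap
      (SpecialLinearGroup.toGL : SpecialLinearGroup (Fin (k + k)) F →* GL (Fin (k + k)) F) with hH
  rcases Nat.eq_zero_or_pos k with hk0 | hkpos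
  · -- `k = 0`: the group is trivial
    exfalso
    subst hk0
    have hsub : Subsingleton (SpecialLinearGroup (Fin (0 + 0)) F) := by
      constructor
      intro A A'
      apply Subtype.ext
      ext i
      exact absurd i.2 (by omega)
    have h1 : H.index = 1 := by
      rw [Subgroup.index_eq_one]
      exact Subsingleton.elim _ _
    rw [h1] at hΩ
    exact hr.one_lt.ne' (Nat.dvd_one.mp hΩ)
  obtain ⟨k', rfl⟩ : ∃ k', k = k' + 1 := ⟨k - 1, by omega⟩
  have h1 : H.index * Nat.card H = Nat.card (SpecialLinearGroup (Fin (k' + 1 + (k' + 1))) F) :=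
    Subgroup.index_mul_card H
  have h2 : Nat.card (symplecticGroup (Fin (k' + 1)) F) ∣ Nat.card H := by
    have h3 := Subgroup.card_dvd_of_le hle
    have h4 : Nat.card ρ.range = Nat.card (symplecticGroup (Fin (k' + 1)) F) :=
      (Nat.card_congr (MonoidHom.ofInjective hinj).toEquiv).symm
    rw [h4] at h3
    exact h3
  have h3 : (Fintype.card F - 1) * Nat.card (SpecialLinearGroup (Fin (k' + 1 + (k' + 1))) F) =
      glProd (Fintype.card F) (k' + 1 + (k' + 1)) :=
    Cfsg.Agent.Lib.Helper57.card_SL_formula (k' + 1 + (k' + 1)) (by omega)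
  have hSp := Cfsg.Agent.S0245.result (F := F) rfl (k' + 1)
  obtain ⟨a, ha⟩ := gl_sp_arith (Fintype.card F) (k' + 1)
  obtain ⟨t, ht⟩ := h2
  have hSppos : 0 < Nat.card (symplecticGroup (Fin (k' + 1)) F) := Nat.card_pos
  have hq1 : 0 < Fintype.card F - 1 := by
    have := Fintype.one_lt_card (α := F)
    omega
  rw [← hSp, Finset.prod_range_succ'] at ha
  simp only [Nat.mul_zero, zero_add, pow_one] at ha
  have h5 : H.index * t = Fintype.card F ^ a *
      ∏ j ∈ Finset.range k', (Fintype.card F ^ (2 * (j + 1) + 1) - 1) := by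
    apply Nat.eq_of_mul_eq_mul_left hSppos
    apply Nat.eq_of_mul_eq_mul_left hq1
    calc (Fintype.card F - 1) * (Nat.card (symplecticGroup (Fin (k' + 1)) F) * (H.index * t))
        = (Fintype.card F - 1) * (H.index * (Nat.card (symplecticGroup (Fin (k' + 1)) F) * t)) := by
          ring
      _ = glProd (Fintype.card F) (k' + 1 + (k' + 1)) := by rw [← ht, h1, h3]
      _ = _ := by rw [ha]; ring
  have h6 : r ∣ Fintype.card F ^ a *
      ∏ j ∈ Finset.range k', (Fintype.card F ^ (2 * (j + 1) + 1) - 1) := by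
    rw [← h5]
    exact Dvd.dvd.mul_right hΩ t
  rcases (Nat.Prime.dvd_mul hr).mp h6 with h7 | h7
  · left
    exact hr.dvd_of_dvd_pow h7
  · right
    obtain ⟨j, hj, hdvd⟩ := (Prime.dvd_finsetProd_iff hr.prime _).mp h7
    exact ⟨j, by have := Finset.mem_range.mp hj; omega, hdvd⟩

end index

end Cfsg.Agent.Lib.Helper40
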