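import Mathlib
import Cfsg.Agent.Lib.Helper40.FrobeniusDiv

/-!
# Frobenius' conjecture for solvable groups (helper40)

`sol_subgroup_of_solvable` : in a finite solvable group, if `n ∣ |G|` and `x^n = 1` has exactly
`n` solutions, the solutions form a normal subgroup.
`exists_normal_exponent_prime` : a nontrivial finite solvable group has a nontrivial normal
subgroup of prime exponent (a minimal normal subgroup is elementary abelian).
-/
namespace Cfsg.Agent.Lib.Helper40

universe u

/-- A nontrivial finite solvable group has a nontrivial normal subgroup of prime exponent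
(a minimal normal subgroup). -/
theorem exists_normal_exponent_prime {G : Type u} [Group G] [Finite G] [Group.IsSolvable G]
    [Nontrivial G] :
    ∃ K : Subgroup G, K.Normal ∧ K ≠ ⊥ ∧ ∃ p : ℕ, p.Prime ∧ (∀ x ∈ K, x ^ p = 1) ∧
      ∃ i : ℕ, Nat.card K = p ^ i := by
  classical
  let 𝒩 : Set (Subgroup G) := {K | K.Normal ∧ K ≠ ⊥}
  have hne : 𝒩.Nonempty := ⟨⊤, inferInstance, top_ne_bot⟩
  obtain ⟨K, hK, hmin⟩ := Set.exists_min_image 𝒩 (fun K : Subgroup G => Nat.card K)
    (Set.toFinite 𝒩) hne
  obtain ⟨hKn, hKb⟩ := hK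
  have hminimal : ∀ N : Subgroup G, N.Normal → N ≠ ⊥ → N ≤ K → N = K := by
    intro N hN hNb hNK
    apply Subgroup.eq_of_le_of_card_ge hNK
    exact hmin N ⟨hN, hNb⟩
  -- K is abelian
  have hcomm : ⁅K, K⁆ = ⊥ := by
    by_contra hne'
    have hlt := Group.IsSolvable.commutator_lt_of_ne_bot hKb
    have hnorm : (⁅K, K⁆ : Subgroup G).Normal := Subgroup.commutator_normal K K
    exact hlt.ne (hminimal _ hnorm hne' hlt.le)
  have hab : ∀ x ∈ K, ∀ y ∈ K, x * y = y * x := by
    intro x hx y hy
    have := (Subgroup.commutator_eq_bot_iff_le_centralizer.mp hcomm) hx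
    rw [Subgroup.mem_centralizer_iff] at this
    exact (this y hy).symm
  -- a prime dividing |K|
  have hcard : Nat.card K ≠ 1 := by
    intro h
    exact hKb ((Subgroup.card_eq_one).mp h)
  obtain ⟨p, hp, hpK⟩ := Nat.exists_prime_and_dvd hcard
  have : Fact p.Prime := ⟨hp⟩
  obtain ⟨x0, hx0⟩ := exists_prime_orderOf_dvd_card' (G := K) p hpK
  -- the p-torsion of K
  let T : Subgroup G :=
    { carrier := {x | x ∈ K ∧ x ^ p = 1}
      mul_mem' := by
        intro x y hx hy
        refine ⟨K.mul_mem hx.1 hy.1, ?_⟩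
        have hc : Commute x y := hab x hx.1 y hy.1
        rw [hc.mul_pow, hx.2, hy.2, one_mul]
      one_mem' := ⟨K.one_mem, one_pow p⟩
      inv_mem' := by
        intro x hx
        exact ⟨K.inv_mem hx.1, by rw [inv_pow, hx.2, inv_one]⟩ }
  have hTn : T.Normal := by
    constructor
    intro x hx g
    refine ⟨hKn.conj_mem x hx.1 g, ?_⟩
    rw [conj_pow, hx.2]; group
  have hTb : T ≠ ⊥ := by
    intro h
    have hx0T : (x0 : G) ∈ T := by
      refine ⟨x0.2, ?_⟩
      have : (x0 : G) ^ p = ((x0 ^ p : K) : G) := by simp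
      rw [this, ← hx0, pow_orderOf_eq_one]; rfl
    rw [h, Subgroup.mem_bot] at hx0T
    have : x0 = 1 := Subtype.ext hx0T
    rw [this, orderOf_one] at hx0
    exact hp.one_lt.ne hx0
  have hTK : T = K := hminimal T hTn hTb (fun x hx => hx.1)
  refine ⟨K, hKn, hKb, p, hp, ?_, ?_⟩
  · intro x hx
    rw [← hTK] at hx
    exact hx.2
  · have hpg : IsPGroup p K := by
      intro x
      refine ⟨1, ?_⟩
      have hx : (x : G) ∈ T := by rw [hTK]; exact x.2
      apply Subtype.ext
      simpa using hx.2
    exact (IsPGroup.iff_card).mp hpg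

/-- the set of solutions of `x^n = 1` -/
def solSet (G : Type*) [Group G] (n : ℕ) : Set G := {x | x ^ n = 1}

theorem ncard_solSet (G : Type*) [Group G] (n : ℕ) :
    (solSet G n).ncard = Nat.card {x : G // x ^ n = 1} := rfl

/-- preimage of the solution set of the quotient -/
theorem ncard_preimage_solSet {G : Type u} [Group G] (K : Subgroup G) [K.Normal] (m : ℕ) :
    ({x : G | ((x : G ⧸ K)) ^ m = 1} : Set G).ncard =
      Nat.card K * (solSet (G ⧸ K) m).ncard := by
  have := QuotientGroup.card_preimage_mk K (solSet (G ⧸ K) m)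
  rw [Nat.card_coe_set_eq, Nat.card_coe_set_eq] at this
  exact this

theorem le_ncard_solSet {Q : Type u} [Group Q] [Finite Q] (m : ℕ) (hm : m ∣ Nat.card Q) :
    m ≤ (solSet Q m).ncard := by
  rw [ncard_solSet]
  exact Nat.le_of_dvd (nsol_pos m) (frobenius_dvd m hm)

/-- lifting solutions of `y^n = 1` through a normal subgroup of order prime to `n` -/
theorem exists_lift_sol {G : Type u} [Group G] [Finite G] (K : Subgroup G) [K.Normal] (n : ℕ)
    (hcop : Nat.Coprime n (Nat.card K)) (y : G ⧸ K) (hy : y ^ n = 1) :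
    ∃ x : G, x ^ n = 1 ∧ (x : G ⧸ K) = y := by
  obtain ⟨x0, rfl⟩ := QuotientGroup.mk_surjective y
  obtain ⟨u, v, hab⟩ : ∃ u v : ℤ, (n : ℤ) * u + (Nat.card K : ℤ) * v = 1 := by
    refine ⟨Int.gcdA n (Nat.card K), Int.gcdB n (Nat.card K), ?_⟩
    rw [← Int.gcd_eq_gcd_ab]
    have : Int.gcd (n : ℤ) (Nat.card K : ℤ) = 1 := by
      rw [Int.gcd_natCast_natCast]; exact hcop
    rw [this]; rfl
  have hx0K : x0 ^ n ∈ K := by
    rw [← QuotientGroup.eq_one_iff, QuotientGroup.mk_pow]; exact hy
  have hx0nk : (x0 ^ n) ^ (Nat.card K) = 1 := by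
    have := pow_card_eq_one' (G := K) (x := ⟨x0 ^ n, hx0K⟩)
    exact congrArg Subtype.val this
  refine ⟨x0 ^ ((Nat.card K : ℤ) * v), ?_, ?_⟩
  · rw [← zpow_natCast, ← zpow_mul]
    have h1 : x0 ^ ((n : ℤ) * (Nat.card K : ℤ)) = 1 := by
      rw [zpow_mul, zpow_natCast, zpow_natCast]; exact hx0nk
    exact zpow_eq_one_of_dvd x0 _ h1 _ ⟨v, by ring⟩
  · rw [QuotientGroup.mk_zpow]
    have hy' : (x0 : G ⧸ K) ^ ((n : ℤ) * u) = 1 := by
      rw [zpow_mul, zpow_natCast, hy, one_zpow]
    have h2 : (x0 : G ⧸ K) ^ ((n : ℤ) * u + (Nat.card K : ℤ) * v) = (x0 : G ⧸ K) := by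
      rw [hab, zpow_one]
    rw [zpow_add, hy', one_mul] at h2
    exact h2

/-- **Solvable case of Frobenius' conjecture**: in a finite solvable group, if `n ∣ |G|` and
`x^n = 1` has exactly `n` solutions, the solutions form a normal subgroup. -/
theorem sol_subgroup_of_solvable :
    ∀ (N : ℕ) (G : Type u) [Group G] [Finite G] [Group.IsSolvable G], Nat.card G = N →
      ∀ n : ℕ, n ∣ Nat.card G → Nat.card {x : G // x ^ n = 1} = n →
        ∃ H : Subgroup G, H.Normal ∧ (H : Set G) = {x : G | x ^ n = 1} := by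
  intro N
  induction N using Nat.strong_induction_on with
  | _ N ih =>
  intro G _ _ _ hN n hn hcount
  rcases subsingleton_or_nontrivial G with hsub | hnt
  · refine ⟨⊤, inferInstance, ?_⟩
    ext x
    simp only [Subgroup.coe_top, Set.mem_univ, Set.mem_ofPred_eq, true_iff]
    rw [Subsingleton.elim x 1, one_pow]
  obtain ⟨K, hKn, hKb, p, hp, hexp, i, hki⟩ := exists_normal_exponent_prime (G := G)
  have hG0 : Nat.card G ≠ 0 := Nat.card_pos.ne'
  have hn0 : n ≠ 0 := by
    rintro rfl
    exact hG0 (Nat.eq_zero_of_zero_dvd hn)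
  set k := Nat.card K with hk
  have hk1 : k ≠ 1 := fun h => hKb (Subgroup.card_eq_one.mp h)
  have hkpos : 0 < k := Nat.card_pos
  have hi : 1 ≤ i := by
    rcases Nat.eq_zero_or_pos i with rfl | h
    · rw [pow_zero] at hki; exact absurd hki hk1
    · exact h
  have hQG : Nat.card (G ⧸ K) * k = Nat.card G :=
    (Subgroup.card_eq_card_quotient_mul_card_subgroup K).symm
  have hQN : Nat.card (G ⧸ K) < N := by
    rw [← hN, ← hQG]
    have hQpos : 0 < Nat.card (G ⧸ K) := Nat.card_pos
    have : 2 ≤ k := by omega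
    nlinarith
  have hfinsol : ∀ m : ℕ, (solSet G m).Finite := fun m => Set.toFinite _
  have hcount' : (solSet G n).ncard = n := hcount
  by_cases hpn : p ∣ n
  · by_cases hkn : k ∣ n
    · -- Case A
      obtain ⟨m, hm⟩ := hkn
      have hmQ : m ∣ Nat.card (G ⧸ K) := by
        have : k * m ∣ Nat.card (G ⧸ K) * k := by rw [hQG, ← hm]; exact hn
        rw [mul_comm] at this
        exact Nat.dvd_of_mul_dvd_mul_right hkpos this
      have hsub : ({x : G | ((x : G ⧸ K)) ^ m = 1} : Set G) ⊆ solSet G n := by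
        intro x hx
        have hxK : x ^ m ∈ K := by
          rw [← QuotientGroup.eq_one_iff, QuotientGroup.mk_pow]; exact hx
        have := pow_card_eq_one' (G := K) (x := ⟨x ^ m, hxK⟩)
        have h2 : (x ^ m) ^ k = 1 := congrArg Subtype.val this
        change x ^ n = 1
        rw [hm, mul_comm, pow_mul]; exact h2
      have hle := Set.ncard_le_ncard hsub (hfinsol n)
      rw [ncard_preimage_solSet, hcount'] at hle
      have hge := le_ncard_solSet (Q := G ⧸ K) m hmQ
      have hcm : (solSet (G ⧸ K) m).ncard = m := by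
        have : k * (solSet (G ⧸ K) m).ncard ≤ k * m := by rw [← hm]; exact hle
        exact le_antisymm (Nat.le_of_mul_le_mul_left this hkpos) hge
      have heq : ({x : G | ((x : G ⧸ K)) ^ m = 1} : Set G) = solSet G n := by
        apply Set.eq_of_subset_of_ncard_le hsub _ (hfinsol n)
        rw [ncard_preimage_solSet, hcm, hcount', ← hm]
      obtain ⟨Hbar, hHn, hHset⟩ := ih _ hQN (G ⧸ K) rfl m hmQ hcm
      refine ⟨Hbar.comap (QuotientGroup.mk' K), hHn.comap _, ?_⟩
      rw [Subgroup.coe_comap, hHset]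
      exact heq
    · -- Case C: impossible
      exfalso
      set a := n.factorization p with ha
      set n1 := n / p ^ a with hn1
      have hn1n : p ^ a * n1 = n := Nat.ordProj_mul_ordCompl_eq_self _ _
      have hpn1 : Nat.Coprime p n1 := Nat.coprime_ordCompl hp hn0
      have ha1 : 1 ≤ a := (hp.dvd_iff_one_le_factorization hn0).mp hpn
      have hai : a < i := by
        by_contra hcon
        apply hkn
        rw [hki]
        exact dvd_trans (pow_dvd_pow p (not_lt.mp hcon)) (Dvd.intro _ hn1n)
      have hn1pos : 0 < n1 := Nat.pos_of_ne_zero (by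
        rintro h
        rw [h, mul_zero] at hn1n
        exact hn0 hn1n.symm)
      have hn1Q : n1 ∣ Nat.card (G ⧸ K) := by
        have h1 : n1 ∣ Nat.card (G ⧸ K) * k := by
          rw [hQG]; exact dvd_trans (Dvd.intro_left _ hn1n) hn
        have hc : Nat.Coprime n1 k := by
          rw [hki]; exact Nat.Coprime.pow_right i hpn1.symm
        exact hc.dvd_of_dvd_mul_right h1
      have hsub : ({x : G | ((x : G ⧸ K)) ^ n1 = 1} : Set G) ⊆ solSet G n := by
        intro x hx
        have hxK : x ^ n1 ∈ K := by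
          rw [← QuotientGroup.eq_one_iff, QuotientGroup.mk_pow]; exact hx
        have h2 : (x ^ n1) ^ p = 1 := hexp _ hxK
        change x ^ n = 1
        have : n = n1 * p * p ^ (a - 1) := by
          rw [← hn1n, mul_assoc, ← pow_succ', Nat.sub_add_cancel ha1, mul_comm]
        rw [this, pow_mul, pow_mul, h2, one_pow]
      have hle := Set.ncard_le_ncard hsub (hfinsol n)
      rw [ncard_preimage_solSet, hcount'] at hle
      have hge := le_ncard_solSet (Q := G ⧸ K) n1 hn1Q
      have h3 : k * n1 ≤ p ^ a * n1 := by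
        calc k * n1 ≤ k * (solSet (G ⧸ K) n1).ncard := Nat.mul_le_mul_left _ hge
          _ ≤ n := hle
          _ = p ^ a * n1 := hn1n.symm
      have h4 : p ^ i ≤ p ^ a := by
        rw [← hki]; exact Nat.le_of_mul_le_mul_right h3 hn1pos
      have := (Nat.pow_le_pow_iff_right hp.one_lt).mp h4
      omega
  · -- Case B
    have hcop : Nat.Coprime n k := by
      rw [hki]
      exact Nat.Coprime.pow_right i ((Nat.Prime.coprime_iff_not_dvd hp).mpr hpn).symm
    have hnQ : n ∣ Nat.card (G ⧸ K) := by
      have h1 : n ∣ Nat.card (G ⧸ K) * k := by rw [hQG]; exact hn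
      exact hcop.dvd_of_dvd_mul_right h1
    have hge := le_ncard_solSet (Q := G ⧸ K) n hnQ
    have hsurj : Nat.card {y : G ⧸ K // y ^ n = 1} ≤ Nat.card {x : G // x ^ n = 1} := by
      apply Nat.card_le_card_of_surjective
        (fun x : {x : G // x ^ n = 1} => (⟨(x.1 : G ⧸ K), by
          rw [← QuotientGroup.mk_pow, x.2]; rfl⟩ : {y : G ⧸ K // y ^ n = 1}))
      intro y
      obtain ⟨x, hx1, hx2⟩ := exists_lift_sol K n hcop y.1 y.2
      exact ⟨⟨x, hx1⟩, Subtype.ext hx2⟩
    have hle : (solSet (G ⧸ K) n).ncard ≤ n := by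
      calc (solSet (G ⧸ K) n).ncard = Nat.card {y : G ⧸ K // y ^ n = 1} := rfl
        _ ≤ Nat.card {x : G // x ^ n = 1} := hsurj
        _ = n := hcount
    have hcn : (solSet (G ⧸ K) n).ncard = n := le_antisymm hle hge
    obtain ⟨Hbar, hHn, hHset⟩ := ih _ hQN (G ⧸ K) rfl n hnQ hcn
    set H := Hbar.comap (QuotientGroup.mk' K) with hH
    have hHcard : Nat.card H = k * n := by
      have h1 := QuotientGroup.card_preimage_mk K (Hbar : Set (G ⧸ K))
      have h2 : Nat.card (Hbar : Set (G ⧸ K)) = n := by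
        rw [hHset]; exact hcn
      rw [h2] at h1
      rw [← h1]
      rfl
    have hKH : K ≤ H := by
      intro x hx
      rw [hH, Subgroup.mem_comap]
      have : (QuotientGroup.mk' K) x = 1 := (QuotientGroup.eq_one_iff x).mpr hx
      rw [this]; exact Hbar.one_mem
    have hNcard : Nat.card (K.subgroupOf H) = k :=
      Nat.card_congr (Subgroup.subgroupOfEquivOfLe hKH).toEquiv
    have hNnorm : (K.subgroupOf H).Normal := Subgroup.normal_subgroupOf
    have hNindex : (K.subgroupOf H).index = n := by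
      have := Subgroup.card_mul_index (K.subgroupOf H)
      rw [hNcard, hHcard] at this
      exact Nat.eq_of_mul_eq_mul_left hkpos this
    obtain ⟨C', hC'⟩ := Subgroup.exists_right_complement'_of_coprime
      (N := K.subgroupOf H) (by rw [hNcard, hNindex]; exact hcop.symm)
    have hC'card : Nat.card C' = n := by
      have := hC'.card_mul_card
      rw [hNcard, hHcard] at this
      exact Nat.eq_of_mul_eq_mul_left hkpos this
    set C := C'.map H.subtype with hC
    have hCcard : Nat.card C = n := by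
      rw [hC, Subgroup.card_subtype]; exact hC'card
    have hCsub : (C : Set G) ⊆ solSet G n := by
      intro c hc
      obtain ⟨c', hc', rfl⟩ := Subgroup.mem_map.mp hc
      have := pow_card_eq_one' (G := C') (x := ⟨c', hc'⟩)
      rw [hC'card] at this
      have h2 : c' ^ n = 1 := congrArg Subtype.val this
      change (H.subtype c') ^ n = 1
      rw [← map_pow, h2, map_one]
    have hCeq : (C : Set G) = solSet G n := by
      apply Set.eq_of_subset_of_ncard_le hCsub _ (hfinsol n)
      rw [hcount']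
      exact le_of_eq hCcard.symm
    refine ⟨C, ?_, hCeq⟩
    constructor
    intro c hc g
    have hc' : c ∈ (C : Set G) := hc
    rw [hCeq] at hc'
    have : g * c * g⁻¹ ∈ (C : Set G) := by
      rw [hCeq]
      change (g * c * g⁻¹) ^ n = 1
      rw [conj_pow, hc']
      group
    exact this

end Cfsg.Agent.Lib.Helper40
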