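import Mathlib
import Cfsg.Agent.Lib.Helper40.SpBoundA
import Cfsg.Agent.Lib.Helper19.CubeArith
import Cfsg.Agent.Lib.Helper19.CubeNil
import Cfsg.Agent.Lib.Helper80.SympOrb

/-!
# The order bound for one-class elements of `Sp_2n(q)` (helper40, for S2512)
-/

set_option autoImplicit false
set_option linter.unusedSectionVars false

namespace Cfsg.Agent.Lib.Helper40

open Polynomial Matrix

section bound
variable {F : Type*} [Field F] [Fintype F]

theorem symplectic_pow_eq_one_of_no_idem (p : ℕ) [Fact p.Prime] [CharP F p] {n : ℕ} (hn : 1 ≤ n)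
    (A : Matrix (Fin n ⊕ Fin n) (Fin n ⊕ Fin n) F) (hA : A ∈ symplecticGroup (Fin n) F)
    (k : ℕ) (hk : Odd k) (hAk : A ^ k = 1)
    (hno : ¬ ∃ π : Matrix (Fin n ⊕ Fin n) (Fin n ⊕ Fin n) F, π * π = π ∧ π ≠ 0 ∧ π ≠ 1 ∧
      π * A = A * π ∧ πᵀ * J (Fin n) F = J (Fin n) F * π) :
    (∀ j : ℕ, 2 * n ≤ p ^ j → A ^ (p ^ j) = 1) ∨
    ∃ d e t : ℕ, 1 ≤ d ∧ 1 ≤ e ∧ d * e ≤ n ∧
      (t ∣ Fintype.card F ^ d - 1 ∨ t ∣ Fintype.card F ^ d + 1) ∧
      ∀ j : ℕ, e ≤ p ^ j → A ^ (t * p ^ j) = 1 := by
  classical
  have hpp : p.Prime := Fact.out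
  set q := Fintype.card F with hq
  obtain ⟨a, -, hqa⟩ := FiniteField.card F p
  -- the splitting field
  let K := A.charpoly.SplittingField
  have : Finite K := Module.finite_of_finite F
  have : CharP K p := charP_of_injective_algebraMap (algebraMap F K).injective p
  set AK : Matrix (Fin n ⊕ Fin n) (Fin n ⊕ Fin n) K := A.map (algebraMap F K) with hAK
  have hχ : AK.charpoly = A.charpoly.map (algebraMap F K) := Matrix.charpoly_map A _
  have hs : AK.charpoly.Splits := by
    rw [hχ]
    exact SplittingField.splits A.charpoly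
  have hAKsp : AK ∈ symplecticGroup (Fin n) K := by
    rw [SymplecticGroup.mem_iff] at hA ⊢
    have h1 := congrArg (fun M => M.map (algebraMap F K)) hA
    simp only [Matrix.map_mul] at h1
    have hJ : (J (Fin n) F).map (algebraMap F K) = J (Fin n) K := by
      ext (i | i) (j | j) <;> simp [J, Matrix.one_apply]
    rw [hJ, Matrix.transpose_map] at h1
    exact h1
  set M := AK.charpoly.roots with hM
  have hcard : Multiset.card M = n + n := by
    rw [hM, ← hs.natDegree_eq_card_roots, Matrix.charpoly_natDegree_eq_dim, Fintype.card_sum,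
      Fintype.card_fin]
  have hinvM : M.map (fun y => y⁻¹) = M := roots_map_inv_of_symplectic AK hAKsp hs
  have hfrobM : M.map (fun y => y ^ q) = M := by
    have := roots_map_frob_of_base (F := F) (K := K) A.charpoly (by rw [← hχ]; exact hs)
    rw [← hχ] at this
    exact this
  have hroot : ∀ y ∈ M, aeval y A.charpoly = 0 := by
    intro y hy
    have h1 := (mem_roots'.mp hy).2
    rw [hχ, IsRoot, eval_map_algebraMap] at h1
    exact h1
  have horb : ∀ y ∈ M, ∀ y' ∈ M, ∃ j : ℕ, y' = y ^ (q ^ j) ∨ y' = (y ^ (q ^ j))⁻¹ := by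
    intro y hy y' hy'
    exact Cfsg.Agent.Lib.Helper80.SympOrb.symplectic_orbit_of_no_idem A hA hno y y' (hroot y hy) (hroot y' hy')
  -- a fixed eigenvalue
  obtain ⟨y0, hy0⟩ : ∃ y0, y0 ∈ M := by
    apply Multiset.card_pos_iff_exists_mem.mp
    rw [hcard]
    omega
  -- eigenvalues are `k`-th roots of unity
  have hAKk : AK ^ k = 1 := by
    rw [hAK, ← RingHom.mapMatrix_apply, ← map_pow, hAk, map_one]
  have hyk : ∀ y ∈ M, y ^ k = 1 := by
    intro y hy
    have h1 : AK.charpoly.IsRoot y := (mem_roots'.mp hy).2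
    rw [IsRoot, Matrix.eval_charpoly] at h1
    obtain ⟨v, hv, hv0⟩ := Matrix.exists_mulVec_eq_zero_iff.mpr h1
    have h2 : AK *ᵥ v = y • v := by
      have h3 : (Matrix.scalar (Fin n ⊕ Fin n) y - AK) *ᵥ v = y • v - AK *ᵥ v := by
        rw [Matrix.sub_mulVec]
        congr 1
        ext i
        simp [Matrix.mulVec, dotProduct, Matrix.scalar_apply, Matrix.diagonal_apply]
      rw [h3] at hv0
      exact (sub_eq_zero.mp hv0).symm
    have h4 : ∀ i : ℕ, (AK ^ i) *ᵥ v = y ^ i • v := by
      intro i
      induction i with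
      | zero => simp
      | succ i ih =>
        rw [pow_succ, ← Matrix.mulVec_mulVec, h2, Matrix.mulVec_smul, ih, smul_smul, pow_succ']
    have h5 := h4 k
    rw [hAKk, Matrix.one_mulVec] at h5
    have h6 : (y ^ k - 1) • v = 0 := by
      rw [sub_smul, one_smul, ← h5, sub_self]
    rcases smul_eq_zero.mp h6 with h7 | h7
    · exact sub_eq_zero.mp h7
    · exact absurd h7 hv
  have hk0 : 0 < k := hk.pos
  set t := orderOf y0 with ht
  have htk : t ∣ k := orderOf_dvd_of_pow_eq_one (hyk y0 hy0)
  have htodd : Odd t := Odd.of_dvd_nat hk htk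
  have ht0 : 0 < t := htodd.pos
  have htp : t.Coprime p := orderOf_coprime_char p y0 ht0
  have htq : q.Coprime t := by
    rw [hq, hqa]
    exact (Nat.Coprime.pow_left _ htp.symm)
  have hyt : ∀ y ∈ M, y ^ t = 1 := by
    intro y hy
    obtain ⟨j, hj | hj⟩ := horb y0 hy0 y hy
    · rw [hj, ← pow_mul, mul_comm, pow_mul, ht, pow_orderOf_eq_one, one_pow]
    · rw [hj, inv_pow, ← pow_mul, mul_comm, pow_mul, ht, pow_orderOf_eq_one, one_pow, inv_one]
  -- all multiplicities are equal
  set e := M.count y0 with he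
  have hinjq : Function.Injective (fun y : K => y ^ q) := by
    have := (iterateFrobenius K p a).injective
    intro x y hxy
    apply this
    rw [iterateFrobenius_def, iterateFrobenius_def, ← hqa]
    exact hxy
  have hcountq : ∀ y : K, M.count (y ^ q) = M.count y := by
    intro y
    conv_lhs => rw [← hfrobM]
    exact Multiset.count_map_eq_count' (fun y : K => y ^ q) M hinjq y
  have hcountinv : ∀ y : K, M.count y⁻¹ = M.count y := by
    intro y
    conv_lhs => rw [← hinvM]
    exact Multiset.count_map_eq_count' (fun y : K => y⁻¹) M inv_injective y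
  have hcountqj : ∀ (j : ℕ) (y : K), M.count (y ^ (q ^ j)) = M.count y := by
    intro j
    induction j with
    | zero => intro y; rw [pow_zero, pow_one]
    | succ j ih =>
      intro y
      rw [pow_succ, pow_mul, hcountq, ih]
  have hcount : ∀ y ∈ M, M.count y = e := by
    intro y hy
    obtain ⟨j, hj | hj⟩ := horb y0 hy0 y hy
    · rw [hj, hcountqj]
    · rw [hj, hcountinv, hcountqj]
  have he1 : 1 ≤ e := Multiset.one_le_count_iff_mem.mpr hy0
  -- nilpotency
  have hnil : (AK ^ t - 1) ^ e = 0 := by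
    apply Cfsg.Agent.Lib.Helper19.Cube.pow_sub_one_pow_eq_zero_of_count_le AK hs t e hyt
    intro y
    by_cases hy : y ∈ M
    · rw [hcount y hy]
    · rw [Multiset.count_eq_zero_of_notMem hy]
      exact Nat.zero_le _
  have hnilF : (A ^ t - 1) ^ e = 0 := by
    have hinjM : Function.Injective ((algebraMap F K).mapMatrix :
        Matrix (Fin n ⊕ Fin n) (Fin n ⊕ Fin n) F → Matrix (Fin n ⊕ Fin n) (Fin n ⊕ Fin n) K) := by
      intro X Y hXY
      ext a b
      have := congrFun (congrFun hXY a) b
      simp only [RingHom.mapMatrix_apply, Matrix.map_apply] at this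
      exact (algebraMap F K).injective this
    apply hinjM
    rw [map_pow, map_sub, map_pow, map_zero, map_one]
    exact hnil
  have : Nonempty (Fin n ⊕ Fin n) := ⟨Sum.inl ⟨0, hn⟩⟩
  have hpow : ∀ j : ℕ, e ≤ p ^ j → A ^ (t * p ^ j) = 1 := by
    intro j hj
    have h1 : (A ^ t - 1) ^ (p ^ j) = 0 := by
      obtain ⟨d, hd⟩ := Nat.exists_eq_add_of_le hj
      rw [hd, pow_add, hnilF, zero_mul]
    rw [sub_pow_char_pow_of_commute p j (Commute.one_right _), one_pow, sub_eq_zero,
      ← pow_mul] at h1
    exact h1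
  by_cases ht1 : t = 1
  · left
    intro j hj
    have hall : ∀ y ∈ M, y = y0 := by
      intro y hy
      have h1 := hyt y hy
      have h2 := hyt y0 hy0
      rw [ht1, pow_one] at h1 h2
      rw [h1, h2]
    have he2 : e = n + n := by
      rw [he, ← hcard]
      exact Multiset.count_eq_card.mpr (fun y hy => (hall y hy).symm)
    have := hpow j (by omega)
    rw [ht1, one_mul] at this
    exact this
  · right
    have ht3 : 3 ≤ t := by
      obtain ⟨s, hs'⟩ := htodd
      omega
    -- counting distinct roots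
    have hsum : e * M.toFinset.card = n + n := by
      rw [← hcard, ← Multiset.toFinset_sum_count_eq M, mul_comm, ← smul_eq_mul,
        ← Finset.sum_const]
      apply Finset.sum_congr rfl
      intro y hy
      exact (hcount y (Multiset.mem_toFinset.mp hy)).symm
    have h0 : ∀ y ∈ M, y ≠ 0 := by
      intro y hy hy0'
      have := hyt y hy
      rw [hy0', zero_pow ht0.ne'] at this
      exact zero_ne_one this
    set S : Set Kˣ := {u | (u : K) ∈ M} with hS
    have hSq : ∀ x ∈ S, x ^ q ∈ S := by
      intro x hx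
      show ((x ^ q : Kˣ) : K) ∈ M
      rw [Units.val_pow_eq_pow_val, ← hfrobM]
      exact Multiset.mem_map_of_mem _ hx
    have hSinv : ∀ x ∈ S, x⁻¹ ∈ S := by
      intro x hx
      show ((x⁻¹ : Kˣ) : K) ∈ M
      rw [Units.val_inv_eq_inv_val, ← hinvM]
      exact Multiset.mem_map_of_mem _ hx
    set ν : Kˣ := Units.mk0 y0 (h0 y0 hy0) with hν
    have hνS : ν ∈ S := hy0
    have hνord : orderOf ν = t := by
      rw [← orderOf_units, hν, Units.val_mk0]
    have hqunit : IsUnit (q : ZMod t) := (ZMod.isUnit_iff_coprime q t).mpr htq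
    set m' := orderOf (q : ZMod t) with hm'
    have hm'pos : 0 < m' := by
      rw [hm', orderOf_pos_iff, isOfFinOrder_iff_pow_eq_one]
      refine ⟨Nat.totient t, Nat.totient_pos.mpr ht0, ?_⟩
      have := ZMod.pow_totient hqunit.unit
      have h2 := congrArg Units.val this
      rw [Units.val_pow_eq_pow_val, IsUnit.unit_spec, Units.val_one] at h2
      exact h2
    obtain ⟨s, hs1, hs2, hs3⟩ := exists_finset_of_closed S q hSq hSinv ν hνS t m' hνord hm'pos rfl
    have hsR : s.card ≤ M.toFinset.card := by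
      have himg : s.image (fun u : Kˣ => (u : K)) ⊆ M.toFinset := by
        intro y hy
        obtain ⟨u, hu, rfl⟩ := Finset.mem_image.mp hy
        exact Multiset.mem_toFinset.mpr (hs1 u hu).1
      calc s.card = (s.image (fun u : Kˣ => (u : K))).card :=
            (Finset.card_image_of_injective s Units.val_injective).symm
        _ ≤ _ := Finset.card_le_card himg
    by_cases hneg : ∃ i : ℕ, (q : ZMod t) ^ i = -1
    · obtain ⟨i, hi⟩ := hneg
      obtain ⟨d, hd1, hd2, hd3⟩ := Cfsg.Agent.Lib.Helper19.Cube.exists_half_order_of_pow_eq_neg_one t q i ht3 hi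
      refine ⟨d, e, t, hd1, he1, ?_, Or.inr ?_, hpow⟩
      · have h1 : 2 * d ≤ M.toFinset.card := by
          rw [← hd2]
          exact le_trans hs2 hsR
        have h2 : e * (2 * d) ≤ n + n := by
          rw [← hsum]
          exact Nat.mul_le_mul_left e h1
        nlinarith
      · rw [← ZMod.natCast_eq_zero_iff]
        push_cast
        rw [hd3]
        ring
    · have hneg' : ∀ i : ℕ, (q : ZMod t) ^ i ≠ -1 := fun i hi => hneg ⟨i, hi⟩
      refine ⟨m', e, t, hm'pos, he1, ?_, Or.inl ?_, hpow⟩
      · have h1 : 2 * m' ≤ M.toFinset.card := le_trans (hs3 hneg') hsR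
        have h2 : e * (2 * m') ≤ n + n := by
          rw [← hsum]
          exact Nat.mul_le_mul_left e h1
        nlinarith
      · have h1 : (q : ZMod t) ^ m' = 1 := pow_orderOf_eq_one _
        have hq1 : 1 ≤ q ^ m' := Nat.one_le_pow _ _ Fintype.card_pos
        rw [← ZMod.natCast_eq_zero_iff, Nat.cast_sub hq1]
        push_cast
        rw [h1, sub_self]

end bound

end Cfsg.Agent.Lib.Helper40
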