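import Mathlib
import Cfsg.Agent.Lib.Helper40.SpCubeC
import Cfsg.Agent.Lib.Helper40.SpBoundB

/-!
# The key dichotomy of S2512 for `PSp_2n(q)`, `q` odd (helper40)
-/

set_option autoImplicit false
set_option linter.unusedSectionVars false

namespace Cfsg.Agent.Lib.Helper40

open Matrix

section arith

theorem dvd_gcd_mul_of_dvd_mul_coprime (k t P : ℕ) (h : k ∣ t * P) (hcop : t.Coprime P) :
    k ∣ Nat.gcd k t * P := by
  have h1 : Nat.gcd k (t * P) = Nat.gcd k t * Nat.gcd k P := Nat.Coprime.gcd_mul k hcop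
  have h2 : Nat.gcd k (t * P) = k := Nat.gcd_eq_left h
  rw [h2] at h1
  conv_lhs => rw [h1]
  exact Nat.mul_dvd_mul_left _ (Nat.gcd_dvd_right k P)

end arith

section key
variable {F : Type*} [Field F] [Fintype F]

theorem psp_key (p : ℕ) [Fact p.Prime] [CharP F p] (hp2 : p ≠ 2) {n : ℕ} (hn : 1 ≤ n)
    (x : Cfsg.PSp n F) (hx : Odd (orderOf x)) :
    (∃ y : Cfsg.PSp n F, orderOf y = 2 * orderOf x) ∨ orderOf x ∣ Fintype.card F ^ n - 1 ∨
      orderOf x ∣ Fintype.card F ^ n + 1 ∨ orderOf x ∣ p ^ Nat.clog p (2 * n) := by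
  classical
  have hp : p.Prime := Fact.out
  have h2F : (2 : F) ≠ 0 := two_ne_zero_of_char_ne_two (F := F) p hp2
  obtain ⟨g, hgx, hgord⟩ := exists_sp_lift_of_odd hn x hx
  set k := orderOf x with hk
  set A : Matrix (Fin n ⊕ Fin n) (Fin n ⊕ Fin n) F :=
    (g : Matrix (Fin n ⊕ Fin n) (Fin n ⊕ Fin n) F) with hAdef
  have hA : A ∈ symplecticGroup (Fin n) F := g.2
  have hAk : A ^ k = 1 := by
    rw [hAdef, ← SubmonoidClass.coe_pow, ← hgord, pow_orderOf_eq_one]
    rfl
  have hdvd_of_pow : ∀ N : ℕ, A ^ N = 1 → k ∣ N := by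
    intro N hN
    rw [← hgord]
    apply orderOf_dvd_of_pow_eq_one
    apply Subtype.ext
    rw [SubmonoidClass.coe_pow]
    exact hN
  by_cases hidem : ∃ π : Matrix (Fin n ⊕ Fin n) (Fin n ⊕ Fin n) F, π * π = π ∧ π ≠ 0 ∧ π ≠ 1 ∧
      π * A = A * π ∧ πᵀ * J (Fin n) F = J (Fin n) F * π
  · left
    obtain ⟨π, hπ, h0, h1, hcomm, hs⟩ := hidem
    obtain ⟨Z, hZmem, hZZ, hZ1, hZneg, hZA⟩ :=
      exists_symplectic_invol_of_idem h2F A π hπ h0 h1 hcomm hs
    set z : symplecticGroup (Fin n) F := ⟨Z, hZmem⟩ with hz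
    have hzord : orderOf (QuotientGroup.mk z : Cfsg.PSp n F) = 2 := by
      apply orderOf_eq_prime
      · apply (mk_pow_eq_one_iff_PSp hn z 2).mpr
        left
        rw [pow_two]
        exact hZZ
      · intro h
        rcases (mk_eq_one_iff_PSp hn z).mp h with h | h
        · exact hZ1 h
        · exact hZneg h
    have hcomm' : Commute (QuotientGroup.mk g : Cfsg.PSp n F) (QuotientGroup.mk z) := by
      have h3 : g * z = z * g := by
        apply Subtype.ext
        rw [Submonoid.coe_mul, Submonoid.coe_mul]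
        exact hZA.symm
      show (QuotientGroup.mk g : Cfsg.PSp n F) * QuotientGroup.mk z =
        QuotientGroup.mk z * QuotientGroup.mk g
      rw [← QuotientGroup.mk_mul, ← QuotientGroup.mk_mul, h3]
    refine ⟨QuotientGroup.mk g * QuotientGroup.mk z, ?_⟩
    rw [hcomm'.orderOf_mul_eq_mul_orderOf_of_coprime, hzord, hgx, mul_comm]
    rw [hzord, hgx]
    exact Nat.coprime_two_right.mpr hx
  · rcases symplectic_pow_eq_one_of_no_idem p hn A hA k hx hAk hidem with h | h
    · right; right; right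
      exact hdvd_of_pow _ (h _ (Nat.le_pow_clog hp.one_lt _))
    · obtain ⟨d, e, t, hd, he, hde, htq, hpow⟩ := h
      have hkt : k ∣ t * p ^ Nat.clog p e := hdvd_of_pow _ (hpow _ (Nat.le_pow_clog hp.one_lt _))
      have hdn : d ≤ n := le_trans (Nat.le_mul_of_pos_right d he) hde
      rcases Nat.eq_or_lt_of_le hdn with hdn' | hdn'
      · -- `d = n`, `e = 1`
        have he1 : e = 1 := by
          subst hdn'
          have : d * e ≤ d * 1 := by rw [mul_one]; exact hde
          have := Nat.le_of_mul_le_mul_left this hd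
          omega
        rw [he1, Nat.clog_one_right, pow_zero, mul_one] at hkt
        subst hdn'
        rcases htq with h1 | h1
        · right; left
          exact dvd_trans hkt h1
        · right; right; left
          exact dvd_trans hkt h1
      · left
        set t' := Nat.gcd k t with ht'
        have ht'odd : Odd t' := Odd.of_dvd_nat hx (Nat.gcd_dvd_left k t)
        have ht'q : t' ∣ Fintype.card F ^ d - 1 ∨ t' ∣ Fintype.card F ^ d + 1 := by
          rcases htq with h1 | h1
          · exact Or.inl (dvd_trans (Nat.gcd_dvd_right k t) h1)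
          · exact Or.inr (dvd_trans (Nat.gcd_dvd_right k t) h1)
        have htp : t.Coprime p := coprime_char_of_dvd_pow_pm (F := F) p d t hd htq
        have hk' : k ∣ t' * p ^ Nat.clog p e :=
          dvd_gcd_mul_of_dvd_mul_coprime k t _ hkt (Nat.Coprime.pow_right _ htp)
        have hele : e ≤ 2 * (n - d) := by
          rcases Nat.eq_or_lt_of_le he with he1 | he2
          · omega
          · have h3 : d * 2 ≤ d * e := Nat.mul_le_mul_left d he2
            have h4 : e ≤ d * e := Nat.le_mul_of_pos_left e hd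
            have h5 : d * e - d ≤ n - d := Nat.sub_le_sub_right hde d
            have h6 : d * (e - 1) = d * e - d := by rw [Nat.mul_sub, mul_one]
            have h7 : e - 1 ≤ d * (e - 1) := Nat.le_mul_of_pos_left _ hd
            omega
        have hclog : p ^ Nat.clog p e ∣ p ^ Nat.clog p (2 * (n - d)) :=
          pow_dvd_pow p (Nat.clog_mono_right p hele)
        obtain ⟨y, hy⟩ := exists_psp_mixed (F := F) p hp2 hd hdn' t' ht'odd ht'q
        have h2k : 2 * k ∣ orderOf y := by
          refine dvd_trans ?_ hy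
          exact Nat.mul_dvd_mul_left 2 (dvd_trans hk' (Nat.mul_dvd_mul_left t' hclog))
        exact exists_orderOf_eq_of_dvd y (2 * k) (Nat.mul_pos (by norm_num) hx.pos) h2k

end key

section ranges
variable {L : Type*} [Group L] [Finite L]

theorem range_orderOf_prod3_of_exists (r : ℕ) (hr : r.Prime) (m : ℕ)
    (H : ∀ x1 x2 x3 : L, ¬ r ∣ Nat.lcm (orderOf x1) (Nat.lcm (orderOf x2) (orderOf x3)) →
      ∃ y : L × L × L, orderOf y = r * Nat.lcm (orderOf x1) (Nat.lcm (orderOf x2) (orderOf x3))) :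
    Set.range (orderOf : L × L × L × Multiplicative (Fin m → ZMod r) → ℕ) =
      Set.range (orderOf : L × L × L → ℕ) := by
  have : Fact r.Prime := ⟨hr⟩
  apply Set.eq_of_subset_of_subset
  · rintro k ⟨⟨x1, x2, x3, v⟩, rfl⟩
    have hv := orderOf_elemAb_dvd r m v
    have hord : orderOf ((x1, x2, x3, v) : L × L × L × Multiplicative (Fin m → ZMod r)) =
        Nat.lcm (Nat.lcm (orderOf x1) (Nat.lcm (orderOf x2) (orderOf x3))) (orderOf v) := by
      rw [Prod.orderOf_mk, Prod.orderOf_mk, Prod.orderOf_mk]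
      simp only [Nat.lcm_assoc]
    have hord3 : orderOf ((x1, x2, x3) : L × L × L) =
        Nat.lcm (orderOf x1) (Nat.lcm (orderOf x2) (orderOf x3)) := by
      rw [Prod.orderOf_mk, Prod.orderOf_mk]
    rw [hord]
    rcases (Nat.dvd_prime hr).mp hv with h1 | h1
    · rw [h1, Nat.lcm_one_right]
      exact ⟨(x1, x2, x3), hord3⟩
    · rw [h1]
      by_cases hN : r ∣ Nat.lcm (orderOf x1) (Nat.lcm (orderOf x2) (orderOf x3))
      · rw [Nat.lcm_eq_left hN]
        exact ⟨(x1, x2, x3), hord3⟩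
      · rw [Nat.Coprime.lcm_eq_mul ((Nat.Prime.coprime_iff_not_dvd hr).mpr hN).symm, mul_comm]
        exact H x1 x2 x3 hN
  · rintro k ⟨⟨x1, x2, x3⟩, rfl⟩
    refine ⟨(x1, x2, x3, 1), ?_⟩
    rw [Prod.orderOf_mk, Prod.orderOf_mk, Prod.orderOf_mk, Prod.orderOf_mk, Prod.orderOf_mk,
      orderOf_one, Nat.lcm_one_right]

theorem range_orderOf_prod2_of_exists (r : ℕ) (hr : r.Prime) (m : ℕ)
    (H : ∀ x1 x2 : L, ¬ r ∣ Nat.lcm (orderOf x1) (orderOf x2) →
      ∃ y : L × L, orderOf y = r * Nat.lcm (orderOf x1) (orderOf x2)) :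
    Set.range (orderOf : L × L × Multiplicative (Fin m → ZMod r) → ℕ) =
      Set.range (orderOf : L × L → ℕ) := by
  have : Fact r.Prime := ⟨hr⟩
  apply Set.eq_of_subset_of_subset
  · rintro k ⟨⟨x1, x2, v⟩, rfl⟩
    have hv := orderOf_elemAb_dvd r m v
    have hord : orderOf ((x1, x2, v) : L × L × Multiplicative (Fin m → ZMod r)) =
        Nat.lcm (Nat.lcm (orderOf x1) (orderOf x2)) (orderOf v) := by
      rw [Prod.orderOf_mk, Prod.orderOf_mk]
      simp only [Nat.lcm_assoc]
    have hord2 : orderOf ((x1, x2) : L × L) = Nat.lcm (orderOf x1) (orderOf x2) := by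
      rw [Prod.orderOf_mk]
    rw [hord]
    rcases (Nat.dvd_prime hr).mp hv with h1 | h1
    · rw [h1, Nat.lcm_one_right]
      exact ⟨(x1, x2), hord2⟩
    · rw [h1]
      by_cases hN : r ∣ Nat.lcm (orderOf x1) (orderOf x2)
      · rw [Nat.lcm_eq_left hN]
        exact ⟨(x1, x2), hord2⟩
      · rw [Nat.Coprime.lcm_eq_mul ((Nat.Prime.coprime_iff_not_dvd hr).mpr hN).symm, mul_comm]
        exact H x1 x2 hN
  · rintro k ⟨⟨x1, x2⟩, rfl⟩
    refine ⟨(x1, x2, 1), ?_⟩
    rw [Prod.orderOf_mk, Prod.orderOf_mk, Prod.orderOf_mk, orderOf_one, Nat.lcm_one_right]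

end ranges

end Cfsg.Agent.Lib.Helper40
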