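/-
helper40 library: ingredients for Steinberg's two-generator theorem for SL_{n+1}(K), |K| > 3:
diagonal conjugation of transvections, commutator of a diagonal element with the cyclic monomial matrix,
the double-commutator identity producing a root element, sums of two squares in finite fields.
-/
import Mathlib
import Cfsg.Agent.Lib.Helper40.CycGen

set_option autoImplicit false

namespace Cfsg.Agent.Lib.Helper40

open Matrix Matrix.SpecialLinearGroup
open scoped Fin.NatCast Fin.CommRing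

section part1

theorem sum_two_sq (K : Type*) [Field K] [Fintype K] (x : K) : ∃ a b : K, a ^ 2 + b ^ 2 = x := by
  rcases Nat.mod_two_eq_zero_or_one (Fintype.card K) with h0 | h1
  · have hchar : ringChar K = 2 := FiniteField.even_card_iff_char_two.2 h0
    obtain ⟨a, ha⟩ := FiniteField.isSquare_of_char_two hchar x
    exact ⟨a, 0, by rw [ha]; ring⟩
  · open Polynomial in
    obtain ⟨a, b, hab⟩ : ∃ a b, (X ^ 2 : K[X]).eval a + (X ^ 2 - C x : K[X]).eval b = 0 :=
      FiniteField.exists_root_sum_quadratic (degree_X_pow 2) (degree_X_pow_sub_C (by decide) _) h1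
    refine ⟨a, b, ?_⟩
    rw [← sub_eq_zero]
    simpa only [Polynomial.eval_C, Polynomial.eval_X, Polynomial.eval_pow, Polynomial.eval_sub, ← add_sub_assoc] using hab

theorem steinberg_comm {K : Type*} [Field K] {G : Type*} [Group G] (T : K → G) (h y w : G) (k2 δ : K)
    (hT : ∀ a b, T (a + b) = T a * T b)
    (ha : ∀ c, h * T c = T (k2 * c) * h) (hb : ∀ c, y * T c = T (δ * c) * y) (hc : h * y = y * h)
    (hy : y = h * w * h⁻¹ * w⁻¹) :
    h * (h * (T 1 * w) * h⁻¹ * (T 1 * w)⁻¹) * h⁻¹ * (h * (T 1 * w) * h⁻¹ * (T 1 * w)⁻¹)⁻¹ =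
      T ((k2 - 1) * (k2 - δ)) := by
  have hT0 : T 0 = 1 := by
    have := hT 0 0
    rw [add_zero] at this
    exact (mul_eq_left.1 this.symm)
  have hTneg : ∀ c, T (-c) = (T c)⁻¹ := by
    intro c
    have := hT c (-c)
    rw [add_neg_cancel, hT0] at this
    exact (inv_eq_of_mul_eq_one_right this.symm).symm
  have hg1 : h * (T 1 * w) * h⁻¹ * (T 1 * w)⁻¹ = T (k2 - δ) * y := by
    calc h * (T 1 * w) * h⁻¹ * (T 1 * w)⁻¹ = (h * T 1) * (w * h⁻¹ * w⁻¹) * (T 1)⁻¹ := by
          rw [_root_.mul_inv_rev]; simp only [mul_assoc]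
      _ = T (k2 * 1) * (h * w * h⁻¹ * w⁻¹) * (T 1)⁻¹ := by rw [ha]; simp only [mul_assoc]
      _ = T k2 * (y * T (-1)) := by rw [← hy, mul_one, hTneg, mul_assoc]
      _ = T k2 * (T (δ * -1) * y) := by rw [hb]
      _ = T (k2 - δ) * y := by
          rw [← mul_assoc, ← hT]; congr 2; ring
  rw [hg1]
  have hyh : y * h⁻¹ * y⁻¹ = h⁻¹ := by
    have : y * h⁻¹ = h⁻¹ * y := by
      rw [eq_inv_mul_iff_mul_eq, ← mul_assoc, hc, mul_assoc, mul_inv_cancel, mul_one]
    rw [this, mul_inv_cancel_right]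
  calc h * (T (k2 - δ) * y) * h⁻¹ * (T (k2 - δ) * y)⁻¹
      = (h * T (k2 - δ)) * (y * h⁻¹ * y⁻¹) * (T (k2 - δ))⁻¹ := by
        rw [_root_.mul_inv_rev]; simp only [mul_assoc]
    _ = T (k2 * (k2 - δ)) * (h * h⁻¹) * (T (k2 - δ))⁻¹ := by rw [ha, hyh]; simp only [mul_assoc]
    _ = T (k2 * (k2 - δ)) * T (-(k2 - δ)) := by rw [mul_inv_cancel, mul_one, hTneg]
    _ = T ((k2 - 1) * (k2 - δ)) := by rw [← hT]; congr 1; ring


end part1

section part2

variable {K : Type*} [Field K] {n : ℕ}

/-- a diagonal element conjugates a transvection to a transvection -/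
theorem diag_conj (D : SpecialLinearGroup (Fin (n + 1)) K) (d : Fin (n + 1) → K)
    (hD : (D : Matrix (Fin (n + 1)) (Fin (n + 1)) K) = Matrix.diagonal d)
    {i j : Fin (n + 1)} (hij : i ≠ j) (c c' : K) (hcc : d i * c = c' * d j) :
    D * transvection hij c = transvection hij c' * D := by
  apply Subtype.ext
  rw [coe_mul, coe_mul, transvection_coe, transvection_coe, mul_add, add_mul, mul_one, one_mul, hD]
  congr 1
  ext a b
  rw [Matrix.diagonal_mul, Matrix.mul_diagonal]
  by_cases ha : a = i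
  · by_cases hb : b = j
    · subst ha; subst hb
      simp [hcc]
    · simp [Ne.symm hb]
  · simp [Ne.symm ha]

theorem cyc_mul_diag (d : Fin (n + 1) → K) :
    cycMat K n * Matrix.diagonal d = Matrix.diagonal (fun a => d (a + 1)) * cycMat K n := by
  ext a b
  rw [Matrix.diagonal_mul, Matrix.mul_diagonal, cycMat_apply]
  split_ifs with h
  · rw [h]; ring
  · simp

/-- the commutator of a diagonal element with the cyclic monomial matrix is diagonal -/
theorem comm_diag (h w : SpecialLinearGroup (Fin (n + 1)) K) (d : Fin (n + 1) → K)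
    (hh : (h : Matrix (Fin (n + 1)) (Fin (n + 1)) K) = Matrix.diagonal d)
    (hw : (w : Matrix (Fin (n + 1)) (Fin (n + 1)) K) = cycMat K n) (hd : ∀ a, d a ≠ 0) :
    ((h * w * h⁻¹ * w⁻¹ : SpecialLinearGroup (Fin (n + 1)) K) : Matrix (Fin (n + 1)) (Fin (n + 1)) K) =
      Matrix.diagonal (fun a => d a * (d (a + 1))⁻¹) := by
  have h1 : (h * w * h⁻¹ * w⁻¹) * (w * h) = h * w := by group
  have h2 := congrArg (fun g : SpecialLinearGroup (Fin (n + 1)) K => (g : Matrix (Fin (n + 1)) (Fin (n + 1)) K)) h1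
  simp only [coe_mul] at h2
  have h3 : Matrix.diagonal (fun a => d a * (d (a + 1))⁻¹) * ((w : Matrix (Fin (n + 1)) (Fin (n + 1)) K) * (h : Matrix (Fin (n + 1)) (Fin (n + 1)) K)) =
      (h : Matrix (Fin (n + 1)) (Fin (n + 1)) K) * (w : Matrix (Fin (n + 1)) (Fin (n + 1)) K) := by
    rw [hh, hw, cyc_mul_diag, ← Matrix.mul_assoc, Matrix.diagonal_mul_diagonal]
    congr 2
    funext a
    rw [mul_assoc, inv_mul_cancel₀ (hd _), mul_one]
  have hunit : IsUnit ((w : Matrix (Fin (n + 1)) (Fin (n + 1)) K) * (h : Matrix (Fin (n + 1)) (Fin (n + 1)) K)) := by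
    rw [Matrix.isUnit_iff_isUnit_det, Matrix.det_mul, w.2, h.2, mul_one]
    exact isUnit_one
  have := h2.trans h3.symm
  simp only [← Matrix.mul_assoc] at this ⊢
  exact hunit.mul_left_injective (by simpa [Matrix.mul_assoc] using this)


end part2

end Cfsg.Agent.Lib.Helper40
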