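import Cfsg.Agent.Lib.Helper18.Bruhat1
import Cfsg.Agent.S1045
import Cfsg.Agent.S1032
import Mathlib

/-!
# S2244-[COORD] (project of helper5): the additive coordinate `χ_i : U → F` at a fundamental root

`U = U_p ⋊ X_p` for the fundamental root `p = p_i` (helper18, BN4); `χ u` is the `t` with `u ∈ U_p x_p(t)`.
-/

set_option autoImplicit false

namespace Cfsg.Agent.Lib.Helper40.WC

open Cfsg.Lie Cfsg.Agent.Lib.Helper18 Cfsg.Agent.Lib.Helper17

universe u

variable {F : Type u} [Field F] {D : ChevalleyDatum}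

/-- `x_p(t) ∈ U_p` only for `t = 0`. -/
theorem eq_zero_of_xG_mem_Up (hD : D ∈ [chevG2, chevB2, chevD4, chevF4, chevE6, chevE7, chevE8])
    (C : ChevData.{u} D) (i : ℕ) (hi : i < D.rank) (t : F)
    (h : xG hD (D.simple i) t ∈ Up D F i) : t = 0 := by
  by_contra ht
  have hn := C.nroots_eq
  have hev := C.heven
  have hp := C.simple_lt i hi
  have hpge := C.half_le_simple i hi
  have h1 := (sG_conj_mem_Up hD C i hi _ h).1
  rw [sG_of_lt hD C i hi, nG_conj_xG hD C i _ hi hp, w_simple C i hi] at h1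
  have h2 : xG hD (C.T.neg (D.simple i)) ((C.eta i (D.simple i) : F) * t) ∈ D.borelSubgroup F :=
    borel_of_posUnipotent _ (Up_le_posUnipotent D i h1)
  refine xG_neg_not_mem_borel hD _ ?_ ?_ _ ?_ h2
  · unfold FastDatum.neg; omega
  · unfold FastDatum.neg; omega
  · exact mul_ne_zero (C.eta_ne_zero i _) ht

/-- uniqueness of the coordinate -/
theorem coord_unique (hD : D ∈ [chevG2, chevB2, chevD4, chevF4, chevE6, chevE7, chevE8])
    (C : ChevData.{u} D) (i : ℕ) (hi : i < D.rank) (g : GL D.Idx F) (t t' : F)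
    (h : g * (xG hD (D.simple i) t)⁻¹ ∈ Up D F i) (h' : g * (xG hD (D.simple i) t')⁻¹ ∈ Up D F i) :
    t = t' := by
  have h1 : (g * (xG hD (D.simple i) t)⁻¹)⁻¹ * (g * (xG hD (D.simple i) t')⁻¹) ∈ Up D F i :=
    mul_mem (inv_mem h) h'
  have e : (g * (xG hD (D.simple i) t)⁻¹)⁻¹ * (g * (xG hD (D.simple i) t')⁻¹)
      = xG hD (D.simple i) (t + -t') := by
    rw [← xG_mul, ← xG_inv]
    group
  rw [e] at h1
  have := eq_zero_of_xG_mem_Up hD C i hi _ h1
  linear_combination this

/-- the coordinate function -/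
noncomputable def coord (hD : D ∈ [chevG2, chevB2, chevD4, chevF4, chevE6, chevE7, chevE8])
    (i : ℕ) (g : GL D.Idx F) : F :=
  open Classical in
  if h : ∃ t : F, g * (xG hD (D.simple i) t)⁻¹ ∈ Up D F i then Classical.choose h else 0

theorem coord_eq (hD : D ∈ [chevG2, chevB2, chevD4, chevF4, chevE6, chevE7, chevE8])
    (C : ChevData.{u} D) (i : ℕ) (hi : i < D.rank) (a : GL D.Idx F) (ha : a ∈ Up D F i) (t : F) :
    coord hD i (a * xG hD (D.simple i) t) = t := by
  have hex : ∃ t' : F, a * xG hD (D.simple i) t * (xG hD (D.simple i) t')⁻¹ ∈ Up D F i :=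
    ⟨t, by rw [mul_inv_cancel_right]; exact ha⟩
  unfold coord
  rw [dif_pos hex]
  exact coord_unique hD C i hi _ _ _ (Classical.choose_spec hex)
    (by rw [mul_inv_cancel_right]; exact ha)

/-- `X_p` normalises `U_p` -/
theorem xG_conj_Up (hD : D ∈ [chevG2, chevB2, chevD4, chevF4, chevE6, chevE7, chevE8])
    (C : ChevData.{u} D) (i : ℕ) (hi : i < D.rank) (t : F) (b : GL D.Idx F) (hb : b ∈ Up D F i) :
    xG hD (D.simple i) t * b * (xG hD (D.simple i) t)⁻¹ ∈ Up D F i := by
  have hx : xG hD (D.simple i) t ∈ D.rootSubgroup F (D.simple i) :=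
    (mem_rootSubgroup_iff hD _ _).mpr ⟨t, rfl⟩
  have hn := rootSubgroup_le_normalizer_Up hD C i hi _ (Or.inl rfl) hx
  exact (Subgroup.mem_normalizer_iff.mp hn b).mp hb

/-- the torus normalises `U_p` -/
theorem h_conj_xG (hD : D ∈ [chevG2, chevB2, chevD4, chevF4, chevE6, chevE7, chevE8])
    (k : ℕ) (hk : k < D.rank) (c : F) (hc : c ≠ 0) (h : GL D.Idx F)
    (hh : (h : Matrix D.Idx D.Idx F) = D.hMat F (D.simple k) c) (s : ℕ) (hs : s < D.nroots) (t : F) :
    h * xG hD s t * h⁻¹ = xG hD s (c ^ (D.cartan k s) * t) := by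
  rw [mul_inv_eq_iff_eq_mul]
  apply Units.ext
  rw [Units.val_mul, Units.val_mul, coe_xG, coe_xG, hh]
  exact Cfsg.Agent.S1032.result D hD k s hk hs c hc t

theorem h_conj_Up (hD : D ∈ [chevG2, chevB2, chevD4, chevF4, chevE6, chevE7, chevE8])
    (i : ℕ) (k : ℕ) (hk : k < D.rank) (c : F) (hc : c ≠ 0) (h : GL D.Idx F)
    (hh : (h : Matrix D.Idx D.Idx F) = D.hMat F (D.simple k) c) (b : GL D.Idx F)
    (hb : b ∈ Up D F i) : h * b * h⁻¹ ∈ Up D F i := by
  unfold Up at hb ⊢
  induction hb using Subgroup.closure_induction with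
  | mem g hg =>
    obtain ⟨s, t, hs, hne, hgs⟩ := hg
    have hgs' : g = xG hD s t := Units.ext hgs
    rw [hgs', h_conj_xG hD k hk c hc h hh s hs.1 t]
    exact xG_mem_Up hD i s _ hs hne
  | one => simp [one_mem]
  | mul g₁ g₂ _ _ h1 h2 =>
    have e : h * (g₁ * g₂) * h⁻¹ = (h * g₁ * h⁻¹) * (h * g₂ * h⁻¹) := by group
    rw [e]; exact mul_mem h1 h2
  | inv g _ h1 =>
    have e : h * g⁻¹ * h⁻¹ = (h * g * h⁻¹)⁻¹ := by group
    rw [e]; exact inv_mem h1

/-- **S2244-[COORD]** -/
theorem exists_coord (hD : D ∈ [chevG2, chevB2, chevD4, chevF4, chevE6, chevE7, chevE8])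
    (i : ℕ) (hi : i < D.rank) :
    ∃ χ : GL D.Idx F → F,
      (∀ u ∈ D.posUnipotent F, ∀ v ∈ D.posUnipotent F, χ (u * v) = χ u + χ v) ∧
      (∀ s t, D.IsPosRoot s → χ (xG hD s t) = if s = D.simple i then t else 0) ∧
      (∀ u ∈ D.posUnipotent F, ∀ n : GL D.Idx F,
        (n : Matrix D.Idx D.Idx F) = D.nMat F (D.simple i) 1 →
        (χ u = 0 ↔ n * u * n⁻¹ ∈ D.posUnipotent F)) ∧
      (∀ k < D.rank, ∀ c : F, c ≠ 0 → ∀ h : GL D.Idx F,
        (h : Matrix D.Idx D.Idx F) = D.hMat F (D.simple k) c →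
        ∀ u ∈ D.posUnipotent F, χ (h * u * h⁻¹) = c ^ (D.cartan k (D.simple i)) * χ u) := by
  obtain ⟨C⟩ := nonempty_chevData.{u} D hD
  have hn := C.nroots_eq
  have hev := C.heven
  have hp := C.simple_lt i hi
  have hpge := C.half_le_simple i hi
  refine ⟨coord hD i, ?_, ?_, ?_, ?_⟩
  · -- additivity
    intro u hu v hv
    obtain ⟨a, ha, t, rfl⟩ := exists_Up_mul_xG hD C i hi u hu
    obtain ⟨b, hb, t', rfl⟩ := exists_Up_mul_xG hD C i hi v hv
    have e : a * xG hD (D.simple i) t * (b * xG hD (D.simple i) t')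
        = (a * (xG hD (D.simple i) t * b * (xG hD (D.simple i) t)⁻¹)) * xG hD (D.simple i) (t + t') := by
      rw [← xG_mul]
      group
    rw [e, coord_eq hD C i hi _ (mul_mem ha (xG_conj_Up hD C i hi t b hb)), coord_eq hD C i hi a ha,
      coord_eq hD C i hi b hb]
  · -- root elements
    intro s t hs
    split_ifs with hsp
    · have := coord_eq hD C i hi (1 : GL D.Idx F) (one_mem _) t
      rw [one_mul] at this
      rw [hsp]
      exact this
    · have := coord_eq hD C i hi (xG hD s t) (xG_mem_Up hD i s t hs hsp) 0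
      rw [xG_zero, mul_one] at this
      exact this
  · -- the reflection
    intro u hu n hn'
    have hnG : n = sG hD C i := by
      apply Units.ext
      rw [hn', coe_sG hD C i hi]
    obtain ⟨a, ha, t, rfl⟩ := exists_Up_mul_xG hD C i hi u hu
    rw [coord_eq hD C i hi a ha, hnG]
    have e : sG hD C i * (a * xG hD (D.simple i) t) * (sG hD C i)⁻¹
        = (sG hD C i * a * (sG hD C i)⁻¹) * (sG hD C i * xG hD (D.simple i) t * (sG hD C i)⁻¹) := by
      group
    have ha' : sG hD C i * a * (sG hD C i)⁻¹ ∈ D.posUnipotent F :=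
      Up_le_posUnipotent D i (sG_conj_mem_Up hD C i hi a ha).1
    have hx : sG hD C i * xG hD (D.simple i) t * (sG hD C i)⁻¹
        = xG hD (C.T.neg (D.simple i)) ((C.eta i (D.simple i) : F) * t) := by
      rw [sG_of_lt hD C i hi, nG_conj_xG hD C i _ hi hp, w_simple C i hi]
    rw [e, hx]
    constructor
    · intro ht
      rw [ht, mul_zero, xG_zero, mul_one]
      exact ha'
    · intro hmem
      by_contra ht
      have h2 : xG hD (C.T.neg (D.simple i)) ((C.eta i (D.simple i) : F) * t) ∈ D.posUnipotent F := by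
        have := mul_mem (inv_mem ha') hmem
        rwa [inv_mul_cancel_left] at this
      refine xG_neg_not_mem_borel hD _ ?_ ?_ _ ?_ (borel_of_posUnipotent _ h2)
      · unfold FastDatum.neg; omega
      · unfold FastDatum.neg; omega
      · exact mul_ne_zero (C.eta_ne_zero i _) ht
  · -- the torus
    intro k hk c hc h hh u hu
    obtain ⟨a, ha, t, rfl⟩ := exists_Up_mul_xG hD C i hi u hu
    have e : h * (a * xG hD (D.simple i) t) * h⁻¹
        = (h * a * h⁻¹) * (h * xG hD (D.simple i) t * h⁻¹) := by group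
    rw [e, h_conj_xG hD k hk c hc h hh _ hp t,
      coord_eq hD C i hi _ (h_conj_Up hD i k hk c hc h hh a ha), coord_eq hD C i hi a ha]

end Cfsg.Agent.Lib.Helper40.WC
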