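import Cfsg.Agent.Lib.Helper61.ChevJ.Basic
import Cfsg.Agent.Lib.Helper18.Bruhat1
import Cfsg.Agent.S1045
import Mathlib

/-!
# S2244-[LONGJ] (project of helper5): the longest element of the parabolic subgroup `W_J`

For each of the seven tabulated Chevalley data and each set `J` of fundamental roots there is a product `n` of the
elements `n_{p_j}(1)`, `j ∈ J`, conjugating every root subgroup `X_r`, `r ∈ Φ_J⁺`, into `V`.

* `linOK`: a new table check (kernel computation on helper18's packed tables): the fundamental reflections act linearly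
  on the coefficient vectors of the coroots; `coroot_word`: so do the words;
* `negCount_append`: if the word `ws` keeps the fundamental root `p_j`, `j ∈ J`, positive, then `ws ++ [j]` makes
  exactly one more positive root of `Φ_J` negative; `exists_neg_word`: hence some word of `J` makes all the fundamental
  roots of `J` negative, and by linearity all the positive roots of `Φ_J`.
-/

set_option autoImplicit false

namespace Cfsg.Agent.Lib.Helper40.WC

open Cfsg.Lie Cfsg.Agent.Lib.Helper18 Cfsg.Agent.Lib.Helper61.ChevJ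

universe u

variable {D : ChevalleyDatum}

/-- Table check: the fundamental reflections act linearly on the coefficient vectors of the coroots. -/
def linOK (T : FastDatum) (tabs simples : List ℕ) : Bool :=
  (List.range T.rank).all fun i0 => forceNat i0 fun i => forceNat (tabs.getD i 0) fun tab =>
    (List.range T.nroots).all fun s0 => forceNat s0 fun s => forceNat (tabRoot tab s) fun s' =>
      (List.range T.rank).all fun k' =>
        decide (T.coroot s' k' =
          ((List.range T.rank).map fun k => T.coroot s k * T.coroot (tabRoot tab (simples.getD k 0)) k').sum)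

theorem list_range_sum (n : ℕ) (f : ℕ → ℤ) : ((List.range n).map f).sum = ∑ k ∈ Finset.range n, f k := by
  induction n with
  | zero => simp
  | succ n ih => rw [List.range_succ, List.map_append, List.sum_append, ih, Finset.sum_range_succ]; simp

theorem linOK_spec (T : FastDatum) (tabs simples : List ℕ) (h : linOK T tabs simples = true)
    (i : ℕ) (hi : i < T.rank) (s : ℕ) (hs : s < T.nroots) (k' : ℕ) (hk' : k' < T.rank) :
    T.coroot (tabRoot (tabs.getD i 0) s) k' =
      ∑ k ∈ Finset.range T.rank, T.coroot s k * T.coroot (tabRoot (tabs.getD i 0) (simples.getD k 0)) k' := by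
  unfold linOK at h
  rw [List.all_eq_true] at h
  have h1 := h i (List.mem_range.mpr hi)
  rw [forceNat_eq, forceNat_eq, List.all_eq_true] at h1
  have h2 := h1 s (List.mem_range.mpr hs)
  rw [forceNat_eq, forceNat_eq, List.all_eq_true] at h2
  have h3 := h2 k' (List.mem_range.mpr hk')
  rw [decide_eq_true_eq, list_range_sum] at h3
  exact h3


/-- Words of fundamental reflections act linearly on the coefficient vectors of the coroots. -/
theorem coroot_word (X : JData.{u} D) (hlin : linOK X.C.T X.C.tabs X.C.simples = true)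
    (ws : List ℕ) (hws : ∀ i ∈ ws, i < D.rank) (r : ℕ) (hr : r < D.nroots) (k' : ℕ) (hk' : k' < D.rank) :
    X.C.T.coroot (wordRootF X.C.tabs ws r) k' =
      ∑ k ∈ Finset.range D.rank, X.C.T.coroot r k * X.C.T.coroot (wordRootF X.C.tabs ws (D.simple k)) k' := by
  have hl := X.C.rank_eq
  have hn := X.C.nroots_eq
  induction ws generalizing r k' with
  | nil =>
    simp only [wordRootF, List.foldr_nil]
    rw [Finset.sum_eq_single k']
    · rw [X.coroot_simple k' hk' k' hk', if_pos rfl, mul_one]
    · intro k hk hne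
      rw [X.coroot_simple k (Finset.mem_range.mp hk) k' hk', if_neg (Ne.symm hne), mul_zero]
    · intro hk
      exact absurd (Finset.mem_range.mpr hk') hk
  | cons i ws ih =>
    have hws' : ∀ j ∈ ws, j < D.rank := fun j hj => hws j (List.mem_cons_of_mem _ hj)
    have hi : i < D.rank := hws i List.mem_cons_self
    have key : ∀ s, s < D.nroots → X.C.T.coroot (tabRoot (X.C.tabs.getD i 0) s) k' =
        ∑ m ∈ Finset.range D.rank, X.C.T.coroot s m *
          X.C.T.coroot (tabRoot (X.C.tabs.getD i 0) (D.simple m)) k' := by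
      intro s hs
      rw [linOK_spec X.C.T X.C.tabs X.C.simples hlin i (hl ▸ hi) s (hn ▸ hs) k' (hl ▸ hk'), hl]
      refine Finset.sum_congr rfl fun m hm => ?_
      rw [X.C.hsimple m (Finset.mem_range.mp hm)]
    rw [wordRootF_cons, key _ (wordRootF_lt X.C ws hws' r hr)]
    have e1 : ∀ m ∈ Finset.range D.rank, X.C.T.coroot (wordRootF X.C.tabs ws r) m *
          X.C.T.coroot (tabRoot (X.C.tabs.getD i 0) (D.simple m)) k'
        = ∑ k ∈ Finset.range D.rank, X.C.T.coroot r k * (X.C.T.coroot (wordRootF X.C.tabs ws (D.simple k)) m *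
          X.C.T.coroot (tabRoot (X.C.tabs.getD i 0) (D.simple m)) k') := by
      intro m hm
      rw [ih hws' r hr m (Finset.mem_range.mp hm), Finset.sum_mul]
      refine Finset.sum_congr rfl fun k _ => ?_
      ring
    rw [Finset.sum_congr rfl e1, Finset.sum_comm]
    refine Finset.sum_congr rfl fun k hk => ?_
    rw [wordRootF_cons, key _ (wordRootF_lt X.C ws hws' _ (X.C.simple_lt k (Finset.mem_range.mp hk))),
      Finset.mul_sum]


theorem arr_getD_of_forall (a : Array ℤ) (k : ℕ) (P : ℤ → Prop) (h0 : P 0) (h : ∀ c ∈ a.toList, P c) :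
    P (a.getD k 0) := by
  by_cases hk : k < a.size
  · apply h
    rw [Array.getD, dif_pos hk]
    simp
  · rw [Array.getD, dif_neg hk]
    exact h0

theorem coroot_nonneg_of_pos (X : JData.{u} D) (r : ℕ) (h : D.IsPosRoot r) (k : ℕ) (hk : k < D.rank) :
    0 ≤ X.C.T.coroot r k := by
  rw [← X.coroot_eq r h.1 k hk]
  exact arr_getD_of_forall _ k (fun c => 0 ≤ c) le_rfl h.2

theorem coroot_nonpos_of_neg (X : JData.{u} D) (r : ℕ) (h : D.IsNegRoot r) (k : ℕ) (hk : k < D.rank) :
    X.C.T.coroot r k ≤ 0 := by
  rw [← X.coroot_eq r h.1 k hk]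
  exact arr_getD_of_forall _ k (fun c => c ≤ 0) le_rfl h.2

/-- The coefficient vector of the coroot of a root is not zero. -/
theorem exists_coroot_ne_zero (X : JData.{u} D) (r : ℕ) (hr : r < D.nroots) :
    ∃ k < D.rank, X.C.T.coroot r k ≠ 0 := by
  by_contra hne
  push Not at hne
  have h0 : D.InRootSub (∅ : Set ℕ) r := (X.inRootSub_iff ∅ r).mpr ⟨hr, fun k hk _ => hne k hk⟩
  obtain ⟨_, j, _, _, hj, _⟩ := X.exists_jword ∅ r h0
  exact hj

open Classical in
/-- The positive roots of `Φ_J`. -/
noncomputable def posJ (D : ChevalleyDatum) (J : Set ℕ) : Finset ℕ :=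
  (Finset.range D.nroots).filter fun r => D.nroots / 2 ≤ r ∧ D.InRootSub J r

open Classical in
/-- The number of positive roots of `Φ_J` made negative by the word `ws`. -/
noncomputable def negCount (X : JData.{u} D) (J : Set ℕ) (ws : List ℕ) : ℕ :=
  ((posJ D J).filter fun r => wordRootF X.C.tabs ws r < D.nroots / 2).card

theorem mem_posJ (J : Set ℕ) (r : ℕ) : r ∈ posJ D J ↔ r < D.nroots ∧ D.nroots / 2 ≤ r ∧ D.InRootSub J r := by
  unfold posJ
  simp

theorem negCount_le (X : JData.{u} D) (J : Set ℕ) (ws : List ℕ) : negCount X J ws ≤ (posJ D J).card := by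
  unfold negCount
  exact Finset.card_filter_le _ _

theorem negCount_append (X : JData.{u} D) (J : Set ℕ) (ws : List ℕ) (hws : ∀ i ∈ ws, i < D.rank)
    (j : ℕ) (hj : j < D.rank) (hjJ : j ∈ J)
    (hpos : D.nroots / 2 ≤ wordRootF X.C.tabs ws (D.simple j)) :
    negCount X J (ws ++ [j]) = negCount X J ws + 1 := by
  classical
  have hl := X.C.rank_eq
  have hn := X.C.nroots_eq
  have hev := X.C.heven
  have hp := X.C.simple_lt j hj
  have hpge := X.C.half_le_simple j hj
  have hpJ : D.simple j ∈ posJ D J := (mem_posJ J _).mpr ⟨hp, hpge, X.inRootSub_simple J j hj hjJ⟩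
  have hw : ∀ r, wordRootF X.C.tabs (ws ++ [j]) r = wordRootF X.C.tabs ws (X.C.w j r) := by
    intro r
    rw [wordRootF_append]
    rfl
  -- the reflection permutes the positive roots of `Φ_J` other than `p_j`
  have hperm : ∀ r ∈ (posJ D J).erase (D.simple j), X.C.w j r ∈ (posJ D J).erase (D.simple j) := by
    intro r hr
    rw [Finset.mem_erase, mem_posJ] at hr ⊢
    obtain ⟨hne, hr1, hr2, hr3⟩ := hr
    have h1 := X.C.spec.refl_pos j (hl.symm ▸ hj) r (hn.symm ▸ hr2) (hn.symm ▸ hr1)
      (by rw [← X.C.hsimple j hj]; exact hne)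
    rw [← X.C.hsimple j hj, hn] at h1
    exact ⟨h1.2, X.C.w_lt j r hj hr1, h1.1, (X.inRootSub_w J j hj hjJ r hr1).mpr hr3⟩
  have hinv : ∀ r ∈ (posJ D J).erase (D.simple j), X.C.w j (X.C.w j r) = r := by
    intro r hr
    rw [Finset.mem_erase, mem_posJ] at hr
    exact X.C.w_w j r hj hr.2.1
  have hins : posJ D J = insert (D.simple j) ((posJ D J).erase (D.simple j)) :=
    (Finset.insert_erase hpJ).symm
  have hnot : D.simple j ∉ (posJ D J).erase (D.simple j) := Finset.notMem_erase _ _
  unfold negCount
  simp only [hw]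
  -- the new word
  have e1 : ((posJ D J).filter fun r => wordRootF X.C.tabs ws (X.C.w j r) < D.nroots / 2)
      = insert (D.simple j) (((posJ D J).erase (D.simple j)).filter
          fun r => wordRootF X.C.tabs ws (X.C.w j r) < D.nroots / 2) := by
    conv_lhs => rw [hins]
    rw [Finset.filter_insert, if_pos]
    rw [w_simple X.C j hj, wordRootF_neg X.C ws hws _ hp]
    have := wordRootF_lt X.C ws hws _ hp
    unfold FastDatum.neg
    omega
  have e2 : ((posJ D J).filter fun r => wordRootF X.C.tabs ws r < D.nroots / 2)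
      = ((posJ D J).erase (D.simple j)).filter fun r => wordRootF X.C.tabs ws r < D.nroots / 2 := by
    conv_lhs => rw [hins]
    rw [Finset.filter_insert, if_neg]
    omega
  rw [e1, e2, Finset.card_insert_of_notMem (fun h => hnot (Finset.mem_filter.mp h).1)]
  congr 1
  refine Finset.card_bij' (fun r _ => X.C.w j r) (fun r _ => X.C.w j r) ?_ ?_ ?_ ?_
  · intro r hr
    rw [Finset.mem_filter] at hr ⊢
    exact ⟨hperm r hr.1, hr.2⟩
  · intro r hr
    rw [Finset.mem_filter] at hr ⊢
    refine ⟨hperm r hr.1, ?_⟩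
    rw [hinv r hr.1]
    exact hr.2
  · intro r hr
    exact hinv r (Finset.mem_filter.mp hr).1
  · intro r hr
    exact hinv r (Finset.mem_filter.mp hr).1

/-- There is a word in the fundamental reflections of `J` making every fundamental root of `J` negative. -/
theorem exists_neg_word (X : JData.{u} D) (J : Set ℕ) :
    ∃ ws : List ℕ, (∀ i ∈ ws, i < D.rank ∧ i ∈ J) ∧
      ∀ j < D.rank, j ∈ J → wordRootF X.C.tabs ws (D.simple j) < D.nroots / 2 := by
  have main : ∀ n : ℕ, ∀ ws : List ℕ, (∀ i ∈ ws, i < D.rank ∧ i ∈ J) →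
      (posJ D J).card ≤ negCount X J ws + n →
      ∃ ws : List ℕ, (∀ i ∈ ws, i < D.rank ∧ i ∈ J) ∧
        ∀ j < D.rank, j ∈ J → wordRootF X.C.tabs ws (D.simple j) < D.nroots / 2 := by
    intro n
    induction n with
    | zero =>
      intro ws hws hc
      by_cases hall : ∀ j < D.rank, j ∈ J → wordRootF X.C.tabs ws (D.simple j) < D.nroots / 2
      · exact ⟨ws, hws, hall⟩
      · exfalso
        push Not at hall
        obtain ⟨j, hj, hjJ, hpos⟩ := hall
        have h1 := negCount_append X J ws (fun i hi => (hws i hi).1) j hj hjJ hpos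
        have h2 := negCount_le X J (ws ++ [j])
        omega
    | succ n ih =>
      intro ws hws hc
      by_cases hall : ∀ j < D.rank, j ∈ J → wordRootF X.C.tabs ws (D.simple j) < D.nroots / 2
      · exact ⟨ws, hws, hall⟩
      · push Not at hall
        obtain ⟨j, hj, hjJ, hpos⟩ := hall
        have h1 := negCount_append X J ws (fun i hi => (hws i hi).1) j hj hjJ hpos
        refine ih (ws ++ [j]) ?_ (by omega)
        intro i hi
        rcases List.mem_append.mp hi with hi | hi
        · exact hws i hi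
        · rw [List.mem_singleton] at hi
          rw [hi]
          exact ⟨hj, hjJ⟩
  exact main (posJ D J).card [] (by simp) (by omega)


/-! ### The table checks -/

set_option maxRecDepth 1000000 in
theorem linOK_G2 : linOK fastG2 wTabs_G2 simples_G2 = true := by decide +kernel

set_option maxRecDepth 1000000 in
theorem linOK_B2 : linOK fastB2 wTabs_B2 simples_B2 = true := by decide +kernel

set_option maxRecDepth 1000000 in
theorem linOK_D4 : linOK fastD4 wTabs_D4 simples_D4 = true := by decide +kernel

set_option maxRecDepth 1000000 in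
theorem linOK_F4 : linOK fastF4 wTabs_F4 simples_F4 = true := by decide +kernel

set_option maxRecDepth 1000000 in
theorem linOK_E6 : linOK fastE6 wTabs_E6 simples_E6 = true := by decide +kernel

set_option maxRecDepth 1000000 in
theorem linOK_E7 : linOK fastE7 wTabs_E7 simples_E7 = true := by decide +kernel

set_option maxRecDepth 1000000 in
theorem linOK_E8 : linOK fastE8 wTabs_E8 simples_E8 = true := by decide +kernel

theorem exists_jData_lin (D : ChevalleyDatum)
    (hD : D ∈ [chevG2, chevB2, chevD4, chevF4, chevE6, chevE7, chevE8]) :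
    ∃ X : JData.{u} D, linOK X.C.T X.C.tabs X.C.simples = true := by
  simp only [List.mem_cons, List.not_mem_nil, or_false] at hD
  rcases hD with rfl | rfl | rfl | rfl | rfl | rfl | rfl
  · exact ⟨jData_G2, linOK_G2⟩
  · exact ⟨jData_B2, linOK_B2⟩
  · exact ⟨jData_D4, linOK_D4⟩
  · exact ⟨jData_F4, linOK_F4⟩
  · exact ⟨jData_E6, linOK_E6⟩
  · exact ⟨jData_E7, linOK_E7⟩
  · exact ⟨jData_E8, linOK_E8⟩

/-! ### The positive roots of `Φ_J` under a word -/

/-- If the word `ws` makes all the fundamental roots of `J` negative, it makes all the positive roots of `Φ_J`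
negative. -/
theorem word_neg_of_simple_neg (hD : D ∈ [chevG2, chevB2, chevD4, chevF4, chevE6, chevE7, chevE8])
    (X : JData.{u} D) (hlin : linOK X.C.T X.C.tabs X.C.simples = true) (J : Set ℕ)
    (ws : List ℕ) (hws : ∀ i ∈ ws, i < D.rank)
    (hneg : ∀ j < D.rank, j ∈ J → wordRootF X.C.tabs ws (D.simple j) < D.nroots / 2)
    (r : ℕ) (hr : D.IsPosRoot r) (hrJ : D.InRootSub J r) :
    wordRootF X.C.tabs ws r < D.nroots / 2 := by
  by_contra hge
  rw [not_lt] at hge
  have hlt := wordRootF_lt X.C ws hws r hr.1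
  have hpos : D.IsPosRoot (wordRootF X.C.tabs ws r) := (isPosRoot_iff hD _).mpr ⟨hlt, hge⟩
  obtain ⟨k', hk', hne⟩ := exists_coroot_ne_zero X _ hlt
  apply hne
  apply le_antisymm _ (coroot_nonneg_of_pos X _ hpos k' hk')
  rw [coroot_word X hlin ws hws r hr.1 k' hk']
  apply Finset.sum_nonpos
  intro k hk
  rw [Finset.mem_range] at hk
  by_cases hkJ : k ∈ J
  · have h1 := coroot_nonneg_of_pos X r hr k hk
    have h2 : D.IsNegRoot (wordRootF X.C.tabs ws (D.simple k)) :=
      isNegRoot_of_lt D (signOK_of_mem D hD) _ (wordRootF_lt X.C ws hws _ (X.C.simple_lt k hk)) (hneg k hk hkJ)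
    have h3 := coroot_nonpos_of_neg X _ h2 k' hk'
    exact mul_nonpos_of_nonneg_of_nonpos h1 h3
  · rw [((X.inRootSub_iff J r).mp hrJ).2 k hk hkJ, zero_mul]

variable {F : Type u} [Field F]

theorem nW_mem_closure (hD : D ∈ [chevG2, chevB2, chevD4, chevF4, chevE6, chevE7, chevE8]) (C : ChevData.{u} D)
    (J : Set ℕ) (ws : List ℕ) (hws : ∀ i ∈ ws, i < D.rank ∧ i ∈ J) :
    nW (F := F) hD C ws ∈ Subgroup.closure {g : GL D.Idx F | ∃ j ∈ J, j < D.rank ∧
      (g : Matrix D.Idx D.Idx F) = D.nMat F (D.simple j) 1} := by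
  induction ws with
  | nil => rw [nW_nil]; exact one_mem _
  | cons i ws ih =>
    rw [nW_cons]
    have hi := hws i List.mem_cons_self
    exact mul_mem (Subgroup.subset_closure ⟨i, hi.2, hi.1, coe_sG hD C i hi.1⟩)
      (ih fun j hj => hws j (List.mem_cons_of_mem _ hj))

/-- **S2244-[LONGJ]** -/
theorem exists_longJ (hD : D ∈ [chevG2, chevB2, chevD4, chevF4, chevE6, chevE7, chevE8]) (J : Set ℕ) :
    ∃ n : GL D.Idx F,
      n ∈ Subgroup.closure {g : GL D.Idx F | ∃ j ∈ J, j < D.rank ∧
        (g : Matrix D.Idx D.Idx F) = D.nMat F (D.simple j) 1} ∧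
      ∀ r, D.IsPosRoot r → D.InRootSub J r →
        (D.rootSubgroup F r).map (MulAut.conj n).toMonoidHom ≤ D.negUnipotent F := by
  obtain ⟨X, hlin⟩ := exists_jData_lin.{u} D hD
  obtain ⟨ws, hws, hneg⟩ := exists_neg_word X J
  have hws' : ∀ i ∈ ws, i < D.rank := fun i hi => (hws i hi).1
  refine ⟨nW hD X.C ws, nW_mem_closure hD X.C J ws hws, ?_⟩
  intro r hr hrJ g hg
  obtain ⟨x, hx, rfl⟩ := Subgroup.mem_map.mp hg
  obtain ⟨t, rfl⟩ := (mem_rootSubgroup_iff hD r x).mp hx
  have e : (MulAut.conj (nW hD X.C ws)).toMonoidHom (xG hD r t)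
      = nW hD X.C ws * xG hD r t * (nW hD X.C ws)⁻¹ := rfl
  rw [e, nW_conj_xG hD X.C ws hws' r hr.1 t]
  have hlt := wordRootF_lt X.C ws hws' r hr.1
  have hlow := word_neg_of_simple_neg hD X hlin J ws hws' hneg r hr hrJ
  exact Subgroup.subset_closure ⟨_, _, isNegRoot_of_lt D (signOK_of_mem D hD) _ hlt hlow, rfl⟩

end Cfsg.Agent.Lib.Helper40.WC
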