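import Cfsg.Agent.Lib.Helper18.Bruhat1
import Cfsg.Agent.S1045
import Mathlib

/-!
# S2244-[T3-G2] (project of helper5): type `G2`

Every root element of a non-fundamental positive root of `G2` lies in `⁅U_J, U⁆` for a proper `J`, when the field has
more than three elements.  With `a = p_0` (index 7, short) and `b = p_1` (index 6, long), the commutator of `x_b(u)` and
`x_a(t)` is `x_{a+b}(-tu) x_{2a+b}(t²u) x_{3a+b}(t³u) x_{3a+2b}(t³u²)`; the last factor is a commutator of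
`x_{3a+b}` and `x_b`, and the first three are separated by comparing the parameters `(t, u)`, `(λt, u/λ)` and then
`(t, u)`, `(λt, u/λ²)` with `λ ≠ 0`, `λ² ≠ 1` (same style as helper90's `WCT3F4`).
-/

set_option autoImplicit false

namespace Cfsg.Agent.Lib.Helper40.WC

open Cfsg.Lie Cfsg.Agent.Lib.Helper18

open scoped commutatorElement

universe u

theorem add_hom_zero {G : Type*} [Group G] {F : Type*} [Field F] (X : F → G)
    (h : ∀ s t, X s * X t = X (s + t)) : X 0 = 1 := by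
  have := h 0 0
  rw [add_zero] at this
  exact mul_eq_left.mp this

theorem add_hom_inv {G : Type*} [Group G] {F : Type*} [Field F] (X : F → G)
    (h : ∀ s t, X s * X t = X (s + t)) (t : F) : (X t)⁻¹ = X (-t) := by
  rw [inv_eq_iff_mul_eq_one, h, add_neg_cancel, add_hom_zero X h]

/-- Separation of the three factors of `X₁(ε₁ t u) X₂(ε₂ t² u) X₃(ε₃ t³ u)`. -/
theorem three_term_trick {G : Type*} [Group G] {F : Type*} [Field F] (C : Subgroup G) (X₁ X₂ X₃ : F → G)
    (h2 : ∀ s t, X₂ s * X₂ t = X₂ (s + t)) (h3 : ∀ s t, X₃ s * X₃ t = X₃ (s + t))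
    (h23 : ∀ s t, X₃ t * X₂ s = X₂ s * X₃ t)
    (ε₁ ε₂ ε₃ : F) (hε₁ : ε₁ ≠ 0) (hε₂ : ε₂ ≠ 0) (hε₃ : ε₃ ≠ 0)
    (hW : ∀ t u : F, X₁ (ε₁ * t * u) * X₂ (ε₂ * t ^ 2 * u) * X₃ (ε₃ * t ^ 3 * u) ∈ C)
    (lam : F) (hl0 : lam ≠ 0) (hl2 : lam ^ 2 ≠ 1) (v : F) : X₁ v ∈ C ∧ X₂ v ∈ C ∧ X₃ v ∈ C := by
  have hl1 : lam ≠ 1 := by
    rintro rfl
    exact hl2 (one_pow 2)
  have hne1 : lam - 1 ≠ 0 := sub_ne_zero.mpr hl1
  have hne2 : lam ^ 2 - 1 ≠ 0 := sub_ne_zero.mpr hl2
  have i2 := add_hom_inv X₂ h2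
  have i3 := add_hom_inv X₃ h3
  -- first elimination
  have hQ : ∀ t u : F, X₂ (ε₂ * (lam - 1) * t ^ 2 * u) * X₃ (ε₃ * (lam ^ 2 - 1) * t ^ 3 * u) ∈ C := by
    intro t u
    have hA := hW t u
    have hB := hW (lam * t) (u / lam)
    have e1 : ε₁ * (lam * t) * (u / lam) = ε₁ * t * u := by field_simp
    rw [e1] at hB
    have hmem := mul_mem (inv_mem hA) hB
    have e : (X₁ (ε₁ * t * u) * X₂ (ε₂ * t ^ 2 * u) * X₃ (ε₃ * t ^ 3 * u))⁻¹ *
        (X₁ (ε₁ * t * u) * X₂ (ε₂ * (lam * t) ^ 2 * (u / lam)) * X₃ (ε₃ * (lam * t) ^ 3 * (u / lam)))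
        = (X₃ (ε₃ * t ^ 3 * u))⁻¹ * ((X₂ (ε₂ * t ^ 2 * u))⁻¹ * X₂ (ε₂ * (lam * t) ^ 2 * (u / lam))) *
          X₃ (ε₃ * (lam * t) ^ 3 * (u / lam)) := by group
    rw [e, i2, h2, i3, h23, mul_assoc, h3] at hmem
    have e2 : -(ε₂ * t ^ 2 * u) + ε₂ * (lam * t) ^ 2 * (u / lam) = ε₂ * (lam - 1) * t ^ 2 * u := by
      field_simp
      ring
    have e3 : -(ε₃ * t ^ 3 * u) + ε₃ * (lam * t) ^ 3 * (u / lam) = ε₃ * (lam ^ 2 - 1) * t ^ 3 * u := by
      field_simp
      ring
    rwa [e2, e3] at hmem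
  -- second elimination
  have step3 : ∀ w, X₃ w ∈ C := by
    intro w
    set u := w / (ε₃ * (lam ^ 2 - 1) * (lam - 1)) with hu
    have hA := hQ 1 u
    have hB := hQ lam (u / lam ^ 2)
    have e1 : ε₂ * (lam - 1) * lam ^ 2 * (u / lam ^ 2) = ε₂ * (lam - 1) * 1 ^ 2 * u := by field_simp
    rw [e1] at hB
    have hmem := mul_mem (inv_mem hA) hB
    rw [mul_inv_rev, mul_assoc, ← mul_assoc _ (X₂ (ε₂ * (lam - 1) * 1 ^ 2 * u)), inv_mul_cancel, one_mul, i3,
      h3] at hmem
    have e2 : -(ε₃ * (lam ^ 2 - 1) * 1 ^ 3 * u) + ε₃ * (lam ^ 2 - 1) * lam ^ 3 * (u / lam ^ 2) = w := by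
      rw [hu]
      field_simp
      ring
    rwa [e2] at hmem
  have step2 : ∀ w, X₂ w ∈ C := by
    intro w
    have hA := hQ 1 (w / (ε₂ * (lam - 1)))
    have e1 : ε₂ * (lam - 1) * 1 ^ 2 * (w / (ε₂ * (lam - 1))) = w := by field_simp
    rw [e1] at hA
    have := mul_mem hA (inv_mem (step3 (ε₃ * (lam ^ 2 - 1) * 1 ^ 3 * (w / (ε₂ * (lam - 1))))))
    rwa [mul_inv_cancel_right] at this
  refine ⟨?_, step2 v, step3 v⟩
  have hA := hW 1 (v / ε₁)
  have e1 : ε₁ * 1 * (v / ε₁) = v := by field_simp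
  rw [e1] at hA
  have h5 := mul_mem hA (inv_mem (step3 (ε₃ * 1 ^ 3 * (v / ε₁))))
  rw [mul_inv_cancel_right] at h5
  have h6 := mul_mem h5 (inv_mem (step2 (ε₂ * 1 ^ 2 * (v / ε₁))))
  rwa [mul_inv_cancel_right] at h6

theorem exists_sq_ne_one {F : Type*} [Field F] [Fintype F] (h2 : Fintype.card F ≠ 2)
    (h3 : Fintype.card F ≠ 3) : ∃ lam : F, lam ≠ 0 ∧ lam ^ 2 ≠ 1 := by
  classical
  by_contra hcon
  push Not at hcon
  have hsub : (Finset.univ : Finset F) ⊆ {0, 1, -1} := by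
    intro x _
    by_cases hx : x = 0
    · simp [hx]
    · have h1 := hcon x hx
      rw [pow_two, mul_self_eq_one_iff] at h1
      rcases h1 with h1 | h1 <;> simp [h1]
  have hle : Fintype.card F ≤ 3 :=
    calc Fintype.card F = (Finset.univ : Finset F).card := rfl
      _ ≤ ({0, 1, -1} : Finset F).card := Finset.card_le_card hsub
      _ ≤ 3 := Finset.card_le_three
  have hgt : 1 < Fintype.card F := Fintype.one_lt_card
  omega

/-! ### The tables of `G2` -/

theorem g2_terms_ab : chevG2.commTerms 7 6 = [(8, -1, 1, 1), (9, 1, 2, 1), (10, 1, 3, 1), (11, 1, 3, 2)] := by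
  decide +kernel

theorem g2_terms_cb : chevG2.commTerms 10 6 = [(11, -1, 1, 1)] := by decide +kernel

theorem g2_terms_23 : chevG2.commTerms 9 10 = [] := by decide +kernel

/-- **S2244-[T3-G2]** -/
theorem comm_T3_G2 {F : Type u} [Field F] {D : ChevalleyDatum} [Fintype F]
    (hD : D ∈ [chevG2, chevB2, chevD4, chevF4, chevE6, chevE7, chevE8])
    (hG2 : D = chevG2) (h2 : Fintype.card F ≠ 2) (h3 : Fintype.card F ≠ 3)
    (J : Set ℕ) (r : ℕ) (hr : D.IsPosRoot r) (hJ : ¬ D.InRootSub J r)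
    (hns : ∀ i < D.rank, r ≠ D.simple i) (t : F) :
    xG hD r t ∈ ⁅D.unipotentRadical F J, D.posUnipotent F⁆ := by
  subst hG2
  obtain ⟨C⟩ := nonempty_chevData.{u} chevG2 hD
  have hrp := (isPosRoot_iff hD r).mp hr
  have hnr : chevG2.nroots = 12 := by decide
  have hrk : chevG2.rank = 2 := by decide
  have hs0 : chevG2.simple 0 = 7 := by decide
  have hs1 : chevG2.simple 1 = 6 := by decide
  have hr0 : r ≠ 7 := hs0 ▸ hns 0 (by rw [hrk]; omega)
  have hr1 : r ≠ 6 := hs1 ▸ hns 1 (by rw [hrk]; omega)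
  rw [hnr] at hrp
  have hpos : ∀ s, 6 ≤ s → s < 12 → chevG2.IsPosRoot s := fun s h1 h2 =>
    (isPosRoot_iff hD s).mpr ⟨by rw [hnr]; exact h2, by rw [hnr]; exact h1⟩
  -- `J` is proper
  have hJ01 : (0 : ℕ) ∉ J ∨ (1 : ℕ) ∉ J := by
    by_contra hcon
    push Not at hcon
    apply hJ
    refine ⟨hr.1, fun i hi hiJ => ?_⟩
    rw [hrk] at hi
    exfalso
    interval_cases i
    · exact hiJ hcon.1
    · exact hiJ hcon.2
  have hc7 : (chevG2.coroot.getD 7 #[]).getD 0 0 = 1 := by decide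
  have hc6 : (chevG2.coroot.getD 6 #[]).getD 1 0 = 1 := by decide
  have hc10a : (chevG2.coroot.getD 10 #[]).getD 0 0 = 1 := by decide
  have hc10b : (chevG2.coroot.getD 10 #[]).getD 1 0 = 1 := by decide
  have hJ10 : ¬ chevG2.InRootSub J 10 := by
    rintro ⟨-, h⟩
    rcases hJ01 with h0 | h1
    · have := h 0 (by rw [hrk]; omega) h0
      rw [hc10a] at this
      exact one_ne_zero this
    · have := h 1 (by rw [hrk]; omega) h1
      rw [hc10b] at this
      exact one_ne_zero this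
  have hJab : ¬ chevG2.InRootSub J 7 ∨ ¬ chevG2.InRootSub J 6 := by
    rcases hJ01 with h0 | h1
    · left
      rintro ⟨-, h⟩
      have := h 0 (by rw [hrk]; omega) h0
      rw [hc7] at this
      exact one_ne_zero this
    · right
      rintro ⟨-, h⟩
      have := h 1 (by rw [hrk]; omega) h1
      rw [hc6] at this
      exact one_ne_zero this
  -- the commutator as a word
  have hword : ∀ a b : ℕ, a < 12 → b < 12 → b ≠ a → b ≠ C.T.neg a → ∀ t' u' : F,
      wordG hD (chevG2.commWord F a b t' u') = ⁅(xG hD b u')⁻¹, (xG hD a t')⁻¹⁆ := by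
    intro a b ha hb hba hbn t' u'
    have hcomm := C.comm F a b (by rw [hnr]; exact ha) (by rw [hnr]; exact hb) hba hbn t' u'
    have hG : xG hD b u' * xG hD a t'
        = xG hD a t' * xG hD b u' * wordG hD (chevG2.commWord F a b t' u') := by
      apply Units.ext
      rw [Units.val_mul, Units.val_mul, Units.val_mul, coe_xG, coe_xG, coe_wordG, hcomm]
    rw [commutatorElement_def, inv_inv, inv_inv, mul_assoc, mul_assoc, hG]
    group
  have hTn : C.T.nroots = 12 := by rw [C.nroots_eq, hnr]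
  have hmemU : ∀ s, 6 ≤ s → s < 12 → ∀ v : F, xG hD s v ∈ chevG2.posUnipotent F := fun s h1 h2 v =>
    Subgroup.subset_closure ⟨s, v, hpos s h1 h2, rfl⟩
  have hmemJ : ∀ s, 6 ≤ s → s < 12 → ¬ chevG2.InRootSub J s → ∀ v : F,
      xG hD s v ∈ chevG2.unipotentRadical F J := fun s h1 h2 hs v =>
    Subgroup.subset_closure ⟨s, v, hpos s h1 h2, hs, rfl⟩
  -- the highest root
  have hX4 : ∀ v : F, xG hD 11 v ∈ ⁅chevG2.unipotentRadical F J, chevG2.posUnipotent F⁆ := by
    intro v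
    have hw := hword 10 6 (by omega) (by omega) (by omega) (by unfold FastDatum.neg; omega) v 1
    have e : wordG hD (chevG2.commWord F 10 6 v 1) = xG hD 11 v := by
      unfold ChevalleyDatum.commWord
      rw [g2_terms_cb, List.map_cons, List.map_nil, wordG_cons, wordG_nil, mul_one]
      congr 1
      simp
    rw [← e, hw, ← commutatorElement_inv]
    exact inv_mem (Subgroup.commutator_mem_commutator (inv_mem (hmemJ 10 (by omega) (by omega) hJ10 v))
      (inv_mem (hmemU 6 (by omega) (by omega) 1)))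
  -- the commutator of the fundamental root elements
  have hW : ∀ t' u' : F, xG hD 8 ((-1 : F) * t' * u') * xG hD 9 ((1 : F) * t' ^ 2 * u') *
      xG hD 10 ((1 : F) * t' ^ 3 * u') ∈ ⁅chevG2.unipotentRadical F J, chevG2.posUnipotent F⁆ := by
    intro t' u'
    have hw := hword 7 6 (by omega) (by omega) (by omega) (by unfold FastDatum.neg; omega) (-t') u'
    have e : wordG hD (chevG2.commWord F 7 6 (-t') u')
        = xG hD 8 ((-1 : F) * t' * u') * xG hD 9 ((1 : F) * t' ^ 2 * u') * xG hD 10 ((1 : F) * t' ^ 3 * u') *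
          xG hD 11 (t' ^ 3 * u' ^ 2) := by
      unfold ChevalleyDatum.commWord
      rw [g2_terms_ab]
      simp only [List.map_cons, List.map_nil, wordG_cons, wordG_nil, mul_one, neg_neg, pow_one, Int.cast_neg,
        Int.cast_one, one_mul, mul_assoc]
    have hmem : wordG hD (chevG2.commWord F 7 6 (-t') u')
        ∈ ⁅chevG2.unipotentRadical F J, chevG2.posUnipotent F⁆ := by
      rw [hw]
      rcases hJab with hJa | hJb
      · rw [← commutatorElement_inv]
        exact inv_mem (Subgroup.commutator_mem_commutator (inv_mem (hmemJ 7 (by omega) (by omega) hJa _))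
          (inv_mem (hmemU 6 (by omega) (by omega) _)))
      · exact Subgroup.commutator_mem_commutator (inv_mem (hmemJ 6 (by omega) (by omega) hJb _))
          (inv_mem (hmemU 7 (by omega) (by omega) _))
    rw [e] at hmem
    have := mul_mem hmem (inv_mem (hX4 (t' ^ 3 * u' ^ 2)))
    rwa [mul_inv_cancel_right] at this
  -- `X_{2a+b}` and `X_{3a+b}` commute
  have h23 : ∀ s t' : F, xG hD 10 t' * xG hD 9 s = xG hD 9 s * xG hD 10 t' := by
    intro s t'
    have hcomm := C.comm F 9 10 (by rw [hnr]; omega) (by rw [hnr]; omega) (by omega)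
      (by unfold FastDatum.neg; omega) s t'
    apply Units.ext
    rw [Units.val_mul, Units.val_mul, coe_xG, coe_xG, hcomm]
    unfold ChevalleyDatum.commWord
    rw [g2_terms_23, List.map_nil, wordMat_nil', mul_one]
  obtain ⟨lam, hl0, hl2⟩ := exists_sq_ne_one h2 h3
  have key := three_term_trick ⁅chevG2.unipotentRadical F J, chevG2.posUnipotent F⁆
    (fun s => xG hD 8 s) (fun s => xG hD 9 s) (fun s => xG hD 10 s)
    (fun s s' => xG_mul hD 9 s s') (fun s s' => xG_mul hD 10 s s') h23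
    (-1 : F) 1 1 (by simp) one_ne_zero one_ne_zero hW lam hl0 hl2 t
  obtain ⟨hr6, hr12⟩ := hrp
  interval_cases r
  · exact absurd rfl hr1
  · exact absurd rfl hr0
  · exact key.1
  · exact key.2.1
  · exact key.2.2
  · exact hX4 t

end Cfsg.Agent.Lib.Helper40.WC
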