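import Mathlib
import Cfsg.Agent.Lib.Helper40.FrobeniusDiv

/-!
# Weisner's theorem (helper40)

`weisner_dvd` : in a finite group `G` the number of elements whose order is a multiple of `n`
is divisible by the largest divisor of `|G|` prime to `n`, written `|G| / gcd(|G|, n^|G|)`.
-/

namespace Cfsg.Agent.Lib.Helper40

open Finset

universe u

/-- the fibre version of `card_sol_coprime_mul` -/
theorem card_fiber_coprime {G : Type*} [Group G] [Fintype G] [DecidableEq G] (r m : ℕ)
    (a b : ℤ) (hab : (r : ℤ) * a + (m : ℤ) * b = 1) (z : G) (hz : z ^ m = 1) :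
    (univ.filter (fun x : G => x ^ (r * m) = 1 ∧ x ^ ((r : ℤ) * a) = z)).card =
      (univ.filter (fun y : G => y * z = z * y ∧ y ^ r = 1)).card := by
  have key : ∀ w : G, w ^ ((r : ℤ) * a) * w ^ ((m : ℤ) * b) = w := by
    intro w
    rw [← zpow_add, hab, zpow_one]
  have hz' : z ^ (m : ℤ) = 1 := by rw [zpow_natCast]; exact hz
  have hzb : z ^ ((m : ℤ) * b) = 1 := zpow_eq_one_of_dvd z m hz' _ ⟨b, rfl⟩
  have hza : z ^ ((r : ℤ) * a) = z := by
    have := key z
    rwa [hzb, mul_one] at this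
  apply Finset.card_nbij' (fun x => x ^ ((m : ℤ) * b)) (fun y => y * z)
  · intro x hx
    simp only [Finset.mem_coe, Finset.mem_filter, Finset.mem_univ, true_and] at hx ⊢
    have hx' : x ^ ((r : ℤ) * (m : ℤ)) = 1 := by
      rw [← Nat.cast_mul, zpow_natCast]; exact hx.1
    refine ⟨?_, ?_⟩
    · rw [← hx.2]
      exact (Commute.zpow_zpow_self x _ _).eq
    · rw [← zpow_natCast, ← zpow_mul]
      exact zpow_eq_one_of_dvd x _ hx' _ ⟨b, by ring⟩
  · intro y hy
    simp only [Finset.mem_coe, Finset.mem_filter, Finset.mem_univ, true_and] at hy ⊢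
    have hy' : y ^ (r : ℤ) = 1 := by rw [zpow_natCast]; exact hy.2
    have hc : Commute y z := hy.1
    refine ⟨?_, ?_⟩
    · rw [hc.mul_pow, pow_mul, hy.2, one_pow, mul_comm r m, pow_mul, hz, one_pow, one_mul]
    · rw [hc.mul_zpow, hza, zpow_eq_one_of_dvd y r hy' _ ⟨a, rfl⟩, one_mul]
  · intro x hx
    simp only [Finset.mem_coe, Finset.mem_filter, Finset.mem_univ, true_and] at hx
    change x ^ ((m : ℤ) * b) * z = x
    rw [← hx.2]
    have hc : Commute (x ^ ((m : ℤ) * b)) (x ^ ((r : ℤ) * a)) := Commute.zpow_zpow_self x _ _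
    rw [hc.eq]
    exact key x
  · intro y hy
    simp only [Finset.mem_coe, Finset.mem_filter, Finset.mem_univ, true_and] at hy
    have hy' : y ^ (r : ℤ) = 1 := by rw [zpow_natCast]; exact hy.2
    have hc : Commute y z := hy.1
    change (y * z) ^ ((m : ℤ) * b) = y
    rw [hc.mul_zpow, hzb, mul_one]
    have := key y
    rwa [zpow_eq_one_of_dvd y r hy' _ ⟨a, rfl⟩, one_mul] at this

/-- `g / gcd(g, n^g)` is prime to `n`. -/
theorem coprime_div_gcd_pow (g n : ℕ) (hg : g ≠ 0) (hn : n ≠ 0) :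
    Nat.Coprime (g / Nat.gcd g (n ^ g)) n := by
  apply Nat.coprime_of_dvd
  intro p hp hpt hpn
  have hng : n ^ g ≠ 0 := pow_ne_zero _ hn
  have hr0 : Nat.gcd g (n ^ g) ≠ 0 := Nat.gcd_ne_zero_left hg
  have hrg : Nat.gcd g (n ^ g) ∣ g := Nat.gcd_dvd_left _ _
  have ht0 : g / Nat.gcd g (n ^ g) ≠ 0 := by
    intro h
    rw [Nat.div_eq_zero_iff] at h
    rcases h with h | h
    · exact hr0 h
    · exact absurd (Nat.le_of_dvd (Nat.pos_of_ne_zero hg) hrg) (not_le.mpr h)
  have h1 := (hp.dvd_iff_one_le_factorization ht0).mp hpt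
  have h2 := (hp.dvd_iff_one_le_factorization hn).mp hpn
  rw [Nat.factorization_div hrg, Nat.factorization_gcd hg hng, Nat.factorization_pow] at h1
  simp only [Finsupp.coe_tsub, Finsupp.inf_apply, Pi.sub_apply, Finsupp.smul_apply,
    smul_eq_mul] at h1
  have h3 : g.factorization p < g := Nat.factorization_lt p hg
  have h4 : g ≤ g * n.factorization p := Nat.le_mul_of_pos_right g h2
  have h5 : min (g.factorization p) (g * n.factorization p) = g.factorization p :=
    min_eq_left (by omega)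
  rw [h5] at h1
  omega

/-- **Weisner's theorem**. -/
theorem weisner_dvd {G : Type u} [Group G] [Finite G] (n : ℕ) (hn : 0 < n) :
    (Nat.card G / Nat.gcd (Nat.card G) (n ^ Nat.card G)) ∣
      Nat.card {g : G // n ∣ orderOf g} := by
  classical
  have := Fintype.ofFinite G
  have hG0 : Nat.card G ≠ 0 := Nat.card_pos.ne'
  set r := Nat.gcd (Nat.card G) (n ^ Nat.card G) with hr
  set t := Nat.card G / r with ht
  have hrG : r ∣ Nat.card G := Nat.gcd_dvd_left _ _
  have htr : t * r = Nat.card G := Nat.div_mul_cancel hrG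
  have htn : Nat.Coprime t n := coprime_div_gcd_pow _ _ hG0 hn.ne'
  have htr_cop : Nat.Coprime t r :=
    Nat.Coprime.coprime_dvd_right (Nat.gcd_dvd_right _ _) (Nat.Coprime.pow_right _ htn)
  obtain ⟨a, b, hab⟩ : ∃ a b : ℤ, (t : ℤ) * a + (r : ℤ) * b = 1 := by
    refine ⟨Int.gcdA t r, Int.gcdB t r, ?_⟩
    rw [← Int.gcd_eq_gcd_ab]
    have : Int.gcd (t : ℤ) (r : ℤ) = 1 := by
      rw [Int.gcd_natCast_natCast]; exact htr_cop
    rw [this]; rfl
  have hxG : ∀ x : G, x ^ (t * r) = 1 := fun x => by rw [htr]; exact pow_card_eq_one'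
  have hxG' : ∀ x : G, x ^ ((t : ℤ) * (r : ℤ)) = 1 := fun x => by
    rw [← Nat.cast_mul, zpow_natCast]; exact hxG x
  have key : ∀ w : G, w ^ ((t : ℤ) * a) * w ^ ((r : ℤ) * b) = w := by
    intro w
    rw [← zpow_add, hab, zpow_one]
  -- the `π`-part of `x` is `x ^ (t * a)`; `n ∣ o(x)` iff `n ∣ o(π-part)`
  have hord : ∀ x : G, n ∣ orderOf x → n ∣ orderOf (x ^ ((t : ℤ) * a)) := by
    intro x hx
    set z := x ^ ((t : ℤ) * a) with hz
    set y := x ^ ((r : ℤ) * b) with hy
    have hcomm : Commute z y := Commute.zpow_zpow_self x _ _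
    have hzr : z ^ r = 1 := by
      rw [hz, ← zpow_natCast, ← zpow_mul]
      exact zpow_eq_one_of_dvd x _ (hxG' x) _ ⟨a, by ring⟩
    have hyt : y ^ t = 1 := by
      rw [hy, ← zpow_natCast, ← zpow_mul]
      exact zpow_eq_one_of_dvd x _ (hxG' x) _ ⟨b, by ring⟩
    have hoz : orderOf z ∣ r := orderOf_dvd_of_pow_eq_one hzr
    have hoy : orderOf y ∣ t := orderOf_dvd_of_pow_eq_one hyt
    have hcop : (orderOf z).Coprime (orderOf y) :=
      Nat.Coprime.coprime_dvd_left hoz (Nat.Coprime.coprime_dvd_right hoy htr_cop.symm)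
    have hxo : orderOf x = orderOf z * orderOf y := by
      rw [← hcomm.orderOf_mul_eq_mul_orderOf_of_coprime hcop, hz, hy, key x]
    rw [hxo] at hx
    have hny : Nat.Coprime n (orderOf y) :=
      Nat.Coprime.coprime_dvd_right hoy htn.symm
    exact hny.dvd_of_dvd_mul_right hx
  have h1 : Nat.card {g : G // n ∣ orderOf g} =
      ∑ z ∈ univ.filter (fun z : G => z ^ r = 1 ∧ n ∣ orderOf z),
        (univ.filter (fun y : G => y * z = z * y ∧ y ^ t = 1)).card := by
    rw [Nat.card_eq_fintype_card, Fintype.card_subtype,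
      Finset.card_eq_sum_card_fiberwise (f := fun x : G => x ^ ((t : ℤ) * a))
        (t := univ.filter (fun z : G => z ^ r = 1 ∧ n ∣ orderOf z))]
    · refine Finset.sum_congr rfl fun z hz => ?_
      simp only [Finset.mem_filter, Finset.mem_univ, true_and] at hz
      rw [← card_fiber_coprime t r a b hab z hz.1]
      congr 1
      ext x
      simp only [Finset.mem_filter, Finset.mem_univ, true_and]
      constructor
      · rintro ⟨_, hxz⟩
        exact ⟨hxG x, hxz⟩
      · rintro ⟨_, hxz⟩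
        refine ⟨?_, hxz⟩
        refine dvd_trans hz.2 ?_
        rw [← hxz]
        exact orderOf_dvd_of_pow_eq_one (by
          rw [← zpow_natCast, ← zpow_mul, mul_comm, zpow_mul, zpow_natCast, pow_orderOf_eq_one,
            one_zpow])
    · intro x hx
      simp only [Finset.mem_coe, Finset.mem_filter, Finset.mem_univ, true_and] at hx ⊢
      refine ⟨?_, hord x hx⟩
      rw [← zpow_natCast, ← zpow_mul]
      exact zpow_eq_one_of_dvd x _ (hxG' x) _ ⟨a, by ring⟩
  rw [h1]
  apply class_sum_dvd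
  · intro z h hz
    simp only [Finset.mem_filter, Finset.mem_univ, true_and] at hz ⊢
    refine ⟨by rw [conj_pow, hz.1]; group, ?_⟩
    have : orderOf (h * z * h⁻¹) = orderOf z := by
      have := orderOf_injective (MulAut.conj h).toMonoidHom (MulAut.conj h).injective z
      simpa using this
    rw [this]; exact hz.2
  · intro z h
    exact card_comm_conj _ z h
  · intro z _
    rw [nsol_centralizer, ← nsol_gcd]
    have h3 : Nat.gcd t (Nat.card ↥(Subgroup.centralizer ({z} : Set G))) ∣
        nsol ↥(Subgroup.centralizer ({z} : Set G))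
          (Nat.gcd t (Nat.card ↥(Subgroup.centralizer ({z} : Set G)))) :=
      frobenius_dvd _ (Nat.gcd_dvd_right _ _)
    have h4 : t ∣ Nat.card (ConjClasses.mk z).carrier *
        Nat.card ↥(Subgroup.centralizer ({z} : Set G)) := by
      rw [card_carrier_mul_card_centralizer]
      exact Dvd.intro _ htr
    exact (dvd_mul_gcd_of_dvd_mul h4).trans (Nat.mul_dvd_mul_left _ h3)

end Cfsg.Agent.Lib.Helper40
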